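import Cfsg.Agent.Spor.TC

set_option autoImplicit false

namespace Cfsg.Agent.Spor

open Equiv

theorem AllP.nil {α : Type} {p : α → Prop} : AllP p [] := trivial
theorem AllP.cons {α : Type} {p : α → Prop} {a : α} {l : List α} (h1 : p a) (h2 : AllP p l) :
    AllP p (a :: l) := ⟨h1, h2⟩

section
variable {G : Type*} [Group G]

/-- atoms attached to the generators `f 0, …, f (n-1)` -/
def atm (n : ℕ) (f : ℕ → G) : ℕ → G := atom (List.range n) f

theorem atm_def (n : ℕ) (f : ℕ → G) (y : ℕ) :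
    atm n f y = if y / 2 < n then (if y % 2 = 0 then f (y / 2) else (f (y / 2))⁻¹) else 1 := by
  unfold atm atom
  by_cases h : y / 2 < n
  · rw [List.getElem?_range h, if_pos h]
  · rw [List.getElem?_eq_none (by simpa using h), if_neg h]

theorem atm_two_mul {n : ℕ} (f : ℕ → G) {j : ℕ} (hj : j < n) : atm n f (2 * j) = f j := by
  have e : 2 * j / 2 = j := by omega
  rw [atm_def, e, if_pos hj, if_pos (by omega)]

theorem atm_congr {n : ℕ} {f g : ℕ → G} (h : ∀ j < n, f j = g j) : atm n f = atm n g := by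
  funext y
  rw [atm_def, atm_def]
  split_ifs with h1 h2
  · exact h _ h1
  · rw [h _ h1]
  · rfl

theorem atm_map {Δ : Type*} [Group Δ] (φ : G →* Δ) (n : ℕ) (f : ℕ → G) (y : ℕ) :
    φ (atm n f y) = atm n (fun j => φ (f j)) y := atom_map φ _ f y

theorem ev_atm_map {Δ : Type*} [Group Δ] (φ : G →* Δ) (n : ℕ) (f : ℕ → G) (l : List ℕ) :
    φ (ev (atm n f) l) = ev (atm n fun j => φ (f j)) l := by
  rw [ev_map]
  congr 1
  funext y
  exact atm_map φ n f y

theorem ev_atm_map' {Δ : Type*} [Group Δ] {φ : G →* Δ} {n : ℕ} {f : ℕ → G} {g : ℕ → Δ}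
    (h : ∀ j < n, φ (f j) = g j) (l : List ℕ) : φ (ev (atm n f) l) = ev (atm n g) l := by
  rw [ev_atm_map, atm_congr h]

/-- the elements `f j` satisfy the coded relators; the first `k` are involutions -/
structure Pres (n k : ℕ) (RL : List (List ℕ)) (f : ℕ → G) : Prop where
  sq : ∀ j < k, j < n → f j * f j = 1
  rel : ∀ l ∈ RL, ev (atm n f) l = 1

theorem ivOk_atm {n k : ℕ} {f : ℕ → G} (h : ∀ j < k, j < n → f j * f j = 1) :
    IvOk (2 * k) (atm n f) :=
  atom_ivOk _ _ _ fun x hx => by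
    rw [List.take_range, List.mem_range, lt_min_iff] at hx
    exact h x hx.1 hx.2

theorem Pres.ivOk {n k : ℕ} {RL : List (List ℕ)} {f : ℕ → G} (h : Pres n k RL f) :
    IvOk (2 * k) (atm n f) := ivOk_atm h.sq

theorem Pres.map {Δ : Type*} [Group Δ] {n k : ℕ} {RL : List (List ℕ)} {f : ℕ → G}
    (h : Pres n k RL f) (φ : G →* Δ) : Pres n k RL fun j => φ (f j) :=
  ⟨fun j h1 h2 => by rw [← map_mul, h.sq j h1 h2, map_one],
   fun l hl => by rw [← ev_atm_map, h.rel l hl, map_one]⟩

theorem Pres.of_map {Δ : Type*} [Group Δ] {n k : ℕ} {RL : List (List ℕ)} {f : ℕ → G}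
    {φ : G →* Δ} (hφ : Function.Injective φ) {g : ℕ → Δ} (hg : ∀ j < n, φ (f j) = g j)
    (h : Pres n k RL g) : Pres n k RL f :=
  ⟨fun j h1 h2 => hφ (by rw [map_mul, hg j h2, h.sq j h1 h2, map_one]),
   fun l hl => hφ (by rw [ev_atm_map' hg, h.rel l hl, map_one])⟩

theorem Pres.congr {n k : ℕ} {RL : List (List ℕ)} {f g : ℕ → G} (h : Pres n k RL f)
    (e : ∀ j < n, f j = g j) : Pres n k RL g :=
  Pres.of_map (φ := MonoidHom.id G) Function.injective_id (fun j hj => (e j hj).symm) h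

theorem Pres.append {n k : ℕ} {RL RL' : List (List ℕ)} {f : ℕ → G} (h : Pres n k RL f)
    (h' : ∀ l ∈ RL', ev (atm n f) l = 1) : Pres n k (RL ++ RL') f :=
  ⟨h.sq, fun l hl => (List.mem_append.mp hl).elim (h.rel l) (h' l)⟩

theorem Pres.prod {Δ : Type*} [Group Δ] {n k : ℕ} {RL : List (List ℕ)} {f : ℕ → G} {g : ℕ → Δ}
    (h : Pres n k RL f) (h' : Pres n k RL g) : Pres n k RL fun j => (f j, g j) :=
  ⟨fun j h1 h2 => Prod.ext (h.sq j h1 h2) (h'.sq j h1 h2), fun l hl => Prod.ext
    ((ev_atm_map (MonoidHom.fst G Δ) n _ l).trans (h.rel l hl))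
    ((ev_atm_map (MonoidHom.snd G Δ) n _ l).trans (h'.rel l hl))⟩

/-- the subgroup generated by the `f j` -/
def gsub (n : ℕ) (f : ℕ → G) : Subgroup G := Subgroup.closure {g | ∃ j < n, g = f j}

/-- values of a list of words -/
def wv (n : ℕ) (f : ℕ → G) (BW : List (List ℕ)) (j : ℕ) : G := ev (atm n f) (BW.getD j [])

/-- the subgroup generated by the values of a list of words -/
def wsub (n : ℕ) (f : ℕ → G) (BW : List (List ℕ)) : Subgroup G := gsub BW.length (wv n f BW)

theorem mem_gsub {n : ℕ} (f : ℕ → G) {j : ℕ} (hj : j < n) : f j ∈ gsub n f :=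
  Subgroup.subset_closure ⟨j, hj, rfl⟩

theorem gsub_le {n : ℕ} {f : ℕ → G} {K : Subgroup G} (h : ∀ j < n, f j ∈ K) : gsub n f ≤ K :=
  (Subgroup.closure_le _).mpr (by rintro _ ⟨j, hj, rfl⟩; exact h j hj)

theorem gsub_congr {n : ℕ} {f g : ℕ → G} (h : ∀ j < n, f j = g j) : gsub n f = gsub n g :=
  le_antisymm (gsub_le fun j hj => h j hj ▸ mem_gsub g hj)
    (gsub_le fun j hj => (h j hj).symm ▸ mem_gsub f hj)

theorem atm_mem {n : ℕ} {f : ℕ → G} {K : Subgroup G} (h : ∀ j < n, f j ∈ K) (y : ℕ) :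
    atm n f y ∈ K := by
  rw [atm_def]
  split_ifs with h1 h2
  · exact h _ h1
  · exact K.inv_mem (h _ h1)
  · exact K.one_mem

theorem ev_atm_mem (n : ℕ) (f : ℕ → G) (l : List ℕ) : ev (atm n f) l ∈ gsub n f :=
  ev_mem _ _ _ fun y _ => atm_mem (fun _ hj => mem_gsub f hj) y

theorem wsub_le_gsub (n : ℕ) (f : ℕ → G) (BW : List (List ℕ)) : wsub n f BW ≤ gsub n f :=
  gsub_le fun _ _ => ev_atm_mem n f _

theorem mem_wsub {n : ℕ} (f : ℕ → G) {BW : List (List ℕ)} {w : List ℕ} (hw : w ∈ BW) :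
    ev (atm n f) w ∈ wsub n f BW := by
  obtain ⟨j, hj, rfl⟩ := List.getElem_of_mem hw
  have := mem_gsub (wv n f BW) hj
  rwa [wv, List.getD_eq_getElem _ _ hj] at this

theorem wsub_le {n : ℕ} {f : ℕ → G} {BW : List (List ℕ)} {K : Subgroup G}
    (h : ∀ w ∈ BW, ev (atm n f) w ∈ K) : wsub n f BW ≤ K :=
  gsub_le fun j hj => by
    rw [wv, List.getD_eq_getElem _ _ hj]
    exact h _ (List.getElem_mem hj)

theorem wsub_eq_closure (n : ℕ) (f : ℕ → G) (BW : List (List ℕ)) :
    wsub n f BW = Subgroup.closure {g | ∃ w ∈ BW, g = ev (atm n f) w} :=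
  le_antisymm (wsub_le fun w hw => Subgroup.subset_closure ⟨w, hw, rfl⟩)
    ((Subgroup.closure_le _).mpr (by rintro _ ⟨w, hw, rfl⟩; exact mem_wsub f hw))

theorem wsub_nil (n : ℕ) (f : ℕ → G) : wsub n f [] = ⊥ :=
  le_bot_iff.mp (wsub_le (by simp))

theorem gsub_map {Δ : Type*} [Group Δ] (φ : G →* Δ) (n : ℕ) (f : ℕ → G) :
    (gsub n f).map φ = gsub n fun j => φ (f j) := by
  unfold gsub
  rw [MonoidHom.map_closure]
  congr 1
  ext x
  constructor
  · rintro ⟨_, ⟨j, hj, rfl⟩, rfl⟩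
    exact ⟨j, hj, rfl⟩
  · rintro ⟨j, hj, rfl⟩
    exact ⟨_, ⟨j, hj, rfl⟩, rfl⟩

theorem gsub_map' {Δ : Type*} [Group Δ] {φ : G →* Δ} {n : ℕ} {f : ℕ → G} {g : ℕ → Δ}
    (h : ∀ j < n, φ (f j) = g j) : (gsub n f).map φ = gsub n g := by
  rw [gsub_map, gsub_congr h]

theorem wv_map {Δ : Type*} [Group Δ] {φ : G →* Δ} {n : ℕ} {f : ℕ → G} {g : ℕ → Δ}
    (h : ∀ j < n, φ (f j) = g j) (BW : List (List ℕ)) (j : ℕ) : φ (wv n f BW j) = wv n g BW j :=
  ev_atm_map' h _

theorem wsub_map {Δ : Type*} [Group Δ] {φ : G →* Δ} {n : ℕ} {f : ℕ → G} {g : ℕ → Δ}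
    (h : ∀ j < n, φ (f j) = g j) (BW : List (List ℕ)) : (wsub n f BW).map φ = wsub n g BW :=
  gsub_map' fun j _ => wv_map h BW j

open Classical in
/-- the generators as elements of a subgroup containing them -/
noncomputable def lift (K : Subgroup G) (f : ℕ → G) (j : ℕ) : K :=
  if h : f j ∈ K then ⟨f j, h⟩ else 1

theorem lift_coe {K : Subgroup G} {f : ℕ → G} {j : ℕ} (h : f j ∈ K) : (lift K f j : G) = f j := by
  unfold lift
  rw [dif_pos h]

theorem lift_gsub {n : ℕ} (f : ℕ → G) : ∀ j < n, (gsub n f).subtype (lift (gsub n f) f j) = f j :=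
  fun _ hj => lift_coe (mem_gsub f hj)

theorem gsub_lift (n : ℕ) (f : ℕ → G) : gsub n (lift (gsub n f) f) = ⊤ := by
  apply Subgroup.map_injective (gsub n f).subtype_injective
  rw [gsub_map' (lift_gsub f), ← MonoidHom.range_eq_map, Subgroup.range_subtype]

theorem Pres.lift {n k : ℕ} {RL : List (List ℕ)} {f : ℕ → G} (h : Pres n k RL f) :
    Pres n k RL (lift (gsub n f) f) :=
  Pres.of_map (gsub n f).subtype_injective (lift_gsub f) h

theorem wsub_lift (n : ℕ) (f : ℕ → G) (BW : List (List ℕ)) :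
    wsub n (lift (gsub n f) f) BW = (wsub n f BW).subgroupOf (gsub n f) := by
  apply Subgroup.map_injective (gsub n f).subtype_injective
  rw [wsub_map (lift_gsub f), Subgroup.subgroupOf_map_subtype,
    inf_eq_left.mpr (wsub_le_gsub n f BW)]

/-! substitution of words for generators -/

/-- the word substituted for an atom -/
noncomputable def subA (ni n' : ℕ) (WD : List (List ℕ)) (y : ℕ) : List ℕ :=
  if y / 2 < n' then (if y % 2 = 0 then WD.getD (y / 2) [] else invW ni (WD.getD (y / 2) []) [])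
  else []

noncomputable def subW (ni n' : ℕ) (WD : List (List ℕ)) (l : List ℕ) : List ℕ :=
  l.flatMap (subA ni n' WD)

theorem ev_append (a : ℕ → G) (l m : List ℕ) : ev a (l ++ m) = ev a l * ev a m := by
  simp [ev]

theorem ev_subW {ni n n' : ℕ} {f : ℕ → G} (hi : IvOk ni (atm n f)) (WD : List (List ℕ))
    (l : List ℕ) : ev (atm n f) (subW ni n' WD l) = ev (atm n' (wv n f WD)) l := by
  induction l with
  | nil => rfl
  | cons y l ih =>
    unfold subW at ih ⊢
    rw [List.flatMap_cons, ev_append, ih, ev_cons, atm_def n', subA]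
    split_ifs
    · rfl
    · rw [ev_invW hi, ev_nil, mul_one]; rfl
    · rfl

/-- hints: a conjugating word, a relator number and a sign -/
abbrev Hint := List ℕ × ℕ × Bool

noncomputable def consAll (ni : ℕ) (RL : List (List ℕ)) : List (List ℕ) → List Hint → Bool
  | [], _ => true
  | _ :: _, [] => false
  | l :: L, h :: H => conseq ni RL l h.1 h.2.1 h.2.2 && consAll ni RL L H

theorem consAll_sound {ni : ℕ} {a : ℕ → G} (hi : IvOk ni a) {RL : List (List ℕ)}
    (hR : ∀ r ∈ RL, ev a r = 1) {L : List (List ℕ)} {H : List Hint}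
    (h : consAll ni RL L H = true) : ∀ l ∈ L, ev a l = 1 := by
  induction L generalizing H with
  | nil => simp
  | cons l L ih =>
    cases H with
    | nil => simp [consAll] at h
    | cons x H =>
      simp only [consAll, Bool.and_eq_true] at h
      intro l' hl'
      rcases List.mem_cons.mp hl' with rfl | hl'
      · exact (conseq_sound hi h.1).mpr (ev_nth_eq_one hR _)
      · exact ih h.2 l' hl'

/-- the words whose triviality gives the presentation `(k', RL')` for the words `WD` -/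
noncomputable def subList (k : ℕ) (WD : List (List ℕ)) (k' : ℕ) (RL' : List (List ℕ)) :
    List (List ℕ) :=
  ((List.range k').map fun j => WD.getD j [] ++ WD.getD j []) ++
    RL'.map (subW (2 * k) WD.length WD)

theorem Pres.of_subList {n k : ℕ} {f : ℕ → G} (hi : IvOk (2 * k) (atm n f)) {WD : List (List ℕ)}
    {k' : ℕ} {RL' : List (List ℕ)} (h : ∀ l ∈ subList k WD k' RL', ev (atm n f) l = 1) :
    Pres WD.length k' RL' (wv n f WD) := by
  refine ⟨fun j hj _ => ?_, fun l hl => ?_⟩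
  · have := h _ (List.mem_append_left _ (List.mem_map.mpr ⟨j, List.mem_range.mpr hj, rfl⟩))
    rwa [ev_append] at this
  · rw [← ev_subW hi]
    exact h _ (List.mem_append_right _ (List.mem_map.mpr ⟨l, hl, rfl⟩))

theorem Pres.subst {n k : ℕ} {RL : List (List ℕ)} {f : ℕ → G} (h : Pres n k RL f)
    {WD : List (List ℕ)} {k' : ℕ} {RL' : List (List ℕ)} {H : List Hint}
    (hc : consAll (2 * k) RL (subList k WD k' RL') H = true) :
    Pres WD.length k' RL' (wv n f WD) :=
  Pres.of_subList h.ivOk (consAll_sound h.ivOk h.rel hc)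

theorem Pres.cons {n k : ℕ} {RL : List (List ℕ)} {f : ℕ → G} (h : Pres n k RL f)
    {RL' : List (List ℕ)} {H : List Hint} (hc : consAll (2 * k) RL RL' H = true) :
    Pres n k RL' f :=
  ⟨h.sq, consAll_sound h.ivOk h.rel hc⟩

end

/-- a verified coset enumeration -/
structure Cert (n k : ℕ) (RL BW : List (List ℕ)) (fP : ℕ → Perm ℕ) (N : ℕ) : Prop where
  pres : Pres n k RL fP
  pos : 0 < N
  act : ∀ (G : Type) [Group G] (f : ℕ → G), Pres n k RL f → ∀ φ : G →* Perm ℕ,
    (∀ j < n, φ (f j) = fP j) → gsub n f = ⊤ → CosetAct (wsub n f BW) φ N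

/-- the permutations of the generators -/
noncomputable def Tab.fP (T : Tab) (gs : List ℕ) (j : ℕ) : Perm ℕ := T.τ (nth 0 gs j)

noncomputable def certChk (T : Tab) (n N : ℕ) (EX BW : List (List ℕ)) (L gs base : List ℕ) : Bool :=
  (gs.length == n) && (List.range n).all (fun j => nth [] EX (nth 0 gs j) == [2 * j]) &&
    (BW == base.map (nth [] EX)) && lall (memL L) base && lall (T.closed 1) base && Nat.blt 0 N

theorem Tab.sq {T : Tab} {gs : List ℕ} {k : ℕ}
    (h : AllP (fun z => evA T.τ [z, z] = 1) (gs.take k)) (n : ℕ) (hn : gs.length = n) :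
    ∀ j < k, j < n → T.fP gs j * T.fP gs j = 1 := by
  intro j h1 h2
  have h3 : nth 0 gs j ∈ gs.take k := by
    rw [nth_eq, List.getD_eq_getElem _ _ (hn ▸ h2)]
    exact List.mem_take_iff_getElem.mpr ⟨j, by omega, rfl⟩
  simpa [Tab.fP] using h.forall _ h3

theorem Cert.of {T : Tab} {K : ℕ} (h : T.Ok K) {n k N : ℕ} {EX RL BW : List (List ℕ)}
    {L gs base : List ℕ} (hP : Pres n k RL (T.fP gs))
    (hPZ : AllP (PZ T (atm n (T.fP gs)) EX) L)
    (hlet : ∀ (G : Type) [Group G] (a : ℕ → G), IvOk (2 * k) a → (∀ r ∈ RL, ev a r = 1) →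
      ∀ H : Subgroup G, (∀ z ∈ base, letV a EX z ∈ H) → AllP (LetOk H (letV a EX) T L) L)
    (hcov : T.treeCov (ones N) L 1 = true)
    (hg : lall (fun z => band (memL L z) (band (sub (ones N) (T.let z).cl)
      (T.closed (ones N) z))) gs = true)
    (hc : certChk T n N EX BW L gs base = true) : Cert n k RL BW (T.fP gs) N := by
  simp only [certChk, Bool.and_eq_true, beq_iff_eq, List.all_eq_true, List.mem_range, lall_iff,
    memL_iff, Nat.blt_eq] at hc
  obtain ⟨⟨⟨⟨⟨c1, c2⟩, c3⟩, c4⟩, c5⟩, c6⟩ := hc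
  refine ⟨hP, c6, fun G _ f hf φ hφ htop => ?_⟩
  have hv : ∀ z ∈ L, φ (letV (atm n f) EX z) = T.τ z := fun z hz => by
    rw [letV, ev_atm_map' hφ]
    exact hPZ.forall z hz
  refine tc_main h φ (v := letV (atm n f) EX) hv
    (hlet G _ hf.ivOk hf.rel _ fun z hz => mem_wsub f (c3 ▸ List.mem_map_of_mem hz)) hcov hg ?_ ?_ c6
  · rw [eq_top_iff, ← htop]
    refine gsub_le fun j hj => Subgroup.subset_closure ⟨nth 0 gs j, ?_, ?_⟩
    · rw [nth_eq, List.getD_eq_getElem _ _ (c1 ▸ hj)]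
      exact List.getElem_mem _
    · rw [letV, c2 j hj, ev_cons, ev_nil, mul_one, atm_two_mul f hj]
  · intro x hx
    have : wsub n f BW ≤ (MulAction.stabilizer (Perm ℕ) 0).comap φ := by
      refine wsub_le fun w hw => ?_
      obtain ⟨z, hz, rfl⟩ := List.mem_map.mp (c3 ▸ hw)
      rw [Subgroup.mem_comap, MulAction.mem_stabilizer_iff]
      have h1 := h.closed (c5 z hz) 0
      rw [← hv z (c4 z hz)] at h1
      simpa [Nat.testBit_one_eq_true_iff_self_eq_zero, letV] using h1
    exact this hx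

section
variable {n k : ℕ} {RL BW : List (List ℕ)} {fP : ℕ → Perm ℕ} {N : ℕ}

theorem Cert.relIndex_dvd (c : Cert n k RL BW fP N) {G : Type} [Group G] {f : ℕ → G}
    (h : Pres n k RL f) : (wsub n f BW).relIndex (gsub n f) ∣ N := by
  set g : ℕ → G × Perm ℕ := fun j => (f j, fP j) with hg
  have h1 : Pres n k RL g := h.prod c.pres
  have h0 : ∀ j < n, ((MonoidHom.snd G (Perm ℕ)).comp (gsub n g).subtype)
      (lift (gsub n g) g j) = fP j := fun j hj => by
    rw [MonoidHom.comp_apply, lift_gsub g j hj, hg, MonoidHom.coe_snd]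
  have h2 := (c.act (gsub n g) (lift (gsub n g) g) h1.lift _ h0 (gsub_lift n g)).index
  rw [wsub_lift] at h2
  have h3 : ∀ j < n, MonoidHom.fst G (Perm ℕ) (g j) = f j := fun j _ => by
    rw [hg, MonoidHom.coe_fst]
  rw [← wsub_map h3, ← gsub_map' h3, ← Subgroup.relIndex_comap, ← h2]
  exact Subgroup.relIndex_dvd_of_le_left _ (Subgroup.le_comap_map _ _)

/-- every group generated by elements satisfying the relators has order dividing `M` -/
def Bound (n k : ℕ) (RL : List (List ℕ)) (M : ℕ) : Prop :=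
  ∀ (G : Type) [Group G] (f : ℕ → G), Pres n k RL f → Nat.card (gsub n f) ∣ M

theorem Cert.card_dvd (c : Cert n k RL BW fP N) {G : Type} [Group G] {f : ℕ → G}
    (h : Pres n k RL f) {M : ℕ} (hM : Nat.card (wsub n f BW) ∣ M) : Nat.card (gsub n f) ∣ N * M := by
  rw [← Subgroup.relIndex_bot_left, ← Subgroup.relIndex_mul_relIndex ⊥ _ _ bot_le
    (wsub_le_gsub n f BW), Subgroup.relIndex_bot_left, mul_comm]
  exact Nat.mul_dvd_mul (c.relIndex_dvd h) hM

theorem Cert.bound_nil (c : Cert n k RL [] fP N) : Bound n k RL N := fun G _ f h => by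
  simpa using c.card_dvd h (M := 1) (by rw [wsub_nil]; simp)

theorem Cert.bound (c : Cert n k RL BW fP N) {k' : ℕ} {RL' : List (List ℕ)} {M : ℕ}
    (b : Bound BW.length k' RL' M) {H : List Hint}
    (hc : consAll (2 * k) RL (subList k BW k' RL') H = true) : Bound n k RL (N * M) :=
  fun G _ _ h => c.card_dvd h (b G _ (h.subst hc))

theorem Bound.cons {M : ℕ} (b : Bound n k RL M) {RL' : List (List ℕ)} {H : List Hint}
    (hc : consAll (2 * k) RL' RL H = true) : Bound n k RL' M :=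
  fun G _ _ h => b G _ (h.cons hc)

/-- a group attaining the bound maps onto every other group satisfying the relators -/
theorem Bound.exists_hom {M : ℕ} (b : Bound n k RL M) (hM : M ≠ 0) {G Δ : Type} [Group G] [Group Δ]
    {f : ℕ → G} {g : ℕ → Δ} (hf : Pres n k RL f) (hg : Pres n k RL g)
    (hc : M ∣ Nat.card (gsub n f)) :
    ∃ ψ : gsub n f →* Δ, ∀ j < n, ψ (lift (gsub n f) f j) = g j := by
  set p : ℕ → G × Δ := fun j => (f j, g j) with hp
  have h1 := b _ _ (hf.prod hg)
  have e2 : gsub n f = (gsub n p).map (MonoidHom.fst G Δ) :=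
    (gsub_map' fun j _ => by rw [hp, MonoidHom.coe_fst]).symm
  have hfin : Finite (gsub n p) := Nat.finite_of_card_ne_zero (ne_zero_of_dvd_ne_zero hM h1)
  let π : gsub n p →* gsub n f := ((MonoidHom.fst G Δ).comp (gsub n p).subtype).codRestrict _
    fun x => by rw [e2]; exact ⟨x, x.2, rfl⟩
  have hs : Function.Surjective π := by
    rintro ⟨y, hy⟩
    rw [e2] at hy
    obtain ⟨x, hx, rfl⟩ := hy
    exact ⟨⟨x, hx⟩, rfl⟩
  have hb : Function.Bijective π := by
    refine hs.bijective_of_nat_card_le ?_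
    have : Finite (gsub n f) := Finite.of_surjective _ hs
    exact Nat.le_of_dvd Nat.card_pos (h1.trans hc)
  let e := MulEquiv.ofBijective π hb
  refine ⟨((MonoidHom.snd G Δ).comp (gsub n p).subtype).comp e.symm.toMonoidHom, fun j hj => ?_⟩
  have : e.symm (lift (gsub n f) f j) = ⟨p j, mem_gsub p hj⟩ := by
    rw [MulEquiv.symm_apply_eq]
    exact Subtype.ext (lift_coe (mem_gsub f hj))
  simp [this, hp]

end

section
variable {α : Type} [DecidableEq α] {rels : Set (FreeGroup α)} {gl : List α} {k : ℕ}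
  {RL : List (List ℕ)}

/-- the generators of a presented group, by number -/
def pgen (rels : Set (FreeGroup α)) (gl : List α) (j : ℕ) : PresentedGroup rels :=
  patom rels gl (2 * j)

omit [DecidableEq α] in
theorem atom_eq_atm {Γ : Type*} [Group Γ] (gl : List α) (f : α → Γ) :
    atom gl f = atm gl.length fun j => atom gl f (2 * j) := by
  funext y
  rw [atm_def]
  have e : 2 * (y / 2) / 2 = y / 2 := by omega
  have e2 : 2 * (y / 2) % 2 = 0 := by omega
  unfold atom
  rw [e, e2]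
  by_cases h1 : y / 2 < gl.length
  · rw [List.getElem?_eq_getElem h1, if_pos h1]; simp
  · rw [List.getElem?_eq_none (by omega), if_neg h1]

omit [DecidableEq α] in
theorem patom_eq : patom rels gl = atm gl.length (pgen rels gl) := atom_eq_atm gl _

theorem Coded.pres (h : Coded rels gl k RL) : Pres gl.length k RL (pgen rels gl) := by
  refine ⟨fun j h1 h2 => ?_, fun l hl => by rw [← patom_eq]; exact h.rel l hl⟩
  rw [pgen, patom, atom_two_mul gl _ j _ (List.getElem?_eq_getElem h2)]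
  exact h.sq _ (List.mem_take_iff_getElem.mpr ⟨j, by omega, rfl⟩)

theorem Coded.gsub_eq (h : Coded rels gl k RL) : gsub gl.length (pgen rels gl) = ⊤ := h.closure

theorem Coded.hom (h : Coded rels gl k RL) (hn : gl.Nodup) {Γ : Type*} [Group Γ] {g : ℕ → Γ}
    (hg : Pres gl.length k RL g) :
    ∃ φ : PresentedGroup rels →* Γ, ∀ j < gl.length, φ (pgen rels gl j) = g j := by
  have e : atom gl (fun x => g (gl.idxOf x)) = atm gl.length g := by
    rw [atom_eq_atm]
    refine atm_congr fun j hj => ?_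
    rw [atom_two_mul gl _ j _ (List.getElem?_eq_getElem hj), hn.idxOf_getElem]
  obtain ⟨φ, -, h2⟩ := h.exists_hom (fun x => g (gl.idxOf x)) (fun x hx => by
    obtain ⟨j, hj, rfl⟩ := List.mem_take_iff_getElem.mp hx
    rw [hn.idxOf_getElem]
    exact hg.sq j (by omega) (by omega)) (fun l hl => by rw [e]; exact hg.rel l hl)
  exact ⟨φ, fun j hj => by rw [pgen, h2, e, atm_two_mul g hj]⟩

theorem Coded.map_closure (h : Coded rels gl k RL) {S : Set (FreeGroup α)} {ws : List (FreeGroup α)}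
    (hS : ∀ x, x ∈ S ↔ x ∈ ws) {BW : List (List ℕ)} (h1 : ∀ w ∈ ws, toCodes gl k w ∈ BW)
    (h2 : ∀ l ∈ BW, l ∈ ws.map (toCodes gl k)) :
    (Subgroup.closure S).map (PresentedGroup.mk rels) = wsub gl.length (pgen rels gl) BW := by
  rw [MonoidHom.map_closure, wsub_eq_closure]
  congr 1
  ext x
  constructor
  · rintro ⟨w, hw, rfl⟩
    exact ⟨_, h1 w ((hS w).mp hw), by rw [h.mk_eq, patom_eq]⟩
  · rintro ⟨l, hl, rfl⟩
    obtain ⟨w, hw, rfl⟩ := List.mem_map.mp (h2 l hl)
    exact ⟨w, (hS w).mpr hw, by rw [h.mk_eq, patom_eq]⟩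

end

end Cfsg.Agent.Spor
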