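import Cfsg.Agent.Spor.TT

set_option autoImplicit false

namespace Cfsg.Agent.Spor

open Equiv

theorem ne_one_of_sends {σ τ : Perm ℕ} {p q : ℕ} (h : σ = τ) (h1 : τ p = q) (h2 : p ≠ q) : σ ≠ 1 := by
  rintro rfl
  rw [← h] at h1
  exact h2 h1

section
variable {G : Type*} [Group G]

theorem ne_comm_of_ev {n k : ℕ} {RL : List (List ℕ)} {f : ℕ → G} (h : Pres n k RL f) {i j : ℕ}
    (hi : i < k) (hi' : i < n) (hj : j < k) (hj' : j < n)
    (h1 : ev (atm n f) [2 * i, 2 * j, 2 * i, 2 * j] ≠ 1) : f i * f j ≠ f j * f i := by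
  intro e
  apply h1
  simp only [ev_cons, ev_nil, atm_two_mul f hi', atm_two_mul f hj', mul_one]
  rw [← mul_assoc (f j), ← e, mul_assoc, h.sq j hj hj', mul_one, h.sq i hi hi']

theorem ev_comm_eq_one {ni : ℕ} {a : ℕ → G} (hi : IvOk ni a) {u v l : List ℕ}
    (h : ev a u * ev a v = ev a v * ev a u)
    (hc : isNil (red ni (invW ni l (u ++ (v ++ invW ni u (invW ni v []))))) = true) : ev a l = 1 := by
  have := ev_eq_one_of_red hi hc
  rw [ev_invW hi, ev_append, ev_append, ev_invW hi, ev_invW hi, ev_nil, mul_one, inv_mul_eq_one,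
    ← mul_assoc, ← mul_assoc, h] at this
  rw [this]; group

theorem CosetAct.inj_of_sub {H : Subgroup G} {φ : G →* Perm ℕ} {N : ℕ} (h : CosetAct H φ N)
    (hi : Function.Injective (φ.comp H.subtype)) : Function.Injective φ := by
  rw [← MonoidHom.ker_eq_bot_iff, eq_bot_iff]
  intro x hx
  have h1 : x ∈ H := (h.stab x).mp (by rw [MonoidHom.mem_ker.mp hx]; rfl)
  have := hi (a₁ := ⟨x, h1⟩) (a₂ := 1) (by rw [map_one]; exact hx)
  exact congrArg Subtype.val this

end

end Cfsg.Agent.Spor
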