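import Cfsg.Agent.Spor.Norm2

set_option autoImplicit false

namespace Cfsg.Agent.Spor

open Equiv

section
variable {H Δ Γ : Type*} [Group H] [Group Δ] [Group Γ]

theorem eq_of_card_two {A : Subgroup H} (h : Nat.card A = 2) {z x : H} (hz : z ∈ A) (hz1 : z ≠ 1)
    (hx : x ∈ A) : x = 1 ∨ x = z := by
  obtain ⟨y, -, hy⟩ := (Nat.card_eq_two_iff' (1 : A)).mp h
  by_cases h1 : x = 1
  · exact Or.inl h1
  · right
    have e1 := hy ⟨x, hx⟩ fun e => h1 (congrArg Subtype.val e)
    have e2 := hy ⟨z, hz⟩ fun e => hz1 (congrArg Subtype.val e)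
    exact congrArg Subtype.val (e1.trans e2.symm)

theorem central_of_card_two {A : Subgroup H} [hA : A.Normal] (h : Nat.card A = 2) :
    A ≤ Subgroup.center H := by
  intro z hz
  rw [Subgroup.mem_center_iff]
  intro g
  by_cases hz1 : z = 1
  · simp [hz1]
  · rcases eq_of_card_two h hz hz1 (hA.conj_mem z hz g) with e | e
    · exact absurd (by simpa using e) hz1
    · exact mul_inv_eq_iff_eq_mul.mp e

theorem inj_of_cover [IsSimpleGroup Δ] {ψ : H →* Δ} (hs : Function.Surjective ψ)
    (hk : Nat.card ψ.ker = 2) {z : H} (hz : ψ z = 1) (χ : H →* Γ) (h1 : χ z ≠ 1)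
    (h2 : ∃ x y, χ x * χ y ≠ χ y * χ x) : Function.Injective χ := by
  have hz1 : z ≠ 1 := fun e => h1 (by rw [e, map_one])
  rcases (Subgroup.Normal.map inferInstance ψ hs : (χ.ker.map ψ).Normal).eq_bot_or_eq_top with h | h
  · rw [← MonoidHom.ker_eq_bot_iff, eq_bot_iff]
    intro x hx
    have : ψ x ∈ χ.ker.map ψ := ⟨x, hx, rfl⟩
    rw [h, Subgroup.mem_bot] at this
    rcases eq_of_card_two hk hz hz1 this with e | e
    · exact e
    · exact absurd (e ▸ hx) h1
  · exfalso
    obtain ⟨x, y, hxy⟩ := h2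
    obtain ⟨m, hm, e⟩ : ψ x ∈ χ.ker.map ψ := h ▸ Subgroup.mem_top _
    have h3 : m⁻¹ * x ∈ ψ.ker := by rw [MonoidHom.mem_ker, map_mul, map_inv, e, inv_mul_cancel]
    have h4 := Subgroup.mem_center_iff.mp (central_of_card_two hk h3) y
    have h5 : χ x = χ (m⁻¹ * x) := by
      rw [map_mul, map_inv, MonoidHom.mem_ker.mp hm, inv_one, one_mul]
    exact hxy (by rw [h5, ← map_mul, ← map_mul, h4])

/-- a perfect double cover -/
def Cover (H Δ : Type*) [Group H] [Group Δ] : Prop :=
  commutator H = ⊤ ∧ ∃ ψ : H →* Δ, Function.Surjective ψ ∧ Nat.card ψ.ker = 2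

theorem perfect_of_surj {H' : Type*} [Group H'] (e : H →* H') (hs : Function.Surjective e)
    (h : commutator H = ⊤) : commutator H' = ⊤ := by
  have := congrArg (Subgroup.map e) h
  rwa [commutator_def, Subgroup.map_commutator, ← MonoidHom.range_eq_map,
    MonoidHom.range_eq_top.mpr hs] at this

theorem Cover.congr {H' Δ' : Type*} [Group H'] [Group Δ'] (h : Cover H Δ) (e : H ≃* H')
    (e' : Δ ≃* Δ') : Cover H' Δ' := by
  obtain ⟨h1, ψ, h2, h3⟩ := h
  refine ⟨perfect_of_surj e.toMonoidHom e.surjective h1,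
    e'.toMonoidHom.comp (ψ.comp e.symm.toMonoidHom),
    e'.surjective.comp (h2.comp e.symm.surjective), ?_⟩
  rw [← h3]
  exact Nat.card_congr (e.symm.toEquiv.subtypeEquiv fun x => by
    rw [MonoidHom.mem_ker, MonoidHom.mem_ker]
    exact e'.map_eq_one_iff)

theorem center_eq_bot_of_simple [IsSimpleGroup Δ] (h : commutator Δ = ⊤) :
    Subgroup.center Δ = ⊥ := by
  rcases (inferInstance : (Subgroup.center Δ).Normal).eq_bot_or_eq_top with h1 | h1
  · exact h1
  · exfalso
    have : commutator Δ = ⊥ := by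
      rw [commutator_def, Subgroup.commutator_eq_bot_iff_le_centralizer]
      intro x _ y _
      exact Subgroup.mem_center_iff.mp (h1 ▸ Subgroup.mem_top x) y
    exact bot_ne_top (this.symm.trans h)

theorem Cover.nonsplit [IsSimpleGroup Δ] (h : Cover H Δ) : Cfsg.IsNonsplitDoubleCover H Δ := by
  obtain ⟨h1, ψ, h2, h3⟩ := h
  have hc := center_eq_bot_of_simple (perfect_of_surj ψ h2 h1)
  have e : Subgroup.center H = ψ.ker := by
    refine le_antisymm (fun x hx => ?_) (central_of_card_two h3)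
    rw [MonoidHom.mem_ker, ← Subgroup.mem_bot, ← hc, Subgroup.mem_center_iff]
    intro g
    obtain ⟨y, rfl⟩ := h2 g
    rw [← map_mul, ← map_mul, Subgroup.mem_center_iff.mp hx y]
  refine ⟨e ▸ h3, ⟨(QuotientGroup.quotientMulEquivOfEq e).trans
    (QuotientGroup.quotientKerEquivOfSurjective ψ h2)⟩, fun L hL => ?_⟩
  have h4 : L.index = 2 := by rw [hL.index_eq_card, e, h3]
  have : L.Normal := L.normal_of_index_eq_two h4
  have h5 : commutator H ≤ L := by
    rw [commutator_def, Subgroup.commutator_le]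
    intro x _ y _
    simp only [commutatorElement_def, Subgroup.mul_mem_iff_of_index_two h4, inv_mem_iff]
    tauto
  rw [h1, top_le_iff] at h5
  rw [h5, Subgroup.index_top] at h4
  omega

theorem Cover.card (h : Cover H Δ) : Nat.card H = 2 * Nat.card Δ := by
  obtain ⟨-, ψ, h2, h3⟩ := h
  rw [← h3, ← ψ.ker.card_mul_index, Subgroup.index_ker, MonoidHom.range_eq_top.mpr h2,
    Subgroup.card_top]

/-- conjugate elements have isomorphic centralisers -/
noncomputable def centralizerConj {d e : H} (h : IsConj d e) :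
    Subgroup.centralizer ({d} : Set H) ≃* Subgroup.centralizer ({e} : Set H) :=
  (MulEquiv.subgroupMap (MulAut.conj (isConj_iff.mp h).choose) _).trans (MulEquiv.subgroupCongr (by
    have hc := (isConj_iff.mp h).choose_spec
    generalize (isConj_iff.mp h).choose = c at hc
    subst hc
    ext x
    obtain ⟨y, rfl⟩ := (MulAut.conj c).surjective x
    refine (Subgroup.mem_map_iff_mem (f := (MulAut.conj c).toMonoidHom)
      (MulAut.conj c).injective).trans ?_
    rw [Subgroup.mem_centralizer_singleton_iff, Subgroup.mem_centralizer_singleton_iff]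
    show _ ↔ MulAut.conj c y * MulAut.conj c d = MulAut.conj c d * MulAut.conj c y
    rw [← map_mul, ← map_mul, (MulAut.conj c).apply_eq_iff_eq]))

theorem closure_conjugatesOf [IsSimpleGroup H] {d : H} (hd : d ≠ 1) :
    Subgroup.closure (conjugatesOf d) = ⊤ := by
  have e : Subgroup.closure (conjugatesOf d) = Subgroup.normalClosure {d} := by
    rw [Subgroup.normalClosure, Group.conjugatesOfSet]; simp
  rw [e]
  refine (Subgroup.normalClosure_normal.eq_bot_or_eq_top).resolve_left fun h => hd ?_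
  rw [← Subgroup.mem_bot, ← h]
  exact Subgroup.subset_normalClosure rfl

theorem card_sup_zpowers_dvd {K : Subgroup H} {z : H} (hz : z * z = 1)
    (hc : ∀ x ∈ K, x * z = z * x) : Nat.card (K ⊔ Subgroup.zpowers z : Subgroup H) ∣ 2 * Nat.card K := by
  let π : K × Subgroup.zpowers z →* H :=
    MonoidHom.noncommCoprod K.subtype (Subgroup.zpowers z).subtype (by
      rintro ⟨x, hx⟩ ⟨_, k, rfl⟩
      exact Commute.zpow_right (hc x hx) k)
  have e : π.range = K ⊔ Subgroup.zpowers z := by
    rw [MonoidHom.noncommCoprod_range, Subgroup.range_subtype, Subgroup.range_subtype]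
  rw [← e]
  refine (Subgroup.card_range_dvd π).trans ?_
  rw [Nat.card_prod, mul_comm, Nat.card_zpowers]
  exact Nat.mul_dvd_mul_right (orderOf_dvd_of_pow_eq_one (by rw [sq, hz])) _

theorem ev_twist {n : ℕ} {f : ℕ → H} {z : H} (hz : z * z = 1) (hc : ∀ j < n, f j * z = z * f j)
    (l : List ℕ) (hl : ∀ y ∈ l, y / 2 < n) :
    ev (atm n fun j => f j * z) l = ev (atm n f) l * z ^ (l.length % 2) := by
  have h0 : z ^ (l.length % 2) = z ^ l.length := by
    conv_rhs => rw [← Nat.div_add_mod l.length 2, pow_add, pow_mul, sq, hz, one_pow, one_mul]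
  rw [h0]
  clear h0
  induction l with
  | nil => simp
  | cons y l ih =>
    have hy := hl y List.mem_cons_self
    have h1 : atm n (fun j => f j * z) y = atm n f y * z := by
      rw [atm_def, atm_def, if_pos hy, if_pos hy]
      split_ifs
      · rfl
      · rw [hc _ hy, mul_inv_rev, inv_eq_of_mul_eq_one_right hz]
    have h2 := comm_of_gens hc _ (ev_atm_mem n f l)
    rw [ev_cons, ev_cons, ih fun x hx => hl x (List.mem_cons_of_mem _ hx), h1, List.length_cons,
      pow_succ', mul_assoc, mul_assoc, ← mul_assoc z, ← h2, mul_assoc]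

theorem mem_normal_of_rel {n ni : ℕ} {f : ℕ → H} (hi : IvOk ni (atm n f)) {M : Subgroup H}
    [hM : M.Normal] {w u v : List ℕ} (hu : ev (atm n f) u ∈ M)
    (h : ev (atm n f) (w ++ (u ++ invW ni w (invW ni v []))) = 1) : ev (atm n f) v ∈ M := by
  rw [ev_append, ev_append, ev_invW hi, ev_invW hi, ev_nil, mul_one, ← mul_assoc, ← mul_assoc,
    mul_inv_eq_one] at h
  exact h ▸ hM.conj_mem _ hu _

end

section
variable {n k : ℕ} {RL BW : List (List ℕ)} {M : ℕ}

theorem Cert.bound' {fP : ℕ → Perm ℕ} {N : ℕ} (c : Cert n k RL BW fP N) {k' : ℕ}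
    {RL' RL0 : List (List ℕ)} (b : Bound BW.length k' RL' M) {H H' : List Hint}
    (h0 : consAll (2 * k) RL0 RL H = true)
    (hc : consAll (2 * k) RL0 (subList k BW k' RL') H' = true) : Bound n k RL0 (N * M) :=
  fun G _ _ h => c.card_dvd (h.cons h0) (b G _ (h.subst hc))

/-- relators of a group attaining the bound hold in all groups -/
theorem Bound.transfer (b : Bound n k RL M) (hM : M ≠ 0) {G Δ : Type} [Group G] [Group Δ]
    {f : ℕ → G} {g : ℕ → Δ} (hf : Pres n k RL f) (hc : M ∣ Nat.card (gsub n f))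
    (hg : Pres n k RL g) {l : List ℕ} (hl : ev (atm n f) l = 1) : ev (atm n g) l = 1 := by
  obtain ⟨ψ, hψ⟩ := b.exists_hom hM hf hg hc
  rw [← ev_atm_map' hψ]
  have : ev (atm n (lift (gsub n f) f)) l = 1 :=
    (gsub n f).subtype_injective (by rw [ev_atm_map' (lift_gsub f), hl, map_one])
  rw [this, map_one]

theorem Bound.exists_cover (b : Bound n k RL (2 * M)) (hM : M ≠ 0) {G Δ : Type} [Group G] [Group Δ]
    [IsSimpleGroup Δ] {f : ℕ → G} {g : ℕ → Δ} (hf : Pres n k RL f) (hg : Pres n k RL g)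
    (ht : gsub n g = ⊤) (hΔ : Nat.card Δ = M) {w : List ℕ} (h1 : ev (atm n g) w = 1)
    (h2 : ev (atm n f) w ≠ 1) (h3 : ∃ i < n, ∃ j < n, f i * f j ≠ f j * f i) :
    ∃ ψ : gsub n f →* Δ, Function.Surjective ψ ∧ Nat.card ψ.ker = 2 ∧
      ∀ j < n, ψ (lift (gsub n f) f j) = g j := by
  set p : ℕ → G × Δ := fun j => (f j, g j) with hp
  have hb := b _ _ (hf.prod hg)
  set π1 : gsub n p →* G := (MonoidHom.fst G Δ).comp (gsub n p).subtype with hπ1
  set π2 : gsub n p →* Δ := (MonoidHom.snd G Δ).comp (gsub n p).subtype with hπ2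
  have e1 : ∀ j < n, π1 (lift (gsub n p) p j) = f j := fun j hj => by
    rw [hπ1, MonoidHom.comp_apply, lift_gsub p j hj, hp, MonoidHom.coe_fst]
  have e2 : ∀ j < n, π2 (lift (gsub n p) p j) = g j := fun j hj => by
    rw [hπ2, MonoidHom.comp_apply, lift_gsub p j hj, hp, MonoidHom.coe_snd]
  have r1 := range_eq_gsub e1 (gsub_lift n p)
  have r2 := range_eq_gsub e2 (gsub_lift n p)
  have hs : Function.Surjective π2 := MonoidHom.range_eq_top.mp (r2.trans ht)
  have z1 : π1 (ev (atm n (lift (gsub n p) p)) w) ≠ 1 := by rwa [ev_atm_map' e1]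
  have z2 : π2 (ev (atm n (lift (gsub n p) p)) w) = 1 := by rwa [ev_atm_map' e2]
  have hk : Nat.card π2.ker = 2 := by
    rw [← π2.ker.card_mul_index, Subgroup.index_ker, r2, ht, Subgroup.card_top, hΔ] at hb
    rcases (Nat.dvd_prime Nat.prime_two).mp
      (Nat.dvd_of_mul_dvd_mul_right (Nat.pos_of_ne_zero hM) hb) with h | h
    · exfalso
      rw [Subgroup.card_eq_one] at h
      have : ev (atm n (lift (gsub n p) p)) w ∈ π2.ker := z2
      rw [h, Subgroup.mem_bot] at this
      exact z1 (by rw [this, map_one])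
    · exact h
  have hi : Function.Injective π1 := inj_of_cover hs hk z2 π1 z1 (by
    obtain ⟨i, hi, j, hj, h⟩ := h3
    exact ⟨lift (gsub n p) p i, lift (gsub n p) p j, by rwa [e1 i hi, e1 j hj]⟩)
  let e : gsub n p ≃* gsub n f := (MonoidHom.ofInjective hi).trans (MulEquiv.subgroupCongr r1)
  refine ⟨π2.comp e.symm.toMonoidHom, hs.comp e.symm.surjective, ?_, fun j hj => ?_⟩
  · rw [← hk]
    exact Nat.card_congr (e.symm.toEquiv.subtypeEquiv fun x => Iff.rfl)
  · have : e.symm (lift (gsub n f) f j) = lift (gsub n p) p j := by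
      rw [MulEquiv.symm_apply_eq]
      exact Subtype.ext ((lift_gsub f j hj).trans (e1 j hj).symm)
    rw [MonoidHom.comp_apply, ← e2 j hj, ← this]; rfl

end

end Cfsg.Agent.Spor
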