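import Cfsg.Agent.Spor.MatG2
import Cfsg.Prelude.Def_Chevalley

set_option autoImplicit false

namespace Cfsg.Agent.Spor

open Cfsg.Lie

/-- the entries of a root element as lists of monomials -/
def xl (D : ChevalleyDatum) (r : Fin D.nroots) (row col : D.Idx) : List (ℕ × ℤ) :=
  match col with
  | Sum.inl i =>
    (match row with
     | Sum.inl i' => if i' = i then [(0, 1)] else []
     | Sum.inr u => if u = r then [(1, - (D.cartanSR.getD i.val #[]).getD r.val 0)] else [])
  | Sum.inr s =>
    if s = r then (match row with | Sum.inr u => if u = r then [(0, 1)] else [] | Sum.inl _ => [])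
    else if s.val = D.negIdx.getD r.val 0 then
      (match row with
       | Sum.inl i => [(1, (D.coroot.getD r.val #[]).getD i.val 0)]
       | Sum.inr u => if u = s then [(0, 1)] else if u = r then [(2, -1)] else [])
    else
      (match row with
       | Sum.inl _ => []
       | Sum.inr u => (if u = s then [(0, 1)] else []) ++ D.chainCoeff r.val s.val u.val)

theorem xMat_xl (D : ChevalleyDatum) (F : Type*) [Field F] (r : Fin D.nroots) (t : F)
    (row col : D.Idx) :
    D.xMat F r t row col = ((xl D r row col).map fun km => ((km.2 : ℤ) : F) * t ^ km.1).sum := by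
  unfold ChevalleyDatum.xMat xl
  rw [Matrix.of_apply]
  rcases col with i | s <;> rcases row with i' | u <;> dsimp only <;> split_ifs <;> simp

theorem sum_monomials {F : Type*} [CommRing F] {t ω : F} {a b : ℕ → ℤ}
    (h : ∀ k, t ^ k = a k + b k * ω) (l : List (ℕ × ℤ)) :
    (l.map fun km => ((km.2 : ℤ) : F) * t ^ km.1).sum =
      ((l.map fun km => km.2 * a km.1).sum : ℤ) + ((l.map fun km => km.2 * b km.1).sum : ℤ) * ω := by
  induction l with
  | nil => simp
  | cons x l ih => 
    rw [List.map_cons, List.sum_cons, ih, h, List.map_cons, List.sum_cons, List.map_cons,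
      List.sum_cons, Int.cast_add, Int.cast_add, Int.cast_mul, Int.cast_mul]
    ring

namespace Ctx
variable {A : Ar} {R : Type*} [CommRing R] {ι : Type*} {X : Ctx A R ι}

theorem cast_eq (X : Ctx A R ι) {x : ℕ} {y : ℤ} (h : (x : ℤ) % A.p = y % A.p) : (x : R) = y := by
  obtain ⟨c, hc⟩ := Int.ModEq.dvd h
  have h2 := congrArg (Int.cast (R := R)) hc
  push_cast at h2
  rw [X.hp, zero_mul] at h2
  exact (sub_eq_zero.mp h2).symm

theorem eq_mk'_two (hd : A.d = 2) {M : Matrix ι ι R} {T : List ℕ} (c0 c1 : ι → ι → ℤ)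
    (h1 : ∀ r c, M r c = c0 r c + c1 r c * X.ω)
    (h2 : ∀ r c, (dig A.B (A.mat T (X.e r) (X.e c)) 0 : ℤ) % A.p = c0 r c % A.p ∧
      (dig A.B (A.mat T (X.e r) (X.e c)) 1 : ℤ) % A.p = c1 r c % A.p) : M = X.mk' T := by
  ext r c
  rw [h1, mk'_apply, decR_two hd, X.cast_eq (h2 r c).1, X.cast_eq (h2 r c).2]

theorem eq_mk'_one (hd : A.d = 1) {M : Matrix ι ι R} {T : List ℕ} (c0 : ι → ι → ℤ)
    (h1 : ∀ r c, M r c = c0 r c)
    (h2 : ∀ r c, (dig A.B (A.mat T (X.e r) (X.e c)) 0 : ℤ) % A.p = c0 r c % A.p) :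
    M = X.mk' T := by
  ext r c
  rw [h1, mk'_apply, decR_one' hd, X.cast_eq (h2 r c)]

end Ctx

/-- coefficients of the powers of a cube root of unity -/
def pwA (k : ℕ) : ℤ := if k % 3 = 0 then 1 else if k % 3 = 1 then 0 else -1
def pwB (k : ℕ) : ℤ := if k % 3 = 0 then 0 else if k % 3 = 1 then 1 else -1

theorem omega_pow {F : Type*} [CommRing F] {ω : F} (h : ω ^ 2 + ω + 1 = 0) (k : ℕ) :
    ω ^ k = pwA k + pwB k * ω := by
  have h3 : ω ^ 3 = 1 := by linear_combination (ω - 1) * h
  rw [← Nat.div_add_mod k 3, pow_add, pow_mul, h3, one_pow, one_mul, pwA, pwB, Nat.mul_add_mod,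
    Nat.mod_mod]
  have : k % 3 < 3 := Nat.mod_lt _ (by norm_num)
  interval_cases k % 3
  · simp
  · simp
  · simp; linear_combination h

end Cfsg.Agent.Spor
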