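import Cfsg.Agent.Spor.Prim

set_option autoImplicit false

namespace Cfsg.Agent.Spor

open Equiv

section
variable {G : Type*} [Group G] {n ni : ℕ} {f : ℕ → G}

/-- words saying that the words `BW` normalise the group generated by the words `AW` -/
noncomputable def normList (ni : ℕ) (BW AW : List (List ℕ)) (I : List (List (List ℕ))) :
    List (List ℕ) :=
  (List.range BW.length).flatMap fun i => (List.range AW.length).map fun j =>
    BW.getD i [] ++ (AW.getD j [] ++
      invW ni (BW.getD i []) (invW ni (subW ni AW.length AW ((I.getD i []).getD j [])) []))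

theorem norm_of_list (hi : IvOk ni (atm n f)) {BW AW : List (List ℕ)} {I : List (List (List ℕ))}
    [Finite (wsub n f AW)] (h : ∀ l ∈ normList ni BW AW I, ev (atm n f) l = 1) :
    ∀ x ∈ wsub n f BW, ∀ a ∈ wsub n f AW, x * a * x⁻¹ ∈ wsub n f AW := by
  refine conj_mem_of_gens fun i hi' a ha => ?_
  have : wsub n f AW ≤ (wsub n f AW).comap (MulAut.conj (wv n f BW i)).toMonoidHom := by
    refine gsub_le fun j hj => ?_
    have h1 := h _ (List.mem_flatMap.mpr ⟨i, List.mem_range.mpr hi',
      List.mem_map.mpr ⟨j, List.mem_range.mpr hj, rfl⟩⟩)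
    rw [ev_append, ev_append, ev_invW hi, ev_invW hi, ev_nil, mul_one, ← mul_assoc, ← mul_assoc,
      mul_inv_eq_one] at h1
    show wv n f BW i * wv n f AW j * (wv n f BW i)⁻¹ ∈ wsub n f AW
    unfold wv
    rw [h1, ev_subW hi]
    exact ev_atm_mem _ _ _
  exact this ha

noncomputable def commList (ni : ℕ) (BW AW : List (List ℕ)) : List (List ℕ) :=
  BW.flatMap fun x => AW.map fun y => x ++ (y ++ invW ni x (invW ni y []))

theorem comm_of_list (hi : IvOk ni (atm n f)) {BW AW : List (List ℕ)}
    (h : ∀ l ∈ commList ni BW AW, ev (atm n f) l = 1) :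
    ∀ x ∈ wsub n f BW, ∀ a ∈ wsub n f AW, x * a = a * x := by
  have h1 : wsub n f BW ≤ Subgroup.centralizer (wsub n f AW) := wsub_le fun x hx => by
    have h2 : wsub n f AW ≤ Subgroup.centralizer {ev (atm n f) x} := wsub_le fun y hy => by
      have h3 := h _ (List.mem_flatMap.mpr ⟨x, hx, List.mem_map.mpr ⟨y, hy, rfl⟩⟩)
      rw [ev_append, ev_append, ev_invW hi, ev_invW hi, ev_nil, mul_one, ← mul_assoc, ← mul_assoc,
        mul_inv_eq_one, mul_inv_eq_iff_eq_mul] at h3
      exact Subgroup.mem_centralizer_singleton_iff.mpr h3.symm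
    exact fun y hy => Subgroup.mem_centralizer_singleton_iff.mp (h2 hy)
  exact fun x hx a ha => (h1 hx a ha).symm

theorem commList_mem (hi : IvOk ni (atm n f)) (BW AW : List (List ℕ)) :
    ∀ l ∈ commList ni BW AW, ev (atm n f) l ∈ commutator G := by
  intro l hl
  obtain ⟨x, -, hl⟩ := List.mem_flatMap.mp hl
  obtain ⟨y, -, rfl⟩ := List.mem_map.mp hl
  rw [ev_append, ev_append, ev_invW hi, ev_invW hi, ev_nil, mul_one, ← mul_assoc, ← mul_assoc]
  exact Subgroup.commutator_mem_commutator (Subgroup.mem_top _) (Subgroup.mem_top _)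

theorem wsub_single (f : ℕ → G) (w : List ℕ) : wsub n f [w] = Subgroup.zpowers (ev (atm n f) w) := by
  refine le_antisymm (wsub_le fun x hx => ?_) ?_
  · rw [List.mem_singleton.mp hx]; exact Subgroup.mem_zpowers _
  · rw [Subgroup.zpowers_le]; exact mem_wsub f List.mem_cons_self

theorem wsub_mono {BW AW : List (List ℕ)} (h : AW.all BW.contains = true) :
    wsub n f AW ≤ wsub n f BW :=
  wsub_le fun w hw => mem_wsub f (List.contains_iff_mem.mp (List.all_eq_true.mp h w hw))

end

section
variable {G : Type} [Group G] {n k : ℕ} {f : ℕ → G} {RL RL' AW : List (List ℕ)}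

theorem Bound.index_dvd {N : ℕ} (b : Bound n k RL' N) (h : Pres n k RL f) (ht : gsub n f = ⊤)
    (M : Subgroup G) [M.Normal] (hM : ∀ w ∈ AW, ev (atm n f) w ∈ M) {H : List Hint}
    (hc : consAll (2 * k) (RL ++ AW) RL' H = true) : M.index ∣ N := by
  have h1 : Pres n k (RL ++ AW) fun j => QuotientGroup.mk' M (f j) :=
    (h.map _).append fun w hw => by
      rw [← ev_atm_map]
      exact (QuotientGroup.eq_one_iff _).mpr (hM w hw)
  have h2 := b _ _ (h1.cons hc)
  rwa [← gsub_map, ht, ← MonoidHom.range_eq_map, QuotientGroup.range_mk', Subgroup.card_top] at h2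

theorem Bound.eq_top (b : Bound n k RL' 1) (h : Pres n k RL f) (ht : gsub n f = ⊤)
    (M : Subgroup G) [M.Normal] (hM : ∀ w ∈ AW, ev (atm n f) w ∈ M) {H : List Hint}
    (hc : consAll (2 * k) (RL ++ AW) RL' H = true) : M = ⊤ :=
  Subgroup.index_eq_one.mp (Nat.dvd_one.mp (b.index_dvd h ht M hM hc))

theorem Bound.perfect (b : Bound n k RL' 1) (h : Pres n k RL f) (ht : gsub n f = ⊤)
    (BW : List (List ℕ)) {H : List Hint}
    (hc : consAll (2 * k) (RL ++ commList (2 * k) BW BW) RL' H = true) : commutator G = ⊤ :=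
  b.eq_top h ht _ (commList_mem h.ivOk BW BW) hc

theorem Bound.normalClosure (b : Bound n k RL' 1) (h : Pres n k RL f) (ht : gsub n f = ⊤)
    (AW : List (List ℕ)) {H : List Hint} (hc : consAll (2 * k) (RL ++ AW) RL' H = true) :
    Subgroup.normalClosure (wsub n f AW : Set G) = ⊤ :=
  b.eq_top h ht _ (fun _ hw => Subgroup.subset_normalClosure (mem_wsub f hw)) hc

theorem Bound.card_dvd {M : ℕ} (b : Bound n k RL M) (h : Pres n k RL f) (ht : gsub n f = ⊤) :
    Nat.card G ∣ M := by
  have := b G f h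
  rwa [ht, Subgroup.card_top] at this

end

end Cfsg.Agent.Spor
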