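import Cfsg.Agent.Spor.Simp
import Cfsg.Prelude.Def_SporadicB

set_option autoImplicit false

namespace Cfsg.Agent.Spor

open Equiv

theorem Tab.mem_letters (T : Tab) {W : List (List ℕ)} {d : List ℕ}
    (h : d.all (fun z => W.contains [z]) = true) : evA T.τ d ∈ T.lsub W := by
  refine evA_mem _ _ _ fun z hz => ?_
  have := T.mem_lsub (List.contains_iff_mem.mp (List.all_eq_true.mp h z hz))
  simpa using this

theorem Tab.lsub_le_all {T : Tab} {W : List (List ℕ)} {A : Subgroup (Perm ℕ)}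
    (h : AllP (fun w => evA T.τ w ∈ A) W) : T.lsub W ≤ A := Tab.lsub_le h.forall

theorem Tab.lsub_sub (T : Tab) {W W' : List (List ℕ)} (h : W'.all W.contains = true) :
    T.lsub W' ≤ T.lsub W :=
  Tab.lsub_le fun w hw => T.mem_lsub (List.contains_iff_mem.mp (List.all_eq_true.mp h w hw))

theorem lsub_eq_of_all₂ {T : Tab} {n : ℕ} {f : ℕ → Perm ℕ} {BW W : List (List ℕ)}
    (h : List.Forall₂ (fun l w => ev (atm n f) l = evA T.τ w) BW W) : wsub n f BW = T.lsub W := by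
  refine le_antisymm (wsub_le fun l hl => ?_) (Tab.lsub_le fun w hw => ?_)
  · obtain ⟨j, hj, rfl⟩ := List.getElem_of_mem hl
    have h1 := h.get hj (h.length_eq ▸ hj)
    simp only [List.get_eq_getElem] at h1
    rw [h1]
    exact T.mem_lsub (List.getElem_mem _)
  · obtain ⟨j, hj, rfl⟩ := List.getElem_of_mem hw
    have h1 := h.get (h.length_eq ▸ hj) hj
    simp only [List.get_eq_getElem] at h1
    rw [← h1]
    exact mem_wsub f (List.getElem_mem _)

/-- the inverse letter -/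
theorem Tab.inv_letter (T : Tab) {z z' : ℕ}
    (h : band (Nat.beq (T.let z').ni (T.let z).ni) (xor (T.let z').inv (T.let z).inv) = true) :
    T.τ z' = (T.τ z)⁻¹ := by
  simp only [band_eq, Bool.and_eq_true, Nat.beq_eq] at h
  simp only [Tab.τ, SNet.perm, Tab.sn, h.1]
  have := h.2
  by_cases h3 : (T.let z').inv = true <;> by_cases h4 : (T.let z).inv = true <;> simp_all

section
variable {G : Type*} [Group G] {H : Subgroup G} {φ : G →* Perm ℕ} {N : ℕ} {U : Tab}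

/-- data of a suborbit: a word, the image of `0`, the mask of the suborbit -/
abbrev SubO := List ℕ × ℕ × ℕ

def SubOk (U : Tab) (W W0 : List (List ℕ)) (x : SubO) : Prop :=
  evA U.τ x.1 ∈ U.lsub W0 ∧ evA U.τ x.1 0 = x.2.1 ∧ Reach (U.lsub W) x.2.1 x.2.2

noncomputable def subCov (N : ℕ) (X : List SubO) : Bool :=
  sub (ones N) (Nat.lor 1 (lor (X.map fun x => x.2.2)))

theorem CosetAct.dcov (h : CosetAct H φ N) {W W0 : List (List ℕ)} (e : H.map φ = U.lsub W)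
    (e0 : φ.range = U.lsub W0) {X : List SubO} (hX : AllP (SubOk U W W0) X)
    (hcov : subCov N X = true) (g : G) :
    g ∈ H ∨ ∃ t ∈ X, ∃ x, φ x = evA U.τ t.1 ∧ ∃ a ∈ H, ∃ b ∈ H, g = a * x * b := by
  have h1 := (sub_iff _ _).mp hcov (φ g 0) (by
    rw [tb_ones, decide_eq_true_eq]; exact (h.orb _).mpr ⟨g, rfl⟩)
  rw [tb_lor, Bool.or_eq_true] at h1
  rcases h1 with h1 | h1
  · exact Or.inl ((h.stab g).mp (Nat.testBit_one_eq_true_iff_self_eq_zero.mp h1))
  · obtain ⟨M, hM, h2⟩ := tb_lor_list _ _ h1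
    obtain ⟨t, ht, rfl⟩ := List.mem_map.mp hM
    obtain ⟨h3, h4, h5⟩ := hX.forall t ht
    obtain ⟨x, hx⟩ := MonoidHom.mem_range.mp (e0 ▸ h3)
    obtain ⟨_, ⟨a, ha, rfl⟩, h6⟩ := (e ▸ h5 _ h2 : φ g 0 ∈ orbS (H.map φ) t.2.1)
    refine Or.inr ⟨t, ht, x, hx, a, ha, (a * x)⁻¹ * g, ?_, by group⟩
    rw [← h.stab, map_mul, map_inv, Perm.mul_apply, Perm.inv_eq_iff_eq, map_mul, Perm.mul_apply,
      hx, h4, h6]

theorem CosetAct.coatom (h : CosetAct H φ N) (hN : 1 < N) {W W0 : List (List ℕ)}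
    (e : H.map φ = U.lsub W) (e0 : φ.range = U.lsub W0) {X : List SubO}
    (hX : AllP (SubOk U W W0) X) (hcov : subCov N X = true)
    (hY : AllP (fun x : SubO => Reach (U.lsub (x.1 :: W)) 0 (ones N)) X) : IsCoatom H := by
  refine ⟨fun ht => ?_, fun K hK => ?_⟩
  · obtain ⟨x, hx⟩ := (h.orb 1).mp hN
    have := (h.stab x).mpr (ht ▸ Subgroup.mem_top x)
    omega
  · obtain ⟨y, hyK, hyH⟩ := SetLike.exists_of_lt hK
    obtain ⟨t, ht, x, hx, a, ha, b, hb, rfl⟩ := (h.dcov e e0 hX hcov y).resolve_left hyH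
    have h4 : x ∈ K := by
      have := K.mul_mem (K.mul_mem (K.inv_mem (hK.le ha)) hyK) (K.inv_mem (hK.le hb))
      simpa [mul_assoc] using this
    have h5 : U.lsub (t.1 :: W) ≤ K.map φ := Tab.lsub_le fun w hw => by
      rcases List.mem_cons.mp hw with rfl | hw
      · exact ⟨x, h4, hx⟩
      · exact Subgroup.map_mono hK.le (e ▸ U.mem_lsub hw)
    rw [eq_top_iff]
    intro z _
    obtain ⟨_, ⟨u, hu, rfl⟩, e2⟩ := (hY.forall t ht).mono h5 (φ z 0) (by
      rw [tb_ones, decide_eq_true_eq]; exact (h.orb _).mpr ⟨z, rfl⟩)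
    have h5 : u⁻¹ * z ∈ H := by
      rw [← h.stab, map_mul, Perm.mul_apply, ← e2, map_inv]
      simp
    simpa using K.mul_mem hu (hK.le h5)

theorem threeTrans_of_dcov {d : G} (hd : orderOf d = 2) (hc : ∀ a ∈ H, a * d = d * a)
    {P : G → Prop} (hcov : ∀ g, g ∈ H ∨ ∃ x, P x ∧ ∃ a ∈ H, ∃ b ∈ H, g = a * x * b)
    (hP : ∀ x, P x → (d * (x * d * x⁻¹)) ^ 2 = 1 ∨ (d * (x * d * x⁻¹)) ^ 3 = 1) :
    IsThreeTranspositionSet (conjugatesOf d) := by
  have hd2 : d * d = 1 := by rw [← sq, ← hd, pow_orderOf_eq_one]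
  have key : ∀ g : G, (d * (g * d * g⁻¹)) ^ 2 = 1 ∨ (d * (g * d * g⁻¹)) ^ 3 = 1 := fun g => by
    rcases hcov g with hg | ⟨x, hx, a, ha, b, hb, rfl⟩
    · left
      rw [hc g hg, mul_inv_cancel_right, hd2, one_pow]
    · have e : d * (a * x * b * d * (a * x * b)⁻¹) = a * (d * (x * d * x⁻¹)) * a⁻¹ := by
        rw [mul_assoc (a * x) b d, hc b hb, ← mul_assoc a d, hc a ha]
        group
      rw [e, conj_pow, conj_pow]
      rcases hP x hx with h | h <;> simp [h]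
  refine ⟨fun x hx => ?_, fun x hx y hy => ?_⟩
  · obtain ⟨c, rfl⟩ := isConj_iff.mp hx
    rw [← hd]
    exact (MulAut.conj c).orderOf_eq d
  · obtain ⟨a, rfl⟩ := isConj_iff.mp hx
    obtain ⟨b, rfl⟩ := isConj_iff.mp hy
    have e : a * d * a⁻¹ * (b * d * b⁻¹) = a * (d * ((a⁻¹ * b) * d * (a⁻¹ * b)⁻¹)) * a⁻¹ := by group
    rw [e, conj_pow, conj_pow]
    rcases key (a⁻¹ * b) with h | h <;> rw [h] <;> simp

theorem CosetAct.core_eq_bot (h : CosetAct H φ N) (hi : Function.Injective φ)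
    (hf : φ.range ≤ FixFrom N) : H.normalCore = ⊥ := by
  rw [h.normalCore fun x => hf ⟨x, rfl⟩, MonoidHom.ker_eq_bot_iff]
  exact hi

end

theorem Cert.sub_dvd {n k : ℕ} {RL BW : List (List ℕ)} {fP : ℕ → Perm ℕ} {N M : ℕ}
    (c : Cert n k RL BW fP N) (b : Bound n k RL (N * M)) {G : Type} [Group G] {f : ℕ → G}
    (h : Pres n k RL f) : Nat.card (wsub n f BW) ∣ M := by
  set g : ℕ → G × Perm ℕ := fun j => (f j, fP j) with hg
  have h1 : Pres n k RL g := h.prod c.pres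
  have h0 : ∀ j < n, ((MonoidHom.snd G (Perm ℕ)).comp (gsub n g).subtype)
      (lift (gsub n g) g j) = fP j := fun j hj => by
    rw [MonoidHom.comp_apply, lift_gsub g j hj, hg, MonoidHom.coe_snd]
  have h2 := (c.act (gsub n g) (lift (gsub n g) g) h1.lift _ h0 (gsub_lift n g)).index
  have h3 : ∀ j < n, MonoidHom.fst G (Perm ℕ) (g j) = f j := fun j _ => by
    rw [hg, MonoidHom.coe_fst]
  have h4 := b _ _ h1
  rw [← (wsub n (lift (gsub n g) g) BW).index_mul_card, h2, wsub_lift,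
    Nat.card_congr (Subgroup.subgroupOfEquivOfLe (wsub_le_gsub n g BW)).toEquiv] at h4
  rw [← wsub_map h3]
  exact (Subgroup.card_map_dvd _ _).trans (Nat.dvd_of_mul_dvd_mul_left c.pos h4)

/-- a chosen homomorphism together with the coset action -/
theorem Cert.act' {n k : ℕ} {RL BW : List (List ℕ)} {fP : ℕ → Perm ℕ} {N : ℕ}
    (c : Cert n k RL BW fP N) {G : Type} [Group G] {f : ℕ → G} (h : Pres n k RL f)
    (ht : gsub n f = ⊤) (hφ : ∃ φ : G →* Perm ℕ, ∀ j < n, φ (f j) = fP j) :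
    ∃ φ : G →* Perm ℕ, (∀ j < n, φ (f j) = fP j) ∧ CosetAct (wsub n f BW) φ N := by
  obtain ⟨φ, h1⟩ := hφ
  exact ⟨φ, h1, c.act G f h φ h1 ht⟩

end Cfsg.Agent.Spor
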