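import Cfsg.Agent.Spor.MatG2

set_option autoImplicit false

namespace Cfsg.Agent.Spor

open Equiv

section
variable {G : Type*} [Group G]

theorem inj_of_simple [IsSimpleGroup G] {Δ : Type*} [Group Δ] (φ : G →* Δ) {x : G} (h : φ x ≠ 1) :
    Function.Injective φ := by
  rw [← MonoidHom.ker_eq_bot_iff]
  exact (IsSimpleGroup.eq_bot_or_eq_top_of_normal φ.ker inferInstance).resolve_right fun e =>
    h (e ▸ Subgroup.mem_top x : x ∈ φ.ker)

theorem core_eq_bot_of_simple [IsSimpleGroup G] {H : Subgroup G} (h : H.index ≠ 1) :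
    H.normalCore = ⊥ :=
  (IsSimpleGroup.eq_bot_or_eq_top_of_normal H.normalCore inferInstance).resolve_right fun e =>
    h (Subgroup.index_eq_one.mpr (top_le_iff.mp (e ▸ H.normalCore_le)))

theorem card_of_index {H : Subgroup G} {N M : ℕ} (hG : Nat.card G = N * M) (hH : H.index = N)
    (hN : N ≠ 0) : Nat.card H = M := by
  have := H.index_mul_card
  rw [hG, hH] at this
  exact Nat.eq_of_mul_eq_mul_left (Nat.pos_of_ne_zero hN) this

theorem index_of_card {H : Subgroup G} {N M : ℕ} (hG : Nat.card G = N * M) (hH : Nat.card H = M)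
    (hM : M ≠ 0) : H.index = N := by
  have := H.index_mul_card
  rw [hG, hH] at this
  exact Nat.eq_of_mul_eq_mul_right (Nat.pos_of_ne_zero hM) this

theorem index_subgroupOf_of_card {H K : Subgroup G} (hKH : K ≤ H) {m M : ℕ}
    (hH : Nat.card H = m * M) (hK : Nat.card K = M) (hM : M ≠ 0) : (K.subgroupOf H).index = m :=
  index_of_card hH ((Nat.card_congr (Subgroup.subgroupOfEquivOfLe hKH).toEquiv).trans hK) hM

/-- the permutation representation on the cosets, with an isomorphism onto the stabiliser -/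
theorem exists_perm_rep' {H : Subgroup G} {N : ℕ} [NeZero N] (hN : H.index = N)
    (hcore : H.normalCore = ⊥) :
    ∃ P : Subgroup (Perm (Fin N)), Nonempty (G ≃* P) ∧ MulAction.IsPretransitive P (Fin N) ∧
      Nonempty (H ≃* MulAction.stabilizer P (0 : Fin N)) := by
  obtain ⟨P, e, h1, h2⟩ := exists_perm_rep hN hcore
  exact ⟨P, ⟨e⟩, h1, ⟨(e.subgroupMap H).trans (MulEquiv.subgroupCongr h2)⟩⟩

/-- relators verified in a faithful image -/
theorem Pres.of_image {Δ : Type*} [Group Δ] {n k : ℕ} {f : ℕ → G} (hi : IvOk (2 * k) (atm n f))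
    {φ : G →* Δ} (hφ : Function.Injective φ) {g : ℕ → Δ} (hg : ∀ j < n, φ (f j) = g j)
    {XL RL : List (List ℕ)} (hX : ∀ l ∈ XL, ev (atm n g) l = 1) (hR : ∀ l ∈ RL, ev (atm n f) l = 1)
    {WD : List (List ℕ)} {k' : ℕ} {RL' : List (List ℕ)} {H : List Hint}
    (hc : consAll (2 * k) (RL ++ XL) (subList k WD k' RL') H = true) :
    Pres WD.length k' RL' (wv n f WD) :=
  Pres.of_subList hi (consAll_sound hi (fun l hl => (List.mem_append.mp hl).elim (hR l) fun h =>
    hφ (by rw [ev_atm_map' hg, hX l h, map_one])) hc)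

theorem ev_ne_one_of_image {Δ : Type*} [Group Δ] {n : ℕ} {f : ℕ → G} {φ : G →* Δ} {g : ℕ → Δ}
    (hg : ∀ j < n, φ (f j) = g j) {w : List ℕ} (h : ev (atm n g) w ≠ 1) : ev (atm n f) w ≠ 1 :=
  fun e => h (by rw [← ev_atm_map' hg, e, map_one])

theorem wv_ne_one {n : ℕ} {f : ℕ → G} {WD : List (List ℕ)} {w : List ℕ} {m : ℕ} (hm : 0 < m)
    (h : ev (atm n f) w ≠ 1) (e : WD.getD 0 [] = w) : ev (atm m (wv n f WD)) [0] ≠ 1 := by
  rw [ev_cons, ev_nil, mul_one, show (0 : ℕ) = 2 * 0 from rfl, atm_two_mul _ hm, wv, e]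
  exact h

end

end Cfsg.Agent.Spor
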