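import Cfsg.Agent.Spor.DC

set_option autoImplicit false

namespace Cfsg.Agent.Spor

open Equiv

def TTOk {Γ : Type*} [Group Γ] (d x : Γ) : Prop :=
  (d * (x * d * x⁻¹)) ^ 2 = 1 ∨ (d * (x * d * x⁻¹)) ^ 3 = 1

theorem evA_conj {τ : ℕ → Perm ℕ} {w iw d : List ℕ} (h1 : evA τ (w ++ iw) = 1) :
    evA τ (iw ++ d ++ w ++ d) = evA τ d * (evA τ w * evA τ d * (evA τ w)⁻¹) := by
  rw [evA_append] at h1
  rw [evA_append, evA_append, evA_append, eq_inv_of_mul_eq_one_left h1, mul_assoc]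

theorem ttOk2 {τ : ℕ → Perm ℕ} {w iw d : List ℕ} {z : ℕ} (h1 : evA τ (w ++ iw) = 1)
    (h2 : evA τ ((iw ++ d ++ w ++ d) ++ (iw ++ d ++ w ++ d)) = 1) (hd : d = [z] := by rfl) :
    TTOk (τ z) (evA τ w) := by
  rw [evA_append, evA_conj h1, hd, evA_cons, evA_nil, one_mul] at h2
  exact Or.inl (by rw [sq, h2])

theorem ttOk3 {τ : ℕ → Perm ℕ} {w iw d : List ℕ} {z : ℕ} (h1 : evA τ (w ++ iw) = 1)
    (h2 : evA τ ((iw ++ d ++ w ++ d) ++ ((iw ++ d ++ w ++ d) ++ (iw ++ d ++ w ++ d))) = 1)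
    (hd : d = [z] := by rfl) : TTOk (τ z) (evA τ w) := by
  rw [evA_append, evA_append (w := iw ++ d ++ w ++ d), evA_conj h1, hd, evA_cons, evA_nil,
    one_mul] at h2
  exact Or.inr (by rw [pow_three', h2])

section
variable {G : Type*} [Group G] {H : Subgroup G} {φ : G →* Perm ℕ} {N : ℕ} {U : Tab}

theorem CosetAct.threeTrans (h : CosetAct H φ N) (hi : Function.Injective φ)
    {W W0 : List (List ℕ)} (e : H.map φ = U.lsub W)
    (e0 : φ.range = U.lsub W0) {X : List SubO} (hX : AllP (SubOk U W W0) X)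
    (hcov : subCov N X = true) {d : G} (hd1 : d ≠ 1) (hd2 : d * d = 1) (hc : ∀ a ∈ H, a * d = d * a)
    (ht : AllP (fun x : SubO => TTOk (φ d) (evA U.τ x.1)) X) :
    Cfsg.IsThreeTranspositionSet (conjugatesOf d) := by
  have : Fact (Nat.Prime 2) := ⟨Nat.prime_two⟩
  refine threeTrans_of_dcov (orderOf_eq_prime (by rw [sq, hd2]) hd1) hc
    (P := fun x => ∃ t ∈ X, φ x = evA U.τ t.1) (fun g => ?_) ?_
  · rcases h.dcov e e0 hX hcov g with h1 | ⟨t, ht, x, hx, h1⟩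
    · exact Or.inl h1
    · exact Or.inr ⟨x, ⟨t, ht, hx⟩, h1⟩
  · rintro x ⟨t, ht', hx⟩
    rcases ht.forall t ht' with h1 | h1
    · left
      apply hi
      rw [map_pow, map_mul, map_mul, map_mul, map_inv, hx, h1, map_one]
    · right
      apply hi
      rw [map_pow, map_mul, map_mul, map_mul, map_inv, hx, h1, map_one]

end

end Cfsg.Agent.Spor
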