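import Cfsg.Agent.Spor.FiB
import Cfsg.Agent.Spor.Fi3510.Act
import Cfsg.Agent.Spor.Fi3510.S.Main
import Cfsg.Agent.Spor.Fi3510.L.Main
import Cfsg.Agent.Spor.Fi22A1.Main
import Cfsg.Agent.Spor.Fi22N1.Main

set_option autoImplicit false
set_option maxRecDepth 100000

namespace Cfsg.Agent.Spor.Fi22G

open Cfsg.Spor

theorem card_inj : Nat.card Fi22 = 64561751654400 ∧ Function.Injective Fi3510.φ :=
  card_eq_of_bounds _ (by norm_num) (FiB.b22.card_dvd pres top)
    (by rw [Fi3510.range_φ, Fi3510.L.eG]; exact Fi3510.L.lb)

theorem card : Nat.card Fi22 = 64561751654400 := card_inj.1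

instance instFinite : Finite Fi22 := Nat.finite_of_card_ne_zero (by rw [card]; norm_num)

theorem coatom : IsCoatom Fi3510.H :=
  Fi3510.act.coatom (by norm_num) (Fi3510.map_H.trans Fi3510.S.eH)
    (Fi3510.range_φ.trans Fi3510.S.eG) Fi3510.S.hX Fi3510.S.hXc Fi3510.S.hY

theorem core : Fi3510.H.normalCore = ⊥ :=
  Fi3510.act.core_eq_bot card_inj.2 (Fi3510.range_φ ▸ Fi3510.S.hfix)

theorem presN : Pres 9 9 (RL ++ Fi3510.L.XN) f :=
  pres.append (Pres.of_map card_inj.2 Fi3510.hφ ⟨Fi3510.cert.pres.sq, Fi3510.L.hXN⟩).rel

theorem perfect : commutator Fi22 = ⊤ :=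
  Fi22A1.cert.bound_nil.perfect pres top [[0], [2], [4], [6], [8], [10], [12], [14], [16]] (H := [([], 0, true), ([], 1, true), ([], 2, true), ([], 3, true), ([], 4, true), ([], 5, true), ([], 6, true), ([], 7, true), ([], 8, true), ([], 9, true), ([], 10, true), ([], 11, true), ([], 12, true), ([], 13, true), ([], 14, true), ([], 15, true), ([], 16, true), ([], 17, true), ([], 18, true), ([], 19, true), ([], 20, true), ([], 21, true), ([], 22, true), ([], 23, true), ([], 24, true), ([], 25, true), ([], 26, true), ([], 27, true), ([], 28, true), ([], 29, true), ([], 30, true), ([], 31, true), ([], 32, true), ([], 33, true), ([], 34, true), ([], 35, true), ([], 36, true), ([], 37, true), ([], 38, true), ([], 40, true), ([], 1, true), ([], 2, true), ([], 3, true), ([], 4, true), ([], 5, true), ([], 6, true), ([], 7, true), ([], 50, true), ([], 9, true), ([], 10, true), ([], 11, true), ([], 12, true), ([], 13, true), ([], 14, true), ([], 60, true), ([], 16, true), ([], 17, true), ([], 18, true), ([], 19, true), ([], 20, true), ([], 70, true), ([], 22, true),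 ([], 23, true), ([], 73, true), ([], 25, true), ([], 80, true), ([], 27, true), ([], 28, true), ([], 29, true), ([], 90, true), ([], 31, true), ([], 32, true), ([], 33, true), ([], 34, true), ([], 110, true)]) (by decide +kernel)

theorem comm_a : ∀ x ∈ Fi3510.H, ∀ a ∈ wsub 9 f [[0]], x * a = a * x :=
  comm_of_list pres.ivOk (consAll_sound pres.ivOk presN.rel (H := [([], 40, false), ([], 1, false), ([], 2, false), ([], 3, false), ([], 4, false), ([], 5, false), ([], 6, false), ([], 7, false), ([], 39, true)]) (by decide +kernel))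

theorem simple : IsSimpleGroup Fi22 :=
  iwasawa_simple coatom core (A := wsub 9 f [[0]])
    (fun h hh a ha => by rw [comm_a h hh a ha, mul_inv_cancel_right]; exact ha)
    (comm_of_list pres.ivOk (consAll_sound pres.ivOk presN.rel (H := [([], 40, false)]) (by decide +kernel)))
    (Fi22N1.cert.bound_nil.normalClosure pres top _ (H := [([], 0, true), ([], 1, true), ([], 2, true), ([], 3, true), ([], 4, true), ([], 5, true), ([], 6, true), ([], 7, true), ([], 8, true), ([], 9, true), ([], 10, true), ([], 11, true), ([], 12, true), ([], 13, true), ([], 14, true), ([], 15, true), ([], 16, true), ([], 17, true), ([], 18, true), ([], 19, true), ([], 20, true), ([], 21, true), ([], 22, true), ([], 23, true), ([], 24, true), ([], 25, true), ([], 26, true), ([], 27, true), ([], 28, true), ([], 29, true), ([], 30, true), ([], 31, true), ([], 32, true), ([], 33, true), ([], 34, true), ([], 35, true), ([], 36, true), ([], 37, true), ([], 38, true), ([], 39, true)]) (by decide +kernel)) perfect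

end Cfsg.Agent.Spor.Fi22G
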