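import Cfsg.Agent.Spor.Sub
import Cfsg.Agent.Spor.MatChev

set_option autoImplicit false

namespace Cfsg.Agent.Spor

/-- the words `W` in the tables `T0` give the even tables of `TT` -/
noncomputable def Ar.wdOk (A : Ar) (T0 TT W : List (List ℕ)) (k : ℕ) : Bool :=
  allN (fun j => A.eqT T0 (nth [] W j) (nth A.idT TT (2 * j))) k

namespace Ctx

variable {A : Ar} {R : Type*} [CommRing R] {ι : Type*} [Fintype ι] [DecidableEq ι] {X : Ctx A R ι}
variable {G : Type*} [Group G] {ρ : G →* Matrix ι ι R} {T0 TT W : List (List ℕ)} {n k : ℕ}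
  {f : ℕ → G}

theorem CodA.exists_of_wd (h : X.CodA (fun y => ρ (atm n f y)) T0) (hc : A.wdOk T0 TT W k = true) :
    ∀ j < k, ∃ g, ρ g = X.mats TT (2 * j) := fun j hj =>
  ⟨_, h.map_ev_eq ((allN_iff _ _).mp hc j hj)⟩

theorem CodA.mem_of_wd (h : X.CodA (fun y => ρ (atm n f y)) T0) (hρ : Function.Injective ρ)
    (hc : A.wdOk T0 TT W k = true) {g : G} {j : ℕ} (hj : j < k) (hg : ρ g = X.mats TT (2 * j)) :
    g ∈ gsub n f := by
  rw [hρ (hg.trans (h.map_ev_eq ((allN_iff _ _).mp hc j hj)).symm)]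
  exact ev_atm_mem n f _

theorem CodA.mem_of_eqT (h : X.CodA (fun y => ρ (atm n f y)) T0) (hρ : Function.Injective ρ)
    {w Z : List ℕ} (hc : A.eqT T0 w Z = true) {g : G} (hg : ρ g = X.mk' Z) : g ∈ gsub n f := by
  rw [hρ (hg.trans (h.map_ev_eq hc).symm)]
  exact ev_atm_mem n f _

/-- two lists of generators which are words in each other -/
theorem gsub_gen_eq {W' : List (List ℕ)} (hρ : Function.Injective ρ) (h0 : A.gensOk T0 n = true)
    (h1 : A.gensOk TT k = true) (hf : ∀ j < n, ρ (f j) = X.mats T0 (2 * j))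
    (c1 : A.wdOk T0 TT W k = true) (c2 : A.wdOk TT T0 W' n = true) :
    X.CodA (fun y => ρ (atm k (X.gen ρ TT) y)) TT ∧ gsub n f = gsub k (X.gen ρ TT) := by
  have a0 := codA_atm h0 hf
  have e1 := a0.exists_of_wd c1
  have a1 := codA_gen h1 e1
  exact ⟨a1, le_antisymm (gsub_le fun j hj => a1.mem_of_wd hρ c2 hj (hf j hj))
    (gsub_le fun j hj => a0.mem_of_wd hρ c1 hj (gen_spec (e1 j hj)))⟩

end Ctx

theorem gsub_two {G : Type*} [Group G] (x y : G) :
    gsub 2 (fun j => if j = 0 then x else y) = Subgroup.closure {x, y} := by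
  unfold gsub
  congr 1
  ext g
  constructor
  · rintro ⟨j, -, rfl⟩
    by_cases h : j = 0 <;> simp [h]
  · rintro (rfl | rfl)
    · exact ⟨0, by norm_num, rfl⟩
    · exact ⟨1, by norm_num, rfl⟩

end Cfsg.Agent.Spor
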