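import Cfsg.Agent.Spor.TT2
import Cfsg.Agent.Spor.Fi22Simple
import Cfsg.Agent.Spor.Fi31671.Act
import Cfsg.Agent.Spor.Fi31671.S.Main
import Cfsg.Agent.Spor.Fi31671.L.Main
import Cfsg.Agent.Spor.Fi23A1.Main
import Cfsg.Agent.Spor.Fi23N1.Main
import Cfsg.Agent.Spor.Y332A1.Main

set_option autoImplicit false
set_option maxRecDepth 100000

namespace Cfsg.Agent.Spor.Fi23G

open Cfsg.Spor

def zw : List ℕ := [2, 4, 6, 8, 10, 12, 14, 2, 4, 6, 8, 10, 12, 14, 2, 4, 6, 8, 10, 12, 14, 2, 4, 6, 8, 10, 12, 14, 2, 4, 6, 8, 10, 12, 14, 2, 4, 6, 8, 10, 12, 14, 2, 4, 6, 8, 10, 12, 14, 2, 4, 6, 8, 10, 12, 14, 2, 4, 6, 8, 10, 12, 14]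

/-- the generators of the double cover of `Fi22` -/
noncomputable abbrev g : ℕ → Fi23 := wv 10 f Fi31671.BW

theorem presH : Pres 9 9 Fi14080.RL g :=
  pres.subst (WD := Fi31671.BW) (H := [([], 47, false), ([], 47, false), ([], 47, false), ([], 47, false), ([], 47, false), ([], 47, false), ([], 47, false), ([], 47, false), ([], 47, false), ([], 0, true), ([], 1, true), ([], 2, true), ([], 3, true), ([], 4, true), ([], 5, true), ([], 6, true), ([], 7, true), ([], 9, true), ([], 10, true), ([], 11, true), ([], 12, true), ([], 13, true), ([], 14, true), ([], 15, true), ([], 17, true), ([], 18, true), ([], 19, true), ([], 20, true), ([], 21, true), ([], 22, true), ([], 24, true), ([], 25, true), ([], 26, true), ([], 27, true), ([], 28, true), ([], 30, true), ([], 31, true), ([], 32, true), ([], 33, true), ([], 35, true), ([], 36, true), ([], 37, true), ([], 39, true), ([], 40, true), ([], 42, true), ([], 45, true), ([], 46, true)]) (by decide +kernel)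

theorem hφg : ∀ j < 9, Fi31671.φ (g j) = Fi31671.fP j := by
  intro j hj
  rw [wv_map Fi31671.hφ, wv, show Fi31671.BW.getD j [] = [2 * j] by interval_cases j <;> rfl,
    ev_cons, ev_nil, mul_one, atm_two_mul _ (by omega)]

theorem ev_g (l : List ℕ) : ev (atm 9 g) l = ev (atm 10 f) (subW (2 * 10) 9 Fi31671.BW l) :=
  (ev_subW pres.ivOk _ _).symm

/-- the central transposition -/
noncomputable def z : Fi23 := ev (atm 10 f) zw

theorem z_eq : ev (atm 9 g) zw = z := by
  rw [ev_g, show subW (2 * 10) 9 Fi31671.BW zw = zw by decide +kernel]; rfl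

theorem φz : Fi31671.φ z ≠ 1 := by
  rw [z, ev_atm_map' Fi31671.hφ]; exact Fi31671.L.z_ne

theorem φab : Fi31671.φ (g 0) * Fi31671.φ (g 1) ≠ Fi31671.φ (g 1) * Fi31671.φ (g 0) := by
  rw [hφg 0 (by norm_num), hφg 1 (by norm_num)]
  exact ne_comm_of_ev Fi31671.cert.pres (by norm_num) (by norm_num) (by norm_num) (by norm_num)
    Fi31671.L.ab_ne

theorem cover' : ∃ ψ : Fi31671.H →* Fi22, Function.Surjective ψ ∧ Nat.card ψ.ker = 2 ∧
    ∀ j < 9, ψ (lift (gsub 9 g) g j) = Fi22G.f j :=
  haveI := Fi22G.simple
  FiB.b222.exists_cover (by norm_num) presH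
    (Fi22G.pres.cons (H := [([], 0, true), ([], 1, true), ([], 2, true), ([], 3, true), ([], 4, true), ([], 5, true), ([], 6, true), ([], 7, true), ([], 8, true), ([], 9, true), ([], 10, true), ([], 11, true), ([], 12, true), ([], 13, true), ([], 14, true), ([], 15, true), ([], 16, true), ([], 17, true), ([], 18, true), ([], 19, true), ([], 20, true), ([], 21, true), ([], 22, true), ([], 23, true), ([], 24, true), ([], 25, true), ([], 26, true), ([], 27, true), ([], 28, true), ([], 29, true), ([], 30, true), ([], 31, true), ([], 32, true), ([], 33, true), ([], 34, true), ([], 35, true), ([], 36, true), ([], 37, true)]) (by decide +kernel)) Fi22G.top Fi22G.card (w := zw)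
    (consAll_sound Fi22G.pres.ivOk Fi22G.pres.rel (L := [zw]) (H := [([], 38, true)]) (by decide +kernel) _
      List.mem_cons_self)
    (by rw [z_eq]; exact fun h => φz (by rw [h, map_one]))
    ⟨0, by norm_num, 1, by norm_num, fun h => φab (by rw [← map_mul, h, map_mul])⟩

theorem cover : Cover Fi31671.H Fi22 := by
  obtain ⟨ψ, h1, h2, -⟩ := cover'
  exact ⟨Y332A1.cert.bound_nil.perfect presH.lift (gsub_lift 9 g) [[0], [2], [4], [6], [8], [10], [12], [14], [16]] (H := [([], 0, true), ([], 1, true), ([], 2, true), ([], 3, true), ([], 4, true), ([], 5, true), ([], 6, true), ([], 7, true), ([], 8, true), ([], 9, true), ([], 10, true), ([], 11, true), ([], 12, true), ([], 13, true), ([], 14, true), ([], 15, true), ([], 16, true), ([], 17, true), ([], 18, true), ([], 19, true), ([], 20, true), ([], 21, true), ([], 22, true), ([], 23, true), ([], 24, true), ([], 25, true), ([], 26, true), ([], 27, true), ([], 28, true), ([], 29, true), ([], 30, true), ([], 31, true), ([], 32, true), ([], 33, true), ([], 34, true), ([], 35, true), ([],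 36, true), ([], 37, true), ([], 39, true), ([], 1, true), ([], 2, true), ([], 3, true), ([], 4, true), ([], 5, true), ([], 6, true), ([], 7, true), ([], 49, true), ([], 9, true), ([], 10, true), ([], 11, true), ([], 12, true), ([], 13, true), ([], 14, true), ([], 59, true), ([], 16, true), ([], 17, true), ([], 18, true), ([], 19, true), ([], 20, true), ([], 69, true), ([], 22, true), ([], 23, true), ([], 72, true), ([], 25, true), ([], 79, true), ([], 27, true), ([], 28, true), ([], 29, true), ([], 89, true), ([], 31, true), ([], 32, true), ([], 33, true), ([], 34, true), ([], 109, true)]) (by decide +kernel),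
    ψ, h1, h2⟩

theorem cardH : Nat.card Fi31671.H = 2 * 64561751654400 := by rw [cover.card, Fi22G.card]

theorem card : Nat.card Fi23 = 4089470473293004800 := by
  rw [← Fi31671.H.card_mul_index, cardH, Fi31671.act.index]

instance instFinite : Finite Fi23 := Nat.finite_of_card_ne_zero (by rw [card]; norm_num)

theorem inj : Function.Injective Fi31671.φ := by
  refine Fi31671.act.inj_of_sub ?_
  obtain ⟨ψ, h1, h2, h3⟩ := cover'
  haveI := Fi22G.simple
  refine inj_of_cover h1 h2 (z := ev (atm 9 (lift (gsub 9 g) g)) zw) ?_ _ ?_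
    ⟨lift (gsub 9 g) g 0, lift (gsub 9 g) g 1, ?_⟩
  · rw [ev_atm_map' h3]
    exact consAll_sound Fi22G.pres.ivOk Fi22G.pres.rel (L := [zw]) (H := [([], 38, true)]) (by decide +kernel) _
      List.mem_cons_self
  · rw [MonoidHom.comp_apply]
    erw [ev_atm_map' (lift_gsub g), z_eq]
    exact φz
  · show Fi31671.φ ((gsub 9 g).subtype (lift (gsub 9 g) g 0)) *
        Fi31671.φ ((gsub 9 g).subtype (lift (gsub 9 g) g 1)) ≠
      Fi31671.φ ((gsub 9 g).subtype (lift (gsub 9 g) g 1)) *
        Fi31671.φ ((gsub 9 g).subtype (lift (gsub 9 g) g 0))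
    rw [lift_gsub g 0 (by norm_num), lift_gsub g 1 (by norm_num)]
    exact φab

theorem coatom : IsCoatom Fi31671.H :=
  Fi31671.act.coatom (by norm_num) (Fi31671.map_H.trans Fi31671.S.eH)
    (Fi31671.range_φ.trans Fi31671.S.eG) Fi31671.S.hX Fi31671.S.hXc Fi31671.S.hY

theorem core : Fi31671.H.normalCore = ⊥ :=
  Fi31671.act.core_eq_bot inj (Fi31671.range_φ ▸ Fi31671.S.hfix)

theorem presN : Pres 10 10 (RL ++ Fi31671.L.XN) f :=
  pres.append (Pres.of_map inj Fi31671.hφ ⟨Fi31671.cert.pres.sq, Fi31671.L.hXN⟩).rel

theorem perfect : commutator Fi23 = ⊤ :=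
  Fi23A1.cert.bound_nil.perfect pres top [[0], [2], [4], [6], [8], [10], [12], [14], [16], [18]] (H := [([], 0, true), ([], 1, true), ([], 2, true), ([], 3, true), ([], 4, true), ([], 5, true), ([], 6, true), ([], 7, true), ([], 8, true), ([], 9, true), ([], 10, true), ([], 11, true), ([], 12, true), ([], 13, true), ([], 14, true), ([], 15, true), ([], 16, true), ([], 17, true), ([], 18, true), ([], 19, true), ([], 20, true), ([], 21, true), ([], 22, true), ([], 23, true), ([], 24, true), ([], 25, true), ([], 26, true), ([], 27, true), ([], 28, true), ([], 29, true), ([], 30, true), ([], 31, true), ([], 32, true), ([], 33, true), ([], 34, true), ([], 35, true), ([], 36, true), ([], 37, true), ([], 38, true), ([], 39, true), ([], 40, true), ([], 41, true), ([], 42, true), ([], 43, true), ([], 44, true), ([], 45, true), ([], 46, true), ([], 48, true), ([], 1, true), ([], 2, true), ([], 3, true), ([], 4, true), ([], 5, true), ([], 6, true), ([], 7, true), ([], 8, true), ([], 59, true), ([], 10, true), ([], 11, true), ([], 12, true), ([],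 13, true), ([], 14, true), ([], 15, true), ([], 16, true), ([], 70, true), ([], 18, true), ([], 19, true), ([], 20, true), ([], 21, true), ([], 22, true), ([], 23, true), ([], 81, true), ([], 25, true), ([], 26, true), ([], 84, true), ([], 28, true), ([], 29, true), ([], 92, true), ([], 31, true), ([], 32, true), ([], 33, true), ([], 34, true), ([], 103, true), ([], 36, true), ([], 37, true), ([], 38, true), ([], 39, true), ([], 40, true), ([], 116, true), ([], 125, true), ([], 43, true), ([], 44, true)]) (by decide +kernel)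

theorem comm_z : ∀ x ∈ Fi31671.H, ∀ a ∈ wsub 10 f [zw], x * a = a * x :=
  comm_of_list pres.ivOk (consAll_sound pres.ivOk presN.rel (H := [([], 47, true), ([], 48, true), ([], 49, true), ([], 50, true), ([], 51, true), ([], 52, true), ([], 53, true), ([], 54, true), ([], 55, true)]) (by decide +kernel))

theorem simple : IsSimpleGroup Fi23 :=
  iwasawa_simple coatom core (A := wsub 10 f [zw])
    (fun h hh a ha => by rw [comm_z h hh a ha, mul_inv_cancel_right]; exact ha)
    (comm_of_list pres.ivOk (consAll_sound pres.ivOk presN.rel (H := [([], 58, false)]) (by decide +kernel)))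
    (Fi23N1.cert.bound_nil.eq_top pres top _ (AW := [[18]]) (fun w hw => by
      rw [List.mem_singleton.mp hw]
      exact mem_normal_of_rel pres.ivOk (w := [12, 10, 8, 6, 14, 4, 6, 8, 2, 4, 6, 14, 10, 12, 8, 10, 6, 8, 4, 6, 14, 2, 4, 6, 8, 10, 12, 18]) (u := zw)
        (Subgroup.subset_normalClosure (mem_wsub f List.mem_cons_self))
        (consAll_sound pres.ivOk presN.rel (L := [_]) (H := [([18], 57, true)]) (by decide +kernel) _
          List.mem_cons_self)) (H := [([], 0, true), ([], 1, true), ([], 2, true), ([], 3, true), ([], 4, true), ([], 5, true), ([], 6, true), ([], 7, true), ([], 8, true), ([], 9, true), ([], 10, true), ([], 11, true), ([], 12, true), ([], 13, true), ([], 14, true), ([], 15, true), ([], 16, true), ([], 17, true), ([], 18, true), ([], 19, true), ([], 20, true), ([], 21, true), ([], 22, true), ([], 23, true), ([], 24, true), ([], 25, true), ([], 26, true), ([], 27, true), ([], 28, true), ([], 29, true), ([], 30, true), ([], 31, true), ([], 32, true), ([], 33, true), ([], 34, true), ([], 35, true), ([],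 36, true), ([], 37, true), ([], 38, true), ([], 39, true), ([], 40, true), ([], 41, true), ([], 42, true), ([], 43, true), ([], 44, true), ([], 45, true), ([], 46, true), ([], 47, true)]) (by decide +kernel)) perfect

theorem z_ne : z ≠ 1 := fun h => φz (by rw [h, map_one])

theorem comm_z' : ∀ x ∈ Fi31671.H, x * z = z * x := fun x hx =>
  comm_z x hx z (mem_wsub f List.mem_cons_self)

theorem cent : Subgroup.centralizer ({z} : Set Fi23) = Fi31671.H := by
  refine centralizer_eq_of_coatom coatom comm_z' (y := ev (atm 10 f) [18]) fun h => ?_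
  apply Fi31671.L.jz_ne
  rw [← ev_atm_map' Fi31671.hφ, ← map_one Fi31671.φ]
  congr 1
  exact ev_comm_eq_one pres.ivOk h (by decide +kernel)

theorem tt : Cfsg.IsThreeTranspositionClass (conjugatesOf z) := by
  haveI := simple
  refine ⟨Fi31671.act.threeTrans inj (Fi31671.map_H.trans Fi31671.S.eH)
    (Fi31671.range_φ.trans Fi31671.S.eG) Fi31671.S.hX Fi31671.S.hXc z_ne ?_ comm_z' ?_,
    ⟨z, IsConj.refl z, rfl⟩, closure_conjugatesOf z_ne⟩
  · rw [z, ← ev_append]
    exact consAll_sound pres.ivOk presN.rel (L := [_]) (H := [([], 56, true)]) (by decide +kernel) _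
      List.mem_cons_self
  · rw [z, ev_atm_map' Fi31671.hφ]
    erw [Fi31671.L.ez]
    exact Fi31671.L.htt

end Cfsg.Agent.Spor.Fi23G
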