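import Cfsg.Agent.Spor.Word

set_option autoImplicit false

namespace Cfsg.Agent.Spor

section
variable {G : Type*} [Group G]

/-- value of a coded word -/
noncomputable def evc (v : ℕ → G) (c : ℕ) : G :=
  Nat.strongRec (motive := fun _ => G)
    (fun c ih => if h : c = 0 then 1 else
      v (c % 256) * ih (c / 256) (Nat.div_lt_self (Nat.pos_of_ne_zero h) (by norm_num))) c

theorem evc_eq (v : ℕ → G) (c : ℕ) :
    evc v c = if c = 0 then 1 else v (c % 256) * evc v (c / 256) := by
  unfold evc
  rw [Nat.strongRec_eq]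
  split_ifs <;> rfl

theorem evc_zero (v : ℕ → G) : evc v 0 = 1 := by rw [evc_eq]; simp

theorem evc_step {v : ℕ → G} (h0 : v 0 = 1) (acc z : ℕ) (hz : z < 256) :
    evc v (acc * 256 + z) = v z * evc v acc := by
  rw [evc_eq]
  split_ifs with h
  · have h1 : acc = 0 := by omega
    have h2 : z = 0 := by omega
    rw [h1, h2, h0, evc_zero, one_mul]
  · have e1 : (acc * 256 + z) % 256 = z := by omega
    have e2 : (acc * 256 + z) / 256 = acc := by omega
    rw [e1, e2]

theorem evc_addL {v : ℕ → G} (h0 : v 0 = 1) (acc z : ℕ) (hz : z < 256) :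
    evc v (addL acc z) = v z * evc v acc := by
  unfold addL
  rw [brec_eq]
  split_ifs with h
  · rw [Nat.beq_eq] at h
    rw [h, h0, one_mul]
  · exact evc_step h0 acc z hz

theorem evc_encA {v : ℕ → G} (h0 : v 0 = 1) (w : List ℕ) (hw : ∀ z ∈ w, z < 256) (acc : ℕ) :
    evc v (encA w acc) = evA v w * evc v acc := by
  induction w generalizing acc with
  | nil => show evc v acc = _; simp
  | cons z w ih =>
    show evc v (encA w (acc * 256 + z)) = _
    rw [ih fun y hy => hw y (List.mem_cons_of_mem _ hy),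
      evc_step h0 _ _ (hw z List.mem_cons_self), evA_cons, mul_assoc]

theorem land_255_lt (x : ℕ) : Nat.land x 255 < 256 :=
  Nat.lt_succ_of_le Nat.and_le_right

theorem flet_lt (f : ℕ) : flet f < 256 := land_255_lt _
theorem ivL_lt (IV z : ℕ) : ivL IV z < 256 := land_255_lt _

theorem RTree.sound {ni : ℕ} {a : ℕ → G} (h : IvOk ni a) {EX RL : List (List ℕ)}
    (hR : ∀ r ∈ RL, ev a r = 1) (h0 : letV a EX 0 = 1) {t : RTree} (ht : t.ok ni EX RL = true)
    {x : ℕ} (hx : t.mem x = true) : evc (letV a EX) x = 1 := by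
  induction t with
  | leaf => exact absurd hx (by show ¬ false = true; simp)
  | node c r l t ihl ihr =>
    have ht' : band (Nat.beq c (encA r.w 0)) (band (lall (fun z => Nat.ble z 255) r.w)
      (band (r.ok ni EX RL) (band (l.ok ni EX RL) (t.ok ni EX RL)))) = true := ht
    simp only [band_eq, Bool.and_eq_true, Nat.beq_eq, lall_iff, Nat.ble_eq] at ht'
    obtain ⟨h1, h2, h3, h4, h5⟩ := ht'
    have hx' : (Bool.rec (Bool.rec (t.mem x) (l.mem x) (Nat.ble x c)) true (Nat.beq x c) : Bool)
      = true := hx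
    rw [brec_eq, brec_eq] at hx'
    split_ifs at hx' with e1 e2
    · rw [Nat.beq_eq] at e1
      rw [e1, h1, evc_encA h0 _ (fun z hz => Nat.lt_succ_of_le (h2 z hz)), Rule.sound h hR h3,
        evc_zero, one_mul]
    · exact ihl h4 hx'
    · exact ihr h5 hx'

theorem ivOk_sound {ni : ℕ} {a : ℕ → G} (h : IvOk ni a) {EX : List (List ℕ)} {IV : ℕ}
    (hi : ivOk ni EX IV = true) {z : ℕ} (hz : z < 256) :
    letV a EX (ivL IV z) = (letV a EX z)⁻¹ := by
  have key : ∀ n, (Nat.rec true (fun z ih => band
      (isNil (red ni (lapp (nth List.nil EX (ivL IV z)) (nth List.nil EX z)))) ih) n : Bool) = true →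
      ∀ z < n, letV a EX (ivL IV z) = (letV a EX z)⁻¹ := by
    intro n
    induction n with
    | zero => intro _ z hz; omega
    | succ n ih =>
      intro hn z hz
      simp only [band_eq, Bool.and_eq_true] at hn
      rcases (Nat.lt_succ_iff.mp hz).eq_or_lt with rfl | hlt
      · have := ev_eq_one_of_red h hn.1
        rw [ev_lapp] at this
        exact eq_inv_of_mul_eq_one_left this
      · exact ih (by simpa only [band_eq] using hn.2) z hlt
  exact key 256 hi z hz

variable {X : Type*} [MulAction G X]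

/-- a fact holds -/
def FValid (v : ℕ → G) (val : ℕ → X) (f : ℕ) : Prop :=
  v (flet f) • val (fsrc f) = val (ftgt f)

theorem walk_sound {v : ℕ → G} (h0 : v 0 = 1) {IV : ℕ}
    (hiv : ∀ z < 256, v (ivL IV z) = (v z)⁻¹) {val : ℕ → X} {F i : ℕ}
    (hF : ∀ j < i, FValid v val (fact F j)) (fin : ℕ → ℕ → Bool) (n R cur acc : ℕ)
    (h : walk F IV i fin n R cur acc = true) (x : X) (hx : val cur = evc v acc • x) :
    ∃ cur' acc', fin cur' acc' = true ∧ val cur' = evc v acc' • x := by
  induction n generalizing R cur acc with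
  | zero => exact ⟨cur, acc, h, hx⟩
  | succ n ih =>
    have h' : band (Nat.ble (Nat.succ (Nat.shiftRight (Nat.land R 2097151) 1)) i)
        (walkStep IV (walk F IV i fin n (Nat.shiftRight R 21)) (Nat.beq (Nat.land R 1) 1)
          (fact F (Nat.shiftRight (Nat.land R 2097151) 1)) cur acc) = true := h
    simp only [band_eq, Bool.and_eq_true, Nat.ble_eq] at h'
    obtain ⟨h1, h2⟩ := h'
    have hv := hF _ h1
    generalize fact F (Nat.shiftRight (Nat.land R 2097151) 1) = f at h2 hv
    unfold walkStep at h2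
    rw [brec_eq] at h2
    unfold FValid at hv
    split_ifs at h2
    · simp only [band_eq, Bool.and_eq_true, Nat.beq_eq] at h2
      refine ih _ _ _ h2.2 ?_
      rw [evc_addL h0 _ _ (ivL_lt _ _), hiv _ (flet_lt f), mul_smul, ← hx, h2.1, ← hv,
        inv_smul_smul]
    · simp only [band_eq, Bool.and_eq_true, Nat.beq_eq] at h2
      refine ih _ _ _ h2.2 ?_
      rw [evc_addL h0 _ _ (flet_lt f), mul_smul, ← hx, h2.1, hv]

theorem memL_iff (l : List ℕ) (x : ℕ) : memL l x = true ↔ x ∈ l := by
  induction l with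
  | nil => simp [memL]
  | cons a l ih =>
    have : memL (a :: l) x = (Bool.rec (memL l x) true (Nat.beq a x) : Bool) := rfl
    rw [this, brec_eq]
    split_ifs with h
    · rw [Nat.beq_eq] at h
      simp [h]
    · rw [Nat.beq_eq] at h
      simp [ih, Ne.symm h]

/-- step `i` has been checked -/
def StepOk (F IV : ℕ) (RT : RTree) (base : List ℕ) (i : ℕ) : Prop :=
  ∃ st, stepF F IV RT base i st (fact F i) = true

def StepsOk (F IV : ℕ) (RT : RTree) (base : List ℕ) (a b : ℕ) : Prop :=
  ∀ i, a ≤ i → i < b → StepOk F IV RT base i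

theorem StepsOk.trans {F IV : ℕ} {RT : RTree} {base : List ℕ} {a b c : ℕ}
    (h1 : StepsOk F IV RT base a b) (h2 : StepsOk F IV RT base b c) : StepsOk F IV RT base a c :=
  fun i ha hc => if h : i < b then h1 i ha h else h2 i (not_lt.mp h) hc

theorem steps_sound {F IV : ℕ} {RT : RTree} {base : List ℕ} (l : List ℕ) (a : ℕ)
    (h : steps F IV RT base l a = true) : StepsOk F IV RT base a (a + llen l) := by
  induction l generalizing a with
  | nil => intro i h1 h2; exact absurd h2 (not_lt.mpr h1)
  | cons st l ih =>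
    have h' : band (stepF F IV RT base a st (fact F a)) (steps F IV RT base l (a + 1)) = true := h
    simp only [band_eq, Bool.and_eq_true] at h'
    intro i h1 h2
    rcases h1.eq_or_lt with rfl | hlt
    · exact ⟨st, h'.1⟩
    · refine ih (a + 1) h'.2 i hlt ?_
      have : llen (st :: l) = llen l + 1 := rfl
      omega

theorem steps_sound' {F IV : ℕ} {RT : RTree} {base : List ℕ} {l : List ℕ} {a b : ℕ}
    (h : band (steps F IV RT base l a) (Nat.beq (Nat.add a (llen l)) b) = true) :
    StepsOk F IV RT base a b := by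
  simp only [band_eq, Bool.and_eq_true, Nat.beq_eq] at h
  rw [← h.2]
  exact steps_sound l a h.1

theorem defs_sound {F m : ℕ} (h : defs F m = true) :
    ∀ i < m, ftgt (fact F i) = i + 1 ∧ fsrc (fact F i) ≤ i := by
  induction m with
  | zero => intro i hi; omega
  | succ m ih =>
    have h' : band (defF m (fact F m)) (defs F m) = true := h
    simp only [band_eq, Bool.and_eq_true, defF, Nat.beq_eq, Nat.ble_eq] at h'
    intro i hi
    rcases (Nat.lt_succ_iff.mp hi).eq_or_lt with rfl | hlt
    · exact h'.1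
    · exact ih h'.2 i hlt

/-- values of the vertices of a sequential proof -/
noncomputable def seqVal (v : ℕ → G) (x0 : X) (F : ℕ) (c : ℕ) : X :=
  Nat.strongRec (motive := fun _ => X)
    (fun c ih => if h : fsrc (fact F (c - 1)) < c then
      v (flet (fact F (c - 1))) • ih _ h else x0) c

theorem seqVal_eq (v : ℕ → G) (x0 : X) (F c : ℕ) :
    seqVal v x0 F c = if fsrc (fact F (c - 1)) < c then
      v (flet (fact F (c - 1))) • seqVal v x0 F (fsrc (fact F (c - 1))) else x0 := by
  unfold seqVal
  rw [Nat.strongRec_eq]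
  split_ifs <;> rfl

theorem seq_sound {v : ℕ → G} (h0 : v 0 = 1) {IV : ℕ}
    (hiv : ∀ z < 256, v (ivL IV z) = (v z)⁻¹) {RT : RTree}
    (hRT : ∀ x, RT.mem x = true → evc v x = 1) {base : List ℕ} (x0 : X)
    (hb : ∀ z ∈ base, v z • x0 = x0) {F m n : ℕ} (hd : defs F m = true)
    (hs : StepsOk F IV RT base m n) {st code : ℕ} (hc : concl F IV n st code = true) :
    evc v code • x0 = x0 := by
  have hv0 : seqVal v x0 F 0 = x0 := by rw [seqVal_eq]; simp
  have hall : ∀ i < n, FValid v (seqVal v x0 F) (fact F i) := by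
    intro i
    induction i using Nat.strong_induction_on with
    | _ i ih =>
      intro hi
      by_cases him : i < m
      · obtain ⟨h1, h2⟩ := defs_sound hd i him
        unfold FValid
        rw [h1, seqVal_eq v x0 F (i + 1), Nat.add_sub_cancel, if_pos (Nat.lt_succ_of_le h2)]
      · obtain ⟨st, hst⟩ := hs i (not_lt.mp him) hi
        unfold stepF at hst
        rw [brec_eq] at hst
        unfold FValid
        split_ifs at hst
        · simp only [band_eq, Bool.and_eq_true, Nat.beq_eq, memL_iff] at hst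
          rw [hst.1, hst.2.1, hv0]
          exact hb _ hst.2.2
        · obtain ⟨cur', acc', h1, h2⟩ := walk_sound h0 hiv (val := seqVal v x0 F)
            (fun j hj => ih j hj (hj.trans hi)) _ _ _ _ _ hst
            ((v (flet (fact F i)))⁻¹ • seqVal v x0 F (ftgt (fact F i))) (by
              have := evc_step h0 0 _ (flet_lt (fact F i))
              rw [zero_mul, zero_add, evc_zero, mul_one] at this
              rw [this, smul_inv_smul])
          simp only [band_eq, Bool.and_eq_true, Nat.beq_eq] at h1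
          rw [hRT _ h1.2, one_smul, h1.1] at h2
          rw [h2, smul_inv_smul]
  obtain ⟨cur', acc', h1, h2⟩ := walk_sound h0 hiv hall _ _ _ _ _ hc x0 (by
    rw [hv0, evc_zero, one_smul])
  simp only [band_eq, Bool.and_eq_true, Nat.beq_eq] at h1
  rw [h1.1, h1.2, hv0] at h2
  exact h2.symm

/-- the packaged form: a word of letters lies in the subgroup -/
theorem seq_mem {ni : ℕ} {a : ℕ → G} (h : IvOk ni a) {EX RL : List (List ℕ)}
    (hR : ∀ r ∈ RL, ev a r = 1) (h0 : letV a EX 0 = 1) {IV : ℕ} (hiv : ivOk ni EX IV = true)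
    {RT : RTree} (hRT : RT.ok ni EX RL = true) {base : List ℕ} (H : Subgroup G)
    (hb : ∀ z ∈ base, letV a EX z ∈ H) {F m n : ℕ} (hd : defs F m = true)
    (hs : StepsOk F IV RT base m n) {st : ℕ} {w : List ℕ}
    (hc : band (lall (fun z => Nat.ble z 255) w) (concl F IV n st (encA w 0)) = true) :
    evA (letV a EX) w ∈ H := by
  simp only [band_eq, Bool.and_eq_true, lall_iff, Nat.ble_eq] at hc
  have := seq_sound h0 (fun z hz => ivOk_sound h hiv hz) (fun x hx => RTree.sound h hR h0 hRT hx)
    ((1 : G) : G ⧸ H) (fun z hz => by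
      rw [MulAction.Quotient.smul_coe, smul_eq_mul, mul_one, QuotientGroup.eq]
      simpa using hb z hz) hd hs hc.2
  rw [evc_encA h0 _ (fun z hz => Nat.lt_succ_of_le (hc.1 z hz)), evc_zero, mul_one,
    MulAction.Quotient.smul_coe, smul_eq_mul, mul_one, QuotientGroup.eq] at this
  simpa using this

end

end Cfsg.Agent.Spor
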