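import Cfsg.Agent.Spor.Simp
import Cfsg.Prelude.Def_Spor_Fi22

set_option autoImplicit false
set_option maxRecDepth 100000

namespace Cfsg.Agent.Spor.Fi22G

open Cfsg.Spor

def gl : List Fi22.Gen := [.a, .b, .c, .d, .e, .f, .g, .h, .i]
def RLf : List (List ℕ) := [[0, 0], [0, 2, 0, 2, 0, 2], [0, 4, 0, 4], [0, 6, 0, 6], [0, 8, 0, 8], [0, 10, 0, 10], [0, 12, 0, 12], [0, 14, 0, 14], [0, 16, 0, 16], [2, 0, 2, 0, 2, 0], [2, 2], [2, 4, 2, 4, 2, 4], [2, 6, 2, 6], [2, 8, 2, 8], [2, 10, 2, 10], [2, 12, 2, 12], [2, 14, 2, 14], [2, 16, 2, 16], [4, 0, 4, 0], [4, 2, 4, 2, 4, 2], [4, 4], [4, 6, 4, 6, 4, 6], [4, 8, 4, 8], [4, 10, 4, 10], [4, 12, 4, 12], [4, 14, 4, 14], [4, 16, 4, 16], [6, 0, 6, 0], [6, 2, 6, 2], [6, 4, 6, 4, 6, 4], [6, 6], [6, 8, 6, 8, 6, 8], [6, 10, 6, 10], [6, 12, 6, 12], [6, 14, 6, 14, 6, 14], [6, 16, 6, 16], [8, 0, 8, 0], [8, 2, 8, 2], [8, 4, 8, 4], [8, 6, 8,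 6, 8, 6], [8, 8], [8, 10, 8, 10, 8, 10], [8, 12, 8, 12], [8, 14, 8, 14], [8, 16, 8, 16], [10, 0, 10, 0], [10, 2, 10, 2], [10, 4, 10, 4], [10, 6, 10, 6], [10, 8, 10, 8, 10, 8], [10, 10], [10, 12, 10, 12, 10, 12], [10, 14, 10, 14], [10, 16, 10, 16], [12, 0, 12, 0], [12, 2, 12, 2], [12, 4, 12, 4], [12, 6, 12, 6], [12, 8, 12, 8], [12, 10, 12, 10, 12, 10], [12, 12], [12, 14, 12, 14], [12, 16, 12, 16], [14, 0, 14, 0], [14, 2, 14, 2], [14, 4, 14, 4], [14, 6, 14, 6, 14, 6], [14, 8, 14, 8], [14, 10, 14, 10], [14, 12, 14, 12], [14, 14], [14, 16, 14, 16, 14, 16], [16, 0, 16, 0], [16, 2, 16, 2], [16, 4, 16, 4], [16, 6, 16, 6], [16, 8, 16, 8], [16, 10, 16, 10], [16, 12, 16, 12], [16, 14, 16, 14, 16, 14], [16, 16], [6, 4, 2, 6, 8, 10, 6, 14, 16, 6, 4, 2, 6, 8, 10, 6, 14, 16, 6, 4, 2, 6, 8, 10, 6, 14, 16, 6, 4, 2, 6, 8, 10, 6, 14, 16, 6, 4, 2, 6, 8, 10, 6, 14, 16, 6, 4, 2, 6,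 8, 10, 6, 14, 16, 6, 4, 2, 6, 8, 10, 6, 14, 16, 6, 4, 2, 6, 8, 10, 6, 14, 16, 6, 4, 2, 6, 8, 10, 6, 14, 16, 6, 4, 2, 6, 8, 10, 6, 14, 16], [0, 2, 4, 6, 8, 10, 14, 0, 2, 4, 6, 8, 10, 14, 0, 2, 4, 6, 8, 10, 14, 0, 2, 4, 6, 8, 10, 14, 0, 2, 4, 6, 8, 10, 14, 0, 2, 4, 6, 8, 10, 14, 0, 2, 4, 6, 8, 10, 14, 0, 2, 4, 6, 8, 10, 14, 0, 2, 4, 6, 8, 10, 14], [2, 4, 6, 8, 10, 12, 14, 2, 4, 6, 8, 10, 12, 14, 2, 4, 6, 8, 10, 12, 14, 2, 4, 6, 8, 10, 12, 14, 2, 4, 6, 8, 10, 12, 14, 2, 4, 6, 8, 10, 12, 14, 2, 4, 6, 8, 10, 12, 14, 2, 4, 6, 8, 10, 12, 14, 2, 4, 6, 8, 10, 12, 14]]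
def RL : List (List ℕ) := [[0, 2, 0, 2, 0, 2], [0, 4, 0, 4], [0, 6, 0, 6], [0, 8, 0, 8], [0, 10, 0, 10], [0, 12, 0, 12], [0, 14, 0, 14], [0, 16, 0, 16], [2, 4, 2, 4, 2, 4], [2, 6, 2, 6], [2, 8, 2, 8], [2, 10, 2, 10], [2, 12, 2, 12], [2, 14, 2, 14], [2, 16, 2, 16], [4, 6, 4, 6, 4, 6], [4, 8, 4, 8], [4, 10, 4, 10], [4, 12, 4, 12], [4, 14, 4, 14], [4, 16, 4, 16], [6, 8, 6, 8, 6, 8], [6, 10, 6, 10], [6, 12, 6, 12], [6, 14, 6, 14, 6, 14], [6, 16, 6, 16], [8, 10, 8, 10, 8, 10], [8, 12, 8, 12], [8, 14, 8, 14], [8, 16, 8, 16], [10, 12, 10, 12, 10, 12], [10, 14, 10, 14], [10, 16, 10, 16], [12, 14, 12, 14], [12, 16, 12, 16], [14, 16, 14, 16, 14, 16], [6, 4, 2, 6, 8, 10, 6, 14, 16, 6, 4, 2, 6, 8, 10, 6, 14, 16, 6, 4, 2, 6, 8, 10, 6, 14, 16, 6, 4, 2, 6, 8, 10, 6, 14, 16, 6, 4, 2, 6, 8, 10, 6, 14, 16, 6, 4, 2, 6, 8, 10, 6, 14, 16, 6, 4, 2, 6, 8, 10, 6, 14, 16, 6, 4, 2, 6, 8,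 10, 6, 14, 16, 6, 4, 2, 6, 8, 10, 6, 14, 16, 6, 4, 2, 6, 8, 10, 6, 14, 16], [0, 2, 4, 6, 8, 10, 14, 0, 2, 4, 6, 8, 10, 14, 0, 2, 4, 6, 8, 10, 14, 0, 2, 4, 6, 8, 10, 14, 0, 2, 4, 6, 8, 10, 14, 0, 2, 4, 6, 8, 10, 14, 0, 2, 4, 6, 8, 10, 14, 0, 2, 4, 6, 8, 10, 14, 0, 2, 4, 6, 8, 10, 14], [2, 4, 6, 8, 10, 12, 14, 2, 4, 6, 8, 10, 12, 14, 2, 4, 6, 8, 10, 12, 14, 2, 4, 6, 8, 10, 12, 14, 2, 4, 6, 8, 10, 12, 14, 2, 4, 6, 8, 10, 12, 14, 2, 4, 6, 8, 10, 12, 14, 2, 4, 6, 8, 10, 12, 14, 2, 4, 6, 8, 10, 12, 14]]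
abbrev rels : Set (FreeGroup Fi22.Gen) := coxRelators Fi22.edges ∪ {r | r ∈ Fi22.extra}

theorem coded : Coded rels gl 9 RLf :=
  Coded.of_cox (by intro x; cases x <;> decide) (by decide +kernel) (by decide +kernel)
    (by decide +kernel)

/-- the generators -/
def f : ℕ → Fi22 := pgen rels gl

theorem pres : Pres 9 9 RL f := coded.pres.cons (H := [([], 1, true), ([], 2, true), ([], 3, true), ([], 4, true), ([], 5, true), ([], 6, true), ([], 7, true), ([], 8, true), ([], 11, true), ([], 12, true), ([], 13, true), ([], 14, true), ([], 15, true), ([], 16, true), ([], 17, true), ([], 21, true), ([], 22, true), ([], 23, true), ([], 24, true), ([], 25, true), ([], 26, true), ([], 31, true), ([], 32, true), ([], 33, true), ([], 34, true), ([], 35, true), ([], 41, true), ([], 42, true), ([], 43, true), ([], 44, true), ([], 51, true), ([], 52, true), ([], 53, true), ([],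 61, true), ([], 62, true), ([], 71, true), ([], 81, true), ([], 82, true), ([], 83, true)]) (by decide +kernel)

theorem top : gsub 9 f = ⊤ := coded.gsub_eq

theorem hom {Γ : Type*} [Group Γ] {g : ℕ → Γ} (hg : Pres 9 9 RL g) :
    ∃ φ : Fi22 →* Γ, ∀ j < 9, φ (f j) = g j :=
  coded.hom (by decide) (hg.cons (H := [([], 39, false), ([], 0, true), ([], 1, true), ([], 2, true), ([], 3, true), ([], 4, true), ([], 5, true), ([], 6, true), ([], 7, true), ([], 0, false), ([], 39, false), ([], 8, true), ([], 9, true), ([], 10, true), ([], 11, true), ([], 12, true), ([], 13, true), ([], 14, true), ([], 1, false), ([], 8, false), ([], 39, false), ([], 15, true), ([], 16, true), ([], 17, true), ([], 18, true), ([], 19, true), ([], 20, true), ([], 2, false), ([], 9, false), ([], 15, false), ([], 39, false), ([], 21, true), ([], 22, true), ([], 23, true), ([], 24, true), ([],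 25, true), ([], 3, false), ([], 10, false), ([], 16, false), ([], 21, false), ([], 39, false), ([], 26, true), ([], 27, true), ([], 28, true), ([], 29, true), ([], 4, false), ([], 11, false), ([], 17, false), ([], 22, false), ([], 26, false), ([], 39, false), ([], 30, true), ([], 31, true), ([], 32, true), ([], 5, false), ([], 12, false), ([], 18, false), ([], 23, false), ([], 27, false), ([], 30, false), ([], 39, false), ([], 33, true), ([], 34, true), ([], 6, false), ([], 13, false), ([], 19, false), ([], 24, false), ([], 28, false), ([], 31, false), ([], 33, false), ([], 39, false), ([], 35, true), ([], 7, false), ([], 14, false), ([], 20, false), ([], 25, false), ([], 29, false), ([], 32, false), ([], 34, false), ([], 35, false), ([], 39, false), ([], 36, true), ([], 37, true), ([], 38, true)]) (by decide +kernel))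

end Cfsg.Agent.Spor.Fi22G
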