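import Cfsg.Agent.Spor.DC
import Cfsg.Agent.Spor.Fi22G
import Cfsg.Agent.Spor.Fi27.Main
import Cfsg.Agent.Spor.Fi10.Main
import Cfsg.Agent.Spor.Fi192.Main
import Cfsg.Agent.Spor.Fi56.Main
import Cfsg.Agent.Spor.Fi28.Main
import Cfsg.Agent.Spor.Fi3159.Main
import Cfsg.Agent.Spor.Fi14080.Main

set_option autoImplicit false
set_option maxRecDepth 100000

namespace Cfsg.Agent.Spor.FiB

open Cfsg.Spor

theorem bE6 : Bound 6 6 Fi27.RL 51840 := show Bound 6 6 Fi27.RL (27 * (10 * 192)) from Fi27.cert.bound (Fi10.cert.bound (Fi192.cert.bound_nil) (H := [([], 10, false), ([], 10, false), ([], 10, false), ([], 10, false), ([], 0, true), ([], 1, true), ([], 3, true), ([], 4, true), ([], 6, true), ([], 8, true)]) (by decide +kernel)) (H := [([], 15, false), ([], 15, false), ([], 15, false), ([], 15, false), ([], 15, false), ([], 5, true), ([], 6, true), ([], 7, true), ([], 8, true), ([], 9, true), ([], 10, true), ([], 11, true), ([], 12, true), ([], 13, true), ([], 14, true)]) (by decide +kernel)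

theorem bE7 : Bound 7 7 Fi56.RL 2903040 :=
  show Bound 7 7 Fi56.RL (56 * 51840) from Fi56.cert.bound bE6 (H := [([], 21, false), ([], 21, false), ([], 21, false), ([], 21, false), ([], 21, false), ([], 21, false), ([], 0, true), ([], 1, true), ([], 2, true), ([], 3, true), ([], 5, true), ([], 6, true), ([], 7, true), ([], 8, true), ([], 10, true), ([], 11, true), ([], 12, true), ([], 14, true), ([], 15, true), ([], 17, true), ([], 19, true)]) (by decide +kernel)

theorem bS6 : Bound 7 7 Fi28.RL 1451520 :=
  show Bound 7 7 Fi28.RL (28 * 51840) from Fi28.cert.bound bE6 (H := [([], 22, false), ([], 22, false), ([], 22, false), ([], 22, false), ([], 22, false), ([], 22, false), ([], 0, true), ([], 1, true), ([], 2, true), ([], 3, true), ([], 5, true), ([], 6, true), ([], 7, true), ([], 8, true), ([], 10, true), ([], 11, true), ([], 12, true), ([], 14, true), ([], 15, true), ([], 17, true), ([], 19, true)]) (by decide +kernel)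

def R8z : List (List ℕ) := [[0, 2, 0, 2, 0, 2], [0, 4, 0, 4], [0, 6, 0, 6], [0, 8, 0, 8], [0, 10, 0, 10], [0, 12, 0, 12], [0, 14, 0, 14], [2, 4, 2, 4, 2, 4], [2, 6, 2, 6], [2, 8, 2, 8], [2, 10, 2, 10], [2, 12, 2, 12], [2, 14, 2, 14], [4, 6, 4, 6, 4, 6], [4, 8, 4, 8], [4, 10, 4, 10], [4, 12, 4, 12, 4, 12], [4, 14, 4, 14], [6, 8, 6, 8, 6, 8], [6, 10, 6, 10], [6, 12, 6, 12], [6, 14, 6, 14], [8, 10, 8, 10, 8, 10], [8, 12, 8, 12], [8, 14, 8, 14], [10, 12, 10, 12], [10, 14, 10, 14], [12, 14, 12, 14, 12, 14], [4, 2, 0, 4, 6, 8, 4, 12, 14, 4, 2, 0, 4, 6, 8, 4, 12, 14, 4, 2, 0, 4, 6, 8, 4, 12, 14, 4, 2, 0, 4, 6, 8, 4, 12, 14, 4, 2, 0, 4, 6, 8, 4, 12, 14, 4, 2, 0, 4, 6, 8, 4, 12, 14, 4, 2, 0, 4, 6, 8, 4, 12, 14, 4, 2, 0, 4, 6, 8, 4, 12, 14, 4, 2, 0, 4, 6, 8, 4, 12, 14, 4, 2, 0, 4, 6, 8, 4, 12, 14], [0, 2, 4, 6, 8, 10, 12, 0, 2, 4, 6, 8, 10, 12, 0, 2, 4, 6, 8, 10, 12, 0, 2, 4, 6, 8, 10, 12, 0, 2, 4, 6, 8, 10, 12, 0, 2, 4, 6, 8, 10, 12, 0, 2, 4, 6, 8, 10, 12, 0, 2, 4, 6, 8, 10, 12, 0, 2, 4, 6, 8, 10, 12]]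

theorem bO7 : Bound 8 8 R8z 4585351680 :=
  show Bound 8 8 R8z (3159 * 1451520) from
    Fi3159.cert.bound' bS6 (H := [([], 0, true), ([], 1, true), ([], 2, true), ([], 3, true), ([], 4, true), ([], 5, true), ([], 6, true), ([], 7, true), ([], 8, true), ([], 9, true), ([], 10, true), ([], 11, true), ([], 12, true), ([], 13, true), ([], 14, true), ([], 15, true), ([], 16, true), ([], 17, true), ([], 18, true), ([], 19, true), ([], 20, true), ([], 21, true), ([], 22, true), ([], 23, true), ([], 24, true), ([], 25, true), ([], 26, true), ([], 27, true), ([], 28, true)]) (H' := [([], 30, false), ([], 30, false), ([], 30, false), ([], 30, false), ([], 30, false), ([], 30, false), ([], 30, false), ([], 0, true), ([], 1, true), ([], 2, true), ([], 3, true), ([], 4, true), ([], 5, true), ([], 7, true), ([], 8, true), ([], 9, true), ([], 10, true), ([], 11, true), ([], 13, true), ([], 14, true), ([], 15, true), ([], 16, true), ([], 18, true), ([], 19, true), ([], 20, true), ([], 22, true), ([], 23, true), ([], 25, true), ([], 29,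 true)]) (by decide +kernel) (by decide +kernel)

theorem b2O7 : Bound 8 8 Fi3159.RL 9170703360 :=
  show Bound 8 8 Fi3159.RL (3159 * 2903040) from Fi3159.cert.bound bE7 (H := [([], 29, false), ([], 29, false), ([], 29, false), ([], 29, false), ([], 29, false), ([], 29, false), ([], 29, false), ([], 0, true), ([], 1, true), ([], 2, true), ([], 3, true), ([], 4, true), ([], 5, true), ([], 7, true), ([], 8, true), ([], 9, true), ([], 10, true), ([], 11, true), ([], 13, true), ([], 14, true), ([], 15, true), ([], 16, true), ([], 18, true), ([], 19, true), ([], 20, true), ([], 22, true), ([], 23, true), ([], 25, true)]) (by decide +kernel)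

theorem b22 : Bound 9 9 Fi22G.RL 64561751654400 :=
  show Bound 9 9 Fi22G.RL (14080 * 4585351680) from
    Fi14080.cert.bound' bO7 (H := [([], 0, true), ([], 1, true), ([], 2, true), ([], 3, true), ([], 4, true), ([], 5, true), ([], 6, true), ([], 7, true), ([], 8, true), ([], 9, true), ([], 10, true), ([], 11, true), ([], 12, true), ([], 13, true), ([], 14, true), ([], 15, true), ([], 16, true), ([], 17, true), ([], 18, true), ([], 19, true), ([], 20, true), ([], 21, true), ([], 22, true), ([], 23, true), ([], 24, true), ([], 25, true), ([], 26, true), ([], 27, true), ([], 28, true), ([], 29, true), ([], 30, true), ([], 31, true), ([], 32, true), ([], 33, true), ([], 34, true), ([], 35, true), ([], 36, true), ([], 37, true)]) (H' := [([], 39, false), ([], 39, false), ([], 39, false), ([], 39, false), ([], 39, false), ([], 39, false), ([], 39, false), ([], 39, false), ([], 8, true), ([], 9, true), ([], 10, true), ([], 11, true), ([], 12, true), ([], 13, true), ([], 14, true), ([], 15, true), ([], 16, true), ([], 17, true),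 ([], 18, true), ([], 19, true), ([], 20, true), ([], 21, true), ([], 22, true), ([], 23, true), ([], 24, true), ([], 25, true), ([], 26, true), ([], 27, true), ([], 28, true), ([], 29, true), ([], 30, true), ([], 31, true), ([], 32, true), ([], 33, true), ([], 34, true), ([], 35, true), ([], 36, true), ([], 38, true)]) (by decide +kernel) (by decide +kernel)

theorem b222 : Bound 9 9 Fi14080.RL (2 * 64561751654400) :=
  (show 14080 * 9170703360 = 2 * 64561751654400 by norm_num) ▸
    Fi14080.cert.bound b2O7 (H := [([], 38, false), ([], 38, false), ([], 38, false), ([], 38, false), ([], 38, false), ([], 38, false), ([], 38, false), ([], 38, false), ([], 8, true), ([], 9, true), ([], 10, true), ([], 11, true), ([], 12, true), ([], 13, true), ([], 14, true), ([], 15, true), ([], 16, true), ([], 17, true), ([], 18, true), ([], 19, true), ([], 20, true), ([], 21, true), ([], 22, true), ([], 23, true), ([], 24, true), ([], 25, true), ([], 26, true), ([], 27, true), ([], 28, true), ([], 29, true), ([], 30, true), ([], 31, true),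 ([], 32, true), ([], 33, true), ([], 34, true), ([], 35, true), ([], 36, true)]) (by decide +kernel)

end Cfsg.Agent.Spor.FiB
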