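import Cfsg.Agent.Spor.Fi22Simple
import Cfsg.Agent.Spor.Fi3510.U.Main
import Cfsg.Agent.Spor.U12672.Main
import Cfsg.Agent.Spor.U62M.Main
import Cfsg.Agent.Spor.U12672A1.Main

set_option autoImplicit false
set_option maxRecDepth 100000

namespace Cfsg.Agent.Spor.Fi22G

open Cfsg.Spor

theorem b2U : Bound 9 9 U12672.RL (2 * 9196830720) :=
  (show 12672 * 1451520 = 2 * 9196830720 by norm_num) ▸ (U12672.cert.bound' FiB.bS6 (H := [([], 0, true), ([], 1, true), ([], 2, true), ([], 3, true), ([], 4, true), ([], 5, true), ([], 6, true), ([], 7, true), ([], 8, true), ([], 9, true), ([], 10, true), ([], 11, true), ([], 12, true), ([], 13, true), ([], 14, true), ([], 15, true), ([], 16, true), ([], 17, true), ([], 18, true), ([], 19, true), ([], 20, true), ([], 21, true), ([], 22, true), ([], 23, true), ([], 24, true), ([], 25, true), ([], 26, true), ([], 27, true), ([], 28, true), ([], 29, true), ([], 30, true), ([], 31, true), ([], 32, true), ([], 33, true), ([], 34, true), ([], 35, true), ([], 36, true), ([], 37, true), ([], 38, true), ([], 39, true)]) (H'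 := [([], 40, false), ([], 40, false), ([], 40, false), ([], 40, false), ([], 40, false), ([], 40, false), ([], 40, false), ([], 25, false), ([], 11, false), ([], 16, false), ([], 20, false), ([], 23, false), ([], 5, false), ([], 10, false), ([], 15, false), ([], 19, false), ([], 22, false), ([], 4, false), ([], 7, true), ([], 8, true), ([], 9, true), ([], 0, false), ([], 13, true), ([], 14, true), ([], 1, false), ([], 18, true), ([], 2, false), ([], 3, false), ([], 36, true)]) (by decide +kernel) (by decide +kernel))

theorem presU : Pres 9 9 U12672.RL (wv 9 f Fi3510.BW) :=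
  (pres.append (Pres.of_map card_inj.2 Fi3510.hφ ⟨Fi3510.cert.pres.sq, Fi3510.U.hXU⟩).rel).subst
    (WD := Fi3510.BW) (H := [([], 52, false), ([], 52, false), ([], 52, false), ([], 52, false), ([], 52, false), ([], 52, false), ([], 52, false), ([], 52, false), ([], 39, true), ([], 15, true), ([], 16, true), ([], 17, true), ([], 18, true), ([], 19, true), ([], 20, true), ([], 40, true), ([], 21, true), ([], 22, true), ([], 23, true), ([], 24, true), ([], 25, true), ([], 41, true), ([], 26, true), ([], 27, true), ([], 28, true), ([], 29, true), ([], 42, true), ([], 30, true), ([], 31, true), ([], 32, true), ([], 43, true), ([], 33, true), ([], 34, true), ([], 44, true), ([], 35, true), ([], 45, true), ([], 46, true), ([], 1, true), ([], 2, true), ([], 3, true), ([], 4, true), ([], 5, true), ([], 6, true), ([], 7, true), ([], 47, true), ([], 48, true), ([], 49, true), ([], 50, true), ([], 51, true)]) (by decide +kernel)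

theorem coverU : Cover Fi3510.H U693.P := by
  haveI := U693.simpleP
  have e : ∀ l, ev (atm 9 Fi3510.fP) l ≠ 1 → ev (atm 9 f) l ≠ 1 := fun l h1 h2 =>
    h1 (by rw [← ev_atm_map' Fi3510.hφ, h2, map_one])
  have e0 : ∀ j, j < 9 → ∀ w, Fi3510.BW.getD j [] = w → wv 9 f Fi3510.BW j = ev (atm 9 f) w :=
    fun j _ w h => by rw [wv, h]
  obtain ⟨ψ, h1, h2, h3⟩ := b2U.exists_cover (by norm_num) presU
    (U693.presP.cons (H := [([], 0, true), ([], 1, true), ([], 2, true), ([], 3, true), ([], 4, true), ([], 5, true), ([], 6, true), ([], 7, true), ([], 8, true), ([], 9, true), ([], 10, true), ([], 11, true), ([], 12, true), ([], 13, true), ([], 14, true), ([], 15, true), ([], 16, true), ([], 17, true), ([], 18, true), ([], 19, true), ([], 20, true), ([], 21, true), ([], 22, true), ([], 23, true), ([], 24, true), ([], 25, true), ([], 26, true), ([], 27, true), ([], 28, true), ([], 29, true), ([], 30, true), ([], 31, true), ([], 32, true), ([], 33, true), ([], 34, true), ([], 35, true), ([], 36, true), ([], 37, true), ([], 38, true), ([], 39, true)]) (by decide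 +kernel)) (gsub_lift 9 _) U693.cardP (w := [0])
    (U693.presP.rel _ (by decide +kernel))
    (by
      rw [ev_cons, ev_nil, mul_one, show (0 : ℕ) = 2 * 0 from rfl, atm_two_mul _ (by norm_num),
        e0 0 (by norm_num) [0] rfl]
      exact e _ Fi3510.U.a_ne)
    ⟨1, by norm_num, 2, by norm_num, ne_comm_of_ev presU (by norm_num) (by norm_num) (by norm_num)
      (by norm_num) (by
        rw [← ev_subW pres.ivOk]
        exact e _ Fi3510.U.cd_ne)⟩
  exact ⟨U12672A1.cert.bound_nil.perfect presU.lift (gsub_lift 9 _) [[0], [2], [4], [6], [8], [10], [12], [14], [16]] (H := [([], 0, true), ([], 1, true), ([], 2, true), ([], 3, true), ([], 4, true), ([], 5, true), ([], 6, true), ([], 7, true), ([], 8, true), ([], 9, true), ([], 10, true), ([], 11, true), ([], 12, true), ([], 13, true), ([], 14, true), ([], 15, true), ([], 16, true), ([], 17, true), ([], 18, true), ([], 19, true), ([], 20, true), ([], 21, true), ([], 22, true), ([], 23, true), ([], 24, true), ([], 25, true), ([], 26, true), ([], 27, true), ([], 28, true), ([], 29, true), ([], 30, true),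 ([], 31, true), ([], 32, true), ([], 33, true), ([], 34, true), ([], 35, true), ([], 36, true), ([], 37, true), ([], 38, true), ([], 39, true), ([], 28, true), ([], 29, true), ([], 30, true), ([], 31, true), ([], 32, true), ([], 33, true), ([], 34, true), ([], 35, true), ([], 51, true), ([], 1, true), ([], 2, true), ([], 3, true), ([], 4, true), ([], 5, true), ([], 6, true), ([], 61, true), ([], 8, true), ([], 9, true), ([], 64, true), ([], 11, true), ([], 12, true), ([], 71, true), ([], 14, true), ([], 15, true), ([], 16, true), ([], 17, true), ([], 81, true), ([], 19, true), ([], 20, true), ([], 84, true), ([], 22, true), ([], 23, true), ([], 24, true), ([], 101, true), ([], 26, true), ([], 111, true)]) (by decide +kernel),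
    ψ, h1, h2⟩

theorem coverU' {F : Type} [Field F] [Fintype F] (hF : Fintype.card F = 4) :
    Cover Fi3510.H (PSU 6 F 2) ∧ IsSimpleGroup (PSU 6 F 2) := by
  obtain ⟨e⟩ := U62M.iso hF
  haveI := U693.simpleP
  exact ⟨coverU.congr (MulEquiv.refl _) e, e.symm.isSimpleGroup⟩

theorem a_ne : ev (atm 9 f) [0] ≠ 1 := fun h =>
  Fi3510.U.a_ne (by rw [← ev_atm_map' Fi3510.hφ, h, map_one])

theorem comm_a' : ∀ x ∈ Fi3510.H, x * ev (atm 9 f) [0] = ev (atm 9 f) [0] * x := fun x hx =>
  comm_a x hx _ (mem_wsub f List.mem_cons_self)

theorem cent : Subgroup.centralizer ({ev (atm 9 f) [0]} : Set Fi22) = Fi3510.H := by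
  refine centralizer_eq_of_coatom coatom comm_a' (y := ev (atm 9 f) [2]) fun h => ?_
  apply Fi3510.U.ab_ne
  rw [← ev_atm_map' Fi3510.hφ, ← map_one Fi3510.φ]
  congr 1
  exact ev_comm_eq_one pres.ivOk h (by decide +kernel)

theorem tt : Cfsg.IsThreeTranspositionClass (conjugatesOf (ev (atm 9 f) [0])) := by
  haveI := simple
  refine ⟨Fi3510.act.threeTrans card_inj.2 (Fi3510.map_H.trans Fi3510.S.eH)
    (Fi3510.range_φ.trans Fi3510.S.eG) Fi3510.S.hX Fi3510.S.hXc a_ne ?_ comm_a' ?_,
    ⟨_, IsConj.refl _, rfl⟩, closure_conjugatesOf a_ne⟩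
  · rw [← ev_append]
    exact consAll_sound pres.ivOk pres.rel (L := [_]) (H := [([], 1000, false)]) (by decide +kernel) _
      List.mem_cons_self
  · rw [ev_atm_map' Fi3510.hφ]
    erw [Fi3510.L.upz1]
    exact Fi3510.L.htt

end Cfsg.Agent.Spor.Fi22G
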