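/-
Boolean checkers evaluated by the kernel.  Permutations of the naturals are given as networks of
masked swaps; sets of points are bit masks; functions on points are lists of bit planes.
Only definitions here (no Mathlib import), soundness is proved in `Cfsg.Agent.Spor.Net` etc.
-/
set_option autoImplicit false

namespace Cfsg.Agent.Spor

noncomputable section

/-- conjunction, short-circuiting, written with the recursor -/
def band (a b : Bool) : Bool := Bool.rec false b a

/-- concatenation of two chunks of a big number -/
def cat (s lo hi : Nat) : Nat := Nat.lor lo (Nat.shiftLeft hi s)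

/-- list lookup with default -/
def nth {α : Type} (d : α) (l : List α) : Nat → α :=
  List.rec (fun _ => d) (fun a _ ih i => Nat.rec a (fun j _ => ih j) i) l

def lall {α : Type} (p : α → Bool) (l : List α) : Bool :=
  List.rec true (fun a _ ih => band (p a) ih) l

def lmap (f : Nat → Nat) (l : List Nat) : List Nat :=
  List.rec List.nil (fun a _ ih => List.cons (f a) ih) l

def lapp (l m : List Nat) : List Nat :=
  List.rec m (fun a _ ih => List.cons a ih) l

/-- a network: a list of stages, each a distance and a mask -/
inductive Net : Type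
  | nil : Net
  | cons (d m : Nat) (t : Net) : Net

def dsw2 (d x t : Nat) : Nat := Nat.xor (Nat.xor x t) (Nat.shiftLeft t d)

/-- swap bits `i` and `i + d` of `x` for every `i` in the mask `m` -/
def dsw (d m x : Nat) : Nat := dsw2 d x (Nat.land (Nat.xor (Nat.shiftRight x d) x) m)

def Net.app (n : Net) : Nat → Nat :=
  Net.rec (fun x => x) (fun d m _ ih x => ih (dsw d m x)) n

def Net.appInv (n : Net) : Nat → Nat :=
  Net.rec (fun x => x) (fun d m _ ih x => dsw d m (ih x)) n

def stageOk2 (S m md : Nat) : Bool :=
  band (Nat.beq (Nat.land m md) 0) (Nat.beq (Nat.shiftRight md S) 0)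

/-- every stage swaps disjoint pairs of points below `2 ^ K` -/
def Net.okb (K : Nat) (n : Net) : Bool :=
  Net.rec true (fun d m _ ih => band (stageOk2 (Nat.shiftLeft 1 K) m (Nat.shiftLeft m d)) ih) n

/-- mask of the points below `n` -/
def ones (n : Nat) : Nat := Nat.sub (Nat.shiftLeft 1 n) 1

def dbl (s x : Nat) : Nat := Nat.lor x (Nat.shiftLeft x s)

/-- the points below `2 ^ (k + 1 + j)` whose bit `k` is set -/
def idp (k j : Nat) : Nat :=
  Nat.rec (Nat.shiftLeft (ones (Nat.shiftLeft 1 k)) (Nat.shiftLeft 1 k))
    (fun i ih => dbl (Nat.shiftLeft 1 (Nat.add (Nat.succ k) i)) ih) j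

/-- plane `k` of the identity function on the points below `2 ^ K` -/
def idpl (K k : Nat) : Nat := idp k (Nat.sub K (Nat.succ k))

/-- the planes `k, k+1, …, k+n-1` of the identity -/
def idpls (K : Nat) (n : Nat) : Nat → List Nat :=
  Nat.rec (fun _ => List.nil) (fun _ ih k => List.cons (idpl K k) (ih (Nat.succ k))) n

def ltStep (acc a b : Nat) : Nat := Nat.xor acc (Nat.land (Nat.xor acc b) (Nat.xor a b))

/-- mask of the points where the first list of planes is smaller than the second (least
significant plane first); lists of unequal length give the empty mask -/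
def ltPl (A : List Nat) : List Nat → Nat → Nat :=
  List.rec (fun B acc => List.rec acc (fun _ _ _ => 0) B)
    (fun a _ ih B acc => List.rec 0 (fun b B' _ => ih B' (ltStep acc a b)) B) A

def sub (M X : Nat) : Bool := Nat.beq (Nat.land M X) M

/-- mask selected from index planes: the points below `n` whose index equals `j` -/
def sel (o : Nat) (P : List Nat) : Nat → Nat :=
  List.rec (fun _ => o)
    (fun p _ ih j => Nat.land (ih (Nat.shiftRight j 1))
      (Bool.rec p (Nat.xor p o) (Nat.beq (Nat.land j 1) 0))) P

/-- a signed network -/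
structure SNet : Type where
  net : Net
  inv : Bool

/-- `X ∘ τ` -/
def SNet.pull (s : SNet) (x : Nat) : Nat := Bool.rec (s.net.app x) (s.net.appInv x) s.inv
/-- `X ∘ τ⁻¹` -/
def SNet.push (s : SNet) (x : Nat) : Nat := Bool.rec (s.net.appInv x) (s.net.app x) s.inv

/-- push along a word given in application order -/
def pushW (w : List SNet) : Nat → Nat :=
  List.rec (fun x => x) (fun s _ ih x => ih (s.push x)) w

/-- the word (application order) fixes the planes `k, …, k+n-1` of the identity -/
def relChk (K : Nat) (w : List SNet) (k n : Nat) : Bool :=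
  lall (fun p => Nat.beq (pushW w p) p) (idpls K n k)

/-- data of a letter of a coset table -/
structure Let : Type where
  ni : Nat
  inv : Bool
  cl : Nat
  tt : Nat
  tm : List Nat

structure Tab : Type where
  NT : List Net
  LT : List Let

def Tab.let (T : Tab) (z : Nat) : Let := nth ⟨0, false, 0, 0, List.nil⟩ T.LT z
def Tab.sn (T : Tab) (z : Nat) : SNet := ⟨nth Net.nil T.NT (T.let z).ni, (T.let z).inv⟩
def Tab.snW (T : Tab) (w : List Nat) : List SNet :=
  List.rec List.nil (fun z _ ih => List.cons (T.sn z) ih) w

def Tab.rel (T : Tab) (K : Nat) (w : List Nat) (k n : Nat) : Bool := relChk K (T.snW w) k n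

def Tab.closed (T : Tab) (O z : Nat) : Bool := Nat.beq ((T.sn z).pull O) O

def Tab.treeLt (T : Tab) (K z : Nat) : Bool :=
  sub (T.let z).tt (ltPl (lmap (T.sn z).push (idpls K K 0)) (idpls K K 0) 0)

/-- tree masks pairwise disjoint and covering the target -/
def Tab.treeCov (T : Tab) (tgt : Nat) (L : List Nat) : Nat → Bool :=
  List.rec (fun acc => sub tgt acc)
    (fun z _ ih acc => band (Nat.beq (Nat.land acc (T.let z).tt) 0) (ih (Nat.lor acc (T.let z).tt))) L

def Tab.rotGo (T : Tab) (w : List Nat) : List Nat → Nat → Bool :=
  List.rec (fun _ _ => true)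
    (fun y _ ih B M => band (sub M (Nat.land (T.let y).cl (ltPl (T.let y).tm B 0)))
      (ih (lmap (T.sn y).push B) ((T.sn y).push M))) w

def Tab.rot (T : Tab) (z : Nat) (w : List Nat) (M : Nat) : Bool :=
  T.rotGo w (lmap (T.sn z).push (T.let z).tm) ((T.sn z).push M)

/-- follow a path of tree edges from the points of `M`; ends in the points of `E` -/
def Tab.treePath (T : Tab) (w : List Nat) (E : Nat) : Nat → Bool :=
  List.rec (fun M => Nat.beq M E)
    (fun y _ ih M => band (sub ((T.sn y).push M) (T.let y).tt) (ih ((T.sn y).push M))) w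

def lor (l : List Nat) : Nat := List.rec 0 (fun a _ ih => Nat.lor a ih) l

/-- claimed edges of `z` are tree edges or lie in one of the masks -/
def Tab.cover (T : Tab) (z : Nat) (Ms : List Nat) : Bool :=
  sub (T.let z).cl (Nat.lor ((T.sn z).pull (T.let z).tt) (lor Ms))

/-- grow a set of points along a list of signed networks -/
def grow (w : List SNet) : Nat → Nat :=
  List.rec (fun x => x) (fun s _ ih x => ih (Nat.lor x (s.push x))) w

def pcSplit (f : Nat → Nat) (s x : Nat) : Nat :=
  Bool.rec (Nat.add (f (Nat.land x (ones s))) (f (Nat.shiftRight x s))) 0 (Nat.beq x 0)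

/-- number of set bits of a number below `2 ^ 2 ^ K` -/
def popc (K : Nat) : Nat → Nat :=
  Nat.rec (fun x => x) (fun k ih x => pcSplit ih (Nat.shiftLeft 1 k) x) K

/-! symbolic words -/

def ivA (ni y : Nat) : Nat := Bool.rec y (Nat.xor y 1) (Nat.ble ni y)

def redStep (ni z : Nat) (st : List Nat) : List Nat :=
  List.rec (List.cons z List.nil)
    (fun h t _ => Bool.rec (List.cons z (List.cons h t)) t (Nat.beq h (ivA ni z))) st

def red (ni : Nat) (l : List Nat) : List Nat := List.rec List.nil (fun z _ ih => redStep ni z ih) l

def isNil (l : List Nat) : Bool := List.rec true (fun _ _ _ => false) l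

/-- inverse of a word of atoms, appended to `acc` -/
def invW (ni : Nat) (l : List Nat) : List Nat → List Nat :=
  List.rec (fun acc => acc) (fun z _ ih acc => ih (List.cons (ivA ni z) acc)) l

/-- expansion of a word of letters (application order) into atoms (product order), in front of `acc` -/
def expA (EX : List (List Nat)) (w : List Nat) : List Nat → List Nat :=
  List.rec (fun acc => acc) (fun z _ ih acc => ih (lapp (nth List.nil EX z) acc)) w

/-- a rule: the word of atoms `l` is a conjugate of relator `i` (or of its inverse) -/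
def conseq (ni : Nat) (RL : List (List Nat)) (l c : List Nat) (i : Nat) (s : Bool) : Bool :=
  isNil (red ni (lapp c (lapp l (invW ni c
    (Bool.rec (nth List.nil RL i) (invW ni (nth List.nil RL i) List.nil) s)))))

structure Rule : Type where
  w : List Nat
  c : List Nat
  i : Nat
  s : Bool

def Rule.ok (ni : Nat) (EX RL : List (List Nat)) (r : Rule) : Bool :=
  conseq ni RL (expA EX r.w List.nil) r.c r.i r.s

/-! sequential proofs of membership in the subgroup -/

/-- code of a word in application order -/
def encA (w : List Nat) : Nat → Nat :=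
  List.rec (fun acc => acc) (fun z _ ih acc => ih (Nat.add (Nat.mul acc 256) z)) w

inductive RTree : Type
  | leaf : RTree
  | node (code : Nat) (r : Rule) (l t : RTree) : RTree

def RTree.mem (t : RTree) (x : Nat) : Bool :=
  RTree.rec false (fun c _ _ _ ihl ihr =>
    Bool.rec (Bool.rec ihr ihl (Nat.ble x c)) true (Nat.beq x c)) t

def RTree.ok (ni : Nat) (EX RL : List (List Nat)) (t : RTree) : Bool :=
  RTree.rec true (fun c r _ _ ihl ihr =>
    band (Nat.beq c (encA r.w 0)) (band (lall (fun z => Nat.ble z 255) r.w)
      (band (r.ok ni EX RL) (band ihl ihr)))) t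

/-- facts are stored with 48 bits each: source (20), letter (8), target (20) -/
def fact (F i : Nat) : Nat := Nat.land (Nat.shiftRight F (Nat.mul 48 i)) 281474976710655
def fsrc (f : Nat) : Nat := Nat.land f 1048575
def flet (f : Nat) : Nat := Nat.land (Nat.shiftRight f 20) 255
def ftgt (f : Nat) : Nat := Nat.shiftRight f 28

def ivL (IV z : Nat) : Nat := Nat.land (Nat.shiftRight IV (Nat.mul 8 z)) 255

def addL (acc z : Nat) : Nat := Bool.rec (Nat.add (Nat.mul acc 256) z) acc (Nat.beq z 0)

def walkStep (IV : Nat) (k : Nat → Nat → Bool) (bwd : Bool) (f cur acc : Nat) : Bool :=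
  Bool.rec (band (Nat.beq cur (fsrc f)) (k (ftgt f) (addL acc (flet f))))
    (band (Nat.beq cur (ftgt f)) (k (fsrc f) (addL acc (ivL IV (flet f))))) bwd

/-- walk along `n` references (21 bits each: direction, fact number below `i`) -/
def walk (F IV i : Nat) (fin : Nat → Nat → Bool) (n : Nat) : Nat → Nat → Nat → Bool :=
  Nat.rec (fun _ cur acc => fin cur acc)
    (fun _ ih R cur acc =>
      band (Nat.ble (Nat.succ (Nat.shiftRight (Nat.land R 2097151) 1)) i)
        (walkStep IV (ih (Nat.shiftRight R 21)) (Nat.beq (Nat.land R 1) 1)
          (fact F (Nat.shiftRight (Nat.land R 2097151) 1)) cur acc)) n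

def memL (l : List Nat) (x : Nat) : Bool :=
  List.rec false (fun a _ ih => Bool.rec ih true (Nat.beq a x)) l

def stepF (F IV : Nat) (RT : RTree) (base : List Nat) (i st f : Nat) : Bool :=
  Bool.rec
    (walk F IV i (fun cur acc => band (Nat.beq cur (fsrc f)) (RT.mem acc)) (Nat.land st 1023)
      (Nat.shiftRight st 10) (ftgt f) (flet f))
    (band (Nat.beq (fsrc f) 0) (band (Nat.beq (ftgt f) 0) (memL base (flet f))))
    (Nat.beq st 1023)

/-- steps proving the facts `i, i+1, …` -/
def steps (F IV : Nat) (RT : RTree) (base : List Nat) (l : List Nat) : Nat → Bool :=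
  List.rec (fun _ => true)
    (fun st _ ih i => band (stepF F IV RT base i st (fact F i)) (ih (Nat.succ i))) l

def defF (i f : Nat) : Bool := band (Nat.beq (ftgt f) (Nat.succ i)) (Nat.ble (fsrc f) i)

/-- the facts below `m` define the vertices `1, …, m` -/
def defs (F m : Nat) : Bool := Nat.rec true (fun i ih => band (defF i (fact F i)) ih) m

def llen (l : List Nat) : Nat := List.rec 0 (fun _ _ ih => Nat.succ ih) l

/-- a closed walk at the base vertex spelling the word with the given code -/
def concl (F IV n st code : Nat) : Bool :=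
  walk F IV n (fun cur acc => band (Nat.beq cur 0) (Nat.beq acc code)) (Nat.land st 1023)
    (Nat.shiftRight st 10) 0 0

def ivOk (ni : Nat) (EX : List (List Nat)) (IV : Nat) : Bool :=
  Nat.rec true (fun z ih => band
    (isNil (red ni (lapp (nth List.nil EX (ivL IV z)) (nth List.nil EX z)))) ih) 256

end

end Cfsg.Agent.Spor
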