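/-
More Boolean checkers: orbits of groups generated by words in the letters of a table.
-/
import Cfsg.Agent.Spor.Chk

set_option autoImplicit false

namespace Cfsg.Agent.Spor

noncomputable section

/-- image of a set of points under a word (application order) -/
def Tab.pushL (T : Tab) (w : List Nat) (x : Nat) : Nat := pushW (T.snW w) x

/-- grow a set of points along the words with the listed numbers -/
def Tab.growI (T : Tab) (W : List (List Nat)) (l : List Nat) : Nat → Nat :=
  List.rec (fun x => x) (fun i _ ih x => ih (Nat.lor x (T.pushL (nth List.nil W i) x))) l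

def Tab.closedW (T : Tab) (W : List (List Nat)) (O : Nat) : Bool :=
  lall (fun w => Nat.beq (T.pushL w O) O) W

/-- the mask has exactly `s` points, all below `2 ^ K` -/
def sizeOk (K O s : Nat) : Bool :=
  band (Nat.beq (Nat.shiftRight O (Nat.shiftLeft 1 K)) 0) (Nat.beq (popc K O) s)

/-- the word sends `p` to `q` -/
def Tab.sends (T : Tab) (w : List Nat) (p q : Nat) : Bool :=
  Nat.beq (T.pushL w (Nat.shiftLeft 1 p)) (Nat.shiftLeft 1 q)

/-- the letter fixes the points from `N` on -/
def Tab.fixFrom (T : Tab) (K N z : Nat) : Bool :=
  lall (fun p => Nat.beq (Nat.shiftRight (Nat.xor ((T.sn z).push p) p) N) 0) (idpls K K 0)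

end

end Cfsg.Agent.Spor
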