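/-
Boolean checkers for matrix computations: vectors over `ZMod p` (or an extension of degree `d`)
are packed into numbers with `B` bits per digit; a linear map is the list of the images of the
digit positions.
-/
import Cfsg.Agent.Spor.Chk

set_option autoImplicit false

namespace Cfsg.Agent.Spor

/-- characteristic, bits per digit, dimension, degree, code of `ω ^ d` -/
structure Ar : Type where
  p : Nat
  B : Nat
  n : Nat
  d : Nat
  w : Nat

noncomputable section

def dig (B v j : Nat) : Nat := Nat.land (Nat.shiftRight v (Nat.mul B j)) (ones B)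

def appGo (p B M : Nat) (T : List Nat) : Nat → Nat :=
  List.rec (fun _ => 0)
    (fun t _ ih v => Nat.add (Nat.mul (Nat.mod (Nat.land v M) p) t) (ih (Nat.shiftRight v B))) T

def Ar.app (A : Ar) (T : List Nat) (v : Nat) : Nat := appGo A.p A.B (ones A.B) T v

/-- the list `g k, g (k+1), …` of length `m` -/
def mkL (g : Nat → Nat) (m : Nat) : Nat → List Nat :=
  Nat.rec (fun _ => List.nil) (fun _ ih k => List.cons (g k) (ih (Nat.succ k))) m

def allN (g : Nat → Bool) (m : Nat) : Bool := Nat.rec true (fun i ih => band (g i) ih) m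

def Ar.m (A : Ar) : Nat := Nat.mul A.n A.d

def Ar.unit (A : Ar) (j : Nat) : Nat := Nat.shiftLeft 1 (Nat.mul A.B j)

/-- the identity table -/
def Ar.idT (A : Ar) : List Nat := mkL A.unit A.m 0

def Ar.nrm (A : Ar) (v : Nat) : Nat := A.app A.idT v

/-- multiplication by `ω` -/
def Ar.omT (A : Ar) : List Nat :=
  mkL (fun j => Bool.rec (A.unit (Nat.succ j))
    (Nat.shiftLeft A.w (Nat.mul A.B (Nat.mul A.d (Nat.div j A.d))))
    (Nat.beq (Nat.mod (Nat.succ j) A.d) 0)) A.m 0

/-- all digits are below `p`, and there are at most `m` of them -/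
def digOk (p B : Nat) (m : Nat) : Nat → Bool :=
  Nat.rec (fun v => Nat.beq v 0)
    (fun _ ih v => band (Nat.blt (Nat.land v (ones B)) p) (ih (Nat.shiftRight v B))) m

def Ar.ok (A : Ar) : Bool :=
  band (Nat.blt 1 A.p) (band (Nat.blt 0 A.d) (band (digOk A.p A.B A.d A.w)
    (Nat.blt (Nat.mul A.m (Nat.mul A.p A.p)) (Nat.shiftLeft 1 A.B))))

/-- the table describes an `R`-linear map -/
def Ar.tabOk (A : Ar) (T : List Nat) : Bool :=
  band (Nat.beq (llen T) A.m) (band (lall (digOk A.p A.B A.m) T)
    (allN (fun j => Bool.rec (Nat.beq (nth 0 T (Nat.succ j)) (A.nrm (A.app A.omT (nth 0 T j))))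
      true (Nat.beq (Nat.mod (Nat.succ j) A.d) 0)) A.m))

/-- apply a word of tables, given in product order -/
def Ar.appW (A : Ar) (TT : List (List Nat)) (w : List Nat) (v : Nat) : Nat :=
  List.rec v (fun z _ ih => A.app (nth A.idT TT z) ih) w

/-- column `i` of the product -/
def Ar.col (A : Ar) (TT : List (List Nat)) (w : List Nat) (i : Nat) : Nat :=
  A.nrm (A.appW TT w (A.unit (Nat.mul A.d i)))

/-- the product is the matrix of the table `Z` -/
def Ar.eqT (A : Ar) (TT : List (List Nat)) (w : List Nat) (Z : List Nat) : Bool :=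
  allN (fun i => Nat.beq (A.col TT w i) (nth 0 Z (Nat.mul A.d i))) A.n

/-- the product is the scalar with code `c` -/
def Ar.eqS (A : Ar) (TT : List (List Nat)) (w : List Nat) (c : Nat) : Bool :=
  band (digOk A.p A.B A.d c)
    (allN (fun i => Nat.beq (A.col TT w i) (Nat.shiftLeft c (Nat.mul A.B (Nat.mul A.d i)))) A.n)

/-- the product is some scalar -/
def Ar.isS (A : Ar) (TT : List (List Nat)) (w : List Nat) : Bool := A.eqS TT w (A.col TT w 0)

/-- the code of entry `i` of a packed vector -/
def Ar.ent (A : Ar) (v i : Nat) : Nat := dig (Nat.mul A.B A.d) v i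

/-- the code of the entry in row `r`, column `c` -/
def Ar.mat (A : Ar) (T : List Nat) (r c : Nat) : Nat := A.ent (nth 0 T (Nat.mul A.d c)) r

/-- an entry of the product has the code `c` -/
def Ar.entW (A : Ar) (TT : List (List Nat)) (w : List Nat) (r i c : Nat) : Bool :=
  band (Nat.blt r A.n) (band (Nat.blt i A.n) (Nat.beq (A.ent (A.col TT w i) r) c))

/-- tables in pairs: each odd one is inverse to the preceding one -/
def Ar.invOk (A : Ar) (TT : List (List Nat)) (k : Nat) : Bool :=
  allN (fun j => A.eqS TT (List.cons (Nat.mul 2 j) (List.cons (Nat.succ (Nat.mul 2 j)) List.nil)) 1) k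

/-- unitriangular (upper or lower) -/
def Ar.uni (A : Ar) (T : List Nat) : Bool :=
  band (allN (fun i => Nat.beq (A.mat T i i) 1) A.n)
    (Bool.rec (allN (fun c => allN (fun r => Nat.beq (A.mat T r c) 0) c) A.n) true
      (allN (fun r => allN (fun c => Nat.beq (A.mat T r c) 0) r) A.n))

/-- the second table is the transpose of the first -/
def Ar.trT (A : Ar) (T U : List Nat) : Bool :=
  allN (fun r => allN (fun c => Nat.beq (A.mat U r c) (A.mat T c r)) A.n) A.n

/-- the code of the conjugate, where `s` is the code of the conjugate of `ω` (degree two) -/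
def Ar.cj (A : Ar) (s x : Nat) : Nat :=
  appGo A.p A.B (ones A.B) (List.cons 1 (List.cons (Nat.shiftLeft 1 A.B) List.nil))
    (appGo A.p A.B (ones A.B) (List.cons 1 (List.cons s List.nil)) x)

/-- the second table is the conjugate transpose of the first -/
def Ar.ctT (A : Ar) (s : Nat) (T U : List Nat) : Bool :=
  allN (fun r => allN (fun c => Nat.beq (A.mat U r c) (A.cj s (A.mat T c r))) A.n) A.n

end

end Cfsg.Agent.Spor
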