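/-
Packed matrices over `ZMod p`: a matrix with `d` columns is one number, `w` bits per entry, row by
row.  A product is a sum of `d` products of a masked column by a row.
-/
import Cfsg.Agent.Spor.MatChk

set_option autoImplicit false

namespace Cfsg.Agent.Spor

/-- characteristic, bits per entry, columns, rows of the left factor, reduction constants, masks,
and the code of the identity -/
structure PA : Type where
  p : Nat
  w : Nat
  d : Nat
  m : Nat
  wd : Nat
  mu : Nat
  k : Nat
  cm : Nat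
  rm : Nat
  em : Nat
  qm : Nat
  one : Nat

noncomputable section

/-- `N` copies of `v` at distance `W` -/
def rep (W N v : Nat) : Nat := Nat.mul v (Nat.div (ones (Nat.mul W N)) (ones W))

def pterm (w wd cm rm x y k : Nat) : Nat :=
  Nat.mul (Nat.land (Nat.shiftRight x (Nat.mul w k)) cm)
    (Nat.land (Nat.shiftRight y (Nat.mul wd k)) rm)

def psum (w wd cm rm x y d : Nat) : Nat :=
  Nat.rec 0 (fun k ih => Nat.add (pterm w wd cm rm x y k) ih) d

def pxor (w wd cm rm x y d : Nat) : Nat :=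
  Nat.rec 0 (fun k ih => Nat.xor (pterm w wd cm rm x y k) ih) d

def pbar (p mu k qm e : Nat) : Nat :=
  Nat.sub e (Nat.mul p (Nat.land (Nat.shiftRight (Nat.mul mu e) k) qm))

def prd (p w mu k em qm z : Nat) : Nat :=
  Nat.add (pbar p mu k qm (Nat.land z em))
    (Nat.shiftLeft (pbar p mu k qm (Nat.land (Nat.shiftRight z w) em)) w)

def PA.mul0 (A : PA) (x y : Nat) : Nat :=
  PA.rec (fun p w d _ wd mu k cm rm em qm _ =>
    Bool.rec (prd p w mu k em qm (psum w wd cm rm x y d)) (pxor w wd cm rm x y d) (Nat.beq p 2)) A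

/-- the product, with short cuts for the identity -/
def PA.mul (A : PA) (x y : Nat) : Nat :=
  Bool.rec (Bool.rec (A.mul0 x y) x (Nat.beq y A.one)) y (Nat.beq x A.one)

/-- all entries are reduced -/
def PA.can (A : PA) (x : Nat) : Bool :=
  Bool.rec (Nat.beq (prd A.p A.w A.mu A.k A.em A.qm x) x) true (Nat.beq A.p 2)

def PA.okP (A : PA) : Bool :=
  band (Nat.blt (Nat.mul A.d (Nat.mul (Nat.sub A.p 1) (Nat.sub A.p 1))) (Nat.shiftLeft 1 A.w))
    (band (Nat.blt A.mu (Nat.shiftLeft 1 A.w))
    (band (Nat.ble (Nat.shiftLeft 1 A.k) (Nat.mul A.mu A.p))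
    (band (Nat.blt (Nat.mul (Nat.sub (Nat.mul A.mu A.p) (Nat.shiftLeft 1 A.k))
      (Nat.succ (Nat.div (Nat.shiftLeft 1 A.w) A.p))) A.mu)
    (band (Nat.ble A.k (Nat.mul 2 A.w))
    (band (Nat.beq A.em (rep (Nat.mul 2 A.w) (Nat.succ (Nat.div (Nat.mul A.d A.m) 2)) (ones A.w)))
    (Nat.beq A.qm (rep (Nat.mul 2 A.w) (Nat.succ (Nat.div (Nat.mul A.d A.m) 2))
      (ones (Nat.sub (Nat.mul 2 A.w) A.k)))))))))

def PA.ok (A : PA) : Bool :=
  band (Nat.blt 1 A.p) (band (Nat.blt 0 A.w) (band (Nat.blt 0 A.d)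
    (band (Nat.beq A.wd (Nat.mul A.w A.d))
    (band (Nat.beq A.cm (rep A.wd A.m (ones A.w))) (band (Nat.beq A.rm (rep A.w A.d (ones A.w)))
    (Bool.rec A.okP (Nat.beq A.w 1) (Nat.beq A.p 2)))))))

/-- square, with the right identity -/
def PA.sq (A : PA) : Bool :=
  band A.ok (band (Nat.beq A.m A.d) (Nat.beq A.one (rep (Nat.mul A.w (Nat.succ A.d)) A.d 1)))

/-- product of a list of matrices, starting from `x` -/
def PA.prod (A : PA) (l : List Nat) : Nat → Nat :=
  List.rec (fun x => x) (fun y _ ih x => ih (A.mul x y)) l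

/-- value of a word in a list of matrices, starting from `x` -/
def PA.evw (A : PA) (TT : List Nat) (l : List Nat) : Nat → Nat :=
  List.rec (fun x => x) (fun z _ ih x => ih (A.mul x (nth A.one TT z))) l

/-- the tables of the generators and of their inverses -/
def PA.gensOk (A : PA) (TT : List Nat) (n : Nat) : Bool :=
  band (Nat.beq (llen TT) (Nat.mul 2 n)) (band (lall A.can TT)
    (allN (fun j => Nat.beq (A.mul (nth A.one TT (Nat.mul 2 j))
      (nth A.one TT (Nat.succ (Nat.mul 2 j)))) A.one) n))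

/-- the word has the value `x` -/
def PA.isW (A : PA) (TT : List Nat) (w : List Nat) (x : Nat) : Bool := Nat.beq (A.evw TT w A.one) x

/-- entry in row `i`, column `j` -/
def PA.ent (A : PA) (x i j : Nat) : Nat :=
  Nat.land (Nat.shiftRight x (Nat.mul A.w (Nat.add (Nat.mul A.d i) j))) (ones A.w)

end

end Cfsg.Agent.Spor
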