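/-
Checker for double coset enumerations.  Elements of the base group are packed matrices.
-/
import Cfsg.Agent.Spor.PM0
import Cfsg.Agent.Spor.Chk2

set_option autoImplicit false

namespace Cfsg.Agent.Spor

/-- binary trees used as arrays -/
inductive BT (α : Type) : Type
  | leaf : BT α
  | node (v : α) (l r : BT α) : BT α

/-- facts: `x i = b * x j * c`; `x i * a * t = b * x j * c`; `t * a₁ * t * a₂ * ⋯ = 1` -/
inductive Fc : Type
  | C (i j b c : Nat) : Fc
  | E (i j a b c : Nat) : Fc
  | R (r : List Nat) : Fc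

/-- a proof: rule, reference, start element, auxiliary facts, instructions -/
structure Pf : Type where
  rule : Nat
  ref : Nat
  c0 : Nat
  pre : List Nat
  ins : List Nat

/-- a basic fact: kind and words -/
structure Bs : Type where
  kind : Nat
  ws : List (List Nat)

/-- arithmetic, generator matrices, facts, numbers of the definitions -/
structure DE : Type where
  A : PA
  TT : List Nat
  DB : BT Fc
  DT : BT Nat

noncomputable section

def BT.get {α : Type} (d : α) (t : BT α) : Nat → α :=
  BT.rec (fun _ => d) (fun v _ _ ihl ihr i =>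
    Bool.rec (Bool.rec (ihr (Nat.shiftRight i 1)) (ihl (Nat.shiftRight i 1))
      (Nat.beq (Nat.land i 1) 0)) v (Nat.ble i 1)) t

def Fc.onC (f : Fc) (k : Nat → Nat → Nat → Nat → Bool) : Bool :=
  Fc.rec k (fun _ _ _ _ _ => false) (fun _ => false) f
def Fc.onE (f : Fc) (k : Nat → Nat → Nat → Nat → Nat → Bool) : Bool :=
  Fc.rec (fun _ _ _ _ => false) k (fun _ => false) f
def Fc.onR (f : Fc) (k : List Nat → Bool) : Bool :=
  Fc.rec (fun _ _ _ _ => false) (fun _ _ _ _ _ => false) k f

def onCons (l : List Nat) (k : Nat → List Nat → Bool) : Bool :=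
  List.rec false (fun a t _ => k a t) l

def leq (l : List Nat) : List Nat → Bool :=
  List.rec isNil (fun a _ ih m => onCons m fun b m' => band (Nat.beq a b) (ih m')) l

def DE.fc (D : DE) (i : Nat) : Fc := D.DB.get (Fc.R List.nil) (Nat.succ i)

abbrev Kt : Type := Nat → Nat → Nat → List Nat → Bool → Bool

def DE.st0 (D : DE) (id : Nat) (ih : Kt) : Kt := fun B j c T kn =>
  (D.fc id).onC fun i' j' b g => band (Nat.beq i' j) (ih (D.A.mul B b) j' (D.A.mul g c) T kn)

def DE.st1 (D : DE) (id : Nat) (ih : Kt) : Kt := fun B j c T kn =>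
  (D.fc id).onC fun i' j' b g => band (Nat.beq i' 1) (band (Nat.beq j' 1)
    (onCons T fun acc T' => ih B j (D.A.mul c b) (List.cons (D.A.mul g acc) T') kn))

def DE.st2 (D : DE) (id : Nat) (ih : Kt) : Kt := fun B j c T _ =>
  (D.fc id).onE fun i' j' a b e => band (Nat.beq i' j) (band (Nat.beq a c)
    (onCons T fun acc T' => ih (D.A.mul B b) j' (D.A.mul e acc) T' true))

def DE.st3 (D : DE) (ih : Kt) : Kt := fun B j c T kn =>
  band kn (band (Nat.beq j 0) (ih (D.A.mul B c) 0 D.A.one T true))

def DE.step (D : DE) (tag id : Nat) (ih : Kt) : Kt :=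
  Bool.rec (Bool.rec (D.st3 ih) (D.st2 id ih) (Nat.beq tag 2))
    (Bool.rec (D.st1 id ih) (D.st0 id ih) (Nat.beq tag 0)) (Nat.ble tag 1)

def DE.walk (D : DE) (n : Nat) (fin : Kt) (l : List Nat) : Kt :=
  List.rec fin (fun z _ ih B j c T kn => band (Nat.blt (Nat.shiftRight z 2) n)
    (D.step (Nat.land z 3) (Nat.shiftRight z 2) ih B j c T kn)) l

def DE.pre (D : DE) (n : Nat) (l : List Nat) : List Nat → Bool :=
  List.rec isNil (fun id _ ih r => onCons r fun a r' => band (Nat.blt id n)
    (band ((D.fc id).onC fun _ _ _ g => Nat.beq g a) (ih r'))) l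

def DE.finEq (b j c : Nat) : Kt := fun B j' c' T kn =>
  band kn (band (isNil T) (band (Nat.beq j' j) (band (Nat.beq c' c) (Nat.beq B b))))

def DE.okC (D : DE) (n : Nat) (P : Pf) (i j b c : Nat) : Bool :=
  Bool.rec
    (band (Nat.blt P.ref n) (band (D.A.can b) (band (D.A.can c) (Bool.rec
      ((D.fc P.ref).onC fun i0 j0 b0 c0 => band (Nat.beq i j0) (band (Nat.beq j i0)
        (band (Nat.beq (D.A.mul b0 b) D.A.one) (Nat.beq (D.A.mul c c0) D.A.one))))
      ((D.fc P.ref).onE fun i0 j0 a0 b0 c0 => band (Nat.beq i j0)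
        (D.walk n (fun B j' c' T kn => band kn (band (isNil T) (band (Nat.beq j' j)
          (band (Nat.beq (D.A.mul b0 b) B) (Nat.beq (D.A.mul c c0) c'))))) P.ins
          D.A.one i0 a0 (List.cons D.A.one List.nil) true))
      (Nat.beq P.rule 1)))))
    (D.walk n (DE.finEq b j c) P.ins D.A.one i D.A.one List.nil true)
    (Nat.beq P.rule 0)

def DE.okE (D : DE) (n : Nat) (P : Pf) (i j a b c : Nat) : Bool :=
  Bool.rec
    (Bool.rec
      (band (Nat.beq (D.DT.get 0 j) n) (band (Nat.blt i j) (band (Nat.beq b D.A.one)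
        (band (Nat.beq c D.A.one)
          (D.walk n (fun _ _ c' _ kn => band kn (Nat.beq c' a)) P.ins D.A.one 0 D.A.one List.nil
            true)))))
      (band (Nat.blt P.ref n) (band (D.A.can b) (band (D.A.can c) (band (D.A.can P.c0)
        ((D.fc P.ref).onR fun r =>
          D.walk n (fun B j' c' T kn => band kn (band (Nat.beq j' i) (band (Nat.beq c' a)
            (onCons T fun ak T' => band (isNil T') (band (Nat.beq (D.A.mul B b) D.A.one)
              (Nat.beq (D.A.mul c ak) P.c0)))))) P.ins
            D.A.one j P.c0 r (Nat.beq P.c0 D.A.one))))))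
      (Nat.beq P.rule 1))
    (band (D.A.can a) (D.walk n (DE.finEq b j c) P.ins D.A.one i a (List.cons D.A.one List.nil)
      (Nat.beq a D.A.one)))
    (Nat.beq P.rule 0)

def DE.okR (D : DE) (n : Nat) (P : Pf) (r : List Nat) : Bool :=
  Bool.rec
    (band (D.pre n P.pre r) (D.walk n (fun B j c T kn => band kn (band (isNil T)
      (band (Nat.beq j 0) (Nat.beq (D.A.mul B c) D.A.one)))) P.ins D.A.one 0 D.A.one r true))
    (band (Nat.blt P.ref n) ((D.fc P.ref).onR fun r0 =>
      onCons r0 fun a r1 => leq r (lapp r1 (List.cons a List.nil))))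
    (Nat.beq P.rule 0)

def DE.ok (D : DE) (n : Nat) (P : Pf) : Bool :=
  Fc.rec (D.okC n P) (D.okE n P) (D.okR n P) (D.fc n)

/-- the facts `n, n + 1, …, m - 1` are proved -/
def DE.chk (D : DE) (m : Nat) (l : List Pf) : Nat → Bool :=
  List.rec (fun n => Nat.beq n m) (fun P _ ih n => band (D.ok n P) (ih (Nat.succ n))) l

def DE.ev (D : DE) (w : List Nat) : Nat := D.A.evw D.TT w D.A.one

def onConsL (l : List (List Nat)) (k : List Nat → List (List Nat) → Bool) : Bool :=
  List.rec false (fun a t _ => k a t) l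

def DE.evs (D : DE) (l : List (List Nat)) : List Nat :=
  List.rec List.nil (fun w _ ih => List.cons (D.ev w) ih) l

/-- the basic fact number `n`; `T` is the number of the atom `t` -/
def DE.okB (D : DE) (T n : Nat) (s : Bs) : Bool :=
  band (lall (lall fun y => Nat.blt y T) s.ws)
    (Bool.rec
      (onConsL s.ws fun u ws => (D.fc n).onC fun i j b c => Bool.rec
        (onConsL ws fun v _ => band (Nat.beq i 1) (band (Nat.beq j 1)
          (band (Nat.beq b (D.ev u)) (Nat.beq c (D.ev v)))))
        (band (Nat.beq i 0) (band (Nat.beq j 0) (band (Nat.beq c (D.ev u))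
          (band (D.A.can b) (Nat.beq (D.A.mul b c) D.A.one)))))
        (Nat.beq s.kind 0))
      ((D.fc n).onR fun r => leq r (D.evs s.ws))
      (Nat.beq s.kind 2))

def DE.chkB (D : DE) (T m : Nat) (l : List Bs) : Nat → Bool :=
  List.rec (fun n => Nat.beq n m) (fun s _ ih n => band (D.okB T n s) (ih (Nat.succ n))) l

/-- the word that has to be trivial for a basic fact -/
def Bs.word (T : Nat) (s : Bs) : List Nat :=
  Bool.rec
    (Bool.rec (lapp (nth List.nil s.ws 0) (List.cons T (lapp (nth List.nil s.ws 1)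
      (List.cons (Nat.succ T) List.nil)))) List.nil (Nat.beq s.kind 0))
    (List.rec List.nil (fun w _ ih => List.cons T (lapp w ih)) s.ws)
    (Nat.beq s.kind 2)

/-- the first symbol is `t` -/
def DE.okT (D : DE) : Bool :=
  (D.fc (D.DT.get 0 1)).onE fun i _ a _ _ => band (Nat.beq i 0) (Nat.beq a D.A.one)

/-- fact `id` (below `m`) says that the word stabilises the symbol `j` -/
def DE.okS (D : DE) (m j : Nat) (l : List Nat) : List (List Nat) → Bool :=
  List.rec (fun W => List.rec true (fun _ _ _ => false) W)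
    (fun id _ ih W => onConsL W fun w W' => band (Nat.blt id m) (band ((D.fc id).onC fun i' j' _ g =>
      band (Nat.beq i' j) (band (Nat.beq j' j) (Nat.beq g (D.ev w)))) (ih W'))) l

/-- fact `id` (below `m`) says that the word is conjugated into the base group by `t` -/
def DE.okL (D : DE) (m : Nat) (l : List Nat) : List (List Nat) → Bool :=
  List.rec (fun W => List.rec true (fun _ _ _ => false) W)
    (fun id _ ih W => onConsL W fun w W' => band (Nat.blt id m) (band ((D.fc id).onC fun i' j' b _ =>
      band (Nat.beq i' 1) (band (Nat.beq j' 1) (Nat.beq b (D.ev w)))) (ih W'))) l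

def DE.uw (D : DE) (m a : Nat) (l : List Nat) : Nat → Bool :=
  List.rec (fun c => Nat.beq c a) (fun id _ ih c => band (Nat.blt id m)
    ((D.fc id).onC fun i' j' b _ => band (Nat.beq i' 1) (band (Nat.beq j' 1) (ih (D.A.mul c b))))) l

/-- an edge: fact, word, facts for the correction -/
structure Ed : Type where
  id : Nat
  w : List Nat
  us : List Nat

def DE.okEd (D : DE) (m j : Nat) (J : List Nat) (e : Ed) : Bool :=
  band (Nat.blt e.id m) ((D.fc e.id).onE fun i' k a _ _ => band (Nat.beq i' j) (band (memL J k)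
    (D.uw m a e.us (D.ev e.w))))

/-- a loop at `j` -/
def DE.loop (D : DE) (m j id : Nat) : Bool :=
  band (Nat.blt id m) ((D.fc id).onE fun i' k _ _ _ => band (Nat.beq i' j) (Nat.beq k j))

/-- value of a list of planes at a point -/
def pvb (P : List Nat) (i : Nat) : Nat :=
  List.rec 0 (fun p _ ih => Nat.add (Nat.land (Nat.shiftRight p i) 1) (Nat.mul 2 ih)) P

/-- planes of the permutation of a letter -/
def Tab.pl (T : Tab) (K z : Nat) : List Nat := lmap (T.sn z).pull (idpls K K 0)

/-- image of the point `0` under a word of atoms in product order; atom `y` is letter `y + 1` -/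
def Tab.pt (PL : List (List Nat)) (w : List Nat) : Nat :=
  List.rec 0 (fun y _ ih => pvb (nth List.nil PL y) ih) w

def Tab.pls (T : Tab) (K : Nat) (m : Nat) : Nat → List (List Nat) :=
  Nat.rec (fun _ => List.nil) (fun _ ih k => List.cons (T.pl K (Nat.succ k)) (ih (Nat.succ k))) m

/-- mask of the images of `0` -/
def edMask (PL : List (List Nat)) (l : List Ed) : Nat :=
  List.rec 0 (fun e _ ih => Nat.lor (Nat.shiftLeft 1 (Tab.pt PL e.w)) ih) l

end

end Cfsg.Agent.Spor
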