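/-
More checkers on packed matrices: inequality, traces, enumeration of small groups, fixed points.
-/
import Cfsg.Agent.Spor.DE0

set_option autoImplicit false

namespace Cfsg.Agent.Spor

noncomputable section

def bor (a b : Bool) : Bool := Bool.rec b true a

/-- the number has no bits beyond the matrix -/
def PA.bd (A : PA) (x : Nat) : Bool := Nat.beq (Nat.shiftRight x (Nat.mul A.wd A.d)) 0

/-- different matrices -/
def PA.neq (A : PA) (x y : Nat) : Bool :=
  band (A.bd x) (band (A.bd y) (Bool.rec true false (Nat.beq x y)))

def PA.tr (A : PA) (x : Nat) : Nat :=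
  Nat.mod (Nat.rec 0 (fun i ih => Nat.add (A.ent x i i) ih) A.d) A.p

def PA.pw (A : PA) (x : Nat) (e : Nat) : Nat := Nat.rec A.one (fun _ ih => A.mul ih x) e

/-- `x` is not conjugate to `z`, where `z ^ e = 1` -/
def PA.bad (A : PA) (z e x : Nat) : Bool :=
  bor (Bool.rec true false (Nat.beq (A.tr x) (A.tr z))) (A.neq (A.pw x e) A.one)

def PA.evs (A : PA) (TT : List Nat) (l : List (List Nat)) : List Nat :=
  List.rec List.nil (fun w _ ih => List.cons (A.evw TT w A.one) ih) l

/-- the list contains the identity and is closed under multiplication by the generators -/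
def PA.closed (A : PA) (TL GL : List Nat) : Bool :=
  band (memL TL A.one) (lall (fun x => lall (fun g => memL TL (A.mul x g)) GL) TL)

def nodup (l : List Nat) : Bool :=
  List.rec true (fun a t ih => band (Bool.rec true false (memL t a)) ih) l

/-- a list given by a tree: entry `i + 1` is entry `l[2 i]` times generator `l[2 i + 1]` -/
def PA.tree (A : PA) (TL GL : List Nat) (l : List Nat) : List Nat → Nat → Bool :=
  List.rec (fun _ _ => true) (fun x _ ih I i => onCons I fun a I' => onCons I' fun g I'' =>
    band (Nat.blt a i) (band (Nat.blt g (llen GL))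
      (band (Nat.beq x (A.mul (nth A.one TL a) (nth A.one GL g))) (ih I'' (Nat.succ i))))) l

def PA.enum (A : PA) (TL GL I : List Nat) : Bool :=
  onCons TL fun x T => band (Nat.beq x A.one) (A.tree TL GL T I 1)

/-- every listed element is not conjugate to `z` or is `m h z (m h)⁻¹` -/
def PA.cls (A : PA) (z e : Nat) (TL HL : List Nat) (l : List Nat) : List Nat → Bool :=
  List.rec (fun _ => true) (fun x _ ih I => Bool.rec
    (onCons I fun m I' => onCons I' fun h I'' => band (Nat.blt h (llen HL)) (band
      (Nat.beq (A.mul x (A.mul (nth A.one TL m) (nth A.one HL h)))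
        (A.mul (A.mul (nth A.one TL m) (nth A.one HL h)) z)) (ih I'')))
    (ih I) (A.bad z e x)) l

/-- the listed elements commuting with `z` are in the second list -/
def PA.cen (A : PA) (z : Nat) (TL CL : List Nat) : Bool :=
  lall (fun x => bor (A.neq (A.mul x z) (A.mul z x)) (memL CL x)) TL

/-- a word for a symbol -/
def DE.symW (D : DE) (T : Nat) (l : List (List Nat)) : Nat → Bool :=
  List.rec (fun j => Nat.beq j 0) (fun w _ ih j => (D.fc (D.DT.get 0 j)).onE fun i _ a _ _ =>
    band (Nat.blt i j) (band (Nat.beq a (D.ev w)) (band (lall (fun y => Nat.blt y T) w) (ih i)))) l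

def symWord (T : Nat) (l : List (List Nat)) : List Nat :=
  List.rec List.nil (fun w _ ih => lapp ih (lapp w (List.cons T List.nil))) l

/-- the points moved by a word -/
def Tab.moved (T : Tab) (K : Nat) (w : List Nat) : Nat :=
  lor (lmap (fun p => Nat.xor (T.pushL w p) p) (idpls K K 0))

/-- the fixed points below `N` lie in the mask -/
def Tab.fixIn (T : Tab) (K N : Nat) (w : List Nat) (M : Nat) : Bool :=
  sub (ones N) (Nat.lor M (T.moved K w))

end

end Cfsg.Agent.Spor
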