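/-
Checkers for polycyclic chains of packed matrices.
-/
import Cfsg.Agent.Spor.PX0

set_option autoImplicit false

namespace Cfsg.Agent.Spor

noncomputable section

/-- `u i * u j = w * u i` with a word in the earlier generators -/
def PA.pcC (A : PA) (TT : List Nat) (i j : Nat) (w : List Nat) : Bool :=
  band (lall (fun y => Nat.blt y (Nat.mul 2 i)) w)
    (Nat.beq (A.mul (nth A.one TT (Nat.mul 2 i)) (nth A.one TT (Nat.mul 2 j)))
      (A.mul (A.evw TT w A.one) (nth A.one TT (Nat.mul 2 i))))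

/-- `u i ^ p` is a word in the earlier generators -/
def PA.pcP (A : PA) (TT : List Nat) (i p : Nat) (w : List Nat) : Bool :=
  band (lall (fun y => Nat.blt y (Nat.mul 2 i)) w)
    (Nat.beq (A.pw (nth A.one TT (Nat.mul 2 i)) p) (A.evw TT w A.one))

/-- the generator commutes with `C` -/
def PA.pcA (A : PA) (TT : List Nat) (C j : Nat) : Bool :=
  Nat.beq (A.mul C (nth A.one TT (Nat.mul 2 j))) (A.mul (nth A.one TT (Nat.mul 2 j)) C)

def PA.pcA' (A : PA) (TT : List Nat) (C j : Nat) : Bool :=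
  band (A.can C)
    (A.neq (A.mul C (nth A.one TT (Nat.mul 2 j))) (A.mul (nth A.one TT (Nat.mul 2 j)) C))

/-- the generator keeps the image of `E` and fixes the rows of `Z` there -/
def PA.pcB (A : PA) (TT : List Nat) (Z E j : Nat) : Bool :=
  band (Nat.beq (A.mul (nth A.one TT (Nat.mul 2 j)) E)
      (A.mul E (A.mul (nth A.one TT (Nat.mul 2 j)) E)))
    (Nat.beq (A.mul Z (A.mul (nth A.one TT (Nat.mul 2 j)) E)) (A.mul Z E))

def PA.pcB' (A : PA) (TT : List Nat) (Z E j : Nat) : Bool :=
  band (A.can Z) (band (A.can E)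
    (A.neq (A.mul Z (A.mul (nth A.one TT (Nat.mul 2 j)) E)) (A.mul Z E)))

end

end Cfsg.Agent.Spor
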