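import Cfsg.Agent.Spor.PX6

set_option autoImplicit false

namespace Cfsg.Agent.Spor

open Equiv

theorem gsub_mono {G : Type*} [Group G] {n N : ℕ} (h : n ≤ N) (f : ℕ → G) : gsub n f ≤ gsub N f :=
  gsub_le fun _ hj => mem_gsub f (hj.trans_le h)

/-- elimination of generators -/
theorem Bound.elim {n N k M : ℕ} {RL0 WD RL : List (List ℕ)} {H : List Hint} (b : Bound n k RL M)
    (h : (decide (n ≤ N) && (List.range k).all (fun j => RL0.contains [2 * j, 2 * j]) &&
      elimChk (2 * k) n N RL0 WD && consAll (2 * k) (RL0.map (subW (2 * k) N WD)) RL H) = true) :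
    Bound N 0 RL0 M := fun G _ F hF => by
  have h1 := b G F (Pres.elim hF.rel h)
  simp only [Bool.and_eq_true, decide_eq_true_eq, elimChk] at h
  rwa [le_antisymm (gsub_le (mem_of_defs hF.rel h.1.2.1 fun _ hj => mem_gsub F hj))
    (gsub_mono h.1.1.1 F)]

/-- relators that are consequences -/
theorem Bound.extra {n k M : ℕ} {RL XL : List (List ℕ)} (b : Bound n k (RL ++ XL) M)
    (h : ∀ (G : Type) [Group G] (f : ℕ → G), Pres n k RL f → ∀ l ∈ XL, ev (atm n f) l = 1) :
    Bound n k RL M := fun G _ f hf => b G f (hf.append (h G f hf))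

theorem rel_lt {G : Type*} [Group G] {n N : ℕ} {f : ℕ → G} {XL : List (List ℕ)}
    (h : ∀ l ∈ XL, ev (atm n f) l = 1)
    (hc : (decide (n ≤ N) && XL.all fun w => w.all (· < 2 * n)) = true) :
    ∀ l ∈ XL, ev (atm N f) l = 1 := by
  simp only [Bool.and_eq_true, decide_eq_true_eq, List.all_eq_true] at hc
  exact fun l hl => (ev_atm_lt hc.1 f (hc.2 l hl)).trans (h l hl)

section
variable {G : Type*} [Group G] {H : Subgroup G}

theorem normal_cases (hH : IsCoatom H) (hc : H.normalCore = ⊥) (N : Subgroup G) [N.Normal] :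
    N = ⊥ ∨ H ⊔ N = ⊤ := by
  by_cases h0 : N ≤ H
  · exact Or.inl (eq_bot_iff.mpr (hc ▸ Subgroup.normal_le_normalCore.mpr h0))
  · exact Or.inr (hH.2 _ (left_lt_sup.mpr h0))

theorem inj_of_coatom (hH : IsCoatom H) (hc : H.normalCore = ⊥) {Δ : Type*} [Group Δ] (φ : G →* Δ)
    {g : G} (h : φ g ∉ H.map φ) : Function.Injective φ := by
  rw [← MonoidHom.ker_eq_bot_iff]
  refine (normal_cases hH hc φ.ker).resolve_right fun e => h ?_
  have : g ∈ (H.map φ).comap φ := by rw [Subgroup.comap_map_eq, e]; trivial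
  exact this

theorem index_dvd_of_sup [Finite G] {N : Subgroup G} [N.Normal] (e : H ⊔ N = ⊤) :
    H.index ∣ Nat.card N := by
  have h1 := H.index_mul_card
  have h2 := N.index_mul_card
  have h3 := (N.subgroupOf H).index_mul_card
  have h4 : (N.subgroupOf H).index = N.index := by
    rw [← Subgroup.relIndex_top_right (H := N), ← e, Subgroup.relIndex_sup_right]; rfl
  rw [← h3, h4, ← h2, mul_left_comm] at h1
  exact ⟨_, (Nat.eq_of_mul_eq_mul_left (Nat.pos_of_ne_zero N.index_ne_zero_of_finite) h1).symm⟩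

theorem core_of_card [Finite G] (hH : IsCoatom H) (hc : H.normalCore = ⊥) {S : Subgroup G} {N s : ℕ}
    (hN : H.index = N) (hs : Nat.card S = s) (h : ¬ N ∣ s) : S.normalCore = ⊥ := by
  refine (normal_cases hH hc S.normalCore).resolve_right fun e => h ?_
  rw [← hN, ← hs]
  exact (index_dvd_of_sup e).trans (Subgroup.card_dvd_of_le S.normalCore_le)

/-- a nonabelian group whose order divides `p ^ 3` -/
theorem cube_dvd {p : ℕ} (hp : p.Prime) (h : Nat.card G ∣ p ^ 3) {x y : G} (hxy : x * y ≠ y * x) :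
    p ^ 3 ∣ Nat.card G := by
  have := Fact.mk hp
  obtain ⟨k, hk, e⟩ := (Nat.dvd_prime_pow hp).mp h
  have : Finite G := Nat.finite_of_card_ne_zero (e ▸ pow_ne_zero _ hp.ne_zero)
  interval_cases k
  · exact absurd (Nat.card_eq_one_iff_unique.mp e |>.1.elim _ _) hxy
  · have := isCyclic_of_prime_card (p := p) (e.trans (pow_one p))
    exact absurd (IsCyclic.commGroup.mul_comm x y) hxy
  · exact absurd ((IsPGroup.commGroupOfCardEqPrimeSq e).mul_comm x y) hxy
  · rw [e]

end

theorem PA.neq_dec {A : PA} (sq : A.sq = true) (R : Type) [CommRing R] [CharP R A.p] {x y : ℕ}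
    (hx : A.Can A.d x) (hy : A.Can A.d y) (h : A.neq x y = true) : A.dec R x ≠ A.dec R y := fun e => by
  simp only [PA.neq, band_eq, Bool.and_eq_true, bnot_iff, Nat.beq_eq] at h
  exact h.2.2 (PA.eq_of_ent (PA.sq' sq).1 h.1 h.2.1 fun i hi j hj =>
    CharP.natCast_injOn_Iio R A.p (hx i hi j hj) (hy i hi j hj)
      (congrFun (congrFun e ⟨i, hi⟩) ⟨j, hj⟩))

namespace MRep

variable {A : PA} {R : Type} [CommRing R] {Γ : Type} [Group Γ] {X : MRep A R Γ}

variable (X) in
/-- the elements fixing the rows of a matrix -/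
def fixZ (Z : ℕ) : Subgroup Γ where
  carrier := {g | A.dec R Z * X.ρ g = A.dec R Z}
  one_mem' := by simp
  mul_mem' := fun {a b} ha hb => by
    show _ = _
    rw [map_mul, ← mul_assoc, ha, hb]
  inv_mem' := fun {a} ha => by
    show _ = _
    conv_lhs => rw [← ha]
    rw [mul_assoc, ← map_mul, mul_inv_cancel, map_one, mul_one]

theorem M.dec_mul {Z x : ℕ} (hZ : A.Can A.d Z) (hx : X.M x) :
    A.dec R (A.mul Z x) = A.dec R Z * X.ρ (X.el x) := by
  rw [hx.ρ_el, (PA.mul_spec X.sq X.hp hZ hx.1).2]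

theorem Gens.not_mem [CharP R A.p] {TT : List ℕ} {n : ℕ} {g : ℕ → Γ} (h : X.Gens TT (atm n g))
    {Z : ℕ} {W : List (List ℕ)} {u : List ℕ}
    (hc : band (A.can Z) (band (lall (fun w => Nat.beq (A.mul Z (A.evw TT w A.one)) Z) W)
      (A.neq (A.mul Z (A.evw TT u A.one)) Z)) = true) : ev (atm n g) u ∉ wsub n g W := by
  simp only [band_eq, Bool.and_eq_true, lall_iff, Nat.beq_eq] at hc
  have hZ := PA.can_sq X.sq hc.1
  have h1 : wsub n g W ≤ X.fixZ Z := wsub_le fun w hw => by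
    show _ = _
    rw [← (h.ev1 w).2, ← (h.ev1 w).1.dec_mul hZ, hc.2.1 w hw]
  intro hu
  refine PA.neq_dec X.sq R (X.can_mul hZ (h.ev1 u).1.1) hZ hc.2.2 ?_
  rw [(h.ev1 u).1.dec_mul hZ, (h.ev1 u).2]
  exact h1 hu

end MRep

end Cfsg.Agent.Spor
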