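/-
Orders of soluble groups of matrices through polycyclic chains.
-/
import Cfsg.Agent.Spor.PX7
import Cfsg.Agent.Spor.PC0

set_option autoImplicit false

namespace Cfsg.Agent.Spor

section
variable {G : Type*} [Group G]

theorem pc_step {H : Subgroup G} {u : G} {p : ℕ} (hp : p.Prime) (hn : ∀ x ∈ H, u * x * u⁻¹ ∈ H)
    (hu : u ^ p ∈ H) (h1 : u ∉ H) :
    Nat.card (H ⊔ Subgroup.zpowers u : Subgroup G) = p * Nat.card H := by
  have hk : ∀ k : ℕ, ∀ x ∈ H, u ^ k * x * (u ^ k)⁻¹ ∈ H := fun k => by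
    induction k with
    | zero => simp
    | succ k ih =>
      intro x hx
      have := hn _ (ih x hx)
      rwa [show u * (u ^ k * x * (u ^ k)⁻¹) * u⁻¹ = u ^ (k + 1) * x * (u ^ (k + 1))⁻¹ by
        rw [pow_succ']; group] at this
  have hN : u ∈ Subgroup.normalizer (H : Set G) := by
    rw [Subgroup.mem_normalizer_iff]
    refine fun x => ⟨hn x, fun hx => ?_⟩
    obtain ⟨q, rfl⟩ := Nat.exists_eq_succ_of_ne_zero hp.ne_zero
    have h2 := mul_mem (mul_mem (inv_mem hu) (hk q _ hx)) hu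
    rwa [show (u ^ q.succ)⁻¹ * (u ^ q * (u * x * u⁻¹) * (u ^ q)⁻¹) * u ^ q.succ = x by
      rw [pow_succ]; group] at h2
  set K := H ⊔ Subgroup.zpowers u with hK
  have hle : K ≤ Subgroup.normalizer (H : Set G) :=
    sup_le Subgroup.le_normalizer (Subgroup.zpowers_le.2 hN)
  have huK : u ∈ K := Subgroup.mem_sup_right (Subgroup.mem_zpowers u)
  have : (H.subgroupOf K).Normal := (Subgroup.normal_subgroupOf_iff_le_normalizer le_sup_left).2 hle
  let v : K ⧸ H.subgroupOf K := QuotientGroup.mk ⟨u, huK⟩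
  have h3 : orderOf v = p := by
    have := Fact.mk hp
    refine orderOf_eq_prime ?_ fun e =>
      h1 ((QuotientGroup.eq_one_iff (N := H.subgroupOf K) (⟨u, huK⟩ : K)).1 e)
    exact (QuotientGroup.eq_one_iff (N := H.subgroupOf K) (⟨u, huK⟩ ^ p : K)).2 hu
  have h4 : Subgroup.zpowers v = ⊤ := by
    have h5 : K ≤ ((Subgroup.zpowers v).comap (QuotientGroup.mk' (H.subgroupOf K))).map K.subtype := by
      refine sup_le (fun x hx => ⟨⟨x, Subgroup.mem_sup_left hx⟩, ?_, rfl⟩)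
        (Subgroup.zpowers_le.2 ⟨⟨u, huK⟩, Subgroup.mem_zpowers v, rfl⟩)
      have : QuotientGroup.mk' (H.subgroupOf K) ⟨x, Subgroup.mem_sup_left hx⟩ = 1 :=
        (QuotientGroup.eq_one_iff _).2 hx
      show QuotientGroup.mk' _ _ ∈ Subgroup.zpowers v
      rw [this]
      exact one_mem _
    rw [eq_top_iff]
    intro y _
    obtain ⟨y, rfl⟩ := QuotientGroup.mk_surjective y
    obtain ⟨y', h6, h7⟩ := h5 y.2
    exact (Subtype.ext h7 : y' = y) ▸ h6
  rw [← (H.subgroupOf K).index_mul_card, Nat.card_congr (Subgroup.subgroupOfEquivOfLe le_sup_left).toEquiv,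
    Subgroup.index, ← h3, ← Nat.card_zpowers, h4, Subgroup.card_top]

theorem gsub_le_submonoid {n : ℕ} {f : ℕ → G} [Finite (gsub n f)] {S : Submonoid G}
    (h : ∀ j < n, f j ∈ S) : ∀ x ∈ gsub n f, x ∈ S := fun x hx => by
  induction hx using Subgroup.closure_induction with
  | mem x hx => obtain ⟨j, hj, rfl⟩ := hx; exact h j hj
  | one => exact one_mem _
  | mul x y _ _ hx hy => exact mul_mem hx hy
  | inv x hx' hx =>
    have h1 := isOfFinOrder_of_finite (⟨x, hx'⟩ : gsub n f)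
    have h2 : IsOfFinOrder x := (gsub n f).subtype.isOfFinOrder h1
    obtain ⟨k, hk⟩ := Nat.exists_eq_succ_of_ne_zero h2.orderOf_pos.ne'
    have h3 := pow_orderOf_eq_one x
    rw [hk, pow_succ] at h3
    rw [← eq_inv_of_mul_eq_one_left h3]
    exact pow_mem hx k

theorem norm_gsub {n : ℕ} {f : ℕ → G} {u : G} {K : Subgroup G}
    (h : ∀ j < n, u * f j * u⁻¹ ∈ K) : ∀ x ∈ gsub n f, u * x * u⁻¹ ∈ K := fun x hx =>
  (gsub_le (K := K.comap (MulAut.conj u).toMonoidHom) h) hx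

/-- the first `i` elements generate a finite group of order `m` -/
def PC (f : ℕ → G) (i m : ℕ) : Prop := Nat.card (gsub i f) = m ∧ m ≠ 0

theorem PC.zero (f : ℕ → G) : PC f 0 1 :=
  ⟨by rw [show gsub 0 f = ⊥ from le_bot_iff.mp (gsub_le fun _ h => absurd h (Nat.not_lt_zero _))]; simp,
    one_ne_zero⟩

theorem PC.dvd {f : ℕ → G} {i m : ℕ} (h : PC f i m) : m ∣ Nat.card G :=
  h.1 ▸ Subgroup.card_subgroup_dvd_card _

theorem PC.dvd' {f : ℕ → G} {i m : ℕ} (h : PC f i m) {K : Subgroup G} (hK : ∀ j < i, f j ∈ K) :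
    m ∣ Nat.card K := h.1 ▸ Subgroup.card_dvd_of_le (gsub_le hK)

theorem PC.finite {f : ℕ → G} {i m : ℕ} (h : PC f i m) : Finite (gsub i f) :=
  Nat.finite_of_card_ne_zero (h.1 ▸ h.2)

end

namespace MRep

variable {A : PA} {R : Type} [CommRing R] {Γ : Type} [Group Γ] {X : MRep A R Γ}
  {TT : List ℕ} {N : ℕ} {g : ℕ → Γ}

theorem Gens.at (h : X.Gens TT (atm N g)) {i : ℕ} (hi : i < N) :
    X.M (nth A.one TT (Nat.mul 2 i)) ∧ X.el (nth A.one TT (Nat.mul 2 i)) = g i :=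
  ⟨(h _).1, (h _).2.trans (atm_two_mul g hi)⟩

theorem ev_mem_lt {i : ℕ} (hi : i ≤ N) {w : List ℕ}
    (hw : lall (fun y => Nat.blt y (Nat.mul 2 i)) w = true) : ev (atm N g) w ∈ gsub i g := by
  simp only [lall_iff, Nat.blt_eq] at hw
  rw [ev_atm_lt hi g hw]
  exact ev_atm_mem i g w

theorem Gens.pcC (h : X.Gens TT (atm N g)) {i j k : ℕ} (hi : i < N) (hj : j < N) (hk : k ≤ N)
    {w : List ℕ} (hw : lall (fun y => Nat.blt y (Nat.mul 2 k)) w = true)
    (hc : Nat.beq (A.mul (nth A.one TT (Nat.mul 2 i)) (nth A.one TT (Nat.mul 2 j)))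
      (A.mul (A.evw TT w A.one) (nth A.one TT (Nat.mul 2 i))) = true) :
    g i * g j * (g i)⁻¹ ∈ gsub k g := by
  have e := congrArg X.el (Nat.beq_eq.mp hc)
  rw [(h.at hi).1.el_mul (h.at hj).1, (h.ev1 w).1.el_mul (h.at hi).1, (h.at hi).2, (h.at hj).2,
    (h.ev1 w).2] at e
  rw [e, mul_inv_cancel_right]
  exact ev_mem_lt hk hw

theorem Gens.norm (h : X.Gens TT (atm N g)) {i : ℕ} (hi : i < N)
    (hc : AllP (fun j => ∃ w, A.pcC TT i j w = true) (List.range i)) :
    ∀ x ∈ gsub i g, g i * x * (g i)⁻¹ ∈ gsub i g :=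
  norm_gsub fun j hj => by
    obtain ⟨w, hw⟩ := hc.forall j (List.mem_range.mpr hj)
    rw [PA.pcC, band_eq, Bool.and_eq_true] at hw
    exact h.pcC hi (hj.trans hi) hi.le hw.1 hw.2

theorem Gens.pow_mem (h : X.Gens TT (atm N g)) {i p : ℕ} (hi : i < N) {w : List ℕ}
    (hc : A.pcP TT i p w = true) : g i ^ p ∈ gsub i g := by
  rw [PA.pcP, band_eq, Bool.and_eq_true] at hc
  have e := congrArg X.el (Nat.beq_eq.mp hc.2)
  rw [((h.at hi).1.pw p).2, (h.at hi).2, (h.ev1 w).2] at e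
  exact e ▸ ev_mem_lt hi.le hc.1

theorem Gens.dec_at (h : X.Gens TT (atm N g)) {i : ℕ} (hi : i < N) :
    A.dec R (nth A.one TT (Nat.mul 2 i)) = X.ρ (g i) := by
  rw [← (h.at hi).2, (h.at hi).1.ρ_el]

theorem Gens.notA [CharP R A.p] (h : X.Gens TT (atm N g)) {i m C : ℕ} (hi : i < N) (hm : PC g i m)
    (h1 : A.pcA' TT C i = true) (h2 : AllP (fun j => A.pcA TT C j = true) (List.range i)) :
    g i ∉ gsub i g := fun hx => by
  have := hm.finite
  rw [PA.pcA', band_eq, Bool.and_eq_true] at h1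
  have hC := PA.can_sq X.sq h1.1
  have sp := fun {x y} hx hy => PA.mul_spec (R := R) (x := x) (y := y) X.sq X.hp hx hy
  let S : Submonoid Γ :=
    { carrier := {x | A.dec R C * X.ρ x = X.ρ x * A.dec R C}
      one_mem' := by simp
      mul_mem' := fun {a b} ha hb => by
        simp only [Set.mem_setOf_eq, map_mul] at ha hb ⊢
        rw [← mul_assoc, ha, mul_assoc, hb, mul_assoc] }
  have h3 := gsub_le_submonoid (S := S) (fun j hj => by
    have e := congrArg (A.dec R) (Nat.beq_eq.mp (h2.forall j (List.mem_range.mpr hj)))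
    have hj' := hj.trans hi
    rwa [(sp hC (h.at hj').1.1).2, (sp (h.at hj').1.1 hC).2, h.dec_at hj'] at e) _ hx
  refine PA.neq_dec X.sq R (sp hC (h.at hi).1.1).1 (sp (h.at hi).1.1 hC).1 h1.2 ?_
  rw [(sp hC (h.at hi).1.1).2, (sp (h.at hi).1.1 hC).2, h.dec_at hi]
  exact h3

theorem Gens.notB [CharP R A.p] (h : X.Gens TT (atm N g)) {i m Z E : ℕ} (hi : i < N) (hm : PC g i m)
    (h1 : A.pcB' TT Z E i = true) (h2 : AllP (fun j => A.pcB TT Z E j = true) (List.range i)) :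
    g i ∉ gsub i g := fun hx => by
  have := hm.finite
  simp only [PA.pcB', band_eq, Bool.and_eq_true] at h1
  have hZ := PA.can_sq X.sq h1.1
  have hE := PA.can_sq X.sq h1.2.1
  have sp := fun {x y} hx hy => PA.mul_spec (R := R) (x := x) (y := y) X.sq X.hp hx hy
  let S : Submonoid Γ :=
    { carrier := {x | X.ρ x * A.dec R E = A.dec R E * (X.ρ x * A.dec R E) ∧
        A.dec R Z * (X.ρ x * A.dec R E) = A.dec R Z * A.dec R E ∨ x = 1}
      one_mem' := Or.inr rfl
      mul_mem' := by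
        rintro a b (ha | rfl) (hb | rfl)
        · refine Or.inl ⟨?_, ?_⟩
          · rw [map_mul, mul_assoc, hb.1, ← mul_assoc (X.ρ a), ← mul_assoc (A.dec R E), ← ha.1]
          · rw [map_mul, mul_assoc, hb.1, ← mul_assoc (X.ρ a), ← mul_assoc (A.dec R Z), ha.2,
              mul_assoc, ← hb.1, hb.2]
        · exact Or.inl (by rwa [mul_one])
        · exact Or.inl (by rwa [one_mul])
        · exact Or.inr (mul_one 1) }
  have h3 := gsub_le_submonoid (S := S) (fun j hj => by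
    have e := h2.forall j (List.mem_range.mpr hj)
    simp only [PA.pcB, band_eq, Bool.and_eq_true, Nat.beq_eq] at e
    have hj' := hj.trans hi
    have q := sp (h.at hj').1.1 hE
    have e1 := congrArg (A.dec R) e.1
    have e2 := congrArg (A.dec R) e.2
    rw [(sp hE q.1).2, q.2, h.dec_at hj'] at e1
    rw [(sp hZ q.1).2, (sp hZ hE).2, q.2, h.dec_at hj'] at e2
    exact Or.inl ⟨e1, e2⟩) _ hx
  have q := sp (h.at hi).1.1 hE
  refine PA.neq_dec X.sq R (sp hZ q.1).1 (sp hZ hE).1 h1.2.2 ?_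
  rw [(sp hZ q.1).2, (sp hZ hE).2, q.2, h.dec_at hi]
  rcases h3 with h3 | h3
  · exact h3.2
  · rw [h3, map_one, one_mul]

theorem Gens.pc (h : X.Gens TT (atm N g)) {i m p : ℕ} (hm : PC g i m) (hi : i < N) (hp : p.Prime)
    (hc : AllP (fun j => ∃ w, A.pcC TT i j w = true) (List.range i)) {w : List ℕ}
    (hw : A.pcP TT i p w = true) (hn : g i ∉ gsub i g) : PC g (i + 1) (p * m) :=
  ⟨by rw [gsub_succ, pc_step hp (h.norm hi hc) (h.pow_mem hi hw) hn, hm.1],
    Nat.mul_ne_zero hp.ne_zero hm.2⟩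

end MRep

theorem DCtx.Upto.ker {D : DE} {R : Type} [CommRing R] {Γ : Type} [Group Γ] {G : Type} [Group G]
    {Y : DCtx D R Γ G} {m T : ℕ} {g : ℕ → Γ} {a : ℕ → G} (hU : Y.Upto m) (hA : Y.At T g a)
    {id : ℕ} {w : List ℕ}
    (h : band (Nat.blt id m) (band (lall (fun y => Nat.blt y T) w) ((D.fc id).onC fun i j b c =>
      band (Nat.beq i j) (band (Nat.beq c D.A.one) (Nat.beq b (D.ev w))))) = true) :
    Spor.ev a w = 1 := by
  simp only [band_eq, Bool.and_eq_true, lall_iff, Nat.blt_eq] at h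
  obtain ⟨i, j, b, c, e, h1⟩ := Fc.onC_iff h.2.2
  simp only [Bool.and_eq_true, Nat.beq_eq] at h1
  have hv := hU id h.1
  rw [e, h1.1, h1.2.1, h1.2.2] at hv
  have h2 := hv.2.2
  rw [v_one, mul_one, right_eq_mul] at h2
  rw [← hA.ψ_ev h.2.1, ← (hA.gens.ev1 w).2]
  exact h2

end Cfsg.Agent.Spor
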