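import Cfsg.Agent.Spor.PX10
import Cfsg.Agent.Spor.PC

set_option autoImplicit false

namespace Cfsg.Agent.Spor

open Equiv

theorem core_of_trans {P : Subgroup (Perm ℕ)} {N p : ℕ} (hf : P ≤ FixFrom N)
    (ht : Reach P p (ones N)) {S : Subgroup P} (hS : ∀ s ∈ S, P.subtype s p = p) :
    S.normalCore = ⊥ := by
  rw [eq_bot_iff]
  intro g hg
  refine Subtype.ext (Equiv.ext fun c => ?_)
  by_cases hc : c < N
  · obtain ⟨h, hh, rfl⟩ := ht c (by rw [tb_ones]; exact decide_eq_true hc)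
    have := hS _ (hg (⟨h, hh⟩⁻¹))
    rw [inv_inv] at this
    exact (Perm.inv_eq_iff_eq.mp this :)
  · exact hf g.2 c (not_lt.mp hc)

namespace DCtx

variable {D : DE} {R : Type} [CommRing R] {Γ : Type} [Group Γ] {G : Type} [Group G]
  {Y : DCtx D R Γ G} {n : ℕ} {g : ℕ → Γ}

/-- the symbol generates the whole group together with the base group -/
def Gen (Y : DCtx D R Γ G) (x : CosD) : Prop :=
  x.1 = 0 ∨ ∀ K : Subgroup G, Y.ψ.range ≤ K → Y.sym x.1 ∈ K → Y.t ∈ K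

theorem Loop.gen {x : CosD} (h : Y.Loop x) : Y.Gen x := h.imp_right fun ⟨a, b, c, e⟩ K hK h1 => by
  have m : ∀ a, Y.ψ a ∈ K := fun a => hK ⟨a, rfl⟩
  rw [← inv_mul_eq_iff_eq_mul.mpr e.symm]
  exact K.mul_mem (K.inv_mem (K.mul_mem h1 (m a))) (K.mul_mem (K.mul_mem (m b) h1) (m c))

theorem At.gen2 {T : ℕ} {g : ℕ → Γ} {a : ℕ → G} (hA : Y.At T g a) {A : PA} {R' : Type} [CommRing R']
    {X : MRep A R' G} {TT : List ℕ} (h : X.Gens TT a) {j s : ℕ} {l SW : List (List ℕ)}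
    (hs : D.symW T l j = true) {u v w : List ℕ}
    (hc : band (lall (fun y => Nat.blt y T) (lapp u (lapp v w))) (Nat.beq
      (A.evw TT (lapp u (lapp (symWord T l) (lapp v (lapp (symWord T l) w)))) A.one)
      (A.evw TT [T] A.one)) = true) : Y.Gen (j, SW, s) := Or.inr fun K hK h1 => by
  simp only [band_eq, Bool.and_eq_true, lall_iff, Nat.blt_eq] at hc
  have e := h.eq_ev hc.2
  rw [ev_lapp, ev_lapp, ev_lapp, ev_lapp, ← hA.symW l hs, ev_cons, ev_nil, mul_one, hA.t,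
    ← hA.ψ_ev fun y hy => hc.1 y (by simp [lapp_eq, hy]),
    ← hA.ψ_ev (w := v) fun y hy => hc.1 y (by simp [lapp_eq, hy]),
    ← hA.ψ_ev (w := w) fun y hy => hc.1 y (by simp [lapp_eq, hy])] at e
  have m : ∀ a, Y.ψ a ∈ K := fun a => hK ⟨a, rfl⟩
  exact e ▸ K.mul_mem (m _) (K.mul_mem h1 (K.mul_mem (m _) (K.mul_mem h1 (m _))))

theorem At.gen3 {T : ℕ} {g : ℕ → Γ} {a : ℕ → G} (hA : Y.At T g a) {A : PA} {R' : Type} [CommRing R']
    {X : MRep A R' G} {TT : List ℕ} (h : X.Gens TT a) {j s : ℕ} {l SW : List (List ℕ)}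
    (hs : D.symW T l j = true) {u v w z : List ℕ}
    (hc : band (lall (fun y => Nat.blt y T) (lapp u (lapp v (lapp w z)))) (Nat.beq
      (A.evw TT (lapp u (lapp (symWord T l) (lapp v (lapp (symWord T l) (lapp w (lapp (symWord T l) z))))))
        A.one)
      (A.evw TT [T] A.one)) = true) : Y.Gen (j, SW, s) := Or.inr fun K hK h1 => by
  simp only [band_eq, Bool.and_eq_true, lall_iff, Nat.blt_eq] at hc
  have e := h.eq_ev hc.2
  rw [ev_lapp, ev_lapp, ev_lapp, ev_lapp, ev_lapp, ev_lapp, ← hA.symW l hs, ev_cons, ev_nil, mul_one, hA.t,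
    ← hA.ψ_ev fun y hy => hc.1 y (by simp [lapp_eq, hy]),
    ← hA.ψ_ev (w := v) fun y hy => hc.1 y (by simp [lapp_eq, hy]),
    ← hA.ψ_ev (w := w) fun y hy => hc.1 y (by simp [lapp_eq, hy]),
    ← hA.ψ_ev (w := z) fun y hy => hc.1 y (by simp [lapp_eq, hy])] at e
  have m : ∀ a, Y.ψ a ∈ K := fun a => hK ⟨a, rfl⟩
  exact e ▸ K.mul_mem (m _) (K.mul_mem h1 (K.mul_mem (m _) (K.mul_mem h1 (K.mul_mem (m _)
    (K.mul_mem h1 (m _))))))

theorem Done.coatom' {CL : List CosD} {M N : ℕ} (h : Y.Done n g CL M N)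
    (hg : ∀ K : Subgroup G, Y.ψ.range ≤ K → Y.t ∈ K → K = ⊤) (hne : Y.ψ.range.index ≠ 1)
    (hl : AllP Y.Gen CL) : IsCoatom Y.ψ.range := by
  refine ⟨fun e => hne (Subgroup.index_eq_one.mpr e), fun K hK => hg K hK.le ?_⟩
  obtain ⟨y, hyK, hyH⟩ := SetLike.exists_of_lt hK
  obtain ⟨j, b, c, rfl⟩ := (h.cov hg).cov y
  have m : ∀ a, Y.ψ a ∈ K := fun a => hK.le ⟨a, rfl⟩
  have h1 : Y.xs CL j ∈ K := by
    simpa [mul_assoc] using K.mul_mem (K.mul_mem (K.inv_mem (m b)) hyK) (K.inv_mem (m c))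
  rcases hl.forall _ (List.getElem_mem j.2) with h2 | h2
  · refine absurd (Y.ψ.range.mul_mem (Y.ψ.range.mul_mem ⟨b, rfl⟩ ?_) ⟨c, rfl⟩) hyH
    show Y.sym CL[j.1].1 ∈ _
    rw [h2, sym_zero]
    exact one_mem _
  · exact h2 K hK.le h1

end DCtx

end Cfsg.Agent.Spor
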