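import Cfsg.Agent.Spor.ThK.Main
import Cfsg.Agent.Spor.ThS3.Main
import Cfsg.Agent.Spor.ThS5.Main
import Cfsg.Agent.Spor.ThN1.Main
import Cfsg.Agent.Spor.ThD.K.Main

set_option autoImplicit false
set_option maxRecDepth 100000

namespace Cfsg.Agent.Spor.ThZ

theorem cardL : Nat.card (gsub 6 ThV.h) = 211341312 := by
  obtain ⟨e⟩ := ThS5.isoL
  rw [← Nat.card_congr e.toEquiv, ThL.cardP]

theorem simple_sub {G Δ : Type} [Group G] [Group Δ] {K : Subgroup G} {L : Subgroup Δ}
    (e : Nonempty (K ≃* L)) (hs : IsSimpleGroup K) : IsSimpleGroup L :=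
  e.elim fun e => e.symm.isSimpleGroup

theorem simpleL : IsSimpleGroup (gsub 6 ThV.h) := simple_sub ThS5.isoL ThL.simpleP

theorem lbH : 634023936 * 143127000 ∣ Nat.card ThV.H := by
  have h2 : 92897280 ∣ Nat.card ThV.H := ThK.cardK ▸ Subgroup.card_subgroup_dvd_card _
  have h7 : 211341312 ∣ Nat.card ThV.H := cardL ▸ Subgroup.card_subgroup_dvd_card _
  have h19 : 19 ∣ Nat.card ThV.H := ThS5.ord19 ▸ orderOf_dvd_natCard _
  have h31 : 31 ∣ Nat.card ThV.H := ThS5.ord31 ▸ orderOf_dvd_natCard _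
  exact (show _ ∣ Nat.lcm (Nat.lcm (Nat.lcm (Nat.lcm (Nat.lcm _ _) _) _) _) _ by decide +kernel).trans
    (Nat.lcm_dvd (Nat.lcm_dvd (Nat.lcm_dvd (Nat.lcm_dvd (Nat.lcm_dvd h2 h7) ThS3.lb) ThS5.lb) h19) h31)

section
variable {G : Type} [Group G] {g : ℕ → G} (hg : Pres 8 0 ThC.RL g) (ht : gsub 8 g = ⊤)
  (hl : 634023936 * 143127000 ∣ Nat.card G)
include hg ht hl

theorem card : Nat.card G = 90745943887872000 := by
  rw [(ThC.exact hg ht hl).card, ThD.cardP]

theorem core : (ThC.Y hg).ψ.range.normalCore = ⊥ :=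
  (ThC.exact hg ht hl).core (i := ⟨2, by decide⟩) ThD.K.core

end

theorem cardH : Nat.card ThV.H = 90745943887872000 := card ThV.pres ThV.top lbH

instance instFiniteH : Finite ThV.H := Nat.finite_of_card_ne_zero (by rw [cardH]; norm_num)

theorem simpleH : IsSimpleGroup ThV.H :=
  simple_of_coatom (ThC.coatom ThV.pres ThV.top lbH) (core ThV.pres ThV.top lbH)
    (ThS5.ord5 ▸ pow_orderOf_eq_one (ev (atm 8 ThV.h) [14, 6, 11, 14, 6]))
    (by
      rw [← Nat.card_congr (MonoidHom.ofInjective (ThC.exact ThV.pres ThV.top lbH).inj).toEquiv,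
        ThD.cardP]
      norm_num)
    fun N _ h => ThN1.cert.bound_nil.eq_top ThV.pres ThV.top N (AW := [[14, 6, 11, 14, 6]])
      (fun w hw => List.mem_singleton.mp hw ▸ h) (H := [([], 0, true), ([], 1, true), ([], 2, true), ([], 3, true), ([], 4, true), ([], 5, true), ([], 6, true), ([], 7, true), ([], 8, true), ([], 9, true), ([], 10, true), ([], 11, true), ([], 12, true), ([], 13, true), ([], 14, true), ([], 15, true), ([], 16, true), ([], 17, true), ([], 18, true), ([], 19, true), ([], 20, true), ([], 21, true), ([], 22, true), ([], 23, true), ([], 24, true), ([], 25, true), ([], 26, true), ([], 27, true), ([], 28, true), ([], 29, true), ([], 30, true), ([], 31, true), ([], 32, true), ([], 33, true), ([], 34, true), ([], 35, true), ([], 36, true), ([], 37, true), ([], 38, true), ([], 39, true)]) (by decide +kernel)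

open Cfsg.Spor Cfsg.Spor.Th

/-- the generators -/
def f : ℕ → Th := pgen ThC.rels ThC.gl
theorem pres : Pres 8 0 ThC.RL f := ThC.coded.pres
theorem top : gsub 8 f = ⊤ := ThC.coded.gsub_eq

theorem homH : ∃ σ : Th →* ThV.H, Function.Surjective σ := by
  obtain ⟨σ, h⟩ := ThC.coded.hom (by decide) ThV.pres
  exact ⟨σ, MonoidHom.range_eq_top.mp ((range_eq_gsub h top).trans ThV.top)⟩

theorem lb : 634023936 * 143127000 ∣ Nat.card Th := by
  obtain ⟨σ, h⟩ := homH
  exact lbH.trans (Subgroup.card_dvd_of_surjective σ h)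

theorem isTh : IsSimpleGroup Th ∧ Nat.card Th = 90745943887872000 := by
  obtain ⟨σ, h⟩ := homH
  exact simple_of_surj h (card pres top lb) (by norm_num) simpleH cardH

theorem Heq : (Subgroup.closure ({a, b, c, d, e, s, t} : Set (FreeGroup Gen))).map
    (PresentedGroup.mk ThC.rels) = (ThC.Y pres).ψ.range := by
  rw [ThC.range, ThC.coded.map_closure (ws := [a, b, c, d, e, s, t])
    (BW := [[0], [2], [4], [6], [8], [10], [12]]) (by simp) (by decide +kernel) (by decide +kernel)]
  exact wsub_eq_gsub (n := 7) (N := 8) f (by decide) (by decide)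

end Cfsg.Agent.Spor.ThZ
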