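import Cfsg.Agent.Spor.PX3

set_option autoImplicit false

namespace Cfsg.Agent.Spor

open Equiv

/-- `K` is a central extension of `Δ` by the group generated by `z`, of order `p` -/
structure CExt {G : Type*} [Group G] (K : Subgroup G) (z : G) (p : ℕ) (Δ : Type*) [Group Δ] :
    Prop where
  ord : orderOf z = p
  mem : z ∈ K
  comm : ∀ k ∈ K, k * z = z * k
  ex : ∃ ψ : K →* Δ, Function.Surjective ψ ∧ Subgroup.center K = ψ.ker ∧ Nat.card ψ.ker = p ∧
    ∀ u : K, u ∈ ψ.ker ↔ u.1 ∈ Subgroup.zpowers z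

section
variable {G Δ : Type*} [Group G] [Group Δ] {K : Subgroup G} {z : G} {p : ℕ}

theorem CExt.card (h : CExt K z p Δ) : Nat.card K = p * Nat.card Δ := by
  obtain ⟨ψ, h1, -, h2, -⟩ := h.ex
  rw [card_of_quot h1, h2]

theorem CExt.nonsplit (h : CExt K z 2 Δ) {u : G} (hu : u ∈ K) (h1 : u * u = z) {Δ' : Type*}
    [Group Δ'] (e : Nonempty (Δ ≃* Δ')) : Cfsg.IsNonsplitDoubleCover K Δ' := by
  obtain ⟨ψ, h2, h3, h4, h5⟩ := h.ex
  refine nonsplit_of_sq h2 h3 h4 (u := ⟨u, hu⟩) ((h5 _).mpr (h1 ▸ Subgroup.mem_zpowers z))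
    (fun e1 => ?_) e
  have h6 := h.ord
  rw [← h1, show u * u = 1 from congrArg Subtype.val e1, orderOf_one] at h6
  omega

theorem CExt.quot (h : CExt K z p Δ) {K' : Subgroup G} (e : K' = K) :
    Nat.card (Subgroup.center K') = p ∧ Nonempty (Δ ≃* K' ⧸ Subgroup.center K') := by
  obtain ⟨ψ, h2, h3, h4, -⟩ := h.ex
  subst e
  exact ⟨h3 ▸ h4, quot_center_equiv h2 h3⟩

theorem ev_mem_of {N : ℕ} {F : ℕ → G} (hm : ∀ j < N, F j ∈ K) (w : List ℕ) : ev (atm N F) w ∈ K :=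
  ev_mem _ _ _ fun y _ => atm_mem hm y

end

noncomputable def PA.pows (A : PA) (z p : ℕ) : List ℕ := (List.range p).map (A.pw z)

namespace MRep

variable {A : PA} {R : Type} [CommRing R] {Γ : Type} [Group Γ] {X : MRep A R Γ}

theorem M.ord [CharP R A.p] {z p : ℕ} (hz : X.M z) (hp : p.Prime)
    (h : band (Nat.beq (A.pw z p) A.one) (A.neq z A.one) = true) : orderOf (X.el z) = p := by
  rw [band_eq, Bool.and_eq_true, Nat.beq_eq] at h
  exact orderOf_eq_of_prime hp (by rw [← (hz.pw p).2, h.1, el_one])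
    (X.el_one ▸ hz.neq X.M_one h.2)

theorem Gens.mem_defs {TT : List ℕ} {n N : ℕ} {F : ℕ → Γ} (hG : X.Gens TT (atm N F))
    {DR : List (List ℕ)} (hD : AllP (fun w => A.isW TT w A.one = true) DR)
    (h : defChk n N DR = true) : ∀ j < N, F j ∈ gsub n F :=
  mem_of_defs (hG.all_one hD) h fun _ hj => mem_gsub F hj

theorem Gens.cext [CharP R A.p] {TT : List ℕ} {n k M N : ℕ} (hG : X.Gens TT (atm N (X.gen TT)))
    {RL : List (List ℕ)} (b : Bound n k RL M) (hM : M ≠ 0) {Δ : Type} [Group Δ] {g : ℕ → Δ}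
    (hg : Pres n k RL g) (hc : M ∣ Nat.card (gsub n g)) (hs : IsSimpleGroup (gsub n g))
    (hm : ∀ j < N, X.gen TT j ∈ gsub n (X.gen TT))
    {z p : ℕ} {zw ZL : List ℕ} (hp : p.Prime) (hz : A.isW TT zw z = true)
    (ho : band (Nat.beq (A.pw z p) A.one) (A.neq z A.one) = true) (hZ : leq ZL (A.pows z p) = true)
    (hcm : allN (fun j => Nat.beq (A.mul (nth A.one TT (2 * j)) z) (A.mul z (nth A.one TT (2 * j))))
      n = true)
    {RL0 WD : List (List ℕ)} {H : List Hint}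
    (hR : AllP (fun w => memL ZL (A.evw TT w A.one) = true) RL0)
    (h : (decide (n ≤ N) && (List.range k).all (fun j => RL0.contains [2 * j, 2 * j]) &&
      elimChk (2 * k) n N RL0 WD && consAll (2 * k) (RL0.map (subW (2 * k) N WD)) RL H) = true)
    {x y : ℕ} (hi : x % 2 = 0 ∧ y % 2 = 0 ∧ x < 2 * n ∧ y < 2 * n ∧ n ≤ N)
    (hw : A.neq (A.evw TT [x, y, x + 1, y + 1] A.one) A.one = true) :
    CExt (gsub n (X.gen TT)) (X.el z) p (gsub n g) := by
  obtain ⟨m, e⟩ := hG.isW hz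
  have h1 := m.ord hp ho
  have h2 : X.el z ∈ gsub n (X.gen TT) := e ▸ ev_mem_of hm zw
  obtain ⟨ψ, h3, h4, h5, h6, -⟩ := central_ext b hM hg hc hs hm h2 (hG.comm m hcm)
    (fun l hl => by
      have := (memL_iff _ _).mp (hR.forall l hl)
      rw [leq_iff hZ] at this
      obtain ⟨i, -, e1⟩ := List.mem_map.mp this
      rw [← (hG.ev1 l).2, ← e1, (m.pw i).2]
      exact Subgroup.npow_mem_zpowers _ _) h ⟨hi.1, hi.2.1⟩
    (by rw [← ev_atm_lt hi.2.2.2.2 _ (by simp; omega)]; exact hG.ne_one hw)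
  exact ⟨h1, h2, comm_of_gens (hG.comm m hcm), ψ, h3, h4, h5.trans h1, h6⟩

/-- the same matrix as a word in two tables -/
theorem Gens.cross {TT TU : List ℕ} {a b : ℕ → Γ} (h : X.Gens TT a) (h' : X.Gens TU b)
    {w u : List ℕ} (hc : Nat.beq (A.evw TT w A.one) (A.evw TU u A.one) = true) : ev a w = ev b u := by
  rw [← (h.ev1 w).2, Nat.beq_eq.mp hc, (h'.ev1 u).2]

end MRep

end Cfsg.Agent.Spor
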