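import Cfsg.Agent.Spor.DE2

set_option autoImplicit false

namespace Cfsg.Agent.Spor

open Equiv

theorem wsub_gens {Γ : Type*} [Group Γ] {n : ℕ} (g : ℕ → Γ) {W : List (List ℕ)}
    (h : (List.range n).all (fun j => W.contains [2 * j]) = true) : wsub n g W = gsub n g :=
  le_antisymm (wsub_le_gsub n g W) (gsub_le fun j hj => by
    have := mem_wsub (n := n) g
      (List.contains_iff_mem.mp (List.all_eq_true.mp h j (List.mem_range.mpr hj)))
    rwa [ev_cons, ev_nil, mul_one, atm_two_mul g hj] at this)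

theorem card_wsub_lift {n : ℕ} (fP : ℕ → Perm ℕ) (W : List (List ℕ)) :
    Nat.card (wsub n (lift (gsub n fP) fP) W) = Nat.card (wsub n fP W) := by
  rw [← map_wsub_lift fP W, Subgroup.card_map_of_injective (gsub n fP).subtype_injective]

theorem Tab.Link.fix {Γ : Type*} [Group Γ] {U : Tab} {K : ℕ} (hU : U.Ok K) {φ : Γ →* Perm ℕ}
    {g : ℕ → Γ} {n m : ℕ} (h : U.Link φ (atm n g) m) {SW W : List (List ℕ)} {p : ℕ}
    (hw : (lall (lall fun y => Nat.blt y m) SW && (W == SW.map toL)) = true)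
    (hf : ∀ x ∈ U.lsub W, x p = p) : ∀ x ∈ wsub n g SW, φ x p = p := fun x hx => by
  rw [Bool.and_eq_true, beq_iff_eq] at hw
  exact hf _ (by rw [hw.2, h.lsub_le hw.1]; exact ⟨x, hx, rfl⟩)

namespace DCtx

variable {D : DE} {R : Type} [CommRing R] {Γ : Type} [Group Γ] {G : Type} [Group G]
  {Y : DCtx D R Γ G} {m n : ℕ} {g : ℕ → Γ} {f : ℕ → G}

theorem At.of (hg : Y.X.Gens D.TT (atm n g)) (hψ : ∀ j < n, Y.ψ (g j) = f j) (ht : f n = Y.t) :
    Y.At (2 * n) (atm n g) (atm (n + 1) f) := by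
  refine ⟨hg, fun y hy => ?_, by rw [atm_two_mul f (by omega), ht], ?_⟩
  · have h : y / 2 < n := by omega
    rw [atm_map, atm_def, atm_def, if_pos h, if_pos (by omega : y / 2 < n + 1), hψ _ h]
  · rw [atm_def, show (2 * n + 1) / 2 = n by omega, if_pos (by omega), if_neg (by omega), ht]

theorem gen_top (hψ : ∀ j < n, Y.ψ (g j) = f j) (ht : f n = Y.t) (h : gsub (n + 1) f = ⊤)
    (K : Subgroup G) (h1 : Y.ψ.range ≤ K) (h2 : Y.t ∈ K) : K = ⊤ :=
  eq_top_of_gens h fun j hj => by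
    rcases Nat.lt_succ_iff_lt_or_eq.mp hj with hj | rfl
    · exact h1 ⟨_, hψ j hj⟩
    · rwa [ht]

theorem Upto.rinv (hU : Y.Upto m) {id : ℕ}
    (h : band (Nat.blt id m) ((D.fc id).onR fun r => onCons r fun _ r' => onCons r' fun _ => isNil)
      = true) : ∃ p q, Y.t⁻¹ = Y.ψ p * Y.t * Y.ψ q := by
  rw [band_eq, Bool.and_eq_true, Nat.blt_eq] at h
  obtain ⟨r, e, h1⟩ := Fc.onR_iff h.2
  obtain ⟨p, r', rfl, h2⟩ := onCons_iff h1
  obtain ⟨q, r'', rfl, h3⟩ := onCons_iff h2
  have hv := hU _ h.1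
  rw [e, isNil_iff h3] at hv
  have := hv.2
  rw [tl_cons, tl_cons, tl_nil, mul_one, mul_assoc] at this
  exact ⟨_, _, (inv_eq_of_mul_eq_one_right this).trans (mul_assoc _ _ _).symm⟩

theorem cos_zero (hU : Y.Upto m) (h1 : Y.sym 1 = Y.t) (hg : Y.X.Gens D.TT (atm n g))
    (ht : gsub n g = ⊤) {J l : List ℕ} {W : List (List ℕ)} {M : ℕ} (hM : Nat.card Γ = M)
    (h : D.okS m 0 l W = true)
    (h' : ((List.range n).all (fun j => W.contains [2 * j]) && J.contains 1) = true) :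
    Y.CosOk n g J (0, W, M) := by
  rw [Bool.and_eq_true] at h'
  exact ⟨hU.okS hg h, by rw [wsub_gens g h'.1, ht, Subgroup.card_top, hM],
    good_zero h1 (List.contains_iff_mem.mp h'.2)⟩

/-- the representatives -/
noncomputable abbrev xs (Y : DCtx D R Γ G) (CL : List CosD) : Fin CL.length → G :=
  fun i => Y.sym CL[i].1
abbrev Ss (n : ℕ) (g : ℕ → Γ) (CL : List CosD) : Fin CL.length → Subgroup Γ :=
  fun i => wsub n g CL[i].2.1

def Loop (Y : DCtx D R Γ G) (x : CosD) : Prop :=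
  x.1 = 0 ∨ ∃ a b c, Y.sym x.1 * Y.ψ a * Y.t = Y.ψ b * Y.sym x.1 * Y.ψ c

/-- a complete enumeration -/
structure Done (Y : DCtx D R Γ G) (n : ℕ) (g : ℕ → Γ) (CL : List CosD) (M N : ℕ) : Prop where
  card : Nat.card Γ = M
  pos : 0 < M
  all : AllP (Y.CosOk n g (CL.map (·.1))) CL
  inv : ∃ p q, Y.t⁻¹ = Y.ψ p * Y.t * Y.ψ q
  chk : ((CL.map (·.1)).contains 0 && ((CL.map fun x => M / x.2.2).sum == N)) = true

variable {CL : List CosD} {M N : ℕ}

theorem Done.fin (h : Y.Done n g CL M N) : Finite Γ :=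
  Nat.finite_of_card_ne_zero (h.card ▸ h.pos.ne')

theorem Done.cov (h : Y.Done n g CL M N) (hg : ∀ K : Subgroup G, Y.ψ.range ≤ K → Y.t ∈ K → K = ⊤) :
    DCov Y.ψ (Y.xs CL) (Ss n g CL) :=
  dcov h.all (List.contains_iff_mem.mp (Bool.and_eq_true_iff.mp h.chk).1) h.inv hg

theorem Done.sum (h : Y.Done n g CL M N) : ∑ i, (Ss n g CL i).index ≤ N := by
  have := h.fin
  exact (sum_le h.all h.card).trans (beq_iff_eq.mp (Bool.and_eq_true_iff.mp h.chk).2).le

theorem Done.finite (h : Y.Done n g CL M N)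
    (hg : ∀ K : Subgroup G, Y.ψ.range ≤ K → Y.t ∈ K → K = ⊤) : Finite G := by
  have := h.fin
  exact (h.cov hg).finite

theorem Done.card_le (h : Y.Done n g CL M N)
    (hg : ∀ K : Subgroup G, Y.ψ.range ≤ K → Y.t ∈ K → K = ⊤) : Nat.card G ≤ M * N := by
  have := h.fin
  rw [← h.card]
  exact (h.cov hg).card_le h.sum

theorem Done.exact (h : Y.Done n g CL M N)
    (hg : ∀ K : Subgroup G, Y.ψ.range ≤ K → Y.t ∈ K → K = ⊤) (hG : M * N ∣ Nat.card G) :
    DExact Y.ψ (Y.xs CL) (Ss n g CL) N := by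
  have := h.fin
  exact (h.cov hg).exact h.sum (h.card ▸ hG)

theorem Done.card_S (h : Y.Done n g CL M N) (e : DExact Y.ψ (Y.xs CL) (Ss n g CL) N)
    (i : Fin CL.length) : (Ss n g CL i).index = M / CL[i].2.2 := by
  have := h.fin
  have h1 : ∑ i, (Ss n g CL i).index = ∑ i : Fin CL.length, M / CL[i].2.2 := by
    exact e.sum.trans ((beq_iff_eq.mp (Bool.and_eq_true_iff.mp h.chk).2).symm.trans
      (Fin.sum_univ_fun_getElem CL fun x => M / x.2.2).symm)
  exact (Finset.sum_eq_sum_iff_of_le fun i _ =>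
    index_le (h.all.forall _ (List.getElem_mem _)) h.card).mp h1 i (Finset.mem_univ i)

theorem Done.coatom (h : Y.Done n g CL M N)
    (hg : ∀ K : Subgroup G, Y.ψ.range ≤ K → Y.t ∈ K → K = ⊤) (hne : Y.ψ.range.index ≠ 1)
    (hl : AllP Y.Loop CL) : IsCoatom Y.ψ.range :=
  (h.cov hg).coatom (fun e => hne (Subgroup.index_eq_one.mpr e)) hg fun i =>
    (hl.forall _ (List.getElem_mem i.2)).imp_left fun e => by
      show Y.sym CL[i].1 ∈ _
      rw [show CL[i].1 = 0 from e, sym_zero]; exact one_mem _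

end DCtx

/-- elimination of generators defined by relators -/
theorem elim_gens {G : Type*} [Group G] {n N : ℕ} {F : ℕ → G} {RL WD : List (List ℕ)}
    (hR : ∀ l ∈ RL, ev (atm N F) l = 1)
    (h : allN (fun j => isNil (red 0 (lapp (invW 0 (WD.getD j []) []) (if j < n then [2 * j] else
        subW 0 j WD (invW 0 (nth [] RL (j - n)).tail [])))) &&
      (decide (j < n) || ((nth [] RL (j - n)).head? == some (2 * j) &&
        (nth [] RL (j - n)).tail.all (· < 2 * j)))) N = true) (hn : n ≤ N) :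
    ∀ j < N, F j = wv n F WD j := by
  have hi : ∀ m (f : ℕ → G), IvOk 0 (atm m f) := fun m f =>
    ivOk_atm (k := 0) fun j h => absurd h (Nat.not_lt_zero _)
  intro j
  induction j using Nat.strong_induction_on with
  | _ j ih =>
    intro hj
    have h1 := (allN_iff _ _).mp h j hj
    rw [Bool.and_eq_true] at h1
    have h2 := ev_eq_one_of_red (hi n F) h1.1
    rw [ev_lapp, ev_invW (hi n F), ev_nil, mul_one, inv_mul_eq_one] at h2
    rw [wv, h2]
    split_ifs with h3
    · rw [ev_cons, ev_nil, mul_one, atm_two_mul F h3]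
    · have h4 := h1.2
      simp only [h3, decide_false, Bool.false_or, Bool.and_eq_true, beq_iff_eq, List.all_eq_true,
        decide_eq_true_eq] at h4
      have h5 := ev_nth_eq_one hR (j - n)
      obtain ⟨l, hl⟩ : ∃ l, nth [] RL (j - n) = 2 * j :: l := List.head?_eq_some_iff.mp h4.1
      rw [hl] at h4 h5 ⊢
      rw [ev_cons, atm_two_mul F hj] at h5
      rw [ev_subW (hi n F), ev_invW (hi _ _), ev_nil, mul_one, eq_inv_of_mul_eq_one_left h5,
        List.tail_cons]
      congr 1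
      unfold ev
      refine congrArg _ (List.map_congr_left fun y hy => ?_)
      have h6 : y / 2 < j := by have := h4.2 y hy; omega
      rw [atm_def, atm_def, if_pos h6, if_pos (h6.trans hj), ← ih _ h6 (h6.trans hj)]

end Cfsg.Agent.Spor
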