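import Cfsg.Agent.Spor.PX4

set_option autoImplicit false

namespace Cfsg.Agent.Spor

open Equiv

theorem wsub_lt {G : Type*} [Group G] {n N : ℕ} (f : ℕ → G) {W : List (List ℕ)}
    (h : (decide (n ≤ N) && W.all fun w => w.all (· < 2 * n)) = true) : wsub N f W = wsub n f W := by
  simp only [Bool.and_eq_true, decide_eq_true_eq, List.all_eq_true] at h
  exact le_antisymm (wsub_le fun w hw => ev_atm_lt h.1 f (h.2 w hw) ▸ mem_wsub f hw)
    (wsub_le fun w hw => (ev_atm_lt h.1 f (h.2 w hw)).symm ▸ mem_wsub f hw)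

theorem wsub_eq_gsub {G : Type*} [Group G] {n N : ℕ} (f : ℕ → G) {W : List (List ℕ)}
    (h : (decide (n ≤ N) && W.all fun w => w.all (· < 2 * n)) = true)
    (h' : (List.range n).all (fun j => W.contains [2 * j]) = true) : wsub N f W = gsub n f :=
  (wsub_lt f h).trans (wsub_gens f h')

/-- one step in the computation of a centraliser, with a coset table -/
theorem Cert.cent {n k M N : ℕ} {RL BW : List (List ℕ)} {fP : ℕ → Perm ℕ} (c : Cert n k RL BW fP N)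
    (b : Bound n k RL M) (hM : M ≠ 0) {G : Type} [Group G] {f : ℕ → G} (hf : Pres n k RL f)
    (hc : M ∣ Nat.card (gsub n f)) {U : Tab} {Kb : ℕ} (hU : U.Ok Kb)
    (hl : U.Link (MonoidHom.id _) (atm n fP) (2 * n)) {K : Subgroup G} {zw gw : List ℕ}
    {SW W : List (List ℕ)}
    (hw : (lall (lall fun y => Nat.blt y (2 * n)) (zw :: gw :: SW) && (W == SW.map toL)) = true)
    (hS : wsub n f SW ≤ K) (hz : ev (atm n f) zw ∈ wsub n f BW)
    (hK : ∀ x ∈ K, x * ev (atm n f) zw = ev (atm n f) zw * x)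
    (hH : ∀ x ∈ wsub n f BW, x * ev (atm n f) zw = ev (atm n f) zw * x → x ∈ K) {M0 M1 p1 : ℕ}
    (h0 : U.fixIn Kb N (toL zw) (Nat.lor M0 M1) = true) (r0 : Reach (U.lsub W) 0 M0)
    (r1 : M1 = 0 ∨ evA U.τ (toL gw) 0 = p1 ∧ Reach (U.lsub W) p1 M1 ∧ ∀ x ∈ wsub n f BW,
      x * ev (atm n f) zw * x⁻¹ ≠ (ev (atm n f) gw)⁻¹ * ev (atm n f) zw * ev (atm n f) gw) :
    ∀ x ∈ gsub n f, x * ev (atm n f) zw = ev (atm n f) zw * x → x ∈ K := by
  obtain ⟨φ, hφ⟩ := b.exists_hom hM hf c.pres hc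
  have act := c.act _ _ hf.lift φ hφ (gsub_lift n f)
  have lk : U.Link φ (atm n (lift (gsub n f) f)) (2 * n) := fun y hy => by
    rw [atm_map, atm_congr hφ]; exact hl y hy
  simp only [Bool.and_eq_true, lall_cons, band_eq, beq_iff_eq] at hw
  obtain ⟨⟨w1, w2, w3⟩, rfl⟩ := hw
  have e : ∀ w, ((ev (atm n (lift (gsub n f) f)) w : gsub n f) : G) = ev (atm n f) w :=
    ev_atm_map' (lift_gsub f)
  have e1 : U.lsub (SW.map toL) ≤ (K.subgroupOf (gsub n f)).map φ := by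
    rw [lk.lsub_le w3, wsub_lift]
    exact Subgroup.map_mono (Subgroup.subgroupOf_mono _ hS)
  have e2 : ∀ {w}, lall (fun y => Nat.blt y (2 * n)) w = true →
      φ (ev (atm n (lift (gsub n f) f)) w) = evA U.τ (toL w) := fun h => by
    rw [evA_toL, lk.ev fun y hy => Nat.blt_eq.mp ((lall_iff _ _).mp h y hy)]
  rw [wsub_lift] at act
  intro x hx hx'
  refine act.cent (K := K.subgroupOf (gsub n f)) (z := ev (atm n (lift (gsub n f) f)) zw)
    (by rwa [Subgroup.mem_subgroupOf, e]) (fun y hy => Subtype.ext (by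
      rw [Subgroup.coe_mul, Subgroup.coe_mul, e]; exact hK _ hy))
    (fun y hy h => hH _ hy (by rw [← e]; exact congrArg Subtype.val h)) (fun q hq h => ?_) ⟨x, hx⟩
    (Subtype.ext (by rw [Subgroup.coe_mul, Subgroup.coe_mul, e]; exact hx'))
  have h1 := hU.fixIn h0 q hq (e2 w1 ▸ h)
  rw [tb_lor, Bool.or_eq_true] at h1
  rcases h1 with h1 | h1
  · exact Or.inl (r0.mono e1 q h1)
  · rcases r1 with rfl | ⟨h2, h3, h4⟩
    · simp at h1
    · refine Or.inr ⟨ev (atm n (lift (gsub n f) f)) gw, by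
        rw [e2 w2, h2]; exact h3.mono e1 q h1, fun y hy h => h4 _ hy ?_⟩
      rw [← e, ← e]; exact congrArg Subtype.val h

namespace MRep

variable {A : PA} {R : Type} [CommRing R] {Γ : Type} [Group Γ] {X : MRep A R Γ}

theorem Gens.words {TT TU : List ℕ} {n m : ℕ} {g : ℕ → Γ} (h : X.Gens TT (atm n g))
    {W : List (List ℕ)} (h1 : A.gensOk TU m = true)
    (h2 : allN (fun j => A.isW TT (nth [] W j) (nth A.one TU (2 * j))) m = true) :
    X.Gens TU (atm m (wv n g W)) :=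
  Gens.of h1 fun j hj => by
    obtain ⟨m1, e⟩ := h.isW ((allN_iff _ _).mp h2 j hj)
    rw [wv, ← nth_eq, ← e, m1.ρ_el]

theorem Gens.mem_cross {TT TK : List ℕ} {a : ℕ → Γ} {N : ℕ} {F : ℕ → Γ} (h : X.Gens TT a)
    (h' : X.Gens TK (atm N F)) {K : Subgroup Γ} (hm : ∀ j < N, F j ∈ K) {W U : List (List ℕ)}
    (hc : leq (A.evs TT W) (A.evs TK U) = true) : ∀ w ∈ W, ev a w ∈ K := fun w hw => by
  have h1 : A.evw TT w A.one ∈ A.evs TK U := by
    rw [← leq_iff hc, evs_eq]; exact List.mem_map_of_mem hw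
  obtain ⟨u, -, e⟩ := List.mem_map.mp (evs_eq TK U ▸ h1)
  rw [← (h.ev1 w).2, ← e, (h'.ev1 u).2]
  exact ev_mem_of hm u

theorem Gens.comm_words {TT : List ℕ} {n : ℕ} {g : ℕ → Γ} (h : X.Gens TT (atm n g))
    {W : List (List ℕ)} {zw : List ℕ}
    (hc : lall (fun w => Nat.beq (A.evw TT (lapp w zw) A.one) (A.evw TT (lapp zw w) A.one)) W = true) :
    ∀ x ∈ wsub n g W, x * ev (atm n g) zw = ev (atm n g) zw * x := by
  have : wsub n g W ≤ Subgroup.centralizer {ev (atm n g) zw} := wsub_le fun w hw => by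
    rw [Subgroup.mem_centralizer_singleton_iff, ← ev_lapp, ← ev_lapp]
    exact h.eq_ev ((lall_iff _ _).mp hc w hw)
  exact fun x hx => Subgroup.mem_centralizer_singleton_iff.mp (this hx)

theorem Gens.bad [CharP R A.p] {TT : List ℕ} {n : ℕ} {g : ℕ → Γ} (h : X.Gens TT (atm n g))
    {H : Subgroup Γ} {zw gw uw : List ℕ}
    (hu : ∀ x ∈ H, ∀ a ∈ wsub n g [uw], x * a * x⁻¹ ∈ wsub n g [uw])
    (hc : band (Nat.beq (A.evw TT (lapp uw zw) A.one) (A.evw TT (lapp zw uw) A.one))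
      (A.neq (A.evw TT (lapp uw (invW 0 gw (lapp zw gw))) A.one)
        (A.evw TT (lapp (invW 0 gw (lapp zw gw)) uw) A.one)) = true) :
    ∀ x ∈ H, x * ev (atm n g) zw * x⁻¹ ≠
      (ev (atm n g) gw)⁻¹ * ev (atm n g) zw * ev (atm n g) gw := by
  rw [band_eq, Bool.and_eq_true] at hc
  rw [wsub_single] at hu
  have h1 := h.eq_ev hc.1
  have h2 := h.neq hc.2
  simp only [ev_lapp, ev_invW (ivOk_zero n g)] at h1 h2
  exact bad_of_norm hu h1 (by rwa [mul_assoc _ (ev _ zw)])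

theorem Gens.cen [CharP R A.p] [Finite Γ] {TT : List ℕ} {n : ℕ} {g : ℕ → Γ} (h : X.Gens TT (atm n g))
    {LW CW : List (List ℕ)} {zw : List ℕ} {z : ℕ} {TL GS CL GC I : List ℕ}
    (h1 : band (leq GS (A.evs TT LW)) (band (leq GC (A.evs TT CW))
      (band (A.isW TT zw z) (A.enum CL GC I))) = true)
    (h2 : A.closed TL GS = true) (h3 : A.cen z TL CL = true) :
    ∀ c ∈ wsub n g LW, c * ev (atm n g) zw = ev (atm n g) zw * c → c ∈ wsub n g CW := by
  simp only [band_eq, Bool.and_eq_true] at h1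
  obtain ⟨m, e⟩ := h.isW h1.2.2.1
  rw [← e]
  exact cen_sound (h.cov h1.1 h2) (h.sub h1.2.1 h1.2.2.2) m h3

end MRep

namespace DCtx

variable {D : DE} {R : Type} [CommRing R] {Γ : Type} [Group Γ] {G : Type} [Group G]
  {Y : DCtx D R Γ G} {n : ℕ} {g : ℕ → Γ} {f : ℕ → G}

/-- the double coset meets `K` -/
def Wit (Y : DCtx D R Γ G) (K : Subgroup G) (j : ℕ) (h : Γ) : Prop :=
  ∃ h', Y.ψ h' * Y.sym j * Y.ψ h ∈ K

theorem At.ψ_ev {T : ℕ} {a : ℕ → G} (hA : Y.At T g a) {w : List ℕ} (hw : ∀ y ∈ w, y < T) :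
    Y.ψ (Spor.ev g w) = Spor.ev a w := by
  rw [hA.ev hw, (v_ev hA.gens w).2]

theorem At.wit {T : ℕ} {a : ℕ → G} (hA : Y.At T g a) {A : PA} {R' : Type} [CommRing R']
    {X : MRep A R' G} {TT TK : List ℕ} (h : X.Gens TT a) {N : ℕ} {F : ℕ → G}
    (h' : X.Gens TK (atm N F)) {K : Subgroup G} (hm : ∀ j < N, F j ∈ K) {j : ℕ} {l : List (List ℕ)}
    (hs : D.symW T l j = true) {u v w : List ℕ}
    (hc : band (lall (fun y => Nat.blt y T) (lapp u v)) (Nat.beq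
      (A.evw TT (lapp u (lapp (symWord T l) v)) A.one) (A.evw TK w A.one)) = true) :
    Y.Wit K j (Spor.ev g v) := by
  simp only [band_eq, Bool.and_eq_true, lall_iff, Nat.blt_eq] at hc
  refine ⟨Spor.ev g u, ?_⟩
  rw [hA.ψ_ev fun y hy => hc.1 y (by simp [lapp_eq, hy]),
    hA.ψ_ev fun y hy => hc.1 y (by simp [lapp_eq, hy]), hA.symW l hs, mul_assoc, ← ev_lapp, ← ev_lapp,
    h.cross h' hc.2]
  exact ev_mem_of hm w

def Cls (Y : DCtx D R Γ G) (n : ℕ) (g : ℕ → Γ) (K : Subgroup G) (z : Γ) (x : CosD) : Prop :=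
  x.1 = 0 ∨ ∀ y ∈ wsub n g x.2.1, IsConj z y → ∃ s ∈ wsub n g x.2.1, ∃ h, Y.Wit K x.1 h ∧
    y = s * h * z * (s * h)⁻¹

theorem Done.cent {CL : List CosD} {M N : ℕ} (h : Y.Done n g CL M N)
    (hg : ∀ K : Subgroup G, Y.ψ.range ≤ K → Y.t ∈ K → K = ⊤)
    (e : DExact Y.ψ (Y.xs CL) (Ss n g CL) N) {z : Γ} {K : Subgroup G}
    (hK : ∀ k ∈ K, k * Y.ψ z = Y.ψ z * k) (hΓ : ∀ u, u * z = z * u → Y.ψ u ∈ K)
    (hc : AllP (Y.Cls n g K z) CL) : Subgroup.centralizer {Y.ψ z} = K :=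
  e.cent (h.cov hg) hK hΓ fun j y hy hz => by
    rcases hc.forall _ (List.getElem_mem j.2) with h0 | h0
    · obtain ⟨c, rfl⟩ := isConj_iff.mp hz
      refine ⟨1, one_mem _, c, ⟨c⁻¹, ?_⟩, by rw [one_mul]⟩
      show Y.ψ c⁻¹ * Y.sym CL[j].1 * Y.ψ c ∈ K
      rw [show CL[j].1 = 0 from h0, sym_zero, mul_one, ← map_mul, inv_mul_cancel, map_one]
      exact one_mem _
    · exact h0 y hy hz

theorem Done.card_S' {CL : List CosD} {M N : ℕ} (h : Y.Done n g CL M N)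
    (e : DExact Y.ψ (Y.xs CL) (Ss n g CL) N) {x : CosD} (i : ℕ) (hx : CL[i]? = some x)
    (hd : x.2.2 ∣ M) : Nat.card (wsub n g x.2.1) = x.2.2 := by
  obtain ⟨hi, rfl⟩ := List.getElem?_eq_some_iff.mp hx
  exact card_of_index (h.card.trans (Nat.div_mul_cancel hd).symm) (h.card_S e ⟨i, hi⟩)
    (Nat.div_pos (Nat.le_of_dvd h.pos hd) (Nat.pos_of_dvd_of_pos hd h.pos)).ne'

end DCtx

end Cfsg.Agent.Spor
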