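import Cfsg.Agent.Spor.PX2

set_option autoImplicit false

namespace Cfsg.Agent.Spor

open Equiv

section
variable {G : Type*} [Group G]

theorem ev_replicate (a : ℕ → G) (w : List ℕ) (m : ℕ) :
    ev a (List.replicate m w).flatten = ev a w ^ m := by
  induction m with
  | zero => simp
  | succ m ih => rw [List.replicate_succ, List.flatten_cons, ev_append, ih, pow_succ']

theorem simple_of_surj {Δ : Type*} [Group Δ] {σ : G →* Δ} (h : Function.Surjective σ) {M : ℕ}
    (h1 : Nat.card G = M) (hM : M ≠ 0) (hs : IsSimpleGroup Δ) (h2 : Nat.card Δ = M) :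
    IsSimpleGroup G ∧ Nat.card G = M :=
  haveI : Finite G := Nat.finite_of_card_ne_zero (h1 ▸ hM)
  simple_card_congr (MulEquiv.ofBijective σ (h.bijective_of_nat_card_le (h1.trans h2.symm).le)).symm
    ⟨hs, h2⟩

theorem alt_of_index {H : Subgroup G} {n : ℕ} [NeZero n] (h1 : H.index = n)
    (h2 : H.normalCore = ⊥) (h3 : 2 * Nat.card G = n.factorial) :
    Nonempty (G ≃* alternatingGroup (Fin n)) := by
  obtain ⟨P, ⟨e⟩, -⟩ := exists_perm_rep' h1 h2
  refine ⟨e.trans (MulEquiv.subgroupCongr (Perm.eq_alternatingGroup_of_index_eq_two ?_))⟩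
  refine index_of_card (M := Nat.card G) ?_ (Nat.card_congr e.toEquiv).symm fun h => ?_
  · rw [Nat.card_perm, Nat.card_fin, h3]
  · rw [h] at h3; exact n.factorial_ne_zero h3.symm

theorem simple_of_alt {n : ℕ} (h : Nonempty (G ≃* alternatingGroup (Fin n))) (hn : 5 ≤ n) :
    IsSimpleGroup G := by
  obtain ⟨e⟩ := h
  have := alternatingGroup.isSimpleGroup (α := Fin n) (by rwa [Nat.card_fin])
  exact e.isSimpleGroup

theorem orderOf_eq_of_prime {x : G} {p : ℕ} (hp : p.Prime) (h1 : x ^ p = 1) (h2 : x ≠ 1) :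
    orderOf x = p :=
  haveI := Fact.mk hp
  orderOf_eq_prime h1 h2

theorem perfect_of_simple [IsSimpleGroup G] (hp : ¬ (Nat.card G).Prime) : commutator G = ⊤ := by
  refine (IsSimpleGroup.eq_bot_or_eq_top_of_normal _ inferInstance).resolve_left fun e => hp ?_
  have : IsMulCommutative G := (commutator_eq_bot_iff G).mp e
  letI : CommGroup G := { (inferInstance : Group G) with mul_comm := mul_comm' }
  exact IsSimpleGroup.prime_card

/-- a central extension of a perfect group whose kernel lies in the commutator subgroup -/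
theorem perfect_of_ext {Δ : Type*} [Group Δ] {ψ : G →* Δ} (hs : Function.Surjective ψ)
    (h1 : commutator Δ = ⊤) (h2 : ψ.ker ≤ commutator G) : commutator G = ⊤ := by
  have h3 : (commutator G).map ψ = ⊤ := by
    rw [commutator_def, Subgroup.map_commutator, ← MonoidHom.range_eq_map,
      MonoidHom.range_eq_top.mpr hs]
    exact h1
  have := congrArg (Subgroup.comap ψ) h3
  rwa [Subgroup.comap_map_eq, sup_eq_left.mpr h2, Subgroup.comap_top] at this

/-- a double cover in which some involution lifts to elements of order four -/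
theorem nonsplit_of_sq {Δ : Type*} [Group Δ] {ψ : G →* Δ} (hs : Function.Surjective ψ)
    (hc : Subgroup.center G = ψ.ker) (hk : Nat.card ψ.ker = 2) {u : G} (h1 : u * u ∈ ψ.ker)
    (h2 : u * u ≠ 1) {Δ' : Type*} [Group Δ'] (e : Nonempty (Δ ≃* Δ')) :
    Cfsg.IsNonsplitDoubleCover G Δ' := by
  obtain ⟨e⟩ := e
  obtain ⟨e1⟩ := quot_center_equiv hs hc
  refine ⟨hc ▸ hk, ⟨e1.symm.trans e⟩, fun L hL => h2 ?_⟩
  have h4 : L.index = 2 := by rw [hL.index_eq_card, hc, hk]
  have h5 : u * u ∈ L := (Subgroup.mul_mem_iff_of_index_two h4).mpr Iff.rfl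
  exact (Subgroup.disjoint_def.mp hL.disjoint) (hc ▸ h1) h5

theorem nonsplit_congr {G' Δ : Type*} [Group G'] [Group Δ] (h : Cfsg.IsNonsplitDoubleCover G Δ)
    (e : G ≃* G') : Cfsg.IsNonsplitDoubleCover G' Δ := by
  obtain ⟨h1, ⟨e1⟩, h3⟩ := h
  have hc : (Subgroup.center G).map e.toMonoidHom = Subgroup.center G' := by
    ext x
    obtain ⟨y, rfl⟩ := e.surjective x
    refine (Subgroup.mem_map_iff_mem (f := e.toMonoidHom) e.injective).trans ?_
    simp only [Subgroup.mem_center_iff]
    exact ⟨fun h g => by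
      obtain ⟨u, rfl⟩ := e.surjective g
      rw [← map_mul, h, map_mul], fun h g => e.injective (by rw [map_mul, map_mul, h])⟩
  refine ⟨by rw [← hc, Subgroup.card_map_of_injective e.injective, h1],
    ⟨(QuotientGroup.congr _ _ e hc).symm.trans e1⟩, fun L hL => h3 (L.comap e.toMonoidHom) ?_⟩
  have h5 : Subgroup.center G = (Subgroup.center G').comap e.toMonoidHom := by
    rw [← hc, Subgroup.comap_map_eq_self_of_injective e.injective]
  rw [h5]
  refine Subgroup.isComplement'_of_disjoint_and_mul_eq_univ ?_ ?_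
  · rw [disjoint_iff, ← Subgroup.comap_inf, hL.disjoint.eq_bot, MonoidHom.comap_bot]
    exact (MonoidHom.ker_eq_bot_iff _).mpr e.injective
  · refine Set.eq_univ_of_forall fun g => ?_
    obtain ⟨⟨a, b⟩, hab⟩ := hL.2 (e g)
    exact ⟨e.symm a, by simp, e.symm b, by simp, e.injective (by simpa using hab)⟩

/-- transport of a centraliser along an isomorphism -/
noncomputable def centralizerMap {G' : Type*} [Group G'] (e : G ≃* G') (x : G) :
    Subgroup.centralizer ({x} : Set G) ≃* Subgroup.centralizer ({e x} : Set G') :=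
  (e.subgroupMap _).trans (MulEquiv.subgroupCongr (by
    ext y
    obtain ⟨y, rfl⟩ := e.surjective y
    refine (Subgroup.mem_map_iff_mem (f := e.toMonoidHom) e.injective).trans ?_
    rw [Subgroup.mem_centralizer_singleton_iff, Subgroup.mem_centralizer_singleton_iff,
      ← map_mul, ← map_mul, e.apply_eq_iff_eq]))

theorem dvd_card_of_pow [Finite G] {x : G} {p : ℕ} (hp : p.Prime) (h1 : x ^ p = 1) (h2 : x ≠ 1) :
    p ∣ Nat.card G := orderOf_eq_of_prime hp h1 h2 ▸ orderOf_dvd_natCard x

end

end Cfsg.Agent.Spor
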