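import Cfsg.Agent.Spor.PX
import Cfsg.Agent.Spor.PX0

set_option autoImplicit false

namespace Cfsg.Agent.Spor

open Equiv

theorem bor_iff (a b : Bool) : bor a b = true ↔ a = true ∨ b = true := by
  cases a <;> cases b <;> simp [bor]

theorem bnot_iff (a : Bool) : (Bool.rec true false a : Bool) = true ↔ ¬ a = true := by
  cases a <;> simp

theorem nodup_sound {l : List ℕ} (h : nodup l = true) : l.Nodup := by
  induction l with
  | nil => exact List.nodup_nil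
  | cons a l ih =>
    have h' : band (Bool.rec true false (memL l a)) (nodup l) = true := h
    rw [band_eq, Bool.and_eq_true, bnot_iff, memL_iff] at h'
    exact List.nodup_cons.mpr ⟨h'.1, ih h'.2⟩

theorem nth_mem {α : Type} (d : α) {l : List α} {i : ℕ} (h : i < l.length) : nth d l i ∈ l := by
  rw [nth_eq, List.getD_eq_getElem _ _ h]; exact List.getElem_mem _

theorem nth_cases {α : Type} (d : α) (l : List α) (i : ℕ) : nth d l i ∈ l ∨ nth d l i = d := by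
  by_cases h : i < l.length
  · exact Or.inl (nth_mem d h)
  · right; rw [nth_eq, List.getD_eq_default _ _ (not_lt.mp h)]

theorem PA.eq_of_ent {A : PA} (h : A.ok = true) {x y : ℕ} (hx : A.bd x = true) (hy : A.bd y = true)
    (e : ∀ i < A.d, ∀ j < A.d, A.ent x i j = A.ent y i j) : x = y := by
  obtain ⟨-, h2, h3, h4, -⟩ := PA.ok' h
  simp only [PA.bd, Nat.beq_eq, h4] at hx hy
  apply Nat.eq_of_testBit_eq
  intro t
  by_cases ht : t < A.w * A.d * A.d
  · have h5 : t / A.w / A.d < A.d := by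
      rwa [Nat.div_div_eq_div_mul, Nat.div_lt_iff_lt_mul (Nat.mul_pos h2 h3), mul_comm]
    have := congrArg (fun u => Nat.testBit u (t % A.w)) (e _ h5 _ (Nat.mod_lt (t / A.w) h3))
    simpa only [PA.ent_eq, tb_bf, Nat.div_add_mod, Nat.mod_lt t h2, decide_true, Bool.true_and]
      using this
  · obtain ⟨s, rfl⟩ := Nat.exists_eq_add_of_le (not_lt.mp ht)
    rw [← tb_shr, ← tb_shr]
    exact congrArg (fun u => Nat.testBit u s) (hx.trans hy.symm)

section
variable {G : Type*} [Group G]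

theorem exists_conj_mem {S T : Subgroup G} {p : ℕ} (hp : p.Prime) {y : G} (hy : y ∈ S)
    (h1 : y ^ p = 1) (h2 : ¬ p ∣ T.relIndex S) : ∃ s ∈ S, s⁻¹ * y * s ∈ T := by
  have := Fact.mk hp
  have h3 : IsPGroup p (Subgroup.zpowers (⟨y, hy⟩ : S)) := by
    rintro ⟨_, k, rfl⟩
    refine ⟨1, Subtype.ext (Subtype.ext ?_)⟩
    simp only [pow_one, SubgroupClass.coe_pow, SubgroupClass.coe_zpow, OneMemClass.coe_one]
    rw [← zpow_natCast, ← zpow_mul, mul_comm, zpow_mul, zpow_natCast, h1, one_zpow]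
  obtain ⟨⟨s⟩, hs⟩ := h3.nonempty_fixed_point_of_prime_not_dvd_card (S ⧸ T.subgroupOf S) h2
  have h4 := QuotientGroup.eq.mp (hs ⟨_, Subgroup.mem_zpowers _⟩).symm
  exact ⟨s, s.2, by rw [mul_assoc]; exact h4⟩

theorem not_dvd_relIndex {S T : Subgroup G} (hT : T ≤ S) {o t p : ℕ} (h1 : Nat.card S = o)
    (h2 : Nat.card T = t) (h3 : ¬ t * p ∣ o) : ¬ p ∣ T.relIndex S := fun h => h3 (by
  rw [← h1, ← h2, ← (T.subgroupOf S).card_mul_index,
    Nat.card_congr (Subgroup.subgroupOfEquivOfLe hT).toEquiv]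
  exact Nat.mul_dvd_mul_left _ h)

/-- one step in the computation of a centraliser -/
theorem CosetAct.cent {H K : Subgroup G} {φ : G →* Perm ℕ} {N : ℕ} (h : CosetAct H φ N) {z : G}
    (hz : z ∈ H) (hK : ∀ k ∈ K, k * z = z * k) (hH : ∀ c ∈ H, c * z = z * c → c ∈ K)
    (hf : ∀ p < N, φ z p = p → p ∈ orbS (K.map φ) 0 ∨
      ∃ g, p ∈ orbS (K.map φ) (φ g 0) ∧ ∀ x ∈ H, x * z * x⁻¹ ≠ g⁻¹ * z * g) :
    ∀ c, c * z = z * c → c ∈ K := by
  intro c hc
  have h1 : φ z (φ c 0) = φ c 0 := by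
    rw [← Perm.mul_apply, ← map_mul, ← hc, map_mul, Perm.mul_apply, (h.stab z).mpr hz]
  have h2 : ∀ k ∈ K, Commute (k⁻¹ * c) z := fun k hk =>
    Commute.mul_left (Commute.inv_left (hK k hk)) hc
  rcases hf _ ((h.orb _).mpr ⟨c, rfl⟩) h1 with ⟨_, ⟨k, hk, rfl⟩, e⟩ | ⟨g, ⟨_, ⟨k, hk, rfl⟩, e⟩, hg⟩
  · have h3 : k⁻¹ * c ∈ H := by
      rw [← h.stab, map_mul, Perm.mul_apply, ← e, map_inv]; simp
    simpa using K.mul_mem hk (hH _ h3 (h2 k hk))
  · have h3 : g⁻¹ * (k⁻¹ * c) ∈ H := by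
      rw [← h.stab, map_mul, map_mul, Perm.mul_apply, Perm.mul_apply, ← e, map_inv, map_inv]; simp
    refine absurd ?_ (hg _ h3)
    rw [mul_assoc g⁻¹, (h2 k hk).eq]
    group

theorem bad_of_norm {H : Subgroup G} {z y u : G}
    (hu : ∀ x ∈ H, ∀ a ∈ Subgroup.zpowers u, x * a * x⁻¹ ∈ Subgroup.zpowers u)
    (h1 : u * z = z * u) (h2 : u * y ≠ y * u) : ∀ x ∈ H, x * z * x⁻¹ ≠ y := by
  rintro x hx rfl
  obtain ⟨k, hk⟩ := hu _ (H.inv_mem hx) u (Subgroup.mem_zpowers u)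
  have h3 : Commute (u ^ k) z := Commute.zpow_left h1 k
  apply h2
  have h4 : u = x * u ^ k * x⁻¹ := by rw [show u ^ k = _ from hk]; group
  generalize u ^ k = v at h3 h4
  rw [h4]
  calc x * v * x⁻¹ * (x * z * x⁻¹) = x * (v * z) * x⁻¹ := by group
    _ = x * (z * v) * x⁻¹ := by rw [h3.eq]
    _ = _ := by group

end

section
variable {Γ G : Type*} [Group Γ] [Group G] {ι : Type} {ψ : Γ →* G} {x : ι → G} {S : ι → Subgroup Γ}
  [Fintype ι]

/-- centralisers from double cosets -/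
theorem DExact.cent {N : ℕ} (e : DExact ψ x S N) (c : DCov ψ x S) {z : Γ} {K : Subgroup G}
    (hK : ∀ k ∈ K, k * ψ z = ψ z * k) (hΓ : ∀ u, u * z = z * u → ψ u ∈ K)
    (h : ∀ j, ∀ y ∈ S j, IsConj z y → ∃ s ∈ S j, ∃ h, (∃ h', ψ h' * x j * ψ h ∈ K) ∧
      y = s * h * z * (s * h)⁻¹) : Subgroup.centralizer {ψ z} = K := by
  refine le_antisymm (fun g hg => ?_)
    fun k hk => Subgroup.mem_centralizer_singleton_iff.mpr (hK k hk)
  rw [Subgroup.mem_centralizer_singleton_iff] at hg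
  obtain ⟨j, b, u, rfl⟩ := c.cov g
  have h1 : u * z * u⁻¹ ∈ S j := (e.ex j j (b⁻¹ * z⁻¹ * b) _ (by
    simp only [map_mul, map_inv]
    calc x j = (ψ b)⁻¹ * (ψ z)⁻¹ * (ψ z * (ψ b * x j * ψ u)) * (ψ u)⁻¹ := by group
      _ = _ := by rw [← hg]; group)).2
  obtain ⟨s, hs, h, ⟨h', hk⟩, e1⟩ := h j _ h1 (isConj_iff.mpr ⟨u, rfl⟩)
  obtain ⟨b', hb⟩ := c.st j s⁻¹ (inv_mem hs)
  have h2 : ψ ((s * h)⁻¹ * u) ∈ K := hΓ _ (by
    calc (s * h)⁻¹ * u * z = (s * h)⁻¹ * (u * z * u⁻¹) * u := by group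
      _ = _ := by rw [e1]; group)
  have h3 := K.mul_mem hk h2
  have h4 : ψ b * x j * ψ u = ψ (b * b' * h'⁻¹) * (ψ h' * x j * ψ h * ψ ((s * h)⁻¹ * u)) := by
    conv_lhs => rw [hb]
    simp only [map_mul, map_inv]
    group
  rw [h4] at hg ⊢
  refine K.mul_mem (hΓ _ (e.inj ?_)) h3
  rw [map_mul ψ _ z, map_mul ψ z]
  generalize ψ h' * x j * ψ h * ψ ((s * h)⁻¹ * u) = k at h3 hg
  rw [mul_assoc, hK _ h3, ← mul_assoc, ← mul_assoc] at hg
  exact mul_right_cancel hg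

end

namespace MRep

variable {A : PA} {R : Type} [CommRing R] {Γ : Type} [Group Γ] {X : MRep A R Γ}

theorem M.eq_of_el [CharP R A.p] {x y : ℕ} (hx : X.M x) (hy : X.M y) (bx : A.bd x = true)
    (by' : A.bd y = true) (e : X.el x = X.el y) : x = y :=
  PA.eq_of_ent (PA.sq' X.sq).1 bx by' fun i hi j hj =>
    have e1 : A.dec R x = A.dec R y := by rw [← hx.ρ_el, e, hy.ρ_el]
    have e2 := congrFun (congrFun e1 ⟨i, hi⟩) ⟨j, hj⟩
    CharP.natCast_injOn_Iio R A.p (hx.1 i hi j hj) (hy.1 i hi j hj) e2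

theorem M.neq [CharP R A.p] {x y : ℕ} (hx : X.M x) (hy : X.M y) (h : A.neq x y = true) :
    X.el x ≠ X.el y := fun e => by
  simp only [PA.neq, band_eq, Bool.and_eq_true, bnot_iff, Nat.beq_eq] at h
  exact h.2.2 (hx.eq_of_el hy h.1 h.2.1 e)

theorem Gens.neq [CharP R A.p] {TT : List ℕ} {a : ℕ → Γ} (h : X.Gens TT a) {w u : List ℕ}
    (hc : A.neq (A.evw TT w A.one) (A.evw TT u A.one) = true) : ev a w ≠ ev a u := by
  rw [← (h.ev1 w).2, ← (h.ev1 u).2]
  exact (h.ev1 w).1.neq (h.ev1 u).1 hc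

theorem Gens.ne_one [CharP R A.p] {TT : List ℕ} {a : ℕ → Γ} (h : X.Gens TT a) {w : List ℕ}
    (hc : A.neq (A.evw TT w A.one) A.one = true) : ev a w ≠ 1 := h.neq (u := []) hc

theorem M.pw {x : ℕ} (hx : X.M x) (e : ℕ) : X.M (A.pw x e) ∧ X.el (A.pw x e) = X.el x ^ e := by
  induction e with
  | zero => exact ⟨X.M_one, X.el_one.trans (pow_zero _).symm⟩
  | succ e ih => exact ⟨ih.1.mul hx, (ih.1.el_mul hx).trans (by rw [ih.2, pow_succ])⟩

theorem M.trace {x : ℕ} (hx : X.M x) : (X.ρ (X.el x)).trace = (A.tr x : R) := by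
  have e : ∀ n, (Nat.rec 0 (fun i ih => Nat.add (A.ent x i i) ih) n : ℕ) =
      ∑ i ∈ Finset.range n, A.ent x i i := fun n => by
    induction n with
    | zero => rfl
    | succ n ih => rw [Finset.sum_range_succ, ← ih]; exact add_comm _ _
  rw [hx.ρ_el, PA.tr, e, ← Fin.sum_univ_eq_sum_range (fun i => A.ent x i i)]
  refine Eq.trans ?_ (PA.cast_mod X.hp _).symm
  simp [Matrix.trace, PA.dec]

theorem M.bad [CharP R A.p] {z x e : ℕ} (hz : X.M z) (hx : X.M x) (he : X.el z ^ e = 1)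
    (h : A.bad z e x = true) : ¬ IsConj (X.el z) (X.el x) := fun hc => by
  obtain ⟨c, hc⟩ := isConj_iff.mp hc
  rcases (bor_iff _ _).mp h with h | h
  · rw [bnot_iff, Nat.beq_eq] at h
    have h0 : 0 < A.p := by have := (PA.ok' (PA.sq' X.sq).1).1; omega
    refine h (CharP.natCast_injOn_Iio R A.p (Nat.mod_lt _ h0) (Nat.mod_lt _ h0) ?_)
    show (A.tr x : R) = (A.tr z : R)
    rw [← hx.trace, ← hz.trace, ← hc, map_mul, map_mul, Matrix.trace_mul_cycle, ← map_mul,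
      inv_mul_cancel, map_one, one_mul]
  · refine (hx.pw e).1.neq X.M_one h ?_
    rw [(hx.pw e).2, el_one, ← hc, conj_pow, he, mul_one, mul_inv_cancel]

theorem evs_eq (TT : List ℕ) (W : List (List ℕ)) :
    A.evs TT W = W.map fun w => A.evw TT w A.one := by
  induction W with
  | nil => rfl
  | cons w W ih => exact congrArg (List.cons _) ih

variable (X) in
/-- a list of all elements of a subgroup -/
structure Enum (T : Subgroup Γ) (TL : List ℕ) : Prop where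
  mem : ∀ x ∈ TL, X.M x ∧ X.el x ∈ T
  cov : ∀ y ∈ T, ∃ x ∈ TL, X.el x = y

theorem tree_sound {T : Subgroup Γ} {TL GS : List ℕ} (hG : ∀ g ∈ GS, X.M g ∧ X.el g ∈ T)
    (l : List ℕ) {P I : List ℕ} (e : TL = P ++ l) (hP : ∀ x ∈ P, X.M x ∧ X.el x ∈ T)
    (h : A.tree TL GS l I P.length = true) : ∀ x ∈ TL, X.M x ∧ X.el x ∈ T := by
  induction l generalizing P I with
  | nil => rwa [e, List.append_nil]
  | cons x l ih =>
    obtain ⟨a, I', rfl, h1⟩ := onCons_iff (l := I) h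
    obtain ⟨g, I'', rfl, h2⟩ := onCons_iff h1
    have h2 : band (Nat.blt a P.length) (band (Nat.blt g (llen GS))
      (band (Nat.beq x (A.mul (nth A.one TL a) (nth A.one GS g)))
        (A.tree TL GS l I'' (P.length + 1)))) = true := h2
    simp only [band_eq, Bool.and_eq_true, Nat.blt_eq, Nat.beq_eq, llen_eq] at h2
    obtain ⟨c1, c2, c3, c4⟩ := h2
    have h3 : nth A.one TL a ∈ P := by
      rw [e, nth_eq, List.getD_append _ _ _ _ c1, ← nth_eq]; exact nth_mem _ c1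
    have h4 := hG _ (nth_mem A.one c2)
    refine ih (P := P ++ [x]) (I := I'') (by rw [e]; simp) (fun y hy => ?_) (by simpa using c4)
    rcases List.mem_append.mp hy with hy | hy
    · exact hP y hy
    · rw [List.mem_singleton.mp hy, c3]
      exact ⟨(hP _ h3).1.mul h4.1, by
        rw [(hP _ h3).1.el_mul h4.1]; exact T.mul_mem (hP _ h3).2 h4.2⟩

theorem Gens.evs_mem {TT : List ℕ} {n : ℕ} {g : ℕ → Γ} (h : X.Gens TT (atm n g))
    (W : List (List ℕ)) : ∀ x ∈ A.evs TT W, X.M x ∧ X.el x ∈ wsub n g W := fun x hx => by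
  obtain ⟨w, hw, rfl⟩ := List.mem_map.mp (evs_eq TT W ▸ hx)
  exact ⟨(h.ev1 w).1, (h.ev1 w).2 ▸ mem_wsub g hw⟩

theorem Gens.sub {TT : List ℕ} {n : ℕ} {g : ℕ → Γ} (h : X.Gens TT (atm n g)) {W : List (List ℕ)}
    {TL GS I : List ℕ} (h1 : leq GS (A.evs TT W) = true) (h2 : A.enum TL GS I = true) :
    ∀ x ∈ TL, X.M x ∧ X.el x ∈ wsub n g W := by
  obtain ⟨x, T, rfl, h3⟩ := onCons_iff h2
  rw [band_eq, Bool.and_eq_true, Nat.beq_eq] at h3
  exact tree_sound (leq_iff h1 ▸ h.evs_mem W) T (P := [x]) rfl (fun y hy => by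
    rw [List.mem_singleton.mp hy, h3.1, el_one]; exact ⟨X.M_one, one_mem _⟩) h3.2

theorem Gens.cov [Finite Γ] {TT : List ℕ} {n : ℕ} {g : ℕ → Γ} (h : X.Gens TT (atm n g))
    {W : List (List ℕ)} {TL GS : List ℕ} (h1 : leq GS (A.evs TT W) = true)
    (h2 : A.closed TL GS = true) : ∀ y ∈ wsub n g W, ∃ x ∈ TL, X.M x ∧ X.el x = y := by
  simp only [PA.closed, band_eq, Bool.and_eq_true, lall_iff, memL_iff] at h2
  intro y hy
  rw [wsub_eq_closure, ← Subgroup.mem_toSubmonoid, Subgroup.closure_toSubmonoid_of_finite] at hy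
  induction hy using Submonoid.closure_induction_right with
  | one => exact ⟨_, h2.1, X.M_one, X.el_one⟩
  | mul_right y _ u hu ih =>
    obtain ⟨x, hx, m, rfl⟩ := ih
    obtain ⟨w, hw, rfl⟩ := hu
    refine ⟨_, h2.2 x hx (A.evw TT w A.one) ?_, m.mul (h.ev1 w).1, ?_⟩
    · rw [leq_iff h1, evs_eq]; exact List.mem_map_of_mem hw
    · rw [m.el_mul (h.ev1 w).1, (h.ev1 w).2]

theorem Gens.enum [Finite Γ] {TT : List ℕ} {n : ℕ} {g : ℕ → Γ} (h : X.Gens TT (atm n g))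
    {W : List (List ℕ)} {TL GS I : List ℕ} (h1 : leq GS (A.evs TT W) = true)
    (h2 : A.enum TL GS I = true) (h3 : A.closed TL GS = true) : X.Enum (wsub n g W) TL :=
  ⟨h.sub h1 h2, fun y hy => by
    obtain ⟨x, hx, -, e⟩ := h.cov h1 h3 y hy
    exact ⟨x, hx, e⟩⟩

theorem Enum.card [CharP R A.p] {T : Subgroup Γ} {TL : List ℕ} (h : X.Enum T TL) {t : ℕ}
    (hc : band (nodup TL) (band (lall A.bd TL) (Nat.beq (llen TL) t)) = true) : Nat.card T = t := by
  simp only [band_eq, Bool.and_eq_true, lall_iff, Nat.beq_eq, llen_eq] at hc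
  rw [← hc.2.2, ← List.toFinset_card_of_nodup (nodup_sound hc.1), ← Nat.card_eq_finsetCard]
  symm
  refine Nat.card_eq_of_bijective (fun x : TL.toFinset =>
    (⟨X.el x, (h.mem x (List.mem_toFinset.mp x.2)).2⟩ : T)) ⟨fun x y e => ?_, fun y => ?_⟩
  · have hx := List.mem_toFinset.mp x.2
    have hy := List.mem_toFinset.mp y.2
    exact Subtype.ext ((h.mem _ hx).1.eq_of_el (h.mem _ hy).1 (hc.2.1 _ hx) (hc.2.1 _ hy)
      (congrArg Subtype.val e))
  · obtain ⟨x, hx, e⟩ := h.cov y y.2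
    exact ⟨⟨x, List.mem_toFinset.mpr hx⟩, Subtype.ext e⟩

theorem cls_sound [CharP R A.p] {T : Subgroup Γ} {TL HL : List ℕ}
    (hT : ∀ x ∈ TL, X.M x ∧ X.el x ∈ T) (hH : ∀ h ∈ HL, X.M h) {z e : ℕ} (hz : X.M z)
    (he : X.el z ^ e = 1) (l : List ℕ) (hl : ∀ x ∈ l, X.M x) {I : List ℕ}
    (h : A.cls z e TL HL l I = true) : ∀ x ∈ l, IsConj (X.el z) (X.el x) →
      ∃ m ∈ T, ∃ h ∈ HL, X.el x = m * X.el h * X.el z * (m * X.el h)⁻¹ := by
  induction l generalizing I with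
  | nil => simp
  | cons x l ih =>
    have h' : (Bool.rec (onCons I fun m I' => onCons I' fun h I'' => band (Nat.blt h (llen HL)) (band
      (Nat.beq (A.mul x (A.mul (nth A.one TL m) (nth A.one HL h)))
        (A.mul (A.mul (nth A.one TL m) (nth A.one HL h)) z)) (A.cls z e TL HL l I'')))
      (A.cls z e TL HL l I) (A.bad z e x) : Bool) = true := h
    have m1 := hl x List.mem_cons_self
    have hl' := fun y hy => hl y (List.mem_cons_of_mem _ hy)
    rw [brec_eq] at h'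
    intro y hy hc
    split_ifs at h' with hb
    · rcases List.mem_cons.mp hy with rfl | hy
      · exact absurd hc (hz.bad m1 he hb)
      · exact ih hl' h' y hy hc
    · obtain ⟨m, I', rfl, h1⟩ := onCons_iff h'
      obtain ⟨k, I'', rfl, h2⟩ := onCons_iff h1
      simp only [band_eq, Bool.and_eq_true, Nat.blt_eq, Nat.beq_eq, llen_eq] at h2
      rcases List.mem_cons.mp hy with rfl | hy
      · have m2 : X.M (nth A.one TL m) ∧ X.el (nth A.one TL m) ∈ T :=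
          (nth_cases A.one TL m).elim (hT _) fun e => by
            rw [e, el_one]; exact ⟨X.M_one, one_mem _⟩
        have h3 := nth_mem A.one h2.1
        have m3 := hH _ h3
        refine ⟨_, m2.2, _, h3, eq_mul_inv_of_mul_eq ?_⟩
        rw [← m2.1.el_mul m3, ← m1.el_mul (m2.1.mul m3), h2.2.1, (m2.1.mul m3).el_mul hz]
      · exact ih hl' h2.2.2 y hy hc

/-- the conjugates of `z` in a subgroup, up to conjugation -/
theorem Gens.classes [CharP R A.p] {TT : List ℕ} {n : ℕ} {g : ℕ → Γ} (hg : X.Gens TT (atm n g))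
    {S T : Subgroup Γ} (hTS : T ≤ S) {TL : List ℕ} (hT : X.Enum T TL) {p : ℕ} (hp : p.Prime)
    (hi : ¬ p ∣ T.relIndex S) {zw : List ℕ} {HW : List (List ℕ)} {z : ℕ} {HL I : List ℕ}
    (h : band (A.isW TT zw z) (band (Nat.beq (A.pw z p) A.one) (band (leq HL (A.evs TT HW))
      (A.cls z p TL HL TL I))) = true) {P : Γ → Prop} (hP : AllP (fun w => P (ev (atm n g) w)) HW) :
    ∀ y ∈ S, IsConj (ev (atm n g) zw) y → ∃ s ∈ S, ∃ h, P h ∧
      y = s * h * ev (atm n g) zw * (s * h)⁻¹ := by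
  simp only [band_eq, Bool.and_eq_true, Nat.beq_eq] at h
  obtain ⟨h1, h2, h3, h4⟩ := h
  obtain ⟨m1, e1⟩ := hg.isW h1
  have he : X.el z ^ p = 1 := by rw [← (m1.pw p).2, h2, el_one]
  rw [← e1]
  intro y hy hc
  obtain ⟨s, hs, h5⟩ := exists_conj_mem hp hy (by
    obtain ⟨c, rfl⟩ := isConj_iff.mp hc
    rw [conj_pow, he, mul_one, mul_inv_cancel]) hi
  obtain ⟨x, hx, e2⟩ := hT.cov _ h5
  obtain ⟨m, hm, k, hk, e3⟩ := cls_sound hT.mem (leq_iff h3 ▸ fun u hu => (hg.evs_mem HW u hu).1) m1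
    he TL (fun u hu => (hT.mem u hu).1) h4 x hx
    (e2 ▸ hc.trans (isConj_iff.mpr ⟨s⁻¹, by rw [inv_inv]⟩))
  obtain ⟨w, hw, rfl⟩ := List.mem_map.mp (evs_eq TT HW ▸ leq_iff h3 ▸ hk)
  refine ⟨s * m, S.mul_mem hs (hTS hm), _, hP.forall w hw, ?_⟩
  rw [(hg.ev1 w).2, e2] at e3
  calc y = s * (s⁻¹ * y * s) * s⁻¹ := by group
    _ = _ := by rw [e3]; group

theorem cen_sound [CharP R A.p] {L C : Subgroup Γ} {TL CL : List ℕ}
    (hL : ∀ y ∈ L, ∃ x ∈ TL, X.M x ∧ X.el x = y) (hC : ∀ x ∈ CL, X.M x ∧ X.el x ∈ C) {z : ℕ}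
    (hz : X.M z) (h : A.cen z TL CL = true) : ∀ c ∈ L, c * X.el z = X.el z * c → c ∈ C := by
  intro c hc e
  obtain ⟨x, hx, m, rfl⟩ := hL c hc
  rcases (bor_iff _ _).mp ((lall_iff _ _).mp h x hx) with h1 | h1
  · exact absurd (by rw [m.el_mul hz, hz.el_mul m, e]) ((m.mul hz).neq (hz.mul m) h1)
  · exact (hC x ((memL_iff _ _).mp h1)).2

end MRep

theorem DCtx.At.symW {D : DE} {R : Type} [CommRing R] {Γ : Type} [Group Γ] {G : Type} [Group G]
    {Y : DCtx D R Γ G} {T : ℕ} {g : ℕ → Γ} {a : ℕ → G} (hA : Y.At T g a) (l : List (List ℕ)) {j : ℕ}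
    (h : D.symW T l j = true) : Y.sym j = Spor.ev a (symWord T l) := by
  induction l generalizing j with
  | nil => rw [Nat.beq_eq.mp h]; exact Y.sym_zero
  | cons w l ih =>
    obtain ⟨i, j', x, b, c, e, h1⟩ := Fc.onE_iff h
    have h1 : band (Nat.blt i j) (band (Nat.beq x (D.ev w))
      (band (lall (fun y => Nat.blt y T) w) (D.symW T l i))) = true := h1
    simp only [band_eq, Bool.and_eq_true, Nat.blt_eq, Nat.beq_eq, lall_iff] at h1
    obtain ⟨c1, rfl, c3, c4⟩ := h1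
    rw [DCtx.sym_def e rfl c1, ih c4, ← hA.ev c3, ← hA.t]
    show _ = Spor.ev a (lapp _ (lapp w [T]))
    rw [ev_lapp, ev_lapp, ev_cons, ev_nil, mul_one, mul_assoc]; rfl

theorem Tab.Ok.fixIn {T : Tab} {K N M : ℕ} (h : T.Ok K) {w : List ℕ} (hc : T.fixIn K N w M = true) :
    ∀ p < N, evA T.τ w p = p → M.testBit p = true := by
  intro p hp e
  have h1 := (sub_iff _ _).mp hc p (by rw [tb_ones]; exact decide_eq_true hp)
  rw [tb_lor, Bool.or_eq_true] at h1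
  refine h1.resolve_right fun h2 => ?_
  obtain ⟨_, hM, h3⟩ := tb_lor_list _ _ h2
  obtain ⟨q, -, rfl⟩ := List.mem_map.mp (lmap_eq _ _ ▸ hM)
  have h4 := h.tb_pushL w q p
  rw [e] at h4
  rw [tb_xor, h4, Bool.xor_self] at h3
  exact Bool.false_ne_true h3

end Cfsg.Agent.Spor
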