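import Cfsg.Agent.Spor.LyK.Main
import Cfsg.Agent.Spor.LyN1.Main

set_option autoImplicit false
set_option maxRecDepth 100000

namespace Cfsg.Agent.Spor.LyS

section
variable {G : Type} [Group G] {g : ℕ → G} (hg : Pres 5 0 LyG.RL g) (ht : gsub 5 g = ⊤)
  (hl : 5859000000 * 8835156 ∣ Nat.card G)
include hg ht hl

theorem exact : DExact (LyR.Y hg).ψ ((LyR.Y hg).xs LyD.V.CL) (DCtx.Ss 4 Ly3906.p LyD.V.CL) 8835156 :=
  (LyR.done hg).exact (LyR.gtop hg ht) hl

theorem card : Nat.card G = 51765179004000000 := by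
  rw [(exact hg ht hl).card, Ly3906.cardP]

theorem coatom : IsCoatom (LyR.Y hg).ψ.range :=
  (LyR.done hg).coatom (LyR.gtop hg ht) (by rw [(exact hg ht hl).index]; norm_num)
    (LyD.V.loops (LyR.upto hg))

theorem core : (LyR.Y hg).ψ.range.normalCore = ⊥ :=
  haveI := Ly3906.simpleP
  (exact hg ht hl).core (i := ⟨1, by decide⟩) (core_eq_bot_of_simple (by
    rw [(LyR.done hg).card_S (exact hg ht hl)]; decide +kernel))

theorem equiv : Nonempty (Ly3906.P ≃* (LyR.Y hg).ψ.range) :=
  ⟨MonoidHom.ofInjective (exact hg ht hl).inj⟩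

end

theorem cardH : Nat.card LyM.H = 51765179004000000 := card LyM.pres LyM.top LyK.lb

theorem simpleH : IsSimpleGroup LyM.H := by
  obtain ⟨e⟩ := equiv LyM.pres LyM.top LyK.lb
  exact simple_of_coatom (coatom LyM.pres LyM.top LyK.lb) (core LyM.pres LyM.top LyK.lb)
    (LyK.ord37 ▸ pow_orderOf_eq_one (ev (atm 5 LyM.h) [8, 6, 0, 4]))
    (by rw [← Nat.card_congr e.toEquiv, Ly3906.cardP]; norm_num)
    fun N _ h => LyN1.cert.bound_nil.eq_top LyM.pres LyM.top N (AW := [[8, 6, 0, 4]])
      (fun w hw => List.mem_singleton.mp hw ▸ h) (H := [([], 0, true), ([], 1, true), ([], 2, true), ([], 3, true), ([], 4, true), ([], 5, true), ([], 6, true), ([], 7, true), ([], 8, true), ([], 9, true), ([], 10, true), ([], 11, true), ([], 12, true), ([], 13, true), ([], 14, true), ([], 15, true), ([], 16, true), ([], 17, true), ([], 18, true), ([], 19, true), ([], 20, true), ([], 21, true), ([], 22, true), ([], 23, true), ([], 24, true), ([], 25, true), ([], 26, true), ([], 27, true), ([], 28, true), ([], 29,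 true), ([], 30, true), ([], 31, true), ([], 32, true), ([], 33, true), ([], 34, true), ([], 35, true), ([], 36, true), ([], 37, true), ([], 38, true), ([], 39, true), ([], 40, true), ([], 41, true), ([], 42, true), ([], 43, true), ([], 44, true), ([], 45, true), ([], 46, true), ([], 47, true), ([], 48, true), ([], 49, true), ([], 50, true), ([], 51, true), ([], 52, true)]) (by decide +kernel)

open Cfsg.Spor Cfsg.Spor.Ly

theorem homH : ∃ σ : Ly →* LyM.H, Function.Surjective σ := by
  obtain ⟨σ, h⟩ := LyG.hom LyM.pres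
  exact ⟨σ, MonoidHom.range_eq_top.mp ((range_eq_gsub h LyG.top).trans LyM.top)⟩

theorem lb : 5859000000 * 8835156 ∣ Nat.card Ly := by
  obtain ⟨σ, h⟩ := homH
  exact LyK.lb.trans (Subgroup.card_dvd_of_surjective σ h)

theorem isLy : IsSimpleGroup Ly ∧ Nat.card Ly = 51765179004000000 := by
  obtain ⟨σ, h⟩ := homH
  exact simple_of_surj h (card LyG.pres LyG.top lb) (by norm_num) simpleH cardH

theorem Heq : (Subgroup.closure ({a, b, c, d} : Set (FreeGroup Gen))).map
    (PresentedGroup.mk LyG.rels) = (LyR.Y LyG.pres).ψ.range := by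
  rw [LyR.range, LyG.coded.map_closure (ws := [a, b, c, d]) (BW := [[0], [2], [4], [6]]) (by simp)
    (by decide +kernel) (by decide +kernel)]
  refine gsub_congr fun j (hj : j < 4) => ?_
  have e : [[0], [2], [4], [6]].getD j [] = [2 * j] := by interval_cases j <;> rfl
  rw [wv, e, ev_cons, ev_nil, mul_one, atm_two_mul _ (hj.trans (by decide))]; rfl

end Cfsg.Agent.Spor.LyS
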