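import Cfsg.Agent.Spor.Sub

set_option autoImplicit false

namespace Cfsg.Agent.Spor

theorem simple_card_congr {G G' : Type*} [Group G] [Group G'] (e : G ≃* G') {M : ℕ}
    (h : IsSimpleGroup G ∧ Nat.card G = M) : IsSimpleGroup G' ∧ Nat.card G' = M :=
  haveI := h.1
  ⟨e.symm.isSimpleGroup, (Nat.card_congr e.toEquiv).symm.trans h.2⟩

end Cfsg.Agent.Spor
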