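import Cfsg.Agent.Spor.MatW
import Cfsg.Agent.Spor.Sub2

set_option autoImplicit false

namespace Cfsg.Agent.Spor

open Matrix
open scoped commutatorElement

/-- a central extension of a simple group given by a presentation -/
theorem exists_quot {n k M : ℕ} {RL : List (List ℕ)} (b : Bound n k RL M) (hM : M ≠ 0)
    {G Δ : Type} [Group G] [Group Δ] {f : ℕ → G} {g : ℕ → Δ} (ht : gsub n f = ⊤) {Z : Subgroup G}
    [Z.Normal] (hZ : Z ≤ Subgroup.center G) (hq : Pres n k RL fun j => QuotientGroup.mk' Z (f j))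
    (hg : Pres n k RL g) (hc : M ∣ Nat.card (gsub n g)) (hs : IsSimpleGroup (gsub n g))
    {x y : ℕ} (hi : x % 2 = 0 ∧ y % 2 = 0) (hw : ev (atm n f) [x, y, x + 1, y + 1] ≠ 1) :
    Subgroup.center G = Z ∧ ∃ ψ : G →* gsub n g, Function.Surjective ψ ∧ ψ.ker = Z ∧
      ∀ j < n, ψ (f j) = lift (gsub n g) g j := by
  rw [Ctx.ev_comm x y hi, Ne, commutatorElement_eq_one_iff_mul_comm] at hw
  obtain ⟨e, he⟩ := iso_of_simple b hM hg hq hc hs (w := [x]) (fun h => hw (by
    rw [← ev_atm_map, QuotientGroup.mk'_apply, QuotientGroup.eq_one_iff, ev_cons, ev_nil,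
      mul_one] at h
    exact (Subgroup.mem_center_iff.mp (hZ h) _).symm))
  have h1 : (gsub n fun j => QuotientGroup.mk' Z (f j)) = ⊤ := by
    rw [← gsub_map, ht, ← MonoidHom.range_eq_map,
      MonoidHom.range_eq_top.mpr (QuotientGroup.mk'_surjective Z)]
  let e' : (G ⧸ Z) ≃* gsub n g := (e.trans ((MulEquiv.subgroupCongr h1).trans Subgroup.topEquiv)).symm
  let ψ : G →* gsub n g := e'.toMonoidHom.comp (QuotientGroup.mk' Z)
  have hs' : Function.Surjective ψ := e'.surjective.comp (QuotientGroup.mk'_surjective Z)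
  have hk : ψ.ker = Z := by
    ext u
    rw [MonoidHom.mem_ker, ← QuotientGroup.eq_one_iff]
    exact e'.map_eq_one_iff
  refine ⟨le_antisymm ?_ hZ, ψ, hs', hk, fun j hj => ?_⟩
  · rcases (Subgroup.Normal.map inferInstance ψ hs' :
      ((Subgroup.center G).map ψ).Normal).eq_bot_or_eq_top with h | h
    · rw [← hk]
      exact (Subgroup.map_eq_bot_iff _).mp h
    · exfalso
      have h2 := congrArg (Subgroup.comap ψ) h
      rw [Subgroup.comap_map_eq, hk, sup_eq_left.mpr hZ, Subgroup.comap_top] at h2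
      exact hw (Subgroup.mem_center_iff.mp (h2 ▸ Subgroup.mem_top _) _)
  · show e' _ = _
    rw [MulEquiv.symm_apply_eq]
    show _ = ((e _ : gsub n fun j => QuotientGroup.mk' Z (f j)) : G ⧸ Z)
    rw [he j hj]
    exact (lift_gsub (fun j => QuotientGroup.mk' Z (f j)) j hj).symm

theorem quot_center_equiv {G Δ : Type*} [Group G] [Group Δ] {ψ : G →* Δ}
    (hs : Function.Surjective ψ) (hk : Subgroup.center G = ψ.ker) :
    Nonempty (Δ ≃* G ⧸ Subgroup.center G) :=
  ⟨((QuotientGroup.quotientMulEquivOfEq hk).trans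
    (QuotientGroup.quotientKerEquivOfSurjective ψ hs)).symm⟩

theorem card_of_quot {G Δ : Type*} [Group G] [Group Δ] {ψ : G →* Δ}
    (hs : Function.Surjective ψ) : Nat.card G = Nat.card ψ.ker * Nat.card Δ := by
  rw [← ψ.ker.card_mul_index, Subgroup.index_ker, MonoidHom.range_eq_top.mpr hs, Subgroup.card_top]

/-- the preimage of a maximal subgroup -/
theorem eq_comap_of_coatom {G Δ : Type*} [Group G] [Group Δ] {ψ : G →* Δ}
    (hs : Function.Surjective ψ) {n : ℕ} {f : ℕ → G} {g : ℕ → Δ} (hf : ∀ j < n, ψ (f j) = g j)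
    {BW : List (List ℕ)} (hH : IsCoatom (wsub n g BW)) {S : Subgroup G} (hk : ψ.ker ≤ S)
    (h1 : wsub n f BW ≤ S) (h2 : S ≠ ⊤) : S = (wsub n g BW).comap ψ := by
  have h3 : wsub n g BW ≤ S.map ψ := wsub_map hf BW ▸ Subgroup.map_mono h1
  have h4 : (S.map ψ).comap ψ = S := by rw [Subgroup.comap_map_eq, sup_eq_left.mpr hk]
  rcases h3.eq_or_lt with h | h
  · rw [h, h4]
  · exact absurd (by rw [← h4, hH.2 _ h, Subgroup.comap_top]) h2

theorem ncard_range_eq_index {G Y : Type*} [Group G] (Φ : G → Y) {H : Subgroup G}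
    (h : ∀ x y, Φ x = Φ y ↔ x⁻¹ * y ∈ H) : (Set.range Φ).ncard = H.index := by
  let Ψ : G ⧸ H → Y := Quotient.lift Φ fun x y hxy => (h x y).mpr (QuotientGroup.leftRel_apply.mp hxy)
  have h1 : Function.Injective Ψ := by
    rintro ⟨x⟩ ⟨y⟩ e
    exact QuotientGroup.eq.mpr ((h x y).mp e)
  have h2 : Set.range Φ = Set.range Ψ := by
    ext z
    exact ⟨fun ⟨x, e⟩ => ⟨(x : G ⧸ H), e⟩, by rintro ⟨⟨x⟩, e⟩; exact ⟨x, e⟩⟩
  rw [h2, ← Nat.card_coe_set_eq, Nat.card_range_of_injective h1]; rfl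

section
variable {F : Type*} [Field F] {ι : Type*} [Fintype ι] [DecidableEq ι] {G : Type*} [Group G]

/-- the stabiliser of the line through a vector -/
def lineSt (ρ : G →* Matrix ι ι F) (v : ι → F) : Subgroup G where
  carrier := {g | ∃ c : F, c ≠ 0 ∧ ρ g *ᵥ v = c • v}
  one_mem' := ⟨1, one_ne_zero, by simp⟩
  mul_mem' := by
    rintro x y ⟨c, hc, e⟩ ⟨d, hd, e'⟩
    exact ⟨d * c, mul_ne_zero hd hc, by rw [map_mul, ← mulVec_mulVec, e', mulVec_smul, e, smul_smul]⟩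
  inv_mem' := by
    rintro x ⟨c, hc, e⟩
    refine ⟨c⁻¹, inv_ne_zero hc, ?_⟩
    have : ρ x⁻¹ *ᵥ (ρ x *ᵥ v) = v := by rw [mulVec_mulVec, ← map_mul, inv_mul_cancel, map_one, one_mulVec]
    rw [e, mulVec_smul] at this
    rw [eq_inv_smul_iff₀ hc, this]

/-- the elements acting as scalars -/
def scal (ρ : G →* Matrix ι ι F) : Subgroup G where
  carrier := {g | ∃ c : F, c ≠ 0 ∧ ρ g = c • 1}
  one_mem' := ⟨1, one_ne_zero, by simp⟩
  mul_mem' := by
    rintro x y ⟨c, hc, e⟩ ⟨d, hd, e'⟩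
    exact ⟨d * c, mul_ne_zero hd hc, by simp [e, e', smul_smul]⟩
  inv_mem' := by
    rintro x ⟨c, hc, e⟩
    refine ⟨c⁻¹, inv_ne_zero hc, ?_⟩
    have : ρ x⁻¹ * ρ x = 1 := by rw [← map_mul, inv_mul_cancel, map_one]
    rw [e, mul_smul_comm, mul_one] at this
    rw [eq_inv_smul_iff₀ hc, this]

variable {ρ : G →* Matrix ι ι F}

theorem mem_scal [Nonempty ι] {g : G} {c : F} (h : ρ g = c • 1) : g ∈ scal ρ :=
  ⟨c, fun e => by
    have : ρ g⁻¹ * ρ g = 1 := by rw [← map_mul, inv_mul_cancel, map_one]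
    rw [h, e, zero_smul, mul_zero] at this
    exact zero_ne_one this, h⟩

theorem scal_le_center (hρ : Function.Injective ρ) : scal ρ ≤ Subgroup.center G :=
  fun _ ⟨_, _, e⟩ => Ctx.mem_center_of_smul hρ e

theorem scal_normal (hρ : Function.Injective ρ) : (scal ρ).Normal :=
  ⟨fun x hx g => by
    rwa [Subgroup.mem_center_iff.mp (scal_le_center hρ hx) g, mul_inv_cancel_right]⟩

theorem scal_le_lineSt (v : ι → F) : scal ρ ≤ lineSt ρ v :=
  fun _ ⟨c, hc, e⟩ => ⟨c, hc, by rw [e, smul_mulVec, one_mulVec]⟩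

theorem card_scal_dvd [Nonempty ι] (hρ : Function.Injective ρ) : Nat.card (scal ρ) ∣ Nat.card Fˣ := by
  obtain ⟨i⟩ := ‹Nonempty ι›
  have h0 : ∀ x : scal ρ, ρ x = ρ x i i • (1 : Matrix ι ι F) := by
    rintro ⟨x, c, -, e⟩
    simp [e]
  let χ : scal ρ →* F :=
    { toFun := fun x => ρ x i i
      map_one' := by simp
      map_mul' := fun x y => by
        rw [Subgroup.coe_mul, map_mul, h0 x, h0 y]
        simp [mul_comm] }
  refine Subgroup.card_dvd_of_injective χ.toHomUnits fun x y e => Subtype.ext (hρ ?_)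
  have : ρ x i i = ρ y i i := congrArg Units.val e
  rw [h0 x, h0 y, this]

theorem card_eq_of_prime {A : Subgroup G} {p : ℕ} (hp : p.Prime) (h : Nat.card A ∣ p) {x : G}
    (hx : x ∈ A) (h1 : x ≠ 1) : Nat.card A = p :=
  ((Nat.dvd_prime hp).mp h).resolve_left fun e =>
    h1 (Subgroup.mem_bot.mp (Subgroup.card_eq_one.mp e ▸ hx))

theorem span_eq_iff_lineSt {v : ι → F} (x y : G) :
    (F ∙ (ρ x *ᵥ v)) = (F ∙ (ρ y *ᵥ v)) ↔ x⁻¹ * y ∈ lineSt ρ v := by
  have h0 : ∀ (x : G) (u : ι → F), ρ x⁻¹ *ᵥ (ρ x *ᵥ u) = u := fun x u => by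
    rw [mulVec_mulVec, ← map_mul, inv_mul_cancel, map_one, one_mulVec]
  rw [Submodule.span_singleton_eq_span_singleton]
  constructor
  · rintro ⟨c, e⟩
    exact ⟨c, c.ne_zero, by
      rw [map_mul, ← mulVec_mulVec, ← e, Units.smul_def, mulVec_smul, h0]⟩
  · rintro ⟨c, hc, e⟩
    refine ⟨Units.mk0 c hc, ?_⟩
    have := h0 x⁻¹ (ρ y *ᵥ v)
    rw [inv_inv, mulVec_mulVec v, ← map_mul, e, mulVec_smul] at this
    exact this

end

/-- multiplication by a power of `ω` -/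
noncomputable def Ar.omP (A : Ar) (v : ℕ) (e : ℕ) : ℕ := Nat.rec v (fun _ ih => A.app A.omT ih) e

/-- the words fix the line through `v` -/
noncomputable def Ar.lineOk (A : Ar) (TT : List (List ℕ)) (v : ℕ) (BW : List (List ℕ))
    (E : List ℕ) : Bool :=
  allN (fun j => Nat.beq (A.nrm (A.appW TT (nth [] BW j) v)) (A.nrm (A.omP v (nth 0 E j)))) BW.length

namespace Ctx

variable {A : Ar} {F : Type*} [Field F] {ι : Type*} [Fintype ι] [DecidableEq ι] {X : Ctx A F ι}
variable {G : Type*} [Group G] {ρ : G →* Matrix ι ι F} {TT : List (List ℕ)} {n : ℕ} {f : ℕ → G}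

theorem dec_omP (v e : ℕ) : X.dec (A.omP v e) = X.ω ^ e • X.dec v := by
  induction e with
  | zero => simp [Ar.omP]
  | succ e ih =>
    show X.dec (A.app A.omT (A.omP v e)) = _
    rw [← X.cod_om.app, ih, smul_mulVec, one_mulVec, smul_smul, pow_succ']

theorem CodA.mulVec_ev (h : X.CodA (fun y => ρ (atm n f y)) TT) (w : List ℕ) (v : ℕ) :
    ρ (ev (atm n f) w) *ᵥ X.dec v = X.dec (A.nrm (A.appW TT w v)) := by
  rw [map_ev, h.appW, dec_nrm]

theorem CodA.le_lineSt (h : X.CodA (fun y => ρ (atm n f y)) TT) (hω : X.ω ≠ 0) {v : ℕ}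
    {BW : List (List ℕ)} {E : List ℕ} (hc : A.lineOk TT v BW E = true) :
    wsub n f BW ≤ lineSt ρ (X.dec v) :=
  gsub_le fun j hj => ⟨_, pow_ne_zero (nth 0 E j) hω, by
    have := (allN_iff _ _).mp hc j hj
    rw [Nat.beq_eq, nth_eq] at this
    rw [wv, h.mulVec_ev, this, dec_nrm, dec_omP]⟩

theorem CodA.lineSt_ne_top (h : X.CodA (fun y => ρ (atm n f y)) TT) {v r : ℕ} {w : List ℕ}
    (hc : band (Nat.blt r A.n) (band (Nat.beq (A.ent v r) 0)
      (Nat.beq (A.ent (A.nrm (A.appW TT w v)) r) 1)) = true) : lineSt ρ (X.dec v) ≠ ⊤ := fun e => by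
  simp only [band_eq, Bool.and_eq_true, Nat.beq_eq, Nat.blt_eq] at hc
  obtain ⟨c1, c2, c3⟩ := hc
  obtain ⟨c, -, h1⟩ : ev (atm n f) w ∈ lineSt ρ (X.dec v) := e ▸ Subgroup.mem_top _
  have h2 := congrFun h1 (X.e.symm ⟨r, c1⟩)
  rw [h.mulVec_ev, Pi.smul_apply, dec_apply, dec_apply, Equiv.apply_symm_apply, Fin.val_mk, c2, c3,
    decR_zero, X.decR_one (by omega), smul_zero] at h2
  exact one_ne_zero h2

theorem CodA.presS [Nonempty ι] (h : X.CodA (fun y => ρ (atm n f y)) TT) [(scal ρ).Normal] {k : ℕ}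
    {RL : List (List ℕ)} (hc : AllP (fun w => A.isS TT w = true) (sqRL k RL)) :
    Pres n k RL fun j => QuotientGroup.mk' (scal ρ) (f j) :=
  pres_of_sqRL fun l hl => by
    rw [← ev_atm_map]
    exact (QuotientGroup.eq_one_iff _).mpr (mem_scal ((map_ev ρ _ l).trans (h.eqS (hc.forall l hl))))

/-- the tables also describe the generators inside the subgroup they generate -/
theorem CodA.lift (h : X.CodA (fun y => ρ (atm n f y)) TT) :
    X.CodA (fun y => (ρ.comp (gsub n f).subtype) (atm n (lift (gsub n f) f) y)) TT := by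
  have : (fun y => (ρ.comp (gsub n f).subtype) (atm n (Spor.lift (gsub n f) f) y)) =
      fun y => ρ (atm n f y) := by
    funext y
    rw [MonoidHom.comp_apply, atm_map, atm_congr (lift_gsub f)]
  rw [this]; exact h

end Ctx

end Cfsg.Agent.Spor
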