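import Cfsg.Agent.Spor.MatQ

set_option autoImplicit false

namespace Cfsg.Agent.Spor

open Matrix

section
variable {F : Type*} [Field F] {ι : Type*} [Fintype ι] [DecidableEq ι] {G : Type*} [Group G]

/-- the stabiliser of a vector -/
def vecSt (ρ : G →* Matrix ι ι F) (v : ι → F) : Subgroup G where
  carrier := {g | ρ g *ᵥ v = v}
  one_mem' := by simp
  mul_mem' := by
    intro x y (e : _ = _) (e' : _ = _)
    show _ = _
    rw [map_mul, ← mulVec_mulVec, e', e]
  inv_mem' := by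
    intro x (e : _ = _)
    show _ = _
    conv_lhs => rw [← e, mulVec_mulVec, ← map_mul, inv_mul_cancel, map_one, one_mulVec]

variable {ρ : G →* Matrix ι ι F}

theorem mulVec_eq_iff_vecSt {v : ι → F} (x y : G) :
    ρ x *ᵥ v = ρ y *ᵥ v ↔ x⁻¹ * y ∈ vecSt ρ v := by
  show _ ↔ _ = _
  rw [map_mul, ← mulVec_mulVec]
  constructor
  · intro h
    rw [← h, mulVec_mulVec, ← map_mul, inv_mul_cancel, map_one, one_mulVec]
  · intro h
    conv_lhs => rw [← h, mulVec_mulVec, ← map_mul, mul_inv_cancel, map_one, one_mulVec]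

/-- an orbit of vectors fills an invariant set of the right size -/
theorem orbit_fill [Finite G] (hρ : Function.Injective ρ) {v : ι → F} (hv : v ≠ 0) {Δ : Type*}
    [Group Δ] [Finite Δ] {ψ : G →* Δ} (hk : ψ.ker = scal ρ) {H : Subgroup Δ}
    (hS : lineSt ρ v = H.comap ψ) {T : Set (ι → F)} (hT : T.Finite) (hsub : ∀ g, ρ g *ᵥ v ∈ T)
    (hc : T.ncard * Nat.card H ≤ Nat.card G) : ∀ w ∈ T, ∃ g, ρ g *ᵥ v = w := by
  have h1 := ncard_range_eq_index (fun g => ρ g *ᵥ v) mulVec_eq_iff_vecSt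
  have h2 : Nat.card (vecSt ρ v) ≤ Nat.card H := by
    refine Nat.card_le_card_of_injective (fun x : vecSt ρ v =>
      (⟨ψ x, (hS.le ⟨1, one_ne_zero, by rw [one_smul]; exact x.2⟩ : x.1 ∈ H.comap ψ)⟩ : H)) ?_
    intro x y e
    have h3 : x.1⁻¹ * y.1 ∈ scal ρ := by
      rw [← hk, MonoidHom.mem_ker, map_mul, map_inv, inv_mul_eq_one]
      exact congrArg Subtype.val e
    obtain ⟨c, -, h4⟩ := h3
    have h5 : ρ (x.1⁻¹ * y.1) *ᵥ v = v := (x⁻¹ * y).2
    rw [h4, smul_mulVec, one_mulVec] at h5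
    have h6 : c = 1 := smul_left_injective F hv (h5.trans (one_smul F v).symm)
    rw [h6, one_smul, ← map_one ρ] at h4
    exact Subtype.ext (inv_mul_eq_one.mp (hρ h4))
  have h3 : Set.range (fun g => ρ g *ᵥ v) = T := by
    refine Set.eq_of_subset_of_ncard_le (by rintro _ ⟨g, rfl⟩; exact hsub g) ?_ hT
    rw [h1]
    have h4 := (vecSt ρ v).index_mul_card
    refine Nat.le_of_mul_le_mul_right (c := Nat.card H) ?_ Nat.card_pos
    exact hc.trans (h4 ▸ Nat.mul_le_mul_left _ h2)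
  intro w hw
  exact h3.ge hw

theorem herm_pres' {σ : F →+* F} {M : Matrix ι ι F} (h : M * (M.map σ)ᵀ = 1) (u : ι → F) :
    (M *ᵥ u) ⬝ᵥ (σ ∘ (M *ᵥ u)) = u ⬝ᵥ (σ ∘ u) := by
  have h1 : Mᵀ * M.map σ = 1 := by
    have := congrArg transpose (mul_eq_one_comm.mp h)
    simpa using this
  have e2 : σ ∘ (M *ᵥ u) = M.map σ *ᵥ (σ ∘ u) := by
    funext i; exact RingHom.map_mulVec σ M u i
  rw [e2, ← vecMul_transpose, dotProduct_mulVec, vecMul_vecMul, h1, vecMul_one]

/-- a function on vectors preserved by the generators -/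
theorem pres_of_gens {n : ℕ} {f : ℕ → G} (ht : gsub n f = ⊤) {Y : Type*} {Q : (ι → F) → Y}
    (h : ∀ j < n, ∀ u, Q (ρ (f j) *ᵥ u) = Q u) (g : G) (u : ι → F) : Q (ρ g *ᵥ u) = Q u := by
  let S : Subgroup G :=
    { carrier := {g | ∀ u, Q (ρ g *ᵥ u) = Q u}
      one_mem' := fun u => by simp
      mul_mem' := fun {x y} hx hy u => by rw [map_mul, ← mulVec_mulVec, hx, hy]
      inv_mem' := fun {x} hx u => by
        rw [← hx, mulVec_mulVec, ← map_mul, mul_inv_cancel, map_one, one_mulVec] }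
  exact (eq_top_of_gens ht (M := S) h).ge (Subgroup.mem_top g) u

end

/-- the number of non-zero isotropic vectors in dimension nine over the field with four elements -/
theorem card_iso9 {F : Type*} [Field F] [Fintype F] (hF : Fintype.card F = 4) {ι : Type*} [Fintype ι]
    (e : ι ≃ Fin 9) : {v : ι → F | v ≠ 0 ∧ ∑ z, v z ^ 3 = 0}.ncard = 130815 := by
  obtain ⟨σ, hσ⟩ := Class.exists_UF (q := 2) hF
  have h1 := Class.FS.herm_card_zero hσ (Class.uFS_nondeg hσ (n := 9)) (n := 7) (by simp)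
  have h2 : {v : ι → F | ∑ z, v z ^ 3 = 0}.ncard = 130816 := by
    rw [← Nat.card_coe_set_eq]
    refine Eq.trans (Nat.card_congr ((e.arrowCongr (Equiv.refl F)).subtypeEquiv fun v => ?_)) h1
    rw [Class.uFS_Q, hermForm, Set.mem_setOf_eq, ← e.symm.sum_comp]
    simp [pow_succ']
  have h3 : {v : ι → F | v ≠ 0 ∧ ∑ z, v z ^ 3 = 0} = {v : ι → F | ∑ z, v z ^ 3 = 0} \ {0} := by
    ext v; simp [and_comm]
  rw [h3, Set.ncard_diff_singleton_of_mem (by simp), h2]

/-- zero or a power of `ω` -/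
def optPow {F : Type*} [CommRing F] (ω : F) : Option ℕ → F
  | none => 0
  | some k => ω ^ k

def optA : Option ℕ → ℤ
  | none => 0
  | some k => pwA k

def optB : Option ℕ → ℤ
  | none => 0
  | some k => pwB k

theorem Ctx.eq_mk'_opt {A : Ar} {R : Type*} [CommRing R] {ι : Type*} {X : Ctx A R ι}
    (hd : A.d = 2) (hω : X.ω ^ 2 + X.ω + 1 = 0) {M : Matrix ι ι R} {T : List ℕ}
    (c : ι → ι → Option ℕ) (h1 : ∀ r s, M r s = optPow X.ω (c r s))
    (h2 : ∀ r s, (dig A.B (A.mat T (X.e r) (X.e s)) 0 : ℤ) % A.p = optA (c r s) % A.p ∧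
      (dig A.B (A.mat T (X.e r) (X.e s)) 1 : ℤ) % A.p = optB (c r s) % A.p) : M = X.mk' T :=
  Ctx.eq_mk'_two hd _ _ (fun r s => by
    rw [h1]
    cases c r s
    · simp [optPow, optA, optB]
    · exact omega_pow hω _) h2

end Cfsg.Agent.Spor
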