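import Cfsg.Agent.Spor.MatG

set_option autoImplicit false

namespace Cfsg.Agent.Spor

theorem Bound.mem_commutator {G : Type} [Group G] {n k : ℕ} {f : ℕ → G} {RL RL' : List (List ℕ)}
    (b : Bound n k RL' 1) (h : Pres n k RL f) (BW : List (List ℕ)) {H : List Hint}
    (hc : consAll (2 * k) (RL ++ commList (2 * k) BW BW) RL' H = true) :
    gsub n f ≤ commutator G := by
  have h1 := congrArg (Subgroup.map (gsub n f).subtype) (b.perfect h.lift (gsub_lift n f) BW hc)
  rw [← MonoidHom.range_eq_map, Subgroup.range_subtype, commutator_def, Subgroup.map_commutator] at h1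
  exact h1.ge.trans (Subgroup.commutator_mono le_top le_top)

/-- simplicity passes to every group of the right order satisfying the relators -/
theorem Bound.simple {n k M : ℕ} {RL : List (List ℕ)} (b : Bound n k RL M) (hM : M ≠ 0)
    {G Δ : Type} [Group G] [Group Δ] {f : ℕ → G} {g : ℕ → Δ} (hf : Pres n k RL f)
    (hg : Pres n k RL g) (hc : M ∣ Nat.card (gsub n f)) (hs : IsSimpleGroup (gsub n f))
    {w : List ℕ} (hw : ev (atm n g) w ≠ 1) :
    IsSimpleGroup (gsub n g) ∧ Nat.card (gsub n g) = M := by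
  obtain ⟨e, -⟩ := iso_of_simple b hM hf hg hc hs hw
  exact ⟨e.symm.isSimpleGroup, (Nat.card_congr e.toEquiv).symm.trans
    (Nat.dvd_antisymm (b _ _ hf) hc)⟩

theorem exists_F4 : ∃ (F : Type) (_ : Field F) (_ : Fintype F), Fintype.card F = 4 := by
  haveI : Fact (Nat.Prime 2) := ⟨Nat.prime_two⟩
  letI : Fintype (GaloisField 2 2) := Fintype.ofFinite _
  exact ⟨GaloisField 2 2, inferInstance, inferInstance, by
    rw [← Nat.card_eq_fintype_card, GaloisField.card 2 2 (by norm_num)]; rfl⟩

end Cfsg.Agent.Spor
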