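import Cfsg.Agent.Spor.Simp
import Cfsg.Prelude.Def_Spor_He

set_option autoImplicit false
set_option maxRecDepth 100000

namespace Cfsg.Agent.Spor.HeG

open Cfsg.Spor

def gl : List He.Gen := [.a, .b, .c, .d, .e, .f, .g]
def RLf : List (List ℕ) := [[0, 0], [0, 2, 0, 2, 0, 2, 0, 2], [0, 4, 0, 4], [0, 6, 0, 6], [0, 8, 0, 8], [0, 10, 0, 10], [0, 12, 0, 12], [2, 0, 2, 0, 2, 0, 2, 0], [2, 2], [2, 4, 2, 4, 2, 4], [2, 6, 2, 6], [2, 8, 2, 8], [2, 10, 2, 10], [2, 12, 2, 12], [4, 0, 4, 0], [4, 2, 4, 2, 4, 2], [4, 4], [4, 6, 4, 6, 4, 6, 4, 6, 4, 6, 4, 6, 4, 6, 4, 6, 4, 6, 4, 6], [4, 8, 4, 8], [4, 10, 4, 10], [4, 12, 4, 12], [6, 0, 6, 0], [6, 2, 6, 2], [6, 4, 6, 4, 6, 4, 6, 4, 6, 4, 6, 4, 6, 4, 6, 4, 6, 4, 6, 4], [6, 6], [6, 8, 6, 8, 6, 8], [6, 10, 6, 10, 6, 10], [6, 12, 6, 12, 6, 12], [8, 0, 8, 0], [8, 2, 8, 2], [8, 4, 8, 4], [8, 6, 8, 6, 8, 6], [8, 8], [8, 10, 8, 10], [8, 12, 8, 12], [10, 0, 10, 0], [10,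 2, 10, 2], [10, 4, 10, 4], [10, 6, 10, 6, 10, 6], [10, 8, 10, 8], [10, 10], [10, 12, 10, 12, 10, 12, 10, 12], [12, 0, 12, 0], [12, 2, 12, 2], [12, 4, 12, 4], [12, 6, 12, 6, 12, 6], [12, 8, 12, 8], [12, 10, 12, 10, 12, 10, 12, 10], [12, 12], [8, 12, 10, 12, 10], [8, 4, 2, 0, 4, 2, 0, 4, 2, 0], [0, 6, 4, 6, 4, 6, 4, 6, 4, 6, 4], [4, 6, 10, 12, 4, 6, 10, 12, 4, 6, 10, 12, 4, 6, 10, 12]]
def RL : List (List ℕ) := [[0, 2, 0, 2, 0, 2, 0, 2], [0, 4, 0, 4], [0, 6, 0, 6], [0, 8, 0, 8], [0, 10, 0, 10], [0, 12, 0, 12], [2, 4, 2, 4, 2, 4], [2, 6, 2, 6], [2, 8, 2, 8], [2, 10, 2, 10], [2, 12, 2, 12], [4, 6, 4, 6, 4, 6, 4, 6, 4, 6, 4, 6, 4, 6, 4, 6, 4, 6, 4, 6], [4, 8, 4, 8], [4, 10, 4, 10], [4, 12, 4, 12], [6, 8, 6, 8, 6, 8], [6, 10, 6, 10, 6, 10], [6, 12, 6, 12, 6, 12], [8, 10, 8, 10], [8, 12, 8, 12], [10, 12, 10, 12, 10, 12, 10, 12], [8, 12, 10, 12, 10], [8, 4, 2, 0, 4, 2, 0, 4, 2, 0], [0, 6, 4, 6, 4, 6,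 4, 6, 4, 6, 4], [4, 6, 10, 12, 4, 6, 10, 12, 4, 6, 10, 12, 4, 6, 10, 12]]
abbrev rels : Set (FreeGroup He.Gen) := coxRelators He.edges ∪ {r | r ∈ He.extra}

theorem coded : Coded rels gl 7 RLf :=
  Coded.of_cox (by intro x; cases x <;> decide) (by decide +kernel) (by decide +kernel)
    (by decide +kernel)

/-- the generators -/
def f : ℕ → He := pgen rels gl

theorem pres : Pres 7 7 RL f := coded.pres.cons (H := [([], 1, true), ([], 2, true), ([], 3, true), ([], 4, true), ([], 5, true), ([], 6, true), ([], 9, true), ([], 10, true), ([], 11, true), ([], 12, true), ([], 13, true), ([], 17, true), ([], 18, true), ([], 19, true), ([], 20, true), ([], 25, true), ([], 26, true), ([], 27, true), ([], 33, true), ([], 34, true), ([], 41, true), ([], 49, true), ([], 50, true), ([], 51, true), ([], 52, true)]) (by decide +kernel)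

theorem top : gsub 7 f = ⊤ := coded.gsub_eq

theorem hom {Γ : Type*} [Group Γ] {g : ℕ → Γ} (hg : Pres 7 7 RL g) :
    ∃ φ : He →* Γ, ∀ j < 7, φ (f j) = g j :=
  coded.hom (by decide) (hg.cons (H := [([], 25, false), ([], 0, true), ([], 1, true), ([], 2, true), ([], 3, true), ([], 4, true), ([], 5, true), ([], 0, false), ([], 25, false), ([], 6, true), ([], 7, true), ([], 8, true), ([], 9, true), ([], 10, true), ([], 1, false), ([], 6, false), ([], 25, false), ([], 11, true), ([], 12, true), ([], 13, true), ([], 14, true), ([], 2, false), ([], 7, false), ([], 11, false), ([], 25, false), ([], 15, true), ([], 16, true), ([], 17, true), ([], 3, false), ([], 8, false), ([], 12, false), ([], 15, false), ([], 25, false), ([], 18, true), ([], 19, true), ([], 4, false), ([], 9, false), ([], 13, false), ([], 16, false), ([], 18, false), ([], 25, false), ([], 20, true), ([], 5, false), ([], 10, false),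 ([], 14, false), ([], 17, false), ([], 19, false), ([], 20, false), ([], 25, false), ([], 21, true), ([], 22, true), ([], 23, true), ([], 24, true)]) (by decide +kernel))

end Cfsg.Agent.Spor.HeG
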