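import Cfsg.Agent.Spor.Norm2
import Cfsg.Agent.Spor.HeG
import Cfsg.Agent.Spor.He8330.S.Main
import Cfsg.Agent.Spor.He8330.L.Main
import Cfsg.Agent.Spor.HeA1.Main
import Cfsg.Agent.Spor.HeN1.Main
import Cfsg.Agent.Spor.HeP2.Main
import Cfsg.Agent.Spor.HeP960.Main
import Cfsg.Agent.Spor.He168.Main
import Cfsg.Agent.Spor.He49980.Main

set_option autoImplicit false
set_option maxRecDepth 100000

namespace Cfsg.Agent.Spor.HeG

open Cfsg.Spor

theorem boundP : Bound 6 6 HeP2.RL (2 * 80640) :=
  show Bound 6 6 HeP960.RL (960 * 168) from HeP960.cert.bound (He168.cert.bound_nil) (H := [([], 18, false), ([], 18, false), ([], 18, false), ([], 18, false), ([], 9, true), ([], 10, true), ([], 11, true), ([], 12, true), ([], 13, true), ([], 14, true), ([], 15, true)]) (by decide +kernel)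

def WD : List (List ℕ) := [[0], [4], [6], [8], [10], [12]]

theorem bound : Bound 7 7 RL 4030387200 := fun G _ g hg => by
  have h1 : Pres 6 6 HeP2.RL (wv 7 g WD) := hg.subst (WD := WD) (H := [([], 25, false), ([], 25, false), ([], 25, false), ([], 25, false), ([], 25, false), ([], 25, false), ([], 1, true), ([], 2, true), ([], 3, true), ([], 4, true), ([], 5, true), ([], 11, true), ([], 12, true), ([], 13, true), ([], 14, true), ([], 15, true), ([], 16, true), ([], 17, true), ([], 18, true), ([], 19, true), ([], 20, true), ([], 21, true), ([], 23, true), ([], 24, true)]) (by decide +kernel)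
  have h2 := HeP2.cert.sub_dvd boundP h1
  rw [wsub_wv hg.ivOk, show HeP2.BW.map (subW (2 * 7) 6 WD) = He49980.BW by decide +kernel] at h2
  exact He49980.cert.card_dvd (M := 80640) hg h2

theorem hom' : ∃ φ : He →* Equiv.Perm ℕ, ∀ j < 7, φ (f j) = He8330.fP j := hom He8330.cert.pres

noncomputable def φ : He →* Equiv.Perm ℕ := hom'.choose
theorem hφ : ∀ j < 7, φ (f j) = He8330.fP j := hom'.choose_spec
theorem act : CosetAct (wsub 7 f He8330.BW) φ 8330 := He8330.cert.act _ _ pres φ hφ top

theorem card_inj : Nat.card He = 4030387200 ∧ Function.Injective φ :=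
  card_eq_of_bounds _ (by norm_num) (bound.card_dvd pres top)
    (by rw [range_eq_gsub hφ top, He8330.L.eG]; exact He8330.L.lb)

theorem card : Nat.card He = 4030387200 := card_inj.1

instance instFinite : Finite He := Nat.finite_of_card_ne_zero (by rw [card]; norm_num)

theorem coatom : IsCoatom (wsub 7 f He8330.BW) :=
  act.coatom (by norm_num) ((wsub_map hφ _).trans He8330.S.eH)
    ((range_eq_gsub hφ top).trans He8330.S.eG) He8330.S.hX He8330.S.hXc He8330.S.hY

theorem core : (wsub 7 f He8330.BW).normalCore = ⊥ :=
  act.core_eq_bot card_inj.2 (range_eq_gsub hφ top ▸ He8330.S.hfix)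

theorem presN : Pres 7 7 He8330.L.XN f :=
  Pres.of_map card_inj.2 hφ ⟨He8330.cert.pres.sq, He8330.L.hXN⟩

def AW : List (List ℕ) := [[0], [2, 4, 6, 10, 8, 6, 4, 6, 8, 2, 4, 6, 4, 6, 2, 4, 6, 10, 8, 6, 4, 2, 0, 2, 4, 6, 8, 10, 6, 4, 2, 6, 4, 6, 4, 2, 8, 6, 4, 6, 8, 10, 6, 4, 2]]

theorem perfect : commutator He = ⊤ :=
  HeA1.cert.bound_nil.perfect pres top [[0], [2], [4], [6], [8], [10], [12]] (H := [([], 0, true), ([], 1, true), ([], 2, true), ([], 3, true), ([], 4, true), ([], 5, true), ([], 6, true), ([], 7, true), ([], 8, true), ([], 9, true), ([], 10, true), ([], 11, true), ([], 12, true), ([], 13, true), ([], 14, true), ([], 15, true), ([], 16, true), ([], 17, true), ([], 18, true), ([], 19, true), ([], 20, true), ([], 21, true), ([], 22, true), ([], 23, true), ([], 24, true), ([], 26, true), ([], 1, true), ([], 2, true), ([], 3, true), ([], 4, true), ([], 5, true), ([], 34, true), ([], 7, true), ([], 8, true), ([], 9, true), ([], 10, true), ([], 42, true), ([], 12, true), ([], 13, true), ([], 14, true), ([], 50, true), ([], 51,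 true), ([], 52, true), ([], 18, true), ([], 19, true), ([], 66, true)]) (by decide +kernel)

theorem simple : IsSimpleGroup He :=
  iwasawa_simple coatom core (A := wsub 7 f AW)
    (norm_of_list pres.ivOk (I := [[[0], [2]], [[0], [2]], [[0], [2]], [[0], [2]], [[0], [2]], [[0], [2]], [[2], [0, 2]], [[0], [0, 2]]]) (consAll_sound pres.ivOk presN.rel (H := [([], 17, false), ([], 1, true), ([], 2, true), ([], 3, true), ([], 4, true), ([], 5, true), ([], 6, true), ([], 7, true), ([], 8, true), ([], 9, true), ([], 10, true), ([], 11, true), ([], 17, false), ([], 13, true), ([], 14, true), ([], 15, true)]) (by decide +kernel)))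
    (comm_of_list pres.ivOk (consAll_sound pres.ivOk presN.rel (H := [([], 17, false), ([], 1, true), ([], 1, false), ([], 17, false)]) (by decide +kernel)))
    (HeN1.cert.bound_nil.normalClosure pres top AW (H := [([], 0, true), ([], 1, true), ([], 2, true), ([], 3, true), ([], 4, true), ([], 5, true), ([], 6, true), ([], 7, true), ([], 8, true), ([], 9, true), ([], 10, true), ([], 11, true), ([], 12, true), ([], 13, true), ([], 14, true), ([], 15, true), ([], 16, true), ([], 17, true), ([], 18, true), ([], 19, true), ([], 20, true), ([], 21, true), ([], 22, true), ([], 23, true), ([], 24, true), ([], 25, true)]) (by decide +kernel)) perfect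

end Cfsg.Agent.Spor.HeG
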