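import Cfsg.Agent.Spor.Mat
import Cfsg.Agent.Class.Uni

set_option autoImplicit false

namespace Cfsg.Agent.Spor

open Matrix Finset
open scoped commutatorElement

/-- an isomorphism from a presentation, simplicity and the order -/
theorem iso_of_simple {n k M : ℕ} {RL : List (List ℕ)} (b : Bound n k RL M) (hM : M ≠ 0)
    {G Δ : Type} [Group G] [Group Δ] {f : ℕ → G} {g : ℕ → Δ} (hf : Pres n k RL f)
    (hg : Pres n k RL g) (hc : M ∣ Nat.card (gsub n f)) (hs : IsSimpleGroup (gsub n f))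
    {w : List ℕ} (hw : ev (atm n g) w ≠ 1) :
    ∃ e : gsub n f ≃* gsub n g, ∀ j < n, e (lift (gsub n f) f j) = lift (gsub n g) g j := by
  obtain ⟨ψ, hψ⟩ := b.exists_hom hM hf hg hc
  refine exists_equiv_of_inj ψ hψ ?_
  rw [← MonoidHom.ker_eq_bot_iff]
  refine (hs.eq_bot_or_eq_top_of_normal ψ.ker inferInstance).resolve_right fun h => hw ?_
  rw [← ev_atm_map' hψ]
  exact (h ▸ Subgroup.mem_top _ : _ ∈ ψ.ker)

theorem iso_of_simple' {n k M : ℕ} {RL : List (List ℕ)} (b : Bound n k RL M) (hM : M ≠ 0)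
    {G Δ : Type} [Group G] [Group Δ] {f : ℕ → G} {g : ℕ → Δ} (hf : Pres n k RL f)
    (hg : Pres n k RL g) (hc : M ∣ Nat.card (gsub n f)) (hs : IsSimpleGroup (gsub n f))
    {w : List ℕ} (hw : ev (atm n g) w ≠ 1) (hΔ : Nat.card Δ = M) : Nonempty (gsub n f ≃* Δ) := by
  obtain ⟨e, -⟩ := iso_of_simple b hM hf hg hc hs hw
  have : Finite Δ := Nat.finite_of_card_ne_zero (hΔ ▸ hM)
  have h : gsub n g = ⊤ := by
    refine Subgroup.eq_top_of_le_card _ ?_
    rw [← Nat.card_congr e.toEquiv, hΔ]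
    exact Nat.le_of_dvd (Nat.pos_of_ne_zero (ne_zero_of_dvd_ne_zero hM (b _ _ hf))) hc
  exact ⟨e.trans ((MulEquiv.subgroupCongr h).trans Subgroup.topEquiv)⟩

theorem index_two_of {G : Type*} [Group G] {N : Subgroup G} {M : ℕ} (hG : Nat.card G = 2 * M)
    (h1 : N.index ∣ 2) (h2 : Nat.card N ∣ M) (hM : M ≠ 0) : N.index = 2 ∧ Nat.card N = M := by
  have h3 := N.card_mul_index
  have h4 := Nat.le_of_dvd (Nat.pos_of_ne_zero hM) h2
  rcases (Nat.dvd_prime Nat.prime_two).mp h1 with h | h <;> rw [h] at h3 <;> omega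

theorem eq_commutator_of_index {G : Type*} [Group G] {N : Subgroup G} (h1 : N.index = 2)
    (h2 : (commutator G).index = 2) : N = commutator G := by
  have h3 := commutator_le_of_index_dvd_two (dvd_of_eq h1)
  have h4 := Subgroup.relIndex_mul_index h3
  rw [h1, h2] at h4
  exact le_antisymm (Subgroup.relIndex_eq_one.mp (by omega)) h3

theorem exists_omega {F : Type*} [Field F] [Fintype F] (h : 3 ∣ Fintype.card F - 1) :
    ∃ ω : F, ω ^ 2 + ω + 1 = 0 := by
  classical
  have : Fact (Nat.Prime 3) := ⟨Nat.prime_three⟩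
  obtain ⟨x, hx⟩ := exists_prime_orderOf_dvd_card (G := Fˣ) 3 (by rwa [Fintype.card_units])
  refine ⟨x, ?_⟩
  have h1 : (x : F) ^ 3 = 1 := by rw [← Units.val_pow_eq_pow_val, ← hx, pow_orderOf_eq_one]; rfl
  have h2 : (x : F) - 1 ≠ 0 := fun h => by
    rw [sub_eq_zero, Units.val_eq_one] at h
    rw [h, orderOf_one] at hx
    omega
  apply mul_left_cancel₀ h2
  linear_combination h1

theorem exists_sqrt_neg_one {F : Type*} [Field F] [Fintype F] (h : Fintype.card F % 4 ≠ 3) :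
    ∃ ω : F, ω ^ 2 = -1 := by
  obtain ⟨r, hr⟩ := FiniteField.isSquare_neg_one_iff.mpr h
  exact ⟨r, by rw [hr, sq]⟩

theorem cast_eq_zero_of_card {F : Type*} [Field F] [Fintype F] {p k : ℕ}
    (h : Fintype.card F = p ^ k) : (p : F) = 0 := by
  have := FiniteField.cast_card_eq_zero F
  rw [h, Nat.cast_pow] at this
  exact pow_eq_zero_iff (by rintro rfl; simp at this) |>.mp this

namespace Ctx

variable {A : Ar} {R : Type*} [CommRing R] {ι : Type*} [Fintype ι] [DecidableEq ι] {X : Ctx A R ι}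
variable {G : Type*} [Group G] {ρ : G →* Matrix ι ι R}

/-- a context of degree one -/
def one (A : Ar) (e : ι ≃ Fin A.n) (ok : A.ok = true) (hp : (A.p : R) = 0)
    (h : A.d = 1 ∧ A.w = 1 ∧ 0 < A.B) : Ctx A R ι :=
  ⟨1, e, ok, hp, by
    rw [h.1, h.2.1, decB, sum_range_one, dig_zero, Nat.mod_eq_of_lt (Nat.one_lt_two_pow h.2.2.ne')]
    simp⟩

/-- a context of degree two, with `ω ^ 2 = s + t ω` -/
def two (A : Ar) (e : ι ≃ Fin A.n) (ok : A.ok = true) (hp : (A.p : R) = 0) (ω : R) (hd : A.d = 2)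
    (h : ω ^ 2 = (dig A.B A.w 0 : R) + (dig A.B A.w 1 : R) * ω) : Ctx A R ι :=
  ⟨ω, e, ok, hp, by rw [hd, h, decB, sum_range_succ, sum_range_one]; simp⟩

omit [Fintype ι] [DecidableEq ι] in
theorem decR_two (hd : A.d = 2) (c : ℕ) :
    X.decR c = (dig A.B c 0 : R) + (dig A.B c 1 : R) * X.ω := by
  rw [decR, hd, decB, sum_range_succ, sum_range_one]; simp

omit [Fintype ι] [DecidableEq ι] in
theorem decR_one' (hd : A.d = 1) (c : ℕ) : X.decR c = (dig A.B c 0 : R) := by
  rw [decR, hd, decB, sum_range_one]; simp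

theorem map_ev (ρ : G →* Matrix ι ι R) (a : ℕ → G) (w : List ℕ) :
    ρ (ev a w) = (w.map fun z => ρ (a z)).prod := by
  rw [ev, map_list_prod, List.map_map]; rfl

open Classical in
variable (X ρ) in
/-- group elements with the matrices of the even tables -/
noncomputable def gen (TT : List (List ℕ)) (j : ℕ) : G :=
  if h : ∃ g, ρ g = X.mats TT (2 * j) then h.choose else 1

theorem gen_spec {TT : List (List ℕ)} {j : ℕ} (h : ∃ g, ρ g = X.mats TT (2 * j)) :
    ρ (X.gen ρ TT j) = X.mats TT (2 * j) := by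
  unfold gen
  rw [dif_pos h]
  exact h.choose_spec

/-- the basic check of a list of tables for `k` generators and their inverses -/
noncomputable def _root_.Cfsg.Agent.Spor.Ar.gensOk (A : Ar) (TT : List (List ℕ)) (k : ℕ) : Bool :=
  band (lall A.tabOk TT) (band (A.invOk TT k) (Nat.beq TT.length (2 * k)))

theorem mats_inv {TT : List (List ℕ)} {k : ℕ} (h : A.gensOk TT k = true) {j : ℕ} (hj : j < k) :
    X.mats TT (2 * j) * X.mats TT (2 * j + 1) = 1 := by
  simp only [Ar.gensOk, band_eq, Bool.and_eq_true, Ar.invOk, allN_iff] at h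
  simpa using (codA_mats (X := X) h.1).eq_one (h.2.1 j hj)

/-- the atoms of elements with the right matrices are described by the tables -/
theorem codA_atm {TT : List (List ℕ)} {k : ℕ} (h : A.gensOk TT k = true) {f : ℕ → G}
    (hf : ∀ j < k, ρ (f j) = X.mats TT (2 * j)) : X.CodA (fun y => ρ (atm k f y)) TT := by
  have h' := h
  simp only [Ar.gensOk, band_eq, Bool.and_eq_true, Nat.beq_eq] at h'
  intro y
  have hc := codA_mats (X := X) h'.1 y
  suffices e : ρ (atm k f y) = X.mats TT y by beta_reduce; rw [e]; exact hc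
  rw [atm_def]
  split_ifs with h1 h2
  · rw [hf _ h1, Nat.mul_div_cancel' (Nat.dvd_of_mod_eq_zero h2)]
  · have h3 := mats_inv (X := X) h h1
    rw [← hf _ h1, show 2 * (y / 2) + 1 = y by omega] at h3
    calc ρ (f (y / 2))⁻¹ = ρ (f (y / 2))⁻¹ * (ρ (f (y / 2)) * X.mats TT y) := by rw [h3, mul_one]
      _ = X.mats TT y := by rw [← mul_assoc, ← map_mul, inv_mul_cancel, map_one, one_mul]
  · rw [map_one, mats, nth_eq, List.getD_eq_default _ _ (by omega)]
    exact X.cod_id.eq_mk'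

theorem codA_gen {TT : List (List ℕ)} {k : ℕ} (h : A.gensOk TT k = true)
    (hg : ∀ j < k, ∃ g, ρ g = X.mats TT (2 * j)) :
    X.CodA (fun y => ρ (atm k (X.gen ρ TT) y)) TT :=
  codA_atm h fun j hj => gen_spec (hg j hj)

/-- squares of the first generators followed by the relators -/
def sqRL (k : ℕ) (RL : List (List ℕ)) : List (List ℕ) :=
  ((List.range k).map fun j => [2 * j, 2 * j]) ++ RL

theorem pres_of_sqRL {Δ : Type*} [Group Δ] {n k : ℕ} {RL : List (List ℕ)} {f : ℕ → Δ}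
    (h : ∀ l ∈ sqRL k RL, ev (atm n f) l = 1) : Pres n k RL f :=
  ⟨fun j h1 h2 => by
    have := h [2 * j, 2 * j] (List.mem_append_left _
      (List.mem_map.mpr ⟨j, List.mem_range.mpr h1, rfl⟩))
    simpa [atm_two_mul f h2] using this,
   fun l hl => h l (List.mem_append_right _ hl)⟩

variable {TT : List (List ℕ)} {n : ℕ} {f : ℕ → G}

theorem CodA.ev_eq_one (h : X.CodA (fun y => ρ (atm n f y)) TT) (hρ : Function.Injective ρ)
    {w : List ℕ} (hc : A.eqS TT w 1 = true) : ev (atm n f) w = 1 :=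
  hρ (by rw [map_ev, h.eq_one hc, map_one])

theorem CodA.pres (h : X.CodA (fun y => ρ (atm n f y)) TT) (hρ : Function.Injective ρ) {k : ℕ}
    {RL : List (List ℕ)} (hc : AllP (fun w => A.eqS TT w 1 = true) (sqRL k RL)) : Pres n k RL f :=
  pres_of_sqRL fun l hl => h.ev_eq_one hρ (hc.forall l hl)

theorem mem_center_of_smul (hρ : Function.Injective ρ) {g : G} {c : R} (h : ρ g = c • 1) :
    g ∈ Subgroup.center G :=
  Subgroup.mem_center_iff.mpr fun x => hρ (by simp [h])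

theorem CodA.ev_mem_center (h : X.CodA (fun y => ρ (atm n f y)) TT) (hρ : Function.Injective ρ)
    {w : List ℕ} (hc : A.isS TT w = true) : ev (atm n f) w ∈ Subgroup.center G :=
  mem_center_of_smul hρ ((map_ev ρ _ w).trans (h.eqS hc))

theorem CodA.presQ (h : X.CodA (fun y => ρ (atm n f y)) TT) (hρ : Function.Injective ρ) {k : ℕ}
    {RL : List (List ℕ)} (hc : AllP (fun w => A.isS TT w = true) (sqRL k RL)) :
    Pres n k RL fun j => QuotientGroup.mk' (Subgroup.center G) (f j) :=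
  pres_of_sqRL fun l hl => by
    rw [← ev_atm_map]
    exact (QuotientGroup.eq_one_iff _).mpr (h.ev_mem_center hρ (hc.forall l hl))

theorem CodA.ne_one [Nontrivial R] (h : X.CodA (fun y => ρ (atm n f y)) TT) {w : List ℕ} {r i : ℕ}
    (hc : band (Nat.blt r i || Nat.blt i r) (A.entW TT w r i 1) = true) : ev (atm n f) w ≠ 1 :=
  fun e => h.ne_smul hc 1 (by rw [← map_ev, e, map_one, one_smul])

theorem ev_comm (a b : ℕ) (hi : a % 2 = 0 ∧ b % 2 = 0) :
    ev (atm n f) [a, b, a + 1, b + 1] = ⁅atm n f a, atm n f b⁆ := by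
  have e : ∀ y, y % 2 = 0 → atm n f (y + 1) = (atm n f y)⁻¹ := fun y hy => by
    rw [atm_def, atm_def, show (y + 1) / 2 = y / 2 by omega]
    split_ifs <;> first | omega | simp
  simp [e a hi.1, e b hi.2, commutatorElement_def, mul_assoc]

/-- a generator which is not central -/
theorem CodA.neQ [Nontrivial R] (h : X.CodA (fun y => ρ (atm n f y)) TT) {a b r i : ℕ}
    (hi : a % 2 = 0 ∧ b % 2 = 0)
    (hc : band (Nat.blt r i || Nat.blt i r) (A.entW TT [a, b, a + 1, b + 1] r i 1) = true) :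
    ev (atm n fun j => QuotientGroup.mk' (Subgroup.center G) (f j)) [a] ≠ 1 := fun e => by
  rw [← ev_atm_map, QuotientGroup.mk'_apply, QuotientGroup.eq_one_iff, ev_cons, ev_nil, mul_one,
    Subgroup.mem_center_iff] at e
  apply h.ne_one hc
  rw [ev_comm a b hi, commutatorElement_eq_one_iff_mul_comm, e]

theorem CodA.map_ev_eq (h : X.CodA (fun y => ρ (atm n f y)) TT) {w Z : List ℕ}
    (hc : A.eqT TT w Z = true) : ρ (ev (atm n f) w) = X.mk' Z :=
  (map_ev ρ _ w).trans (h.eqT hc)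

/-! membership in the classical groups -/

theorem exists_GL {k : ℕ} (h : A.gensOk TT k = true) :
    ∀ j < k, ∃ g : GL ι R, Units.coeHom _ g = X.mats TT (2 * j) := fun _ hj =>
  ⟨⟨_, _, mats_inv h hj, mul_eq_one_comm.mp (mats_inv h hj)⟩, rfl⟩

/-- determinant certificates: tables of factors and a word for each generator -/
noncomputable def _root_.Cfsg.Agent.Spor.Ar.detOk (A : Ar) (TT UU W : List (List ℕ)) (k : ℕ) : Bool :=
  band (lall A.tabOk UU) (allN (fun j =>
    band (lall (fun z => A.uni (nth A.idT UU z)) (nth [] W j))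
      (A.eqT UU (nth [] W j) (nth A.idT TT (2 * j)))) k)

theorem det_mats {UU W : List (List ℕ)} {k : ℕ} (h : A.detOk TT UU W k = true) :
    ∀ j < k, (X.mats TT (2 * j)).det = 1 := fun j hj => by
  simp only [Ar.detOk, band_eq, Bool.and_eq_true, allN_iff] at h
  exact det_eq_one (UU := UU) (w := nth [] W j) (by
    simp only [band_eq, Bool.and_eq_true]; exact ⟨h.1, h.2 j hj⟩)

/-- the generators preserve the bilinear form with the matrix of the table `Z` -/
noncomputable def _root_.Cfsg.Agent.Spor.Ar.formOk (A : Ar) (TT TR : List (List ℕ)) (Z : List ℕ)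
    (k : ℕ) : Bool :=
  allN (fun j => band (lall A.tabOk [nth [] TR j, Z, nth A.idT TT (2 * j)])
    (band (A.trT (nth A.idT TT (2 * j)) (nth [] TR j))
      (A.eqT [nth [] TR j, Z, nth A.idT TT (2 * j)] [0, 1, 2] Z))) k

theorem form_mats {TR : List (List ℕ)} {Z : List ℕ} {k : ℕ} (h : A.formOk TT TR Z k = true) :
    ∀ j < k, (X.mats TT (2 * j))ᵀ * X.mk' Z * X.mats TT (2 * j) = X.mk' Z := fun j hj => by
  have h1 := (allN_iff _ _).mp h j hj
  simp only [band_eq, Bool.and_eq_true] at h1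
  have h2 := (codA_mats (X := X) h1.1).eqT h1.2.2
  rw [mats, ← mk'_trT h1.2.1, mul_assoc]
  simp only [List.map_cons, List.map_nil, List.prod_cons, List.prod_nil, mul_one] at h2
  exact h2

omit [Fintype ι] [DecidableEq ι] in
theorem eq_mk'_of_ent {M : Matrix ι ι R} {T : List ℕ} (cf : ι → ι → ℕ)
    (h1 : ∀ r c, M r c = X.decR (cf r c)) (h2 : ∀ r c, A.mat T (X.e r) (X.e c) = cf r c) :
    M = X.mk' T := by
  ext r c
  rw [h1, mk'_apply, h2]

end Ctx

section fields
variable {A : Ar} {F : Type*} [Field F] {TT : List (List ℕ)}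

/-- a context over a field of characteristic two with a cube root of unity -/
def Ctx.f4 {ι : Type*} (A : Ar) (e : ι ≃ Fin A.n) (h2 : ((2 : ℕ) : F) = 0) (ω : F)
    (hω : ω ^ 2 + ω + 1 = 0)
    (h : A.ok = true ∧ A.p = 2 ∧ A.d = 2 ∧ dig A.B A.w 0 = 1 ∧ dig A.B A.w 1 = 1) : Ctx A F ι :=
  Ctx.two A e h.1 (h.2.1 ▸ h2) ω h.2.2.1 (by
    rw [h.2.2.2.1, h.2.2.2.2]
    push_cast at h2 ⊢
    linear_combination hω - (ω + 1) * h2)

theorem card_SL_eq [Fintype F] {n q M : ℕ} (hq : Fintype.card F = q)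
    (h : 0 < n ∧ 1 < q ∧ (q - 1) * M = ∏ i ∈ range n, (q ^ n - q ^ i)) :
    Nat.card (SpecialLinearGroup (Fin n) F) = M := by
  have h2 := Class.card_SL (F := F) n h.1
  rw [hq, Fin.prod_univ_eq_prod_range (fun i => q ^ n - q ^ i), ← h.2.2] at h2
  exact Nat.eq_of_mul_eq_mul_left (by omega) h2

theorem card_PSL_eq [Fintype F] {n q M : ℕ} (hq : Fintype.card F = q)
    (h : 0 < n ∧ 1 < q ∧ (q - 1) * (Nat.gcd n (q - 1) * M) = ∏ i ∈ range n, (q ^ n - q ^ i)) :
    Nat.card (ProjectiveSpecialLinearGroup (Fin n) F) = M := by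
  have : Nonempty (Fin n) := ⟨⟨0, h.1⟩⟩
  have h1 := Class.card_center_mul_card_PSL (ι := Fin n) (F := F)
  rw [card_SL_eq hq h, hq, Fintype.card_fin] at h1
  exact Nat.eq_of_mul_eq_mul_left (Nat.gcd_pos_of_pos_left _ h.1) h1

theorem card_PSU_eq [Fintype F] {n q M : ℕ} (hq : Fintype.card F = q ^ 2)
    (h : 2 ≤ n ∧ Nat.gcd n (q + 1) * ((q + 1) * M) = Class.guCard q n) :
    Nat.card (PSU n F q) = M := by
  obtain ⟨σ, hσ⟩ := Class.exists_UF hq
  have h1 := Class.card_PSU hσ h.1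
  rw [← h.2] at h1
  exact Nat.eq_of_mul_eq_mul_left (Nat.succ_pos _)
    (Nat.eq_of_mul_eq_mul_left (Nat.gcd_pos_of_pos_right _ (Nat.succ_pos _)) h1)

theorem slToMat_inj (n : ℕ) : Function.Injective (slToMat n F) := fun _ _ h => Subtype.ext h

theorem Ctx.exists_SL {n : ℕ} {X : Ctx A F (Fin n)} {UU W : List (List ℕ)} {k : ℕ}
    (h : A.detOk TT UU W k = true) : ∀ j < k, ∃ g, slToMat n F g = X.mats TT (2 * j) :=
  fun j hj => ⟨⟨_, Ctx.det_mats h j hj⟩, rfl⟩

/-- the special unitary group as matrices -/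
abbrev suToMat (n : ℕ) (F : Type*) [Field F] (q : ℕ) : SU n F q →* Matrix (Fin n) (Fin n) F :=
  (slToMat n F).comp (SU n F q).subtype

theorem suToMat_inj (n q : ℕ) : Function.Injective (suToMat n F q) :=
  (slToMat_inj n).comp Subtype.val_injective

theorem herm_pres {n q : ℕ} {σ : F →+* F} (hσ : ∀ a, σ a = a ^ q) {M : Matrix (Fin n) (Fin n) F}
    (h : M * (M.map σ)ᵀ = 1) (u v : Fin n → F) :
    hermForm n F q (M *ᵥ u) (M *ᵥ v) = hermForm n F q u v := by
  have h1 : Mᵀ * M.map σ = 1 := by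
    have := congrArg transpose (mul_eq_one_comm.mp h)
    simpa using this
  have e : ∀ u v : Fin n → F, hermForm n F q u v = u ⬝ᵥ (σ ∘ v) := fun u v => by
    simp [hermForm, dotProduct, hσ]
  have e2 : σ ∘ (M *ᵥ v) = M.map σ *ᵥ (σ ∘ v) := by
    funext i; exact RingHom.map_mulVec σ M v i
  rw [e, e, e2, ← vecMul_transpose, dotProduct_mulVec, vecMul_vecMul, h1, vecMul_one]

theorem Ctx.exists_SU {n q : ℕ} {X : Ctx A F (Fin n)} {σ : F →+* F} (hσ : ∀ a, σ a = a ^ q)
    (hd : A.d = 2) {s : ℕ} (hs : X.ω ^ q = X.decR s) {UU W : List (List ℕ)} {k : ℕ}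
    (h0 : A.gensOk TT k = true) (h : A.detOk TT UU W k = true)
    (hu : band (digOk A.p A.B 2 s)
      (allN (fun j => A.ctT s (nth A.idT TT (2 * j)) (nth A.idT TT (2 * j + 1))) k) = true) :
    ∀ j < k, ∃ g, suToMat n F q g = X.mats TT (2 * j) := fun j hj => by
  simp only [band_eq, Bool.and_eq_true, allN_iff] at hu
  refine ⟨⟨⟨_, Ctx.det_mats h j hj⟩, herm_pres hσ ?_⟩, rfl⟩
  have := Ctx.mats_inv (X := X) h0 hj
  rwa [Ctx.mats, Ctx.mats, Ctx.mk'_ctT hd σ ((hσ _).trans hs) hu.1 (hu.2 j hj)] at this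

theorem Ctx.exists_Sp {m : ℕ} {X : Ctx A F (Fin m ⊕ Fin m)} {TR : List (List ℕ)} {Z : List ℕ}
    {k : ℕ} (h : A.formOk TT TR Z k = true) (hZ : Matrix.J (Fin m) F = X.mk' Z) :
    ∀ j < k, ∃ g, (symplecticGroup (Fin m) F).subtype g = X.mats TT (2 * j) := fun j hj =>
  ⟨⟨_, SymplecticGroup.mem_iff'.mpr (hZ ▸ Ctx.form_mats h j hj)⟩, rfl⟩

/-- an isometry group as matrices -/
abbrev isoToMat {ι : Type} [Fintype ι] [DecidableEq ι] (Q : (ι → F) → F) :
    isometryGroup F Q →* Matrix ι ι F := (Units.coeHom _).comp (isometryGroup F Q).subtype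

theorem isoToMat_inj {ι : Type} [Fintype ι] [DecidableEq ι] (Q : (ι → F) → F) :
    Function.Injective (isoToMat Q) := Units.val_injective.comp Subtype.val_injective

theorem Ctx.exists_O {ι : Type} [Fintype ι] [DecidableEq ι] {X : Ctx A F ι} {Q : (ι → F) → F}
    {TR : List (List ℕ)} {Z : List ℕ} {k : ℕ} (h0 : A.gensOk TT k = true)
    (h : A.formOk TT TR Z k = true) (h2 : (2 : F) ≠ 0)
    (hZ : ∀ v, 2 * Q v = v ⬝ᵥ X.mk' Z *ᵥ v) :
    ∀ j < k, ∃ g, isoToMat Q g = X.mats TT (2 * j) := fun j hj => by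
  obtain ⟨g, hg⟩ := Ctx.exists_GL (X := X) h0 j hj
  refine ⟨⟨g, fun u _ => mul_left_cancel₀ h2 ?_⟩, hg⟩
  rw [hg, hZ, hZ, mulVec_mulVec, dotProduct_mulVec, vecMul_mulVec, ← mul_assoc,
    Ctx.form_mats h j hj, dotProduct_mulVec]

end fields

end Cfsg.Agent.Spor
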