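import Cfsg.Agent.Spor.Norm
import Cfsg.Agent.Spor.Suz22880.Act
import Cfsg.Agent.Spor.Suz22880.S.Main
import Cfsg.Agent.Spor.Suz22880.L.Main
import Cfsg.Agent.Spor.SuzA1.Main
import Cfsg.Agent.Spor.SuzN1.Main
import Cfsg.Agent.Spor.Suz1782.Main
import Cfsg.Agent.Spor.Suz416.Main
import Cfsg.Agent.Spor.Suz280.Main
import Cfsg.Agent.Spor.Suz135.Main
import Cfsg.Agent.Spor.Suz16.Main

set_option autoImplicit false
set_option maxRecDepth 100000

namespace Cfsg.Agent.Spor.SuzG

open Cfsg.Spor

theorem bound : Bound 7 7 RL 448345497600 :=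
  show Bound 7 7 Suz1782.RL (1782 * (416 * (280 * (135 * 16)))) from Suz1782.cert.bound (Suz416.cert.bound (Suz280.cert.bound (Suz135.cert.bound (Suz16.cert.bound_nil) (H := [([], 7, false), ([], 7, false), ([], 7, false), ([], 1, true), ([], 2, true), ([], 5, true), ([], 6, true)]) (by decide +kernel)) (H := [([], 12, false), ([], 12, false), ([], 12, false), ([], 12, false), ([], 0, true), ([], 1, true), ([], 2, true), ([], 4, true), ([], 5, true), ([], 7, true), ([], 10, true)]) (by decide +kernel)) (H := [([], 18, false), ([], 18, false), ([], 18, false), ([], 18, false), ([], 18, false), ([], 0, true), ([], 1, true), ([], 2, true), ([], 3, true), ([], 5, true), ([], 6, true), ([], 7, true), ([], 9, true), ([], 10, true), ([], 12, true), ([], 15, true), ([], 17, true)]) (by decide +kernel)) (H := [([], 26, false), ([], 26, false), ([], 26, false), ([], 26, false), ([], 26, false), ([], 26, false), ([], 0, true), ([], 1, true), ([], 2, true), ([], 3, true), ([], 4, true), ([], 6, true), ([], 7, true), ([], 8, true), ([], 9, true), ([], 11, true), ([], 12,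 true), ([], 13, true), ([], 15, true), ([], 16, true), ([], 18, true), ([], 21, true), ([], 23, true), ([], 25, true)]) (by decide +kernel)

theorem card_inj : Nat.card Suz = 448345497600 ∧ Function.Injective Suz22880.φ :=
  card_eq_of_bounds _ (by norm_num) (bound.card_dvd pres top)
    (by rw [Suz22880.range_φ, Suz22880.L.eG]; exact Suz22880.L.lb)

theorem card : Nat.card Suz = 448345497600 := card_inj.1

instance instFinite : Finite Suz := Nat.finite_of_card_ne_zero (by rw [card]; norm_num)

theorem coatom : IsCoatom Suz22880.H :=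
  Suz22880.act.coatom (by norm_num) (Suz22880.map_H.trans Suz22880.S.eH)
    (Suz22880.range_φ.trans Suz22880.S.eG) Suz22880.S.hX Suz22880.S.hXc Suz22880.S.hY

theorem core : Suz22880.H.normalCore = ⊥ :=
  Suz22880.act.core_eq_bot card_inj.2 (Suz22880.range_φ ▸ Suz22880.S.hfix)

theorem presN : Pres 7 7 Suz22880.L.XN f :=
  Pres.of_map card_inj.2 Suz22880.hφ ⟨Suz22880.cert.pres.sq, Suz22880.L.hXN⟩

def AW : List (List ℕ) := [[2, 4, 6, 4, 6, 2, 4, 6, 4, 6, 2, 4, 6, 4, 6, 2, 4, 6, 4, 6, 2, 4, 6, 4, 6]]

theorem perfect : commutator Suz = ⊤ :=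
  SuzA1.cert.bound_nil.perfect pres top [[0], [2], [4], [6], [8], [10], [12]] (H := [([], 0, true), ([], 1, true), ([], 2, true), ([], 3, true), ([], 4, true), ([], 5, true), ([], 6, true), ([], 7, true), ([], 8, true), ([], 9, true), ([], 10, true), ([], 11, true), ([], 12, true), ([], 13, true), ([], 14, true), ([], 15, true), ([], 16, true), ([], 17, true), ([], 18, true), ([], 19, true), ([], 20, true), ([], 21, true), ([], 22, true), ([], 23, true), ([], 24, true), ([], 25, true), ([], 27, true), ([], 1, true), ([], 2, true), ([], 3, true), ([], 4, true), ([], 5, true), ([], 35, true), ([], 7, true), ([], 8, true), ([], 38, true), ([], 39, true), ([], 43, true), ([], 12, true), ([], 13, true), ([], 14, true), ([], 51, true), ([], 16, true), ([], 17, true), ([], 18, true), ([], 19, true), ([], 67, true)]) (by decide +kernel)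

theorem simple : IsSimpleGroup Suz :=
  iwasawa_simple coatom core (A := wsub 7 f AW)
    (norm_of_list pres.ivOk (I := [[[0]], [[0]], [[0]], [[1]], [[0]], [[0]]]) (consAll_sound pres.ivOk presN.rel (H := [([], 0, true), ([], 1, true), ([], 2, true), ([], 3, true), ([], 4, true), ([], 5, true)]) (by decide +kernel)))
    (comm_of_list pres.ivOk (consAll_sound pres.ivOk presN.rel (H := [([], 6, false)]) (by decide +kernel)))
    (SuzN1.cert.bound_nil.normalClosure pres top AW (H := [([], 0, true), ([], 1, true), ([], 2, true), ([], 3, true), ([], 4, true), ([], 5, true), ([], 6, true), ([], 7, true), ([], 8, true), ([], 9, true), ([], 10, true), ([], 11, true), ([], 12, true), ([], 13, true), ([], 14, true), ([], 15, true), ([], 16, true), ([], 17, true), ([], 18, true), ([], 19, true), ([], 20, true), ([], 21, true), ([], 22, true), ([], 23, true), ([], 24, true), ([], 25, true), ([], 26, true)]) (by decide +kernel)) perfect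

end Cfsg.Agent.Spor.SuzG
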