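import Cfsg.Agent.Spor.Sub3

set_option autoImplicit false

namespace Cfsg.Agent.Spor

section
variable {G : Type*} [Group G]

/-- normal subgroups of a primitive group with a simple subgroup of index two -/
theorem cases_of_index_two [Finite G] {T S : Subgroup G} (hT : T.index = 2) (hs : IsSimpleGroup T)
    (hS : IsCoatom S) (hc : S.normalCore = ⊥) (hi : 2 < S.index) (M : Subgroup G) (hM : M.Normal) :
    M = ⊥ ∨ T ≤ M := by
  rcases hs.eq_bot_or_eq_top_of_normal (M.subgroupOf T) inferInstance with h | h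
  · left
    rw [eq_bot_iff, ← hc]
    refine Subgroup.normal_le_normalCore.mpr (by_contra fun h1 => ?_)
    have h2 : M ⊔ S = ⊤ := hS.2 _ (right_lt_sup.mpr h1)
    have h3 : Nat.card M ≤ 2 := by
      rw [Subgroup.subgroupOf_eq_bot, disjoint_iff, inf_comm] at h
      rw [← Subgroup.relIndex_bot_left, ← h, Subgroup.inf_relIndex_right, ← hT,
        ← Subgroup.relIndex_top_right]
      exact Subgroup.relIndex_le_of_le_right le_top (by
        rw [Subgroup.relIndex_top_right, hT]; norm_num)
    have h4 : M.index ∣ Nat.card S := by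
      rw [← Subgroup.relIndex_top_right, ← h2, Subgroup.relIndex_sup_left]
      exact Subgroup.relIndex_dvd_card M S
    have h5 := M.card_mul_index
    have h6 := S.card_mul_index
    have h7 := Nat.le_of_dvd Nat.card_pos h4
    have h8 : 0 < Nat.card S := Nat.card_pos
    nlinarith
  · exact Or.inr (Subgroup.subgroupOf_eq_top.mp h)

theorem cases_congr {G' : Type*} [Group G'] (e : G ≃* G') {C : Subgroup G}
    (h : ∀ M : Subgroup G, M.Normal → M = ⊥ ∨ C ≤ M) :
    ∀ M : Subgroup G', M.Normal → M = ⊥ ∨ C.map e.toMonoidHom ≤ M := fun M hM =>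
  (h (M.comap e.toMonoidHom) (hM.comap _)).imp
    (fun h1 => by
      rw [← Subgroup.map_comap_eq_self_of_surjective (f := e.toMonoidHom) e.surjective M, h1,
        Subgroup.map_bot])
    Subgroup.map_le_iff_le_comap.mpr

end

/-- a group of the right order satisfying the relators is isomorphic to any other one -/
theorem Bound.equiv {n k M : ℕ} {RL : List (List ℕ)} (b : Bound n k RL M) (hM : M ≠ 0)
    {G Δ : Type} [Group G] [Group Δ] {f : ℕ → G} {g : ℕ → Δ} (hf : Pres n k RL f)
    (hg : Pres n k RL g) (h1 : M ∣ Nat.card (gsub n f)) (h2 : M ∣ Nat.card (gsub n g)) :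
    ∃ e : gsub n f ≃* gsub n g, ∀ j < n, e (lift (gsub n f) f j) = lift (gsub n g) g j := by
  obtain ⟨ψ, hψ⟩ := b.exists_hom hM hf hg h1
  exact exists_equiv_of_inj ψ hψ (card_eq_of_bounds ψ hM (b _ _ hf)
    (by rwa [range_eq_gsub hψ (gsub_lift n f)])).2

end Cfsg.Agent.Spor
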