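import Cfsg.Agent.Spor.Sub2
import Cfsg.Agent.Spor.ONSimple
import Cfsg.Agent.Spor.J1a.Grp
import Cfsg.Agent.Spor.M11a.Grp
import Cfsg.Agent.Spor.ON122760.V.Main

set_option autoImplicit false
set_option maxRecDepth 100000

namespace Cfsg.Agent.Spor.ONG

open Cfsg.Spor

def WJ : List (List ℕ) := [[0], [2, 13, 6, 4, 13, 13, 0, 6, 12, 10, 13, 10, 2, 4, 8, 10, 0, 13, 2, 6, 4, 6, 13, 2, 4, 2, 0, 4, 2, 12, 6, 4, 6, 2, 12, 0, 10, 8, 4, 2, 10, 12, 10, 13, 6, 0, 12, 12, 4, 6, 12, 2]]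
def WM : List (List ℕ) := [[0], [2, 8, 12, 4, 10, 13, 6, 2, 13, 4, 13, 10, 6, 12, 10, 4, 8, 13, 2, 13, 10, 2, 4, 0, 6, 0, 4, 13, 6, 2, 6, 13, 8, 6, 2, 4, 2, 13, 4, 10, 2, 12, 10, 4, 12, 2, 4, 2, 6, 8, 12, 6, 2, 6, 12, 4, 0, 6, 0, 4, 2, 10, 12, 2, 12, 8, 4, 10, 13, 6, 10, 12, 4, 12, 2, 6, 12, 10, 4, 13, 8, 2]]

theorem presJ : Pres 2 1 J1a.RL (wv 7 f WJ) :=
  Pres.of_image pres.ivOk inj ON122760.hφ ON122760.V.hXJ pres.rel (WD := WJ) (H := [([], 30, false), ([], 22, true), ([], 23, true), ([], 24, true), ([], 25, true), ([], 26, true), ([], 27, true), ([4, 2, 12, 6, 4, 6, 2, 12, 0, 10, 8, 4, 2, 10, 12, 10, 13, 6, 0, 12, 12, 4, 6, 12, 2], 0, false), ([], 28, true), ([], 29, true)])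
    (by decide +kernel)

theorem presM : Pres 2 1 M11a.RL (wv 7 f WM) :=
  Pres.of_image pres.ivOk inj ON122760.hφ ON122760.V.hXM pres.rel (WD := WM) (H := [([], 28, false), ([], 22, true), ([], 23, true), ([0, 2, 8, 12, 4, 10, 13, 6, 2, 13, 4, 13, 10, 6, 12, 10, 4, 8, 13, 2, 13, 10, 2, 4, 0, 6, 0, 4, 13, 6, 2, 6, 13, 8, 6, 2, 4, 2, 13, 4, 10, 2, 12, 2, 12, 10, 4, 12, 2, 4, 2, 6, 8, 12, 6, 2, 6, 12, 4, 0, 6, 0, 4, 2, 10, 12, 2, 12, 8, 4, 10, 13, 6, 10, 12, 4, 12, 2, 6, 12, 10, 4, 13, 8, 2], 25, false), ([], 28, false), ([], 28, false), ([], 25, true), ([], 26, true), ([], 27, true)])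
    (by decide +kernel)

theorem subJ : IsSimpleGroup (wsub 7 f WJ) ∧ Nat.card (wsub 7 f WJ) = 175560 :=
  J1a.bound.simple (by norm_num) J1a.cert.pres presJ J1a.lbP J1a.simpleP
    (wv_ne_one (by norm_num) (ev_ne_one_of_image ON122760.hφ ON122760.V.a_ne) rfl)

theorem subM : IsSimpleGroup (wsub 7 f WM) ∧ Nat.card (wsub 7 f WM) = 7920 :=
  M11a.bound.simple (by norm_num) M11a.cert.pres presM M11a.lbP M11a.simpleP
    (wv_ne_one (by norm_num) (ev_ne_one_of_image ON122760.hφ ON122760.V.a_ne) rfl)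

end Cfsg.Agent.Spor.ONG
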