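import Cfsg.Agent.Spor.J4L.Main
import Cfsg.Agent.Spor.J4N1.Main

set_option autoImplicit false
set_option maxRecDepth 100000

namespace Cfsg.Agent.Spor.J4Z

section
variable {G : Type} [Group G] {g : ℕ → G} (hg : Pres 3 0 J4C.RL g) (ht : gsub 3 g = ⊤)
  (hl : 501397585920 * 173067389 ∣ Nat.card G)
include hg ht hl

theorem exact : DExact (J4C2.Y (J4C.pres2 hg)).ψ ((J4C2.Y (J4C.pres2 hg)).xs J4D.V.CL)
    (DCtx.Ss 3 J4N.p J4D.V.CL) 173067389 := J4C2.exact (J4C.pres2 hg) (J4C.top2 ht) hl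

theorem card : Nat.card G = 86775571046077562880 := by
  rw [(exact hg ht hl).card, J4N.cardP]

theorem core : (J4C2.Y (J4C.pres2 hg)).ψ.range.normalCore = ⊥ :=
  (exact hg ht hl).core (i := ⟨6, by decide⟩) (core_of_card J4N.coatomP J4N.coreP J4N.indexP
    (s := 6072) (card_of_index (J4N.cardP.trans (show _ = 82575360 * 6072 by norm_num)) (by
      rw [(J4C2.done (J4C.pres2 hg)).card_S (exact hg ht hl)]; decide +kernel) (by norm_num))
    (by norm_num))

end

theorem cardH : Nat.card J4V.H = 86775571046077562880 := card J4V.pres J4V.top J4L.lb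

theorem simpleH : IsSimpleGroup J4V.H :=
  simple_of_coatom (J4C2.coatom J4L.pres2 (J4C.top2 J4V.top) J4L.lb) (core J4V.pres J4V.top J4L.lb)
    (J4L.ord37 ▸ pow_orderOf_eq_one (ev (atm 3 J4V.h) [0, 4, 2]))
    (by rw [← Nat.card_congr (MonoidHom.ofInjective J4L.injψ).toEquiv, J4N.cardP]; norm_num)
    fun N _ h => J4N1.cert.bound_nil.eq_top J4V.pres J4V.top N (AW := [[0, 4, 2]])
      (fun w hw => List.mem_singleton.mp hw ▸ h) (H := [([], 0, true), ([], 1, true), ([], 2, true), ([], 4, true), ([], 6, true), ([], 7, true), ([], 8, true), ([], 9, true), ([], 12, true)]) (by decide +kernel)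

open Cfsg.Spor Cfsg.Spor.J4

/-- the generators -/
def f : ℕ → J4 := pgen J4C.rels J4C.gl
theorem pres : Pres 3 0 J4C.RL f := J4C.coded.pres
theorem top : gsub 3 f = ⊤ := J4C.coded.gsub_eq

theorem homH : ∃ σ : J4 →* J4V.H, Function.Surjective σ := by
  obtain ⟨σ, h⟩ := J4C.coded.hom (by decide) J4V.pres
  exact ⟨σ, MonoidHom.range_eq_top.mp ((range_eq_gsub h top).trans J4V.top)⟩

theorem lb : 501397585920 * 173067389 ∣ Nat.card J4 := by
  obtain ⟨σ, h⟩ := homH
  exact J4L.lb.trans (Subgroup.card_dvd_of_surjective σ h)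

theorem isJ4 : IsSimpleGroup J4 ∧ Nat.card J4 = 86775571046077562880 := by
  obtain ⟨σ, h⟩ := homH
  exact simple_of_surj h (card pres top lb) (by norm_num) simpleH cardH

theorem Heq : (Subgroup.closure ({x, y, (y * ((y * x) ^ 4 * y⁻¹ * x)⁻¹ * t * ((y * x) ^ 4 * y⁻¹ * x)) ^ 3} :
    Set (FreeGroup Gen))).map (PresentedGroup.mk J4C.rels) = (J4C2.Y (J4C.pres2 pres)).ψ.range := by
  rw [J4C2.range, J4C.coded.map_closure
    (ws := [x, y, (y * ((y * x) ^ 4 * y⁻¹ * x)⁻¹ * t * ((y * x) ^ 4 * y⁻¹ * x)) ^ 3])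
    (BW := J4C.WD.take 3) (by simp) (by decide +kernel) (by decide +kernel)]
  refine gsub_congr fun j (hj : j < 3) => ?_
  interval_cases j <;> rfl

theorem Meq : (Subgroup.closure ({x, y} : Set (FreeGroup Gen))).map (PresentedGroup.mk J4C.rels) =
    ((J4C2.Y (J4C.pres2 pres)).ψ.comp (J4N.Y J4N.presP).ψ).range := by
  rw [range_eq_gsub (g := wv 3 f J4C.WD) (fun j hj => by
      rw [MonoidHom.comp_apply, J4N.hψ J4N.presP j hj, J4C2.hψ _ j (hj.trans (by decide))])
    (gsub_lift 2 _), J4C.coded.map_closure (ws := [x, y])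
    (BW := J4C.WD.take 2) (by simp) (by decide +kernel) (by decide +kernel)]
  refine gsub_congr fun j (hj : j < 2) => ?_
  interval_cases j <;> rfl

theorem injM : Function.Injective ((J4C2.Y (J4C.pres2 pres)).ψ.comp (J4N.Y J4N.presP).ψ) :=
  (exact pres top lb).inj.comp (J4N.exact J4N.presP (gsub_lift 3 _) J4N.hl).inj

end Cfsg.Agent.Spor.J4Z
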