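import Cfsg.Agent.Spor.Sub
import Cfsg.Agent.Spor.HeSimple
import Cfsg.Agent.Spor.S44M.Main
import Cfsg.Agent.Spor.He2058.Act
import Cfsg.Agent.Spor.He2058.U.Main

set_option autoImplicit false
set_option maxRecDepth 100000

namespace Cfsg.Agent.Spor.HeG

open Cfsg.Spor

def WS : List (List ℕ) := [[4], [6], [8], [10], [2, 4, 6, 8, 2, 4, 6, 8, 2, 4, 6, 8, 2, 4, 6, 8, 2, 4, 6, 8, 2, 4, 6, 8, 2, 4, 6, 8]]

theorem inj2058 : Function.Injective He2058.φ :=
  haveI := simple
  inj_of_simple _ (x := ev (atm 7 f) [4]) (by rw [ev_atm_map' He2058.hφ]; exact He2058.U.c_ne)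

theorem presS : Pres 5 4 S85.RL (wv 7 f WS) :=
  Pres.of_image pres.ivOk inj2058 He2058.hφ He2058.U.hXN pres.rel (WD := WS) (H := [([], 33, false), ([], 33, false), ([], 33, false), ([], 33, false), ([], 13, false), ([], 16, false), ([], 25, true), ([], 18, false), ([], 26, true), ([], 15, true), ([], 27, true), ([], 28, true), ([], 29, true), ([], 30, true), ([], 31, true), ([], 32, true)])
    (by decide +kernel)

theorem s44 : ∃ N : Subgroup He2058.H, N.index = 2 ∧ ∃ (F : Type) (_ : Field F) (_ : Fintype F),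
    Fintype.card F = 4 ∧ Nonempty (N ≃* Matrix.symplecticGroup (Fin 2) F) := by
  obtain ⟨F, _, _, hF⟩ := exists_F4
  obtain ⟨e⟩ := S44M.iso hF
  obtain ⟨e', -⟩ := iso_of_simple S85.bound (by norm_num) S85.cert.pres presS S85.lbP S85.simpleP
    (wv_ne_one (by norm_num) (ev_ne_one_of_image He2058.hφ He2058.U.c_ne) rfl)
  have hle : wsub 7 f WS ≤ He2058.H := wsub_mono (by decide +kernel)
  exact ⟨_, index_subgroupOf_of_card hle (M := 979200)
    (card_of_index (card.trans (by norm_num)) He2058.act.index (by norm_num))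
    ((Nat.card_congr e'.toEquiv).symm.trans S85.cardP) (by norm_num), F, inferInstance, inferInstance,
    hF, ⟨(Subgroup.subgroupOfEquivOfLe hle).trans (e'.symm.trans e)⟩⟩

end Cfsg.Agent.Spor.HeG
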