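import Cfsg.Agent.Spor.PX10
import Cfsg.Agent.Spor.HNm.Grp
import Cfsg.Agent.Spor.HNE.Main
import Cfsg.Agent.Spor.HNc.Main

set_option autoImplicit false
set_option maxRecDepth 100000

namespace Cfsg.Agent.Spor.HNB

def RL : List (List ℕ) := [[2, 2, 2, 2, 2, 2], [0, 0, 2, 0, 0, 3], [1, 3, 0, 2, 1, 3, 0, 2, 1, 3, 0, 2], [1, 2, 2, 0, 2, 2, 2, 1, 2, 2, 0, 2, 2, 2, 1, 2, 2, 0, 2, 2, 2], [0, 2, 0, 2, 0, 2, 0, 2, 0, 2, 0, 2, 0, 2, 0, 2], [0, 2, 0, 2, 2, 2, 0, 2, 0, 2, 2, 2, 0, 2, 0, 2, 2, 2, 0, 2, 0, 2, 2, 2], [4, 4], [4, 0, 4, 0], [5, 2, 1, 3, 3, 1, 3, 1, 3, 4, 2, 0, 2, 0, 2, 2, 0, 3, 1, 1], [4, 3, 1, 3, 1, 3, 3, 3, 4, 2, 2, 2, 0, 2, 0, 2, 0, 3, 1, 3, 1, 3, 3, 3, 4, 2, 2, 2, 0, 2, 0, 2, 0, 3, 1, 3, 1, 3, 3, 3, 4, 2, 2, 2, 0, 2, 0, 2, 0]]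

section
variable {G : Type} [Group G] {g : ℕ → G} (hg : Pres 3 0 RL g)
include hg

theorem presS : Pres 2 0 HNm.RL g := hg.restrict (H := [([], 0, true), ([], 1, true), ([], 2, true), ([], 3, true), ([], 4, true), ([], 5, true)]) (by decide +kernel)
theorem bw : ∀ w ∈ HNE.BW, ev (atm 3 g) w = 1 := hg.cons_repl2 (y := 5) (u := [4]) (H := [([], 6, true), ([4], 7, true), ([4], 8, true), ([], 6, true), ([], 10, false), ([], 10, false), ([], 9, true)]) (by decide +kernel)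
theorem homψ : ∃ ψ : HNm.P →* G, ∀ j < 2, ψ (HNm.p j) = g j :=
  HNm.bound.exists_hom (by norm_num) HNm.pres (presS hg) HNm.lbP

/-- the data of the double coset enumeration -/
noncomputable def Y : DCtx HNE.D (ZMod 5) HNm.P G := ⟨HNm.X, (homψ hg).choose, g 2⟩

theorem hψ : ∀ j < 2, (Y hg).ψ (HNm.p j) = g j := (homψ hg).choose_spec
theorem hA : (Y hg).At 4 (atm 2 HNm.p) (atm 3 g) := DCtx.At.of HNm.gens (hψ hg) rfl
theorem upto : (Y hg).Upto 624 := HNE.upto (hA hg) (bw hg)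
theorem range : (Y hg).ψ.range = gsub 2 g := range_eq_gsub (hψ hg) (gsub_lift 2 _)

end

theorem kchk : band (Nat.blt 623 624) (band (lall (fun y => Nat.blt y 4) [1, 2, 2, 1, 3, 1, 3, 1, 2, 2, 0, 3, 3, 0, 2, 0, 2, 0, 3, 3]) ((HNE.D.fc 623).onC fun i j b c =>
    band (Nat.beq i j) (band (Nat.beq c HNE.D.A.one) (Nat.beq b (HNE.D.ev [1, 2, 2, 1, 3, 1, 3, 1, 2, 2, 0, 3, 3, 0, 2, 0, 2, 0, 3, 3]))))) = true := by
  decide +kernel

theorem ord3 : orderOf (ev (atm 2 HNm.p) [1, 2, 2, 1, 3, 1, 3, 1, 2, 2, 0, 3, 3, 0, 2, 0, 2, 0, 3, 3]) = 3 :=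
  (HNm.gens.ev1 _).2 ▸ (HNm.gens.ev1 _).1.ord (by norm_num) (by decide +kernel)

theorem cardP : Nat.card HNm.P = 3 * 504000 := Nat.dvd_antisymm (HNm.bound _ _ HNm.pres) HNm.lbP

theorem bound : Bound 3 0 RL 177408000 := fun G _ g hg => by
  have h0 := (upto hg).ker (hA hg) kchk
  have hx := rel_lt (N := 3) (HNm.XL (presS hg)) (by decide)
  refine HNc.cert.card_dvd (((hg.append hx).append (RL' := [_])
    fun l hl => List.mem_singleton.mp hl ▸ h0).cons (H := [([], 0, true), ([], 1, true), ([], 2, true), ([], 3, true), ([], 4, true), ([], 5, true), ([], 6, true), ([], 7, true), ([], 8, true), ([], 9, true), ([], 10, true), ([], 12, true)]) (by decide +kernel)) (M := 504000) ?_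
  have h1 : ev (atm 2 HNm.p) [1, 2, 2, 1, 3, 1, 3, 1, 2, 2, 0, 3, 3, 0, 2, 0, 2, 0, 3, 3] ∈ (Y hg).ψ.ker := ((hA hg).ψ_ev (by decide)).trans h0
  have h2 : 3 ∣ Nat.card (Y hg).ψ.ker := by
    rw [← ord3, ← Nat.card_zpowers]
    exact Subgroup.card_dvd_of_le (Subgroup.zpowers_le.2 h1)
  have h3 := (Y hg).ψ.ker.card_mul_index
  rw [Subgroup.index_ker, cardP, range hg] at h3
  rw [wsub_eq_gsub (n := 2) g (by decide) (by decide)]
  obtain ⟨k, hk⟩ := h2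
  exact ⟨k, by rw [hk] at h3; linarith⟩

end Cfsg.Agent.Spor.HNB
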