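import Cfsg.Agent.Spor.HNL.Main
import Cfsg.Agent.Spor.HNN1.Main
import Cfsg.Agent.Spor.HNP.K.Main

set_option autoImplicit false
set_option maxRecDepth 100000

namespace Cfsg.Agent.Spor.HNZ

section
variable {G : Type} [Group G] {g : ℕ → G} (hg : Pres 4 0 HNC.RL g) (ht : gsub 4 g = ⊤)
  (hl : 177408000 * 1539000 ∣ Nat.card G)
include hg ht hl

theorem card : Nat.card G = 273030912000000 := by
  rw [(HNC.exact hg ht hl).card, HNP.cardP]

theorem core : (HNC.Y hg).ψ.range.normalCore = ⊥ :=
  (HNC.exact hg ht hl).core (i := ⟨1, by decide⟩) HNP.K.core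

end

theorem cardH : Nat.card HNV.H = 273030912000000 := card HNV.pres HNV.top HNL.lb

instance instFiniteH : Finite HNV.H := Nat.finite_of_card_ne_zero (by rw [cardH]; norm_num)

theorem simpleH : IsSimpleGroup HNV.H :=
  simple_of_coatom ((HNC.done HNV.pres).coatom' (HNC.gtop HNV.pres HNV.top)
      (by rw [(HNC.exact HNV.pres HNV.top HNL.lb).index]; norm_num) HNL.gen)
    (core HNV.pres HNV.top HNL.lb)
    (HNL.ord19 ▸ pow_orderOf_eq_one (ev (atm 4 HNV.h) [6, 2, 4, 2, 0, 6, 4]))
    (by
      rw [← Nat.card_congr (MonoidHom.ofInjective (HNC.exact HNV.pres HNV.top HNL.lb).inj).toEquiv,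
        HNP.cardP]
      norm_num)
    fun N _ h => HNN1.cert.bound_nil.eq_top HNV.pres HNV.top N (AW := [[6, 2, 4, 2, 0, 6, 4]])
      (fun w hw => List.mem_singleton.mp hw ▸ h) (H := [([], 0, true), ([], 1, true), ([], 2, true), ([], 3, true), ([], 4, true), ([], 5, true), ([], 6, true), ([], 7, true), ([], 8, true), ([], 9, true), ([], 10, true), ([], 11, true), ([], 12, true), ([], 13, true), ([], 14, true)]) (by decide +kernel)

open Cfsg.Spor Cfsg.Spor.HN

/-- the generators -/
def f : ℕ → HN := pgen HNC.rels HNC.gl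
theorem pres : Pres 4 0 HNC.RL f := HNC.coded.pres
theorem top : gsub 4 f = ⊤ := HNC.coded.gsub_eq

theorem homH : ∃ σ : HN →* HNV.H, Function.Surjective σ := by
  obtain ⟨σ, h⟩ := HNC.coded.hom (by decide) HNV.pres
  exact ⟨σ, MonoidHom.range_eq_top.mp ((range_eq_gsub h top).trans HNV.top)⟩

theorem lb : 177408000 * 1539000 ∣ Nat.card HN := by
  obtain ⟨σ, h⟩ := homH
  exact HNL.lb.trans (Subgroup.card_dvd_of_surjective σ h)

theorem isHN : IsSimpleGroup HN ∧ Nat.card HN = 273030912000000 := by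
  obtain ⟨σ, h⟩ := homH
  exact simple_of_surj h (card pres top lb) (by norm_num) simpleH cardH

theorem Heq : (Subgroup.closure ({x, y, z} : Set (FreeGroup Gen))).map (PresentedGroup.mk HNC.rels) =
    (HNC.Y pres).ψ.range := by
  rw [HNC.range, HNC.coded.map_closure (ws := [x, y, z]) (BW := [[0], [2], [4]]) (by simp)
    (by decide +kernel) (by decide +kernel)]
  exact wsub_eq_gsub (n := 3) (N := 4) f (by decide) (by decide)

end Cfsg.Agent.Spor.HNZ
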