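import Cfsg.Agent.Spor.TT3
import Cfsg.Agent.Spor.Fi24G
import Cfsg.Agent.Spor.Fi24A2.Main

set_option autoImplicit false
set_option maxRecDepth 100000

namespace Cfsg.Agent.Spor.Fi24G

open Cfsg.Spor

theorem index_comm : (commutator Fi24).index = 2 :=
  Fi24A2.cert.index_commutator pres top
    (hom (Fi24A2.cert.pres.cons (H := [([], 0, true), ([], 1, true), ([], 2, true), ([], 3, true), ([], 4, true), ([], 5, true), ([], 6, true), ([], 7, true), ([], 8, true), ([], 9, true), ([], 10, true), ([], 11, true), ([], 12, true), ([], 13, true), ([], 14, true), ([], 15, true), ([], 16, true), ([], 17, true), ([], 18, true), ([], 19, true), ([], 20, true), ([], 21, true), ([], 22, true), ([], 23, true), ([], 24, true), ([], 25, true), ([], 26, true), ([], 27, true), ([], 28, true), ([], 29, true), ([], 30, true), ([], 31, true), ([], 32, true), ([], 33, true), ([], 34, true), ([], 35, true), ([], 36, true), ([], 37, true), ([], 38, true), ([], 39, true), ([], 40, true), ([], 41, true), ([], 42, true), ([], 43, true), ([], 44, true), ([], 45, true), ([], 46, true), ([], 47, true), ([], 48, true), ([], 49, true), ([], 50, true), ([], 51, true), ([], 52, true), ([], 53, true), ([], 54, true),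 ([], 55, true), ([], 56, true), ([], 57, true), ([], 58, true), ([], 59, true), ([], 60, true), ([], 61, true), ([], 62, true), ([], 63, true), ([], 64, true), ([], 65, true), ([], 66, true), ([], 67, true)]) (by decide +kernel))) (gw := [[0], [2], [4], [6], [8], [10], [12], [14], [16], [18], [20], [22]]) (by decide +kernel)
    (H := [([], 0, true), ([], 1, true), ([], 2, true), ([], 3, true), ([], 4, true), ([], 5, true), ([], 6, true), ([], 7, true), ([], 8, true), ([], 9, true), ([], 10, true), ([], 11, true), ([], 12, true), ([], 13, true), ([], 14, true), ([], 15, true), ([], 16, true), ([], 17, true), ([], 18, true), ([], 19, true), ([], 20, true), ([], 21, true), ([], 22, true), ([], 23, true), ([], 24, true), ([], 25, true), ([], 26, true), ([], 27, true), ([], 28, true), ([], 29, true), ([], 30, true), ([], 31, true), ([], 32, true), ([], 33, true), ([], 34, true), ([], 35, true), ([], 36, true), ([], 37, true), ([], 38, true), ([], 39, true), ([], 40, true), ([], 41, true), ([], 42, true), ([], 43, true), ([], 44, true), ([], 45, true), ([], 46, true), ([], 47, true), ([], 48, true), ([], 49, true), ([], 50, true), ([], 51, true), ([], 52, true), ([], 53, true), ([],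 54, true), ([], 55, true), ([], 56, true), ([], 57, true), ([], 58, true), ([], 59, true), ([], 60, true), ([], 61, true), ([], 62, true), ([], 63, true), ([], 64, true), ([], 65, true), ([], 66, true), ([], 67, true), ([], 69, true), ([], 1, true), ([], 2, true), ([], 3, true), ([], 4, true), ([], 5, true), ([], 6, true), ([], 7, true), ([], 8, true), ([], 9, true), ([], 79, true), ([], 82, true), ([], 12, true), ([], 13, true), ([], 14, true), ([], 15, true), ([], 16, true), ([], 17, true), ([], 18, true), ([], 19, true), ([], 20, true), ([], 95, true), ([], 22, true), ([], 23, true), ([], 24, true), ([], 25, true), ([], 26, true), ([], 27, true), ([], 28, true), ([], 29, true), ([], 108, true), ([], 31, true), ([], 32, true), ([], 111, true), ([], 34, true), ([], 35, true), ([], 36, true), ([], 37, true), ([], 121, true), ([], 39, true), ([], 40, true), ([], 41, true), ([], 42, true), ([], 43, true), ([], 44, true), ([], 134, true), ([], 46, true), ([], 47, true), ([], 48, true), ([], 49, true), ([], 50, true), ([], 51, true), ([], 52, true), ([], 149, true), ([], 54, true), ([], 55, true), ([], 160, true), ([], 57, true), ([], 58, true), ([], 59, true), ([], 60, true), ([],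 61, true), ([], 62, true), ([], 63, true), ([], 64, true), ([], 199, true)]) (H' := [([], 134, false), ([], 68, true), ([], 1, true), ([], 2, true), ([], 3, true), ([], 4, true), ([], 5, true), ([], 6, true), ([], 7, true), ([], 8, true), ([], 9, true), ([], 78, true), ([], 68, false), ([], 134, false), ([], 79, true), ([], 12, true), ([], 13, true), ([], 14, true), ([], 15, true), ([], 16, true), ([], 17, true), ([], 18, true), ([], 19, true), ([], 20, true), ([], 1, false), ([], 79, false), ([], 134, false), ([], 89, true), ([], 22, true), ([], 23, true), ([], 24, true), ([], 25, true), ([], 26, true), ([], 27, true), ([], 28, true), ([], 29, true), ([], 2, false), ([], 12, false), ([], 89, false), ([], 134, false), ([], 98, true), ([], 31, true), ([], 32, true), ([], 101, true), ([], 34, true), ([], 35, true), ([], 36, true), ([], 37, true), ([], 3, false), ([], 13, false), ([], 22, false), ([], 98, false), ([], 134, false), ([], 106, true), ([], 39, true), ([], 40, true), ([], 41, true), ([], 42, true), ([], 43, true), ([], 44, true), ([], 4, false), ([], 14, false), ([], 23, false), ([], 31, false), ([], 106, false), ([], 134, false), ([], 113, true), ([], 46, true), ([], 47,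 true), ([], 48, true), ([], 49, true), ([], 50, true), ([], 5, false), ([], 15, false), ([], 24, false), ([], 32, false), ([], 39, false), ([], 113, false), ([], 134, false), ([], 51, true), ([], 52, true), ([], 121, true), ([], 54, true), ([], 55, true), ([], 6, false), ([], 16, false), ([], 25, false), ([], 101, false), ([], 40, false), ([], 46, false), ([], 51, false), ([], 134, false), ([], 124, true), ([], 57, true), ([], 58, true), ([], 59, true), ([], 7, false), ([], 17, false), ([], 26, false), ([], 34, false), ([], 41, false), ([], 47, false), ([], 52, false), ([], 124, false), ([], 134, false), ([], 60, true), ([], 61, true), ([], 62, true), ([], 8, false), ([], 18, false), ([], 27, false), ([], 35, false), ([], 42, false), ([], 48, false), ([], 121, false), ([], 57, false), ([], 60, false), ([], 134, false), ([], 63, true), ([], 64, true), ([], 9, false), ([], 19, false), ([], 28, false), ([], 36, false), ([], 43, false), ([], 49, false), ([], 54, false), ([], 58, false), ([], 61, false), ([], 63, false), ([], 134, false), ([], 133, true), ([], 78, false), ([], 20, false), ([], 29, false), ([], 37, false), ([], 44, false), ([], 50, false), ([], 55, false), ([], 59, false),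 ([], 62, false), ([], 64, false), ([], 133, false), ([], 134, false)]) (by decide +kernel) (by decide +kernel)

end Cfsg.Agent.Spor.Fi24G
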