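import Cfsg.Agent.Spor.TT3
import Cfsg.Agent.Spor.Fi24Idx
import Cfsg.Agent.Spor.Fi23Simple
import Cfsg.Agent.Spor.Fi306936.Act
import Cfsg.Agent.Spor.Fi306936.S.Main
import Cfsg.Agent.Spor.Fi306936.L.Main
import Cfsg.Agent.Spor.Fi24N1.Main
import Cfsg.Agent.Spor.Fi120.Main
import Cfsg.Agent.Spor.Fi28431.L.Main

set_option autoImplicit false
set_option maxRecDepth 100000

namespace Cfsg.Agent.Spor.Fi24G

open Cfsg.Spor

theorem b120 : Bound 9 9 Fi120.RL 348364800 :=
  show Bound 9 9 Fi120.RL (120 * 2903040) from Fi120.cert.bound FiB.bE7 (H := [([], 37, false), ([], 37, false), ([], 37, false), ([], 37, false), ([], 37, false), ([], 37, false), ([], 37, false), ([], 26, false), ([], 22, false), ([], 17, false), ([], 11, false), ([], 4, false), ([], 30, true), ([], 21, false), ([], 16, false), ([], 10, false), ([], 3, false), ([], 27, true), ([], 15, false), ([], 9, false), ([], 2, false), ([], 23, true), ([], 8, false), ([], 1, false), ([], 18, true), ([], 0, false), ([], 12, true), ([], 5, true)]) (by decide +kernel)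

theorem b522 : Bound 10 10 Fi28431.RL 9904359628800 :=
  show Bound 10 10 Fi28431.RL (28431 * 348364800) from
    Fi28431.cert.bound b120 (H := [([], 46, false), ([], 46, false), ([], 46, false), ([], 46, false), ([], 46, false), ([], 46, false), ([], 46, false), ([], 46, false), ([], 46, false), ([], 0, true), ([], 1, true), ([], 2, true), ([], 3, true), ([], 4, true), ([], 5, true), ([], 7, true), ([], 8, true), ([], 9, true), ([], 10, true), ([], 11, true), ([], 12, true), ([], 13, true), ([], 15, true), ([], 16, true), ([], 17, true), ([], 18, true), ([], 19, true), ([], 20, true), ([], 22, true), ([], 23, true), ([], 24, true), ([], 25, true), ([], 26, true), ([], 28, true), ([], 29, true), ([], 30, true), ([], 31, true), ([], 33, true), ([], 34, true), ([], 35, true), ([], 37, true), ([], 38, true), ([], 40, true), ([], 41, true), ([], 44, true), ([], 45, true)]) (by decide +kernel)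

def sp : List ℕ := [6, 4, 2, 6, 8, 10, 6, 14, 16, 6, 4, 2, 6, 8, 10, 6, 14, 16, 6, 4, 2, 6, 8, 10, 6, 14, 16, 6, 4, 2, 6, 8, 10, 6, 14, 16, 6, 4, 2, 6, 8, 10, 6, 14, 16, 6, 4, 2, 6, 8, 10, 6, 14, 16, 6, 4, 2, 6, 8, 10, 6, 14, 16, 6, 4, 2, 6, 8, 10, 6, 14, 16, 6, 4, 2, 6, 8, 10, 6, 14, 16, 6, 4, 2, 6, 8, 10, 6, 14, 16]

theorem spider : ev (atm 12 f) sp = 1 := by
  have h := b522.transfer (by norm_num) Fi28431.cert.pres (Fi28431.L.eG ▸ Fi28431.L.lb)
    (pres.subst (WD := [[20], [22], [0], [2], [4], [6], [8], [10], [14], [16]]) (H := [([], 68, false), ([], 68, false), ([], 68, false), ([], 68, false), ([], 68, false), ([], 68, false), ([], 68, false), ([], 68, false), ([], 68, false), ([], 68, false), ([], 0, true), ([], 1, true), ([], 2, true), ([], 3, true), ([], 4, true), ([], 6, true), ([], 7, true), ([], 9, true), ([], 10, true), ([], 11, true), ([], 12, true), ([], 13, true), ([], 14, true), ([], 16, true), ([], 17, true), ([], 19, true), ([], 20, true), ([], 21, true), ([], 22, true), ([], 23, true), ([], 25,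 true), ([], 26, true), ([], 28, true), ([], 29, true), ([], 30, true), ([], 31, true), ([], 33, true), ([], 34, true), ([], 36, true), ([], 37, true), ([], 38, true), ([], 40, true), ([], 41, true), ([], 43, true), ([], 44, true), ([], 46, true), ([], 47, true), ([], 49, true), ([], 50, true), ([], 56, true), ([], 58, true), ([], 59, true), ([], 61, true), ([], 62, true), ([], 65, true), ([], 66, true)]) (by decide +kernel)) (Fi28431.xrel _ List.mem_cons_self)
  rw [← ev_subW pres.ivOk] at h
  exact h

theorem pres' : Pres 12 12 (RL ++ [sp]) f :=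
  pres.append fun l hl => by rw [List.mem_singleton.mp hl]; exact spider

def RH : List (List ℕ) := [[0, 2, 0, 2, 0, 2], [0, 4, 0, 4], [0, 6, 0, 6], [0, 8, 0, 8], [0, 10, 0, 10], [0, 12, 0, 12], [0, 14, 0, 14], [0, 16, 0, 16], [0, 18, 0, 18], [0, 20, 0, 20], [2, 4, 2, 4, 2, 4], [2, 6, 2, 6], [2, 8, 2, 8], [2, 10, 2, 10], [2, 12, 2, 12], [2, 14, 2, 14], [2, 16, 2, 16], [2, 18, 2, 18], [2, 20, 2, 20], [4, 6, 4, 6, 4, 6], [4, 8, 4, 8], [4, 10, 4, 10], [4, 12, 4, 12], [4, 14, 4, 14], [4, 16, 4, 16], [4, 18, 4, 18], [4, 20, 4, 20], [6, 8, 6, 8, 6, 8], [6, 10, 6, 10], [6, 12, 6, 12], [6, 14, 6, 14, 6, 14], [6, 16, 6, 16], [6, 18, 6, 18], [6, 20, 6, 20], [8, 10, 8, 10, 8, 10], [8, 12, 8, 12], [8, 14, 8, 14], [8, 16, 8, 16], [8, 18, 8, 18], [8, 20, 8, 20], [10, 12, 10, 12, 10, 12], [10, 14, 10, 14], [10, 16, 10, 16], [10, 18, 10, 18], [10, 20, 10, 20], [12, 14, 12, 14], [12, 16, 12, 16], [12, 18, 12, 18, 12, 18], [12, 20, 12, 20], [14, 16, 14, 16, 14, 16], [14, 18, 14, 18], [14, 20, 14, 20], [16, 18, 16, 18], [16, 20, 16, 20],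 [18, 20, 18, 20], [20, 14, 10, 8, 6, 4, 2, 0, 14, 10, 8, 6, 4, 2, 0, 14, 10, 8, 6, 4, 2, 0, 14, 10, 8, 6, 4, 2, 0, 14, 10, 8, 6, 4, 2, 0, 14, 10, 8, 6, 4, 2, 0, 14, 10, 8, 6, 4, 2, 0, 14, 10, 8, 6, 4, 2, 0, 14, 10, 8, 6, 4, 2, 0], [6, 4, 2, 6, 8, 10, 6, 14, 16, 6, 4, 2, 6, 8, 10, 6, 14, 16, 6, 4, 2, 6, 8, 10, 6, 14, 16, 6, 4, 2, 6, 8, 10, 6, 14, 16, 6, 4, 2, 6, 8, 10, 6, 14, 16, 6, 4, 2, 6, 8, 10, 6, 14, 16, 6, 4, 2, 6, 8, 10, 6, 14, 16, 6, 4, 2, 6, 8, 10, 6, 14, 16, 6, 4, 2, 6, 8, 10, 6, 14, 16, 6, 4, 2, 6, 8, 10, 6, 14, 16]]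

theorem b23 : Bound 10 10 Fi23G.RL 4089470473293004800 := fun G _ g hg => by
  obtain ⟨ψ, hψ⟩ := Fi23G.hom hg
  rw [← range_eq_gsub hψ Fi23G.top, ← Fi23G.card]
  exact Subgroup.card_range_dvd ψ

theorem bH : Bound 11 11 RH (2 * 4089470473293004800) :=
  b23.twist (H := [([], 9, true), ([], 18, true), ([], 26, true), ([], 33, true), ([], 39, true), ([], 44, true), ([], 48, true), ([], 51, true), ([], 53, true), ([], 54, true)]) (H' := [([], 0, true), ([], 1, true), ([], 2, true), ([], 3, true), ([], 4, true), ([], 5, true), ([], 6, true), ([], 7, true), ([], 8, true), ([], 10, true), ([], 11, true), ([], 12, true), ([], 13, true), ([], 14, true), ([], 15, true), ([], 16, true), ([], 17, true), ([], 19, true), ([], 20, true), ([], 21, true), ([], 22, true), ([], 23, true), ([], 24, true), ([], 25, true), ([], 27, true), ([], 28, true), ([], 29, true), ([], 30, true), ([], 31, true), ([], 32, true), ([], 34, true), ([], 35, true), ([], 36, true), ([], 37, true), ([], 38, true), ([], 40, true), ([], 41, true), ([], 42,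 true), ([], 43, true), ([], 45, true), ([], 46, true), ([], 47, true), ([], 49, true), ([], 50, true), ([], 52, true), ([], 56, true), ([], 55, false)]) (by decide +kernel) (by decide +kernel) (by decide +kernel)

/-- the generators of the centraliser of `l` -/
noncomputable abbrev g : ℕ → Fi24 := wv 12 f Fi306936.BW

theorem presH : Pres 11 11 RH g :=
  pres'.subst (WD := Fi306936.BW) (H := [([], 69, false), ([], 69, false), ([], 69, false), ([], 69, false), ([], 69, false), ([], 69, false), ([], 69, false), ([], 69, false), ([], 69, false), ([], 69, false), ([], 69, false), ([], 0, true), ([], 1, true), ([], 2, true), ([], 3, true), ([], 4, true), ([], 5, true), ([], 6, true), ([], 7, true), ([], 8, true), ([], 9, true), ([], 11, true), ([], 12, true), ([], 13, true), ([], 14, true), ([], 15, true), ([], 16, true), ([], 17, true), ([], 18, true), ([], 19, true), ([], 21, true), ([], 22, true), ([], 23, true), ([], 24, true), ([], 25, true), ([], 26, true), ([], 27, true), ([], 28, true), ([], 30, true), ([], 31, true),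 ([], 32, true), ([], 33, true), ([], 34, true), ([], 35, true), ([], 36, true), ([], 38, true), ([], 39, true), ([], 40, true), ([], 41, true), ([], 42, true), ([], 43, true), ([], 45, true), ([], 46, true), ([], 47, true), ([], 48, true), ([], 49, true), ([], 51, true), ([], 52, true), ([], 53, true), ([], 54, true), ([], 56, true), ([], 57, true), ([], 58, true), ([], 60, true), ([], 61, true), ([], 63, true), ([], 66, true), ([], 68, true)]) (by decide +kernel)

theorem g_eq : ∀ j < 11, g j = f j := by
  intro j hj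
  rw [g, wv, show Fi306936.BW.getD j [] = [2 * j] by interval_cases j <;> rfl,
    ev_cons, ev_nil, mul_one, atm_two_mul _ (by omega)]

theorem φl : Fi306936.φ (f 10) ≠ 1 := by
  have := Fi306936.L.l_ne
  rwa [ev_cons, ev_nil, mul_one, atm_two_mul (j := 10) _ (by norm_num),
    ← Fi306936.hφ 10 (by norm_num)] at this

theorem φab : Fi306936.φ (f 0) * Fi306936.φ (f 1) ≠ Fi306936.φ (f 1) * Fi306936.φ (f 0) := by
  rw [Fi306936.hφ 0 (by norm_num), Fi306936.hφ 1 (by norm_num)]
  exact ne_comm_of_ev Fi306936.cert.pres (by norm_num) (by norm_num) (by norm_num) (by norm_num)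
    Fi306936.L.ab_ne

theorem φkl : Fi306936.φ (f 11) * Fi306936.φ (f 10) ≠ Fi306936.φ (f 10) * Fi306936.φ (f 11) := by
  rw [Fi306936.hφ 11 (by norm_num), Fi306936.hφ 10 (by norm_num)]
  exact ne_comm_of_ev Fi306936.cert.pres (by norm_num) (by norm_num) (by norm_num) (by norm_num)
    Fi306936.L.kl_ne

def WD23 : List (List ℕ) := [[0], [2], [4], [6], [8], [10], [12], [14], [16], [18], []]

theorem top23 : gsub 11 (wv 10 Fi23G.f WD23) = ⊤ :=
  eq_top_of_gens Fi23G.top fun j hj => by
    have := mem_gsub (wv 10 Fi23G.f WD23) (j := j) (n := 11) (by omega)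
    rwa [wv, show WD23.getD j [] = [2 * j] by interval_cases j <;> rfl,
      ev_cons, ev_nil, mul_one, atm_two_mul _ hj] at this

theorem cover' : ∃ ψ : gsub 11 g →* Fi23, Function.Surjective ψ ∧ Nat.card ψ.ker = 2 ∧
    ∀ j < 11, ψ (lift (gsub 11 g) g j) = wv 10 Fi23G.f WD23 j :=
  haveI := Fi23G.simple
  bH.exists_cover (by norm_num) presH
    (Fi23G.pres.subst (WD := WD23) (H := [([], 47, false), ([], 47, false), ([], 47, false), ([], 47, false), ([], 47, false), ([], 47, false), ([], 47, false), ([], 47, false), ([], 47, false), ([], 47, false), ([], 47, false), ([], 0, true), ([], 1, true), ([], 2, true), ([], 3, true), ([], 4, true), ([], 5, true), ([], 6, true), ([], 7, true), ([], 8, true), ([], 47, false), ([], 9, true), ([], 10, true), ([], 11, true), ([], 12, true), ([], 13, true), ([], 14, true), ([], 15, true), ([], 16, true), ([], 47, false), ([], 17, true), ([], 18, true), ([], 19, true), ([], 20, true), ([], 21, true), ([], 22, true), ([], 23, true), ([], 47, false), ([], 24, true), ([], 25, true),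 ([], 26, true), ([], 27, true), ([], 28, true), ([], 29, true), ([], 47, false), ([], 30, true), ([], 31, true), ([], 32, true), ([], 33, true), ([], 34, true), ([], 47, false), ([], 35, true), ([], 36, true), ([], 37, true), ([], 38, true), ([], 47, false), ([], 39, true), ([], 40, true), ([], 41, true), ([], 47, false), ([], 42, true), ([], 43, true), ([], 47, false), ([], 44, true), ([], 47, false), ([], 47, false), ([], 46, false), ([], 45, true)]) (by decide +kernel)) top23 Fi23G.card (w := [2 * 10])
    (by rw [ev_cons, ev_nil, mul_one, atm_two_mul _ (by norm_num)]; rfl)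
    (by rw [ev_cons, ev_nil, mul_one, atm_two_mul _ (by norm_num), g_eq 10 (by norm_num)]
        exact fun h => φl (by rw [h, map_one]))
    ⟨0, by norm_num, 1, by norm_num, by
      rw [g_eq 0 (by norm_num), g_eq 1 (by norm_num)]
      exact fun h => φab (by rw [← map_mul, h, map_mul])⟩

theorem cardH : Nat.card Fi306936.H = 2 * 4089470473293004800 := by
  obtain ⟨ψ, h1, h2, -⟩ := cover'
  show Nat.card (gsub 11 g) = _
  rw [← ψ.ker.card_mul_index, h2, Subgroup.index_ker, MonoidHom.range_eq_top.mpr h1,
    Subgroup.card_top, Fi23G.card]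

theorem card : Nat.card Fi24 = 2 * 1255205709190661721292800 := by
  rw [← Fi306936.H.card_mul_index, cardH, Fi306936.act.index]

instance instFinite : Finite Fi24 := Nat.finite_of_card_ne_zero (by rw [card]; norm_num)

theorem inj : Function.Injective Fi306936.φ := by
  refine Fi306936.act.inj_of_sub ?_
  obtain ⟨ψ, h1, h2, h3⟩ := cover'
  haveI := Fi23G.simple
  refine inj_of_cover h1 h2 (z := lift (gsub 11 g) g 10) ?_ _ ?_
    ⟨lift (gsub 11 g) g 0, lift (gsub 11 g) g 1, ?_⟩
  · rw [h3 10 (by norm_num)]; rfl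
  · show Fi306936.φ ((gsub 11 g).subtype (lift (gsub 11 g) g 10)) ≠ 1
    rw [lift_gsub g 10 (by norm_num), g_eq 10 (by norm_num)]
    exact φl
  · show Fi306936.φ ((gsub 11 g).subtype (lift (gsub 11 g) g 0)) *
        Fi306936.φ ((gsub 11 g).subtype (lift (gsub 11 g) g 1)) ≠
      Fi306936.φ ((gsub 11 g).subtype (lift (gsub 11 g) g 1)) *
        Fi306936.φ ((gsub 11 g).subtype (lift (gsub 11 g) g 0))
    rw [lift_gsub g 0 (by norm_num), lift_gsub g 1 (by norm_num), g_eq 0 (by norm_num),
      g_eq 1 (by norm_num)]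
    exact φab

theorem coatom : IsCoatom Fi306936.H :=
  Fi306936.act.coatom (by norm_num) (Fi306936.map_H.trans Fi306936.S.eH)
    (Fi306936.range_φ.trans Fi306936.S.eG) Fi306936.S.hX Fi306936.S.hXc Fi306936.S.hY

theorem core : Fi306936.H.normalCore = ⊥ :=
  Fi306936.act.core_eq_bot inj (Fi306936.range_φ ▸ Fi306936.S.hfix)

theorem comm_l : ∀ x ∈ Fi306936.H, ∀ a ∈ wsub 12 f [[20]], x * a = a * x :=
  comm_of_list pres.ivOk (consAll_sound pres.ivOk pres.rel (H := [([], 9, true), ([], 19, true), ([], 28, true), ([], 36, true), ([], 43, true), ([], 49, true), ([], 54, true), ([], 58, true), ([], 61, true), ([], 63, true), ([], 68, false)]) (by decide +kernel))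

theorem normal_cases (M : Subgroup Fi24) (hM : M.Normal) : M = ⊥ ∨ commutator Fi24 ≤ M :=
  iwasawa coatom core (A := wsub 12 f [[20]])
    (fun h hh a ha => by rw [comm_l h hh a ha, mul_inv_cancel_right]; exact ha)
    (comm_of_list pres.ivOk (consAll_sound pres.ivOk pres.rel (H := [([], 68, false)]) (by decide +kernel)))
    (Fi24N1.cert.bound_nil.normalClosure pres top _ (H := [([], 0, true), ([], 1, true), ([], 2, true), ([], 3, true), ([], 4, true), ([], 5, true), ([], 6, true), ([], 7, true), ([], 8, true), ([], 9, true), ([], 10, true), ([], 11, true), ([], 12, true), ([], 13, true), ([], 14, true), ([], 15, true), ([], 16, true), ([], 17, true), ([], 18, true), ([], 19, true), ([], 20, true), ([], 21, true), ([], 22, true), ([], 23, true), ([], 24, true), ([], 25, true), ([], 26, true), ([], 27, true), ([], 28, true), ([], 29, true), ([], 30, true), ([], 31, true), ([], 32, true), ([], 33, true), ([], 34, true), ([], 35, true), ([], 36, true), ([], 37, true), ([], 38, true), ([], 39, true), ([], 40, true),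 ([], 41, true), ([], 42, true), ([], 43, true), ([], 44, true), ([], 45, true), ([], 46, true), ([], 47, true), ([], 48, true), ([], 49, true), ([], 50, true), ([], 51, true), ([], 52, true), ([], 53, true), ([], 54, true), ([], 55, true), ([], 56, true), ([], 57, true), ([], 58, true), ([], 59, true), ([], 60, true), ([], 61, true), ([], 62, true), ([], 63, true), ([], 64, true), ([], 65, true), ([], 68, true)]) (by decide +kernel)) M

theorem card' : Nat.card (commutator Fi24) = 1255205709190661721292800 := by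
  have := (commutator Fi24).card_mul_index
  rw [index_comm, card] at this
  omega

theorem simple : IsSimpleGroup (commutator Fi24) :=
  simple_of_index normal_cases (by rw [index_comm]) (by rw [card']; decide +kernel)

end Cfsg.Agent.Spor.Fi24G
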