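import Cfsg.Agent.Spor.Sub2

set_option autoImplicit false

namespace Cfsg.Agent.Spor

open Equiv

theorem PZ.mem {T : Tab} {n : ℕ} {f : ℕ → Perm ℕ} {EX : List (List ℕ)} {z : ℕ}
    (h : PZ T (atm n f) EX z) : T.τ z ∈ gsub n f := h ▸ ev_atm_mem n f _

theorem AllP.of_sub {p : ℕ → Prop} {l d : List ℕ} (h : AllP p l) (hd : d.all l.contains = true) :
    AllP p d := by
  induction d with
  | nil => trivial
  | cons y d ih =>
    rw [List.all_cons, Bool.and_eq_true, List.contains_iff_mem] at hd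
    exact ⟨h.forall y hd.1, ih hd.2⟩

theorem mem_def {τ : ℕ → Perm ℕ} {A : Subgroup (Perm ℕ)} {z : ℕ} {d : List ℕ}
    (hd : AllP (fun y => τ y ∈ A) d) (h : evA τ (z :: d) = 1) : τ z ∈ A := by
  simpa using mem_of_rel h (evA_mem τ A d hd.forall)

theorem Tab.mem_inv {T : Tab} {A : Subgroup (Perm ℕ)} {z z' : ℕ} (hz : T.τ z ∈ A)
    (h : band (Nat.beq (T.let z').ni (T.let z).ni) (xor (T.let z').inv (T.let z).inv) = true) :
    T.τ z' ∈ A := by
  simp only [band_eq, Bool.and_eq_true, Nat.beq_eq] at h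
  refine mem_def (d := [z]) ⟨hz, trivial⟩ ?_
  simp only [evA_cons, evA_nil, one_mul, Tab.τ, SNet.perm, Tab.sn, h.1]
  have := h.2
  by_cases h3 : (T.let z').inv = true <;> by_cases h4 : (T.let z).inv = true <;> simp_all

theorem Tab.gsub_fP_le {T : Tab} {A : Subgroup (Perm ℕ)} {gs : List ℕ}
    (h : AllP (fun y => T.τ y ∈ A) gs) : gsub gs.length (T.fP gs) ≤ A :=
  gsub_le fun j hj => h.forall _ (by
    rw [nth_eq, List.getD_eq_getElem _ _ hj]; exact List.getElem_mem _)

section
variable {G Δ : Type*} [Group G] [Group Δ]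

/-- a subgroup of the image of an injective homomorphism -/
theorem comap_equiv {φ : G →* Δ} (hφ : Function.Injective φ) {K : Subgroup Δ} (h : K ≤ φ.range) :
    Nonempty (K ≃* K.comap φ) :=
  ⟨(MulEquiv.subgroupCongr (Subgroup.map_comap_eq_self h).symm).trans
    (Subgroup.equivMapOfInjective _ φ hφ).symm⟩

theorem le_commutator_of_simple {K : Subgroup G} (h : IsSimpleGroup K) (hp : ¬ (Nat.card K).Prime) :
    K ≤ commutator G := by
  have h1 : commutator K = ⊤ := by
    refine (h.eq_bot_or_eq_top_of_normal _ inferInstance).resolve_left fun e => hp ?_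
    have : IsMulCommutative K := (commutator_eq_bot_iff K).mp e
    letI : CommGroup K := { (inferInstance : Group K) with mul_comm := mul_comm' }
    exact IsSimpleGroup.prime_card
  have h2 := congrArg (Subgroup.map K.subtype) h1
  rw [← MonoidHom.range_eq_map, Subgroup.range_subtype, commutator_def, Subgroup.map_commutator] at h2
  exact h2.ge.trans (Subgroup.commutator_mono le_top le_top)

theorem exists_sub_of_le {K H : Subgroup G} (hKH : K ≤ H) {M : ℕ}
    (h : IsSimpleGroup K ∧ Nat.card K = M) : ∃ L : Subgroup H, IsSimpleGroup L ∧ Nat.card L = M :=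
  ⟨K.subgroupOf H, simple_card_congr (Subgroup.subgroupOfEquivOfLe hKH).symm h⟩

theorem Bound.simple' {n k M : ℕ} {RL : List (List ℕ)} (b : Bound n k RL M) (hM : M ≠ 0)
    {G Δ : Type} [Group G] [Group Δ] {f : ℕ → G} {g : ℕ → Δ} (hf : Pres n k RL f)
    (ht : gsub n f = ⊤) (hs : IsSimpleGroup G) (hc : Nat.card G = M) (hg : Pres n k RL g)
    {w : List ℕ} (hw : ev (atm n g) w ≠ 1) :
    IsSimpleGroup (gsub n g) ∧ Nat.card (gsub n g) = M := by
  have := simple_card_congr ((MulEquiv.subgroupCongr ht).trans Subgroup.topEquiv).symm ⟨hs, hc⟩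
  exact b.simple hM hf hg (dvd_of_eq this.2.symm) this.1 hw

end

end Cfsg.Agent.Spor
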