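import Cfsg.Agent.Spor.Sub3
import Cfsg.Agent.Spor.Fi24Simple
import Cfsg.Agent.Spor.Fi306936.V.Main

set_option autoImplicit false
set_option maxRecDepth 100000

namespace Cfsg.Agent.Spor.Fi24G

open Cfsg.Spor

theorem twist : (∀ j < 10, g j * g 10 = g 10 * g j) ∧ Pres 10 10 Fi23G.RL fun j => g j * g 10 :=
  pres_twist presH (H := [([], 9, true), ([], 18, true), ([], 26, true), ([], 33, true), ([], 39, true), ([], 44, true), ([], 48, true), ([], 51, true), ([], 53, true), ([], 54, true)]) (H' := [([], 0, true), ([], 1, true), ([], 2, true), ([], 3, true), ([], 4, true), ([], 5, true), ([], 6, true), ([], 7, true), ([], 8, true), ([], 10, true), ([], 11, true), ([], 12, true), ([], 13, true), ([], 14, true), ([], 15, true), ([], 16, true), ([], 17, true), ([], 19, true), ([], 20, true), ([], 21, true), ([], 22, true), ([], 23, true), ([], 24, true), ([], 25, true), ([], 27, true), ([], 28, true), ([], 29, true), ([], 30, true), ([], 31, true), ([], 32, true), ([], 34, true), ([], 35, true), ([], 36, true), ([], 37, true), ([], 38, true), ([], 40, true), ([], 41, true),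 ([], 42, true), ([], 43, true), ([], 45, true), ([], 46, true), ([], 47, true), ([], 49, true), ([], 50, true), ([], 52, true), ([], 56, true), ([], 55, false)]) (by decide +kernel) (by decide +kernel) (by decide +kernel)

noncomputable abbrev K23 : Subgroup Fi24 := gsub 10 fun j => g j * g 10

theorem K23_le : K23 ≤ Fi306936.H := gsub_le fun j hj =>
  mul_mem (mem_gsub (n := 11) g (by omega)) (mem_gsub (n := 11) g (by omega))

theorem K23_simple : IsSimpleGroup K23 ∧ Nat.card K23 = 4089470473293004800 :=
  b23.simple' (by norm_num) Fi23G.pres Fi23G.top Fi23G.simple Fi23G.card twist.2 (w := [0, 2, 0, 2])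
    fun h => Fi306936.L.ab_ne (by
      rw [ev_twist (presH.sq 10 (by norm_num) (by norm_num)) twist.1 _ (by decide),
        atm_congr fun j hj => g_eq j (by omega)] at h
      rw [← ev_atm_map' Fi306936.hφ, ← map_one Fi306936.φ]
      exact congrArg _ (by simpa [atm_def] using h))

theorem l_ne : f 10 ≠ 1 := fun h => φl (by rw [h, map_one])

theorem l_mem : f 10 ∈ wsub 12 f [[20]] := by
  simpa [atm_def] using mem_wsub (n := 12) f (BW := [[20]]) List.mem_cons_self

theorem cent : Subgroup.centralizer ({f 10} : Set Fi24) = Fi306936.H :=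
  centralizer_eq_of_coatom coatom (fun x hx => comm_l x hx _ l_mem) (y := f 11)
    fun h => φkl (by rw [← map_mul, h, map_mul])

theorem tt : Cfsg.IsThreeTranspositionClass (conjugatesOf (f 10)) := by
  refine ⟨Fi306936.act.threeTrans inj (Fi306936.map_H.trans Fi306936.S.eH)
    (Fi306936.range_φ.trans Fi306936.S.eG) Fi306936.S.hX Fi306936.S.hXc l_ne
    (pres.sq 10 (by norm_num) (by norm_num)) (fun x hx => comm_l x hx _ l_mem) ?_,
    ⟨_, IsConj.refl _, rfl⟩, ?_⟩
  · rw [Fi306936.hφ 10 (by norm_num)]
    exact Fi306936.L.htt
  · have e : Subgroup.closure (conjugatesOf (f 10)) = Subgroup.normalClosure {f 10} := by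
      rw [Subgroup.normalClosure, Group.conjugatesOfSet]; simp
    rw [e]
    exact Fi24N1.cert.bound_nil.eq_top pres top _ (AW := [[20]]) (fun w hw => by
      rw [List.mem_singleton.mp hw]
      exact Subgroup.subset_normalClosure (by simp [atm_def])) (H := [([], 0, true), ([], 1, true), ([], 2, true), ([], 3, true), ([], 4, true), ([], 5, true), ([], 6, true), ([], 7, true), ([], 8, true), ([], 9, true), ([], 10, true), ([], 11, true), ([], 12, true), ([], 13, true), ([], 14, true), ([], 15, true), ([], 16, true), ([], 17, true), ([], 18, true), ([], 19, true), ([], 20, true), ([], 21, true), ([], 22, true), ([], 23, true), ([], 24, true), ([], 25, true), ([], 26, true), ([], 27, true), ([], 28, true), ([], 29, true), ([], 30, true), ([], 31, true), ([], 32, true), ([], 33, true), ([], 34, true), ([], 35, true), ([], 36, true), ([], 37, true), ([], 38, true), ([], 39, true), ([], 40, true), ([], 41, true), ([], 42, true), ([], 43, true), ([], 44, true), ([], 45, true), ([], 46, true), ([], 47, true), ([], 48, true), ([], 49, true), ([], 50, true), ([], 51, true),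 ([], 52, true), ([], 53, true), ([], 54, true), ([], 55, true), ([], 56, true), ([], 57, true), ([], 58, true), ([], 59, true), ([], 60, true), ([], 61, true), ([], 62, true), ([], 63, true), ([], 64, true), ([], 65, true), ([], 68, true)]) (by decide +kernel)

theorem subHe : ∃ K : Subgroup Fi24, IsSimpleGroup K ∧ Nat.card K = 4030387200 := by
  obtain ⟨K, h1, h2⟩ := Fi306936.V.subHe
  obtain ⟨e⟩ := comap_equiv inj (h1.trans Fi306936.range_φ.ge)
  exact ⟨_, simple_card_congr e h2⟩

end Cfsg.Agent.Spor.Fi24G
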