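import Cfsg.Agent.Spor.PX4
import Cfsg.Agent.Spor.Sub2

set_option autoImplicit false

namespace Cfsg.Agent.Spor

open Matrix

theorem map_center {G G' : Type*} [Group G] [Group G'] (e : G ≃* G') :
    (Subgroup.center G).map e.toMonoidHom = Subgroup.center G' := by
  ext x
  obtain ⟨y, rfl⟩ := e.surjective x
  refine (Subgroup.mem_map_iff_mem (f := e.toMonoidHom) e.injective).trans ?_
  simp only [Subgroup.mem_center_iff]
  exact ⟨fun h g => by
    obtain ⟨u, rfl⟩ := e.surjective g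
    rw [← map_mul, h, map_mul], fun h g => e.injective (by rw [map_mul, map_mul, h])⟩

theorem exists_SL {n : Type} [Fintype n] [DecidableEq n] {R : Type} [CommRing R]
    (K : Subgroup (GL n R)) (h : commutator K = ⊤) :
    ∃ H : Subgroup (SpecialLinearGroup n R), Nonempty (K ≃* H) := by
  have h1 : K ≤ (SpecialLinearGroup.toGL (n := n) (R := R)).range := fun x hx => by
    have h2 : (GeneralLinearGroup.det.comp K.subtype) ⟨x, hx⟩ = 1 :=
      Abelianization.commutator_subset_ker _ (h ▸ Subgroup.mem_top _)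
    exact ⟨⟨x.1, congrArg Units.val h2⟩, Units.ext rfl⟩
  exact ⟨K.comap SpecialLinearGroup.toGL, ⟨((Subgroup.equivMapOfInjective _ _
    SpecialLinearGroup.toGL_injective).trans
      (MulEquiv.subgroupCongr (Subgroup.map_comap_eq_self h1))).symm⟩⟩

theorem CExt.congr {G Δ G' : Type*} [Group G] [Group Δ] [Group G'] {K : Subgroup G} {z : G} {p : ℕ}
    (h : CExt K z p Δ) (e : K ≃* G') :
    Nat.card (Subgroup.center G') = p ∧ Nonempty (Δ ≃* G' ⧸ Subgroup.center G') := by
  obtain ⟨h1, ⟨e1⟩⟩ := h.quot rfl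
  exact ⟨(Nat.card_congr (Subgroup.centerCongr e).toEquiv).symm.trans h1,
    ⟨e1.trans (QuotientGroup.congr _ _ e (map_center e))⟩⟩

theorem CExt.toSL {n : Type} [Fintype n] [DecidableEq n] {R : Type} [CommRing R] {Δ : Type*} [Group Δ]
    {K : Subgroup (GL n R)} {z : GL n R} {p M : ℕ} (h : CExt K z p Δ) (hp : commutator K = ⊤)
    (hs : IsSimpleGroup Δ ∧ Nat.card Δ = M) :
    ∃ H : Subgroup (SpecialLinearGroup n R), Nat.card (Subgroup.center H) = p ∧
      IsSimpleGroup (H ⧸ Subgroup.center H) ∧ Nat.card (H ⧸ Subgroup.center H) = M := by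
  obtain ⟨H, ⟨e⟩⟩ := exists_SL K hp
  obtain ⟨h1, ⟨e1⟩⟩ := h.congr e
  exact ⟨H, h1, simple_card_congr e1 hs⟩

end Cfsg.Agent.Spor
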