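import Cfsg.Agent.Spor.PC0

set_option autoImplicit false

namespace Cfsg.Agent.Spor

/-- the partners of a symplectic basis, numbered from one -/
def xpr (i j : Nat) : Bool := decide (i ≠ 0 ∧ j ≠ 0 ∧ i ≠ j ∧ (i + 1) / 2 = (j + 1) / 2)

end Cfsg.Agent.Spor
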