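/-
Extraspecial 2-groups from a symplectic basis, and extensions by normal subgroups.
-/
import Cfsg.Agent.Spor.PX11
import Cfsg.Agent.Spor.PX12
import Cfsg.Agent.Spor.XS0
import Cfsg.Prelude.Def_Transfer

set_option autoImplicit false

namespace Cfsg.Agent.Spor

open Subgroup
open scoped commutatorElement

theorem xs_congr {G H : Type*} [Group G] [Group H] (e : G ≃* H) {p : ℕ} (h : IsExtraspecial p G) :
    IsExtraspecial p H := by
  have h1 := map_center e
  refine ⟨⟨h.1.1.of_equiv e, ?_, ?_⟩, ?_⟩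
  · rw [← h1, ← h.1.2.1]
    refine le_antisymm (fun x hx => ⟨e.symm x, ?_, by simp⟩) (map_le_iff_le_comap.2
      (frattini_le_comap_frattini_of_surjective e.surjective))
    exact frattini_le_comap_frattini_of_surjective (φ := e.symm.toMonoidHom) e.symm.surjective hx
  · rw [← h1, ← h.1.2.2, commutator_def, commutator_def, map_commutator,
      map_top_of_surjective _ e.surjective]
  · rw [← h1, card_map_of_injective e.injective, h.2]

theorem coatom_of_index_prime {G : Type*} [Group G] {K : Subgroup G} (h : K.index.Prime) :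
    IsCoatom K := by
  refine ⟨fun e => by rw [e, index_top] at h; exact Nat.not_prime_one h, fun L hL => ?_⟩
  rcases (Nat.dvd_prime h).1 (index_dvd_of_le hL.le) with e | e
  · exact index_eq_one.1 e
  · have := relIndex_mul_index hL.le
    rw [e] at this
    exact absurd (relIndex_eq_one.1 (Nat.eq_of_mul_eq_mul_right h.pos (this.trans (one_mul _).symm)))
      hL.not_ge

section
variable {G : Type*} [Group G] {k : ℕ} {g : ℕ → G}

theorem xs_card (h2 : ∀ i < 2 * k + 1, g i * g i = 1)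
    (hc : ∀ i < 2 * k + 1, ∀ j < i, g i * g j = (if xpr i j then g 0 else 1) * (g j * g i)) :
    ∀ i ≤ 2 * k + 1, Nat.card (gsub i g) ∣ 2 ^ i := by
  intro i hi
  induction i with
  | zero => rw [(PC.zero g).1]; rfl
  | succ i ih =>
    rw [gsub_succ, pow_succ']
    by_cases h : g i ∈ gsub i g
    · rw [sup_eq_left.mpr (zpowers_le.mpr h)]
      exact (ih (by omega)).mul_left 2
    · rw [pc_step Nat.prime_two (norm_gsub fun j hj => ?_)
        (by rw [pow_two, h2 i hi]; exact one_mem _) h]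
      · exact Nat.mul_dvd_mul_left 2 (ih (by omega))
      · rw [hc i hi j hj, mul_assoc, mul_inv_cancel_right]
        refine mul_mem ?_ (mem_gsub g hj)
        split_ifs
        exacts [mem_gsub g (by omega), one_mem _]

theorem xs_top (hk : 0 < k) (ht : gsub (2 * k + 1) g = ⊤) (h2 : ∀ i < 2 * k + 1, g i * g i = 1)
    (hc : ∀ i < 2 * k + 1, ∀ j < i, g i * g j = (if xpr i j then g 0 else 1) * (g j * g i))
    (h0 : g 0 ≠ 1) : Nat.card G = 2 ^ (2 * k + 1) ∧ IsExtraspecial 2 G := by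
  have hb := xs_card h2 hc _ le_rfl
  rw [ht, card_top] at hb
  have : Finite G := Nat.finite_of_card_ne_zero (ne_zero_of_dvd_ne_zero (by positivity) hb)
  have z2 := h2 0 (by omega)
  have zc : g 0 ∈ center G := mem_center_iff.mpr fun x => comm_of_gens (fun j hj => by
    rcases Nat.eq_zero_or_pos j with rfl | h
    · rfl
    · simpa [xpr] using hc j hj 0 h) x (ht ▸ mem_top x)
  set Z := zpowers (g 0) with hZ
  have Zc : Z ≤ center G := zpowers_le.mpr zc
  have oz : orderOf (g 0) = 2 := orderOf_eq_of_prime Nat.prime_two (by rw [pow_two, z2]) h0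
  have cZ : Nat.card Z = 2 := by rw [Nat.card_zpowers, oz]
  have hs : ∀ i < 2 * k + 1, ∀ j < 2 * k + 1, ⁅g i, g j⁆ = if xpr i j then g 0 else 1 := by
    have a : ∀ i < 2 * k + 1, ∀ j < i, ⁅g i, g j⁆ = if xpr i j then g 0 else 1 := fun i hi j hj => by
      rw [commutatorElement_def, hc i hi j hj]; group
    intro i hi j hj
    rcases lt_trichotomy j i with h | rfl | h
    · exact a i hi j h
    · simp [xpr]
    · rw [← commutatorElement_inv, a j hj i h, show xpr j i = xpr i j by simp only [xpr]; congr 1; apply propext; omega]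
      split_ifs
      exacts [inv_eq_of_mul_eq_one_right z2, inv_one]
  have nZ : Z.Normal := ⟨fun u hu v => by
    rwa [mem_center_iff.mp (Zc hu) v, mul_inv_cancel_right]⟩
  have cm : ∀ x y : G, ⁅x, y⁆ ∈ Z := fun x y => by
    rw [← QuotientGroup.eq_one_iff, ← QuotientGroup.mk'_apply, map_commutatorElement,
      commutatorElement_eq_one_iff_mul_comm]
    have e : gsub (2 * k + 1) (fun j => QuotientGroup.mk' Z (g j)) = ⊤ := by
      rw [← gsub_map, ht, map_top_of_surjective _ (QuotientGroup.mk'_surjective Z)]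
    refine comm_of_gens (fun i hi => (comm_of_gens (fun j hj => ?_) _ (e ▸ mem_top _)).symm) _
      (e ▸ mem_top _)
    rw [← commutatorElement_eq_one_iff_mul_comm, ← map_commutatorElement, QuotientGroup.mk'_apply,
      QuotientGroup.eq_one_iff, hs j hj i hi]
    split_ifs
    exacts [mem_zpowers _, one_mem _]
  let χ : G → G →* Z := fun y => MonoidHom.mk' (fun x => ⟨⁅x, y⁆, cm x y⟩) fun a b => Subtype.ext (by
    show ⁅a * b, y⁆ = ⁅a, y⁆ * ⁅b, y⁆
    rw [mem_center_iff.mp (Zc (cm b y)) ⁅a, y⁆]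
    calc ⁅a * b, y⁆ = a * ⁅b, y⁆ * a⁻¹ * ⁅a, y⁆ := by simp only [commutatorElement_def]; group
      _ = _ := by rw [mem_center_iff.mp (Zc (cm b y)) a, mul_inv_cancel_right])
  let Φ : G →* (Fin (2 * k) → Z) := Pi.monoidHom fun j => χ (g (j + 1))
  have kΦ : Φ.ker = center G := by
    ext x
    rw [MonoidHom.mem_ker, mem_center_iff, funext_iff]
    refine ⟨fun h y => comm_of_gens (fun j hj => ?_) y (ht ▸ mem_top y), fun h j => Subtype.ext
      (commutatorElement_eq_one_iff_mul_comm.mpr (h _).symm)⟩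
    rcases Nat.eq_zero_or_pos j with rfl | h1
    · exact (mem_center_iff.mp zc x).symm
    · obtain ⟨j, rfl⟩ := Nat.exists_eq_succ_of_ne_zero h1.ne'
      exact (commutatorElement_eq_one_iff_mul_comm.mp
        (congrArg Subtype.val (h ⟨j, by omega⟩))).symm
  have two : ∀ u : Z, u = 1 ∨ u = ⟨g 0, mem_zpowers _⟩ := fun u => by
    by_contra h
    push Not at h
    obtain ⟨y, -, hy⟩ := (Nat.card_eq_two_iff' (1 : Z)).mp cZ
    exact h.2 ((hy u h.1).trans (hy _ fun e => h0 (congrArg Subtype.val e)).symm)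
  have one : ∀ j : Fin (2 * k), ∃ x, Φ x = Pi.mulSingle j ⟨g 0, mem_zpowers _⟩ := fun j => by
    have hj := j.2
    refine ⟨g (if (j : ℕ) % 2 = 0 then (j : ℕ) + 2 else (j : ℕ)), funext fun i => Subtype.ext ?_⟩
    have hi := i.2
    show ⁅_, g (i + 1)⁆ = _
    rw [hs _ (by split_ifs <;> omega) _ (by omega)]
    by_cases e : i = j
    · subst e
      rw [Pi.mulSingle_eq_same, if_pos (by simp only [xpr, decide_eq_true_eq]; split_ifs <;> omega)]
    · have e' : i.1 ≠ j.1 := fun h => e (Fin.ext h)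
      rw [Pi.mulSingle_eq_of_ne e,
        if_neg (by simp only [xpr, decide_eq_true_eq]; split_ifs <;> omega)]
      rfl
  have sΦ : Function.Surjective Φ := fun u => by
    refine pi_mem_of_mulSingle_mem (H := Φ.range) u fun j => ?_
    rcases two (u j) with e | e <;> rw [e]
    · rw [Pi.mulSingle_one]; exact one_mem _
    · exact one j
  have c1 := card_of_quot sΦ
  rw [kΦ, Nat.card_fun, cZ, Nat.card_eq_fintype_card (α := Fin _), Fintype.card_fin] at c1
  have c2 : Nat.card (center G) ∣ 2 := by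
    rw [c1, pow_succ'] at hb
    exact Nat.dvd_of_mul_dvd_mul_right (by positivity) hb
  have eZ : Z = center G :=
    eq_of_le_of_card_ge Zc (cZ ▸ Nat.le_of_dvd two_pos c2)
  rw [← eZ, cZ, ← pow_succ'] at c1
  have z1 : ⁅g 2, g 1⁆ = g 0 := by rw [hs 2 (by omega) 1 (by omega)]; rfl
  refine ⟨c1, ⟨IsPGroup.of_card c1, le_antisymm (fun x hx => ?_) ?_, le_antisymm ?_ ?_⟩, eZ ▸ cZ⟩
  · rw [← kΦ, MonoidHom.mem_ker, funext_iff]
    intro j
    refine frattini_le_coatom (K := (χ (g (j + 1))).ker) (coatom_of_index_prime ?_) hx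
    obtain ⟨y, hy⟩ := one j
    have : (χ (g (j + 1))).range = ⊤ := eq_top_iff.mpr fun u _ => by
      rcases two u with rfl | rfl
      · exact one_mem _
      · exact ⟨y, (congrFun hy j).trans (Pi.mulSingle_eq_same _ _)⟩
    rw [index_ker, this, card_top, cZ]
    exact Nat.prime_two
  · rw [← eZ, zpowers_le, frattini, Order.radical, mem_iInf]
    intro M
    rw [mem_iInf]
    intro hM
    by_contra h
    have e : M ⊔ Z = ⊤ := hM.2 _ (left_lt_sup.mpr fun h' => h (h' (mem_zpowers _)))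
    have d : ∀ x : G, ∃ m ∈ M, ∃ u ∈ Z, m * u = x := fun x => by
      have : x ∈ (M ⊔ Z : Subgroup G) := e ▸ mem_top x
      rwa [← SetLike.mem_coe, mul_normal] at this
    obtain ⟨a, ha, u, hu, e1⟩ := d (g 2)
    obtain ⟨b, hb, v, hv, e2⟩ := d (g 1)
    apply h
    rw [← z1, ← e1, ← e2, show ⁅a * u, b * v⁆ = ⁅a, b⁆ by
      have p := mem_center_iff.mp (Zc hu)
      have q := mem_center_iff.mp (Zc hv)
      simp only [commutatorElement_def, mul_inv_rev]
      calc a * u * (b * v) * (u⁻¹ * a⁻¹) * (v⁻¹ * b⁻¹)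
          = a * (u * (b * v) * u⁻¹) * a⁻¹ * v⁻¹ * b⁻¹ := by group
        _ = a * b * (v * a⁻¹ * v⁻¹) * b⁻¹ := by rw [← p (b * v)]; group
        _ = _ := by rw [← q a⁻¹]; group]
    exact mul_mem (mul_mem (mul_mem ha hb) (inv_mem ha)) (inv_mem hb)
  · rw [← eZ, _root_.commutator_def, commutator_le]
    exact fun x _ y _ => cm x y
  · rw [← eZ, zpowers_le, ← z1]
    exact commutator_mem_commutator (mem_top _) (mem_top _)

theorem xs_of (hk : 0 < k) (h2 : ∀ i < 2 * k + 1, g i * g i = 1)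
    (hc : ∀ i < 2 * k + 1, ∀ j < i, g i * g j = (if xpr i j then g 0 else 1) * (g j * g i))
    (h0 : g 0 ≠ 1) : PC g (2 * k + 1) (2 ^ (2 * k + 1)) ∧ IsExtraspecial 2 (gsub (2 * k + 1) g) := by
  have e := lift_gsub (n := 2 * k + 1) g
  have e0 := e 0 (by omega)
  have := xs_top hk (gsub_lift _ g)
    (fun i hi => (gsub _ g).subtype_injective (by rw [map_mul, e i hi, h2 i hi, map_one]))
    (fun i hi j hj => (gsub _ g).subtype_injective (by
      rw [map_mul, map_mul, map_mul, e i hi, e j (hj.trans hi), hc i hi j hj]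
      split_ifs
      exacts [by rw [e0], by rw [map_one]]))
    fun h => h0 (by rw [← e0, h, map_one])
  exact ⟨⟨this.1, by positivity⟩, this.2⟩

end

/-- `Q` is normal in `K` with quotient `Δ` -/
def NExt {G : Type*} [Group G] (K Q : Subgroup G) (Δ : Type*) [Group Δ] : Prop :=
  Q ≤ K ∧ ∃ _ : (Q.subgroupOf K).Normal, Nonempty (K ⧸ Q.subgroupOf K ≃* Δ)

theorem NExt.card {G Δ : Type*} [Group G] [Group Δ] {K Q : Subgroup G} (h : NExt K Q Δ) :
    Nat.card K = Nat.card Δ * Nat.card Q := by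
  obtain ⟨h1, _, ⟨e⟩⟩ := h
  rw [card_eq_card_quotient_mul_card_subgroup (Q.subgroupOf K), Nat.card_congr e.toEquiv,
    Nat.card_congr (subgroupOfEquivOfLe h1).toEquiv]

theorem NExt.congr {G Δ Δ' : Type*} [Group G] [Group Δ] [Group Δ'] {K Q : Subgroup G}
    (h : NExt K Q Δ) (e : Nonempty (Δ ≃* Δ')) : NExt K Q Δ' := by
  obtain ⟨h1, h2, ⟨e1⟩⟩ := h
  obtain ⟨e⟩ := e
  exact ⟨h1, h2, ⟨e1.trans e⟩⟩

theorem le_normalizer_of {G : Type*} [Group G] {Q : Subgroup G} [Finite Q] {n : ℕ} {F : ℕ → G}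
    (hn : ∀ i < n, ∀ x ∈ Q, F i * x * (F i)⁻¹ ∈ Q) : Q ⊔ gsub n F ≤ normalizer (Q : Set G) :=
  sup_le le_normalizer (gsub_le fun j hj => mem_normalizer_fintype (hn j hj))

theorem not_mem_of_ord {G : Type*} [Group G] {Q : Subgroup G} {x : G} {p m : ℕ}
    (h : orderOf x = p) (hQ : Nat.card Q = m) (hp : ¬ p ∣ m) : x ∉ Q := fun hx =>
  hp (h ▸ hQ ▸ Q.orderOf_dvd_natCard hx)

theorem next_of {n k M N : ℕ} {RL : List (List ℕ)} (b : Bound n k RL M) (hM : M ≠ 0)
    {G Δ : Type} [Group G] [Group Δ] {F : ℕ → G} {g : ℕ → Δ} (hg : Pres n k RL g)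
    (hc : M ∣ Nat.card (gsub n g)) (hs : IsSimpleGroup (gsub n g)) {Q : Subgroup G} [Finite Q]
    (hm : ∀ j < N, F j ∈ gsub n F) (hn : ∀ i < n, ∀ x ∈ Q, F i * x * (F i)⁻¹ ∈ Q)
    {RL0 WD : List (List ℕ)} {H : List Hint} (hR : ∀ l ∈ RL0, ev (atm N F) l ∈ Q)
    (h : (decide (n ≤ N) && (List.range k).all (fun j => RL0.contains [2 * j, 2 * j]) &&
      elimChk (2 * k) n N RL0 WD && consAll (2 * k) (RL0.map (subW (2 * k) N WD)) RL H) = true)
    {w : List ℕ} (hw : ev (atm n F) w ∉ Q) : NExt (Q ⊔ gsub n F) Q (gsub n g) := by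
  set K := Q ⊔ gsub n F
  have e : ∀ j < N, K.subtype (lift K F j) = F j := fun j hj => lift_coe (mem_sup_right (hm j hj))
  have e' : ∀ j < n, K.subtype (lift K F j) = F j := fun j hj =>
    lift_coe (mem_sup_right (mem_gsub F hj))
  have hN : (Q.subgroupOf K).Normal :=
    (normal_subgroupOf_iff_le_normalizer le_sup_left).2 (le_normalizer_of hn)
  have k : ∀ {m : ℕ} (l : List ℕ), (∀ j < m, K.subtype (lift K F j) = F j) →
      (ev (atm m fun j => QuotientGroup.mk' (Q.subgroupOf K) (lift K F j)) l = 1 ↔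
        ev (atm m F) l ∈ Q) := fun l e => by
    rw [← ev_atm_map, QuotientGroup.mk'_apply, QuotientGroup.eq_one_iff, mem_subgroupOf,
      ← subtype_apply, ev_atm_map' e]
  obtain ⟨e1, -⟩ := iso_of_simple b hM hg
    (Pres.elim (fun l hl => (k l e).mpr (hR l hl)) h) hc hs fun h1 => hw ((k w e').mp h1)
  have ht : (gsub n fun j => QuotientGroup.mk' (Q.subgroupOf K) (lift K F j)) = ⊤ := by
    rw [← gsub_map, eq_top_iff]
    rintro y -
    obtain ⟨y, rfl⟩ := QuotientGroup.mk'_surjective _ y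
    have h5 : K ≤ (((gsub n (lift K F)).map (QuotientGroup.mk' (Q.subgroupOf K))).comap
        (QuotientGroup.mk' (Q.subgroupOf K))).map K.subtype := by
      refine sup_le (fun x hx => ⟨⟨x, mem_sup_left hx⟩, ?_, rfl⟩)
        (gsub_le fun j hj => ⟨_, mem_map_of_mem _ (mem_gsub _ hj), e' j hj⟩)
      have : QuotientGroup.mk' (Q.subgroupOf K) ⟨x, mem_sup_left hx⟩ = 1 :=
        (QuotientGroup.eq_one_iff _).2 hx
      show QuotientGroup.mk' _ _ ∈ Subgroup.map _ _
      rw [this]
      exact one_mem _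
    obtain ⟨y', h6, h7⟩ := h5 y.2
    exact (Subtype.ext h7 : y' = y) ▸ h6
  exact ⟨le_sup_left, hN, ⟨(topEquiv.symm.trans (MulEquiv.subgroupCongr ht.symm)).trans e1.symm⟩⟩

end Cfsg.Agent.Spor
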