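/-
Long words in pieces, orders in two steps, and non-membership through commutation.
-/
import Cfsg.Agent.Spor.XS

set_option autoImplicit false

namespace Cfsg.Agent.Spor

theorem PA.evw_lapp (A : PA) (TT w u : List ℕ) (x : ℕ) :
    A.evw TT (lapp w u) x = A.evw TT u (A.evw TT w x) := by
  induction w generalizing x with
  | nil => rfl
  | cons z w ih => exact ih _

theorem PA.isW_app {A : PA} {TT w u v : List ℕ} {x y : ℕ} (h1 : A.isW TT w y = true)
    (h2 : Nat.beq (A.evw TT u y) x = true) (e : lapp w u = v) : A.isW TT v x = true := by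
  rw [PA.isW, ← e, PA.evw_lapp, Nat.beq_eq.mp h1]
  exact h2

namespace MRep

variable {A : PA} {R : Type} [CommRing R] {Γ : Type} [Group Γ] {X : MRep A R Γ}

theorem M.ord2 [CharP R A.p] {z y p a b c : ℕ} (hz : X.M z) (hp : p.Prime) (e : a * b + c = p)
    (h1 : band (Nat.beq (A.pw z a) y) (A.neq z A.one) = true)
    (h2 : Nat.beq (A.mul (A.pw y b) (A.pw z c)) A.one = true) : orderOf (X.el z) = p := by
  rw [band_eq, Bool.and_eq_true, Nat.beq_eq] at h1
  refine orderOf_eq_of_prime hp ?_ (X.el_one ▸ hz.neq X.M_one h1.2)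
  have m := (hz.pw a).1.pw b
  rw [← e, pow_add, pow_mul, ← (hz.pw a).2, ← m.2, ← (hz.pw c).2, ← m.1.el_mul (hz.pw c).1, h1.1,
    Nat.beq_eq.mp h2, el_one]

theorem Gens.not_mem_comm [CharP R A.p] {TT : List ℕ} {n : ℕ} {g : ℕ → Γ} (h : X.Gens TT (atm n g))
    {W : List (List ℕ)} {zw u : List ℕ}
    (hc : lall (fun w => Nat.beq (A.evw TT (lapp w zw) A.one) (A.evw TT (lapp zw w) A.one)) W = true)
    (hu : A.neq (A.evw TT (lapp u zw) A.one) (A.evw TT (lapp zw u) A.one) = true) :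
    ev (atm n g) u ∉ wsub n g W := fun hm => h.neq hu (by
  rw [ev_lapp, ev_lapp]; exact h.comm_words hc _ hm)

/-- relations of a symplectic basis -/
theorem Gens.xs [CharP R A.p] {TT : List ℕ} {k : ℕ} {g : ℕ → Γ} (h : X.Gens TT (atm (2 * k + 1) g))
    (hk : 0 < k) (h0 : A.neq (A.evw TT [0] A.one) A.one = true)
    (h2 : AllP (fun i => A.isW TT [2 * i, 2 * i] A.one = true) (List.range (2 * k + 1)))
    (hc : AllP (fun i => allN (fun j => Nat.beq (A.evw TT [2 * i, 2 * j] A.one)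
      (A.evw TT (lapp (Bool.rec [] [0] (xpr i j)) [2 * j, 2 * i]) A.one)) i = true)
      (List.range (2 * k + 1))) :
    PC g (2 * k + 1) (2 ^ (2 * k + 1)) ∧ IsExtraspecial 2 (gsub (2 * k + 1) g) := by
  have e0 : atm (2 * k + 1) g 0 = g 0 := atm_two_mul g (j := 0) (by omega)
  refine xs_of hk (fun i hi => ?_) (fun i hi j hj => ?_) ?_
  · have := h.eq_one (h2.forall i (List.mem_range.mpr hi))
    rwa [ev_cons, ev_cons, ev_nil, mul_one, atm_two_mul g hi] at this
  · have := h.eq_ev ((allN_iff _ _).mp (hc.forall i (List.mem_range.mpr hi)) j hj)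
    simp only [ev_lapp, ev_cons, ev_nil, mul_one, atm_two_mul g hi, atm_two_mul g (hj.trans hi)] at this
    rw [this]
    cases xpr i j
    · simp
    · simp [e0]
  · have := h.ne_one h0
    rwa [ev_cons, ev_nil, mul_one, e0] at this

/-- a conjugate of one generator by a generator of another table is a word -/
theorem Gens.conj_mem {TT TQ : List ℕ} {N m : ℕ} {F g : ℕ → Γ} (h : X.Gens TT (atm N F))
    (h' : X.Gens TQ (atm m g)) {n : ℕ} (hn : n ≤ N)
    (hc : AllP (fun i => AllP (fun j => ∃ w, Nat.beq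
      (A.mul (nth A.one TT (Nat.mul 2 i)) (nth A.one TQ (Nat.mul 2 j)))
      (A.mul (A.evw TQ w A.one) (nth A.one TT (Nat.mul 2 i))) = true) (List.range m)) (List.range n)) :
    ∀ i < n, ∀ x ∈ gsub m g, F i * x * (F i)⁻¹ ∈ gsub m g := fun i hi => norm_gsub fun j hj => by
  obtain ⟨w, hw⟩ := (hc.forall i (List.mem_range.mpr hi)).forall j (List.mem_range.mpr hj)
  have a := h.at (hi.trans_le hn)
  have b := h'.at hj
  have e := congrArg X.el (Nat.beq_eq.mp hw)
  rw [a.1.el_mul b.1, (h'.ev1 w).1.el_mul a.1, a.2, b.2, (h'.ev1 w).2] at e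
  rw [e, mul_inv_cancel_right]
  exact ev_atm_mem m g w

/-- words in one table are words in another -/
theorem Gens.mem_words {TT TQ : List ℕ} {a : ℕ → Γ} {m : ℕ} {g : ℕ → Γ} (h : X.Gens TT a)
    (h' : X.Gens TQ (atm m g)) {L : List (List ℕ)}
    (hc : AllP (fun l => ∃ w, Nat.beq (A.evw TT l A.one) (A.evw TQ w A.one) = true) L) :
    ∀ l ∈ L, ev a l ∈ gsub m g := fun l hl => by
  obtain ⟨w, h1⟩ := hc.forall l hl
  rw [h.cross h' h1]
  exact ev_atm_mem m g w

end MRep

end Cfsg.Agent.Spor
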