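/-
Centralisers from double cosets, with double cosets that cannot meet the centraliser.
-/
import Cfsg.Agent.Spor.PX13
import Cfsg.Agent.Spor.PX6

set_option autoImplicit false

namespace Cfsg.Agent.Spor

open Equiv

section
variable {Γ G : Type*} [Group Γ] [Group G] {ι : Type} {ψ : Γ →* G} {x : ι → G} {S : ι → Subgroup Γ}
  [Fintype ι]

theorem DExact.cent' {N : ℕ} (e : DExact ψ x S N) (c : DCov ψ x S) {z : Γ} {K : Subgroup G}
    (hK : ∀ k ∈ K, k * ψ z = ψ z * k) (hΓ : ∀ u, u * z = z * u → ψ u ∈ K)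
    (h : ∀ j, ∀ y ∈ S j, IsConj z y → ∃ s ∈ S j, ∃ h, ((∃ h', ψ h' * x j * ψ h ∈ K) ∨
      ∃ y', x j * ψ (h * z * h⁻¹) = ψ y' * x j ∧ ¬ IsConj z y') ∧
      y = s * h * z * (s * h)⁻¹) : Subgroup.centralizer {ψ z} = K := by
  refine le_antisymm (fun g hg => ?_)
    fun k hk => Subgroup.mem_centralizer_singleton_iff.mpr (hK k hk)
  rw [Subgroup.mem_centralizer_singleton_iff] at hg
  obtain ⟨j, b, u, rfl⟩ := c.cov g
  have h0 : x j = ψ (b⁻¹ * z⁻¹ * b) * x j * ψ (u * z * u⁻¹) := by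
    simp only [map_mul, map_inv]
    calc x j = (ψ b)⁻¹ * (ψ z)⁻¹ * (ψ z * (ψ b * x j * ψ u)) * (ψ u)⁻¹ := by group
      _ = _ := by rw [← hg]; group
  obtain ⟨s, hs, h, hk, e1⟩ := h j _ (e.ex j j _ _ h0).2 (isConj_iff.mpr ⟨u, rfl⟩)
  obtain ⟨b', hb⟩ := c.st j s⁻¹ (inv_mem hs)
  rcases hk with ⟨h', hk⟩ | ⟨y', hy, hn⟩
  · have h2 : ψ ((s * h)⁻¹ * u) ∈ K := hΓ _ (by
      calc (s * h)⁻¹ * u * z = (s * h)⁻¹ * (u * z * u⁻¹) * u := by group
        _ = _ := by rw [e1]; group)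
    have h3 := K.mul_mem hk h2
    have h4 : ψ b * x j * ψ u = ψ (b * b' * h'⁻¹) * (ψ h' * x j * ψ h * ψ ((s * h)⁻¹ * u)) := by
      conv_lhs => rw [hb]
      simp only [map_mul, map_inv]
      group
    rw [h4] at hg ⊢
    refine K.mul_mem (hΓ _ (e.inj ?_)) h3
    rw [map_mul ψ _ z, map_mul ψ z]
    generalize ψ h' * x j * ψ h * ψ ((s * h)⁻¹ * u) = k at h3 hg
    rw [mul_assoc, hK _ h3, ← mul_assoc, ← mul_assoc] at hg
    exact mul_right_cancel hg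
  · refine absurd (isConj_iff.mpr ⟨b'⁻¹ * b⁻¹, e.inj (mul_right_cancel (b := x j) ?_)⟩) hn
    have h5 : x j * ψ s = ψ b' * x j := by
      conv_lhs => rw [hb]
      rw [map_inv]; group
    have h6 : ψ (b⁻¹ * z * b) * x j = x j * ψ (u * z * u⁻¹) := by
      conv_lhs => rw [h0]
      simp only [map_mul, map_inv]; group
    rw [e1] at h6
    rw [← hy]
    simp only [map_mul, map_inv] at h6 ⊢
    calc _ = (ψ b')⁻¹ * ((ψ b)⁻¹ * ψ z * ψ b * (ψ b' * x j)) := by group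
      _ = (ψ b')⁻¹ * ((ψ b)⁻¹ * ψ z * ψ b * x j) * ψ s := by rw [← h5]; group
      _ = (ψ b')⁻¹ * (x j * ψ s) * (ψ h * ψ z * (ψ h)⁻¹) := by rw [h6]; group
      _ = _ := by rw [h5]; group

end

section
variable {Γ : Type*} [Group Γ] {H S : Subgroup Γ} {φ : Γ →* Perm ℕ} {N : ℕ}

theorem CosetAct.classes (act : CosetAct H φ N) {z : Γ} (hH : ∀ x ∈ H, x * z = z * x) {P : Γ → Prop}
    (h : ∀ q < N, ∃ h, q ∈ orbS (S.map φ) (φ h 0) ∧ (P h ∨ h * z * h⁻¹ ∉ S)) :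
    ∀ y ∈ S, IsConj z y → ∃ s ∈ S, ∃ h, P h ∧ y = s * h * z * (s * h)⁻¹ := by
  intro y hy hc
  obtain ⟨c, rfl⟩ := isConj_iff.mp hc
  obtain ⟨h, ⟨_, ⟨s, hs, rfl⟩, e⟩, hP⟩ := h _ ((act.orb _).mpr ⟨c, rfl⟩)
  have h1 : (s * h)⁻¹ * c ∈ H := by
    rw [← act.stab, map_mul, Perm.mul_apply, ← e, map_inv, Perm.inv_eq_iff_eq, map_mul]; rfl
  have h2 : c * z * c⁻¹ = s * h * z * (s * h)⁻¹ := by
    calc _ = s * h * ((s * h)⁻¹ * c * z) * c⁻¹ := by group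
      _ = _ := by rw [hH _ h1]; group
  refine ⟨s, hs, h, hP.resolve_right fun hn => hn ?_, h2⟩
  have := S.mul_mem (S.mul_mem (S.inv_mem hs) hy) hs
  rwa [h2, show s⁻¹ * (s * h * z * (s * h)⁻¹) * s = h * z * h⁻¹ by group] at this

variable {U : Tab} {Kb n m : ℕ} {g : ℕ → Γ} {SW W : List (List ℕ)}

theorem Tab.Link.evL (hl : U.Link φ (atm n g) m) {w : List ℕ}
    (hw : lall (fun y => Nat.blt y m) w = true) : φ (Spor.ev (atm n g) w) = evA U.τ (toL w) := by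
  rw [evA_toL, hl.ev fun y hy => Nat.blt_eq.mp ((lall_iff _ _).mp hw y hy)]

/-- an element that does not keep an invariant set -/
theorem Tab.Link.not_mem (hU : U.Ok Kb) (hl : U.Link φ (atm n g) m)
    (hw : (lall (lall fun y => Nat.blt y m) SW && (W == SW.map toL)) = true) {O q q' : ℕ}
    (h1 : U.closedW W O = true) {v zw u : List ℕ}
    (h2 : (lall (fun y => Nat.blt y m) (lapp v (lapp zw (invW 0 v []))) &&
      (u == toL (lapp v (lapp zw (invW 0 v [])))) && O.testBit q && !O.testBit q') = true)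
    (h3 : U.sends u q q' = true) :
    Spor.ev (atm n g) v * Spor.ev (atm n g) zw * (Spor.ev (atm n g) v)⁻¹ ∉ wsub n g SW := fun hm => by
  simp only [Bool.and_eq_true, beq_iff_eq, Bool.not_eq_true'] at hw h2
  obtain ⟨⟨⟨c1, rfl⟩, c2⟩, c3⟩ := h2
  have e := hl.evL c1
  rw [ev_lapp, ev_lapp, ev_invW (ivOk_zero n g), ev_nil, mul_one, ← mul_assoc] at e
  have := hU.closedW h1 _ (by rw [hw.2, hl.lsub_le hw.1]; exact ⟨_, hm, e⟩) q
  rw [hU.sends h3, c2, c3] at this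
  exact Bool.false_ne_true this

theorem Tab.Link.classes (act : CosetAct H φ N) (hl : U.Link φ (atm n g) m)
    (hw : (lall (lall fun y => Nat.blt y m) SW && (W == SW.map toL)) = true) {z : Γ}
    (hH : ∀ x ∈ H, x * z = z * x) {P : Γ → Prop} {X : List SubO}
    (hX : AllP (fun x : SubO => lall (fun y => Nat.blt y m) x.1 = true ∧
      evA U.τ (toL x.1) 0 = x.2.1 ∧ Reach (U.lsub W) x.2.1 x.2.2 ∧ (P (Spor.ev (atm n g) x.1) ∨
        Spor.ev (atm n g) x.1 * z * (Spor.ev (atm n g) x.1)⁻¹ ∉ wsub n g SW)) X)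
    (hc : sub (ones N) (lor (X.map fun x => x.2.2)) = true) :
    ∀ y ∈ wsub n g SW, IsConj z y → ∃ s ∈ wsub n g SW, ∃ h, P h ∧ y = s * h * z * (s * h)⁻¹ :=
  act.classes hH fun q hq => by
    obtain ⟨M, hM, h2⟩ := tb_lor_list _ _
      ((sub_iff _ _).mp hc q (by rw [tb_ones]; exact decide_eq_true hq))
    obtain ⟨t, ht, rfl⟩ := List.mem_map.mp hM
    obtain ⟨h3, h4, h5, h6⟩ := hX.forall t ht
    rw [Bool.and_eq_true, beq_iff_eq] at hw
    exact ⟨_, by rw [hl.evL h3, h4, ← hl.lsub_le hw.1, ← hw.2]; exact h5 q h2, h6⟩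

end

theorem MRep.Gens.badW {A : PA} {R : Type} [CommRing R] {Γ : Type} [Group Γ] {X : MRep A R Γ}
    [CharP R A.p] {TT : List ℕ} {a : ℕ → Γ} (h : X.Gens TT a) {zw w : List ℕ} {e : ℕ}
    (hc : band (Nat.beq (A.pw (A.evw TT zw A.one) e) A.one)
      (A.bad (A.evw TT zw A.one) e (A.evw TT w A.one)) = true) : ¬ IsConj (ev a zw) (ev a w) := by
  rw [band_eq, Bool.and_eq_true, Nat.beq_eq] at hc
  rw [← (h.ev1 zw).2, ← (h.ev1 w).2]
  exact (h.ev1 zw).1.bad (h.ev1 w).1 (by rw [← ((h.ev1 zw).1.pw e).2, hc.1, MRep.el_one]) hc.2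

theorem MRep.Gens.mem_sup {A : PA} {R : Type} [CommRing R] {Γ : Type} [Group Γ] {X : MRep A R Γ}
    {TT TQ TF : List ℕ} {N m n : ℕ} {f g F : ℕ → Γ} (h : X.Gens TT (atm N f))
    (hQ : X.Gens TQ (atm m g)) (hF : X.Gens TF (atm n F))
    (hc : AllP (fun j => ∃ q w, Nat.beq (A.evw TF w (A.evw TQ q A.one))
      (nth A.one TT (Nat.mul 2 j)) = true) (List.range N)) : ∀ j < N, f j ∈ gsub m g ⊔ gsub n F :=
  fun j hj => by
    obtain ⟨q, w, e⟩ := hc.forall j (List.mem_range.mpr hj)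
    rw [← (h.at hj).2, ← Nat.beq_eq.mp e, (hF.evw w (hQ.ev1 q).1).2, (hQ.ev1 q).2]
    exact Subgroup.mul_mem_sup (ev_atm_mem m g q) (ev_atm_mem n F w)

theorem comm_sup {G : Type*} [Group G] {m n : ℕ} {g F : ℕ → G} {z : G} (h1 : ∀ j < m, g j * z = z * g j)
    (h2 : ∀ j < n, F j * z = z * F j) : ∀ k ∈ gsub m g ⊔ gsub n F, k * z = z * k := fun _ hk =>
  Subgroup.mem_centralizer_singleton_iff.mp ((sup_le (c := Subgroup.centralizer {z})
    (gsub_le fun j hj => Subgroup.mem_centralizer_singleton_iff.mpr (h1 j hj))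
    (gsub_le fun j hj => Subgroup.mem_centralizer_singleton_iff.mpr (h2 j hj))) hk)

namespace DCtx

variable {D : DE} {R : Type} [CommRing R] {Γ : Type} [Group Γ] {G : Type} [Group G]
  {Y : DCtx D R Γ G} {n : ℕ} {g : ℕ → Γ}

/-- the double coset meets `K`, or the symbol moves the conjugate of `z` to another class -/
def WB (Y : DCtx D R Γ G) (K : Subgroup G) (z : Γ) (j : ℕ) (h : Γ) : Prop :=
  Y.Wit K j h ∨ ∃ y', Y.sym j * Y.ψ (h * z * h⁻¹) = Y.ψ y' * Y.sym j ∧ ¬ IsConj z y'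

def Cls' (Y : DCtx D R Γ G) (n : ℕ) (g : ℕ → Γ) (K : Subgroup G) (z : Γ) (x : CosD) : Prop :=
  x.1 = 0 ∨ ∀ y ∈ wsub n g x.2.1, IsConj z y → ∃ s ∈ wsub n g x.2.1, ∃ h, Y.WB K z x.1 h ∧
    y = s * h * z * (s * h)⁻¹

theorem Done.cent' {CL : List CosD} {M N : ℕ} (h : Y.Done n g CL M N)
    (hg : ∀ K : Subgroup G, Y.ψ.range ≤ K → Y.t ∈ K → K = ⊤)
    (e : DExact Y.ψ (Y.xs CL) (Ss n g CL) N) {z : Γ} {K : Subgroup G}
    (hK : ∀ k ∈ K, k * Y.ψ z = Y.ψ z * k) (hΓ : ∀ u, u * z = z * u → Y.ψ u ∈ K)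
    (hc : AllP (Y.Cls' n g K z) CL) : Subgroup.centralizer {Y.ψ z} = K :=
  e.cent' (h.cov hg) hK hΓ fun j y hy hz => by
    rcases hc.forall _ (List.getElem_mem j.2) with h0 | h0
    · obtain ⟨c, rfl⟩ := isConj_iff.mp hz
      refine ⟨1, one_mem _, c, Or.inl ⟨c⁻¹, ?_⟩, by rw [one_mul]⟩
      show Y.ψ c⁻¹ * Y.sym CL[j].1 * Y.ψ c ∈ K
      rw [show CL[j].1 = 0 from h0, sym_zero, mul_one, ← map_mul, inv_mul_cancel, map_one]
      exact one_mem _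
    · exact h0 y hy hz

variable {T : ℕ} {a : ℕ → G} {A : PA} {R' : Type} [CommRing R'] {X : MRep A R' G} {TT : List ℕ}

theorem At.symM (hA : Y.At T g a) (h : X.Gens TT a) {j x : ℕ} {l : List (List ℕ)} {w : List ℕ}
    (hs : D.symW T l j = true) (e : symWord T l = w) (hw : A.isW TT w x = true) :
    X.M x ∧ X.el x = Y.sym j := by
  rw [hA.symW l hs, e]; exact h.isW hw

theorem At.wit' (hA : Y.At T g a) (h : X.Gens TT a) {TK : List ℕ} {N : ℕ} {F : ℕ → G}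
    (h' : X.Gens TK (atm N F)) {K : Subgroup G} (hm : ∀ j < N, F j ∈ K) {j x : ℕ}
    (hx : X.M x ∧ X.el x = Y.sym j) {u v w : List ℕ} {m1 m2 : ℕ} {z : Γ}
    (c1 : A.isW TT u m1 = true) (c2 : A.isW TK w m2 = true)
    (c3 : band (lall (fun y => Nat.blt y T) (lapp u v))
      (Nat.beq (A.evw TT v (A.mul m1 x)) m2) = true) : Y.WB K z j (Spor.ev g v) := by
  simp only [band_eq, Bool.and_eq_true, lall_iff, Nat.blt_eq, Nat.beq_eq] at c3
  refine Or.inl ⟨Spor.ev g u, ?_⟩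
  have m := h.isW c1
  rw [hA.ψ_ev fun y hy => c3.1 y (by simp [lapp_eq, hy]),
    hA.ψ_ev fun y hy => c3.1 y (by simp [lapp_eq, hy]), ← hx.2, ← m.2, ← m.1.el_mul hx.1,
    ← (h.evw v (m.1.mul hx.1)).2, c3.2, (h'.isW c2).2]
  exact ev_mem_of hm w

theorem At.bad (hA : Y.At T g a) (h : X.Gens TT a) {K : Subgroup G} {j x : ℕ}
    (hx : X.M x ∧ X.el x = Y.sym j) {v zw yw : List ℕ} {m1 m2 : ℕ}
    (c1 : A.isW TT v m1 = true) (c2 : A.isW TT yw m2 = true)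
    (c3 : band (lall (fun y => Nat.blt y T) (lapp v (lapp zw yw)))
      (Nat.beq (A.evw TT zw (A.mul x m1)) (A.mul (A.mul m2 x) m1)) = true)
    (hb : ¬ IsConj (Spor.ev g zw) (Spor.ev g yw)) : Y.WB K (Spor.ev g zw) j (Spor.ev g v) := by
  simp only [band_eq, Bool.and_eq_true, lall_iff, Nat.blt_eq, Nat.beq_eq] at c3
  refine Or.inr ⟨_, ?_, hb⟩
  have m := h.isW c1
  have m' := h.isW c2
  have e := congrArg X.el c3.2
  rw [(h.evw zw (hx.1.mul m.1)).2, hx.1.el_mul m.1, (m'.1.mul hx.1).el_mul m.1, m'.1.el_mul hx.1,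
    hx.2, m.2, m'.2] at e
  rw [map_mul, map_mul, map_inv, hA.ψ_ev fun y hy => c3.1 y (by simp [lapp_eq, hy]),
    hA.ψ_ev (w := zw) fun y hy => c3.1 y (by simp [lapp_eq, hy]),
    hA.ψ_ev (w := yw) fun y hy => c3.1 y (by simp [lapp_eq, hy]), ← mul_assoc, ← mul_assoc, e,
    mul_inv_cancel_right]

end DCtx

/-- the normal subgroup seen inside the centraliser -/
theorem NExt.cent {G Δ : Type*} [Group G] [Group Δ] {K Q C : Subgroup G} (h : NExt K Q Δ)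
    (e : C = K) {p m : ℕ} (h1 : Nat.card Q = m) (h2 : IsExtraspecial p Q) :
    ∃ (Q : Subgroup C) (_ : Q.Normal), Nat.card Q = m ∧ IsExtraspecial p Q ∧ Nonempty (C ⧸ Q ≃* Δ) := by
  subst e
  obtain ⟨h3, h4, h5⟩ := h
  have e := Subgroup.subgroupOfEquivOfLe h3
  exact ⟨_, h4, (Nat.card_congr e.toEquiv).trans h1, xs_congr e.symm h2, h5⟩

end Cfsg.Agent.Spor
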