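import Cfsg.Agent.Spor.PX8

set_option autoImplicit false

namespace Cfsg.Agent.Spor

open Equiv

section
variable {n k M : ℕ} {RL : List (List ℕ)}

theorem card_dvd_of_map {G Δ : Type*} [Group G] [Group Δ] (φ : G →* Δ) {f : ℕ → G} {g : ℕ → Δ}
    (h : ∀ j < n, φ (f j) = g j) : Nat.card (gsub n g) ∣ Nat.card (gsub n f) := by
  rw [← gsub_map' h]; exact Subgroup.card_map_dvd _ _

/-- an upper bound that is attained -/
theorem Bound.of_le
    (h : ∀ (G : Type) [Group G] (f : ℕ → G), Pres n k RL f → gsub n f = ⊤ → Finite G ∧ Nat.card G ≤ M)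
    {Δ : Type} [Group Δ] {g : ℕ → Δ} (hg : Pres n k RL g) (hc : M ∣ Nat.card (gsub n g)) :
    Bound n k RL M := fun G _ f hf => by
  obtain ⟨h1, h2⟩ := h _ _ (hf.prod hg).lift (gsub_lift n _)
  have h3 := hc.trans (card_dvd_of_map (MonoidHom.snd G Δ) (f := fun j => (f j, g j)) fun _ _ => rfl)
  rw [← le_antisymm h2 (Nat.le_of_dvd Nat.card_pos h3)]
  exact card_dvd_of_map (MonoidHom.fst G Δ) fun _ _ => rfl

/-- two groups attaining the bound -/
theorem Bound.exists_inj (b : Bound n k RL M) (hM : M ≠ 0) {G Δ : Type} [Group G] [Group Δ]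
    {f : ℕ → G} {g : ℕ → Δ} (hf : Pres n k RL f) (hg : Pres n k RL g)
    (hc : M ∣ Nat.card (gsub n f)) (hd : M ∣ Nat.card (gsub n g)) :
    ∃ ψ : gsub n f →* Δ, Function.Injective ψ ∧ ∀ j < n, ψ (lift (gsub n f) f j) = g j := by
  obtain ⟨ψ, h⟩ := b.exists_hom hM hf hg hc
  refine ⟨ψ, ?_, h⟩
  have h1 := b _ _ hf
  have : Finite (gsub n f) := Nat.finite_of_card_ne_zero (ne_zero_of_dvd_ne_zero hM h1)
  have h2 : ψ.range = gsub n g := range_eq_gsub h (gsub_lift n f)
  have h3 := ψ.rangeRestrict_surjective.bijective_of_nat_card_le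
    (by rw [h2]; exact Nat.le_of_dvd (h2 ▸ Nat.card_pos_iff.mpr
      ⟨inferInstance, Finite.of_surjective _ ψ.rangeRestrict_surjective⟩) (h1.trans hd))
  exact fun a c e => h3.1 (Subtype.ext e)

theorem simple_of_inj {G Δ : Type*} [Group G] [Group Δ] [IsSimpleGroup Δ] {ψ : G →* Δ}
    (hi : Function.Injective ψ) {f : ℕ → G} {g : ℕ → Δ} (h : ∀ j < n, ψ (f j) = g j)
    (hg : gsub n g = ⊤) : IsSimpleGroup G :=
  (MulEquiv.ofBijective ψ ⟨hi, MonoidHom.range_eq_top.mp (eq_top_iff.mpr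
    (hg ▸ gsub_le fun j hj => ⟨_, h j hj⟩))⟩).isSimpleGroup

/-- consequences of the relators after a replacement on both sides -/
theorem Pres.cons_repl2 {G : Type*} [Group G] {F : ℕ → G} {L : List (List ℕ)} (h : Pres n k RL F)
    {y : ℕ} {u : List ℕ} {H : List Hint}
    (hc : (consAll (2 * k) RL [ivA (2 * k) y :: u] (H.take 1) &&
      consAll (2 * k) (RL.map (repl y u)) (L.map (repl y u)) (H.drop 1)) = true) :
    ∀ l ∈ L, ev (atm n F) l = 1 := by
  rw [Bool.and_eq_true] at hc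
  have h1 := consAll_sound h.ivOk h.rel hc.1 _ List.mem_cons_self
  rw [ev_cons, h.ivOk, inv_mul_eq_one] at h1
  intro l hl
  rw [← ev_repl h1]
  refine consAll_sound h.ivOk (fun r hr => ?_) hc.2 _ (List.mem_map_of_mem hl)
  obtain ⟨l, hl, rfl⟩ := List.mem_map.mp hr
  rw [ev_repl h1, h.rel l hl]

/-- substitution of words, up to a replacement -/
theorem Pres.subst2 {G : Type*} [Group G] {F : ℕ → G} (h : Pres n k RL F) {WD : List (List ℕ)}
    {k' : ℕ} {RL' : List (List ℕ)} {y : ℕ} {u : List ℕ} {H : List Hint}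
    (hc : (consAll (2 * k) RL [ivA (2 * k) y :: u] (H.take 1) &&
      consAll (2 * k) (RL.map (repl y u)) ((subList k WD k' RL').map (repl y u)) (H.drop 1)) = true) :
    Pres WD.length k' RL' (wv n F WD) :=
  Pres.of_subList h.ivOk (h.cons_repl2 hc)

end

end Cfsg.Agent.Spor
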