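import Cfsg.Agent.Spor.XS0

set_option autoImplicit false

namespace Cfsg.Agent.Spor

/-- `u i * u j = w * u i` with a word in the first `k` generators -/
noncomputable def PA.pcK (A : PA) (TT : List Nat) (k i j : Nat) (w : List Nat) : Bool :=
  band (lall (fun y => Nat.blt y (Nat.mul 2 k)) w)
    (Nat.beq (A.mul (nth A.one TT (Nat.mul 2 i)) (nth A.one TT (Nat.mul 2 j)))
      (A.mul (A.evw TT w A.one) (nth A.one TT (Nat.mul 2 i))))

end Cfsg.Agent.Spor
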