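/-
Chains of normal subgroups given by initial segments of a table of matrices.
-/
import Cfsg.Agent.Spor.PX14
import Cfsg.Agent.Spor.XS1

set_option autoImplicit false

namespace Cfsg.Agent.Spor

open Equiv Subgroup

section
variable {G : Type*} [Group G]

theorem gsub_add (m n : ℕ) (g : ℕ → G) : gsub (m + n) g = gsub m g ⊔ gsub n fun j => g (m + j) := by
  refine le_antisymm (gsub_le fun j hj => ?_) (sup_le (gsub_mono (by omega) g)
    (gsub_le fun j hj => mem_gsub g (by omega)))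
  by_cases h : j < m
  · exact mem_sup_left (mem_gsub g h)
  · obtain ⟨i, rfl⟩ := Nat.exists_eq_add_of_le (not_lt.mp h)
    exact mem_sup_right (mem_gsub (fun j => g (m + j)) (by omega))

theorem PC.not_mem {g : ℕ → G} {i m s : ℕ} (hm : PC g i m) {S : Subgroup G} (hS : S ≤ gsub (i + 1) g)
    (hs : s ∣ Nat.card S) (h : ¬ s ∣ m) : g i ∉ gsub i g := fun hx => h (by
  rw [gsub_succ, sup_eq_left.mpr (zpowers_le.mpr hx)] at hS
  exact hm.1 ▸ hs.trans (card_dvd_of_le hS))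

theorem not_mem_of_map {Γ : Type*} [Group Γ] {ψ : Γ →* G} {n N : ℕ} {p : ℕ → Γ} {g : ℕ → G}
    (hψ : ∀ j < n, ψ (p j) = g j) {SW : List (List ℕ)} {v zw u : List ℕ}
    (hw : (decide (n ≤ N) && SW.all (fun w => w.all (· < 2 * n)) && u.all (· < 2 * n) &&
      (u == lapp v (lapp zw (invW 0 v [])))) = true) (h : ev (atm N g) u ∉ wsub N g SW) :
    ev (atm n p) v * ev (atm n p) zw * (ev (atm n p) v)⁻¹ ∉ wsub n p SW := fun hm => h (by
  rw [Bool.and_eq_true, Bool.and_eq_true, beq_iff_eq] at hw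
  have h1 := hw.1.1
  rw [wsub_lt g h1, ← wsub_map hψ]
  simp only [Bool.and_eq_true, decide_eq_true_eq, List.all_eq_true] at hw
  rw [ev_atm_lt hw.1.1.1 g hw.1.2, ← ev_atm_map' hψ, hw.2, ev_lapp, ev_lapp, ev_invW (ivOk_zero n p),
    ev_nil, mul_one, ← mul_assoc]
  exact mem_map_of_mem ψ hm)

theorem Tab.Link.bad {φ : G →* Perm ℕ} {U : Tab} {Kb n m : ℕ} {g : ℕ → G} (hU : U.Ok Kb)
    (hl : U.Link φ (atm n g) m) {zw yw u : List ℕ} {q q' : ℕ} (hz : φ (Spor.ev (atm n g) zw) = 1)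
    (h1 : (lall (fun y => Nat.blt y m) yw && (u == toL yw) && decide (q ≠ q')) = true)
    (h2 : U.sends u q q' = true) : ¬ IsConj (Spor.ev (atm n g) zw) (Spor.ev (atm n g) yw) := fun hc => by
  simp only [Bool.and_eq_true, beq_iff_eq, decide_eq_true_eq] at h1
  obtain ⟨c, e⟩ := isConj_iff.mp hc
  have h3 := hU.sends h2
  rw [h1.1.2, ← hl.evL h1.1.1, ← e, map_mul, map_mul, hz, mul_one, map_inv, mul_inv_cancel] at h3
  exact h1.2 h3

theorem shape3 {Δ : Type*} [Group Δ] {C K Q N M : Subgroup G} (e : C = K) (hQN : Q ≤ N) (hMC : M ≤ K)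
    (hx : NExt M N Δ) (nQ : K ≤ normalizer (Q : Set G)) (nN : K ≤ normalizer (N : Set G))
    {q r m d : ℕ} (cQ : Nat.card Q = q) (xs : IsExtraspecial 2 Q) (cN : Nat.card N = r)
    (cM : Nat.card M = m) (cK : Nat.card K = 2 * m) (hm : m ≠ 0)
    (hΔ : IsSimpleGroup Δ ∧ Nat.card Δ = d) :
    ∃ Q N M : Subgroup C, Q.Normal ∧ N.Normal ∧ Q ≤ N ∧ N ≤ M ∧ Nat.card Q = q ∧
      IsExtraspecial 2 Q ∧ Nat.card N = r ∧ M.index = 2 ∧ ∃ _ : (N.subgroupOf M).Normal,
        IsSimpleGroup (M ⧸ N.subgroupOf M) ∧ Nat.card (M ⧸ N.subgroupOf M) = d := by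
  subst e
  obtain ⟨hNM, _, ⟨e1⟩⟩ := hx
  have hN := hNM.trans hMC
  have hQ := hQN.trans hN
  have n2 : (N.subgroupOf C).Normal := (normal_subgroupOf_iff_le_normalizer hN).2 nN
  have e2 := subgroupOfEquivOfLe hMC
  refine ⟨Q.subgroupOf C, N.subgroupOf C, M.subgroupOf C,
    (normal_subgroupOf_iff_le_normalizer hQ).2 nQ, n2, comap_mono hQN, comap_mono hNM,
    (Nat.card_congr (subgroupOfEquivOfLe hQ).toEquiv).trans cQ,
    xs_congr (subgroupOfEquivOfLe hQ).symm xs,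
    (Nat.card_congr (subgroupOfEquivOfLe hN).toEquiv).trans cN,
    index_of_card cK ((Nat.card_congr e2.toEquiv).trans cM) hm, inferInstance,
    simple_card_congr ((QuotientGroup.congr _ _ (subgroupOfEquivOfLe hMC) ?_).trans e1).symm hΔ⟩
  ext x
  exact ⟨fun ⟨y, hy, e⟩ => e ▸ hy, fun hx => ⟨(subgroupOfEquivOfLe hMC).symm x, hx, by simp⟩⟩

end

namespace MRep

variable {A : PA} {R : Type} [CommRing R] {Γ : Type} [Group Γ] {X : MRep A R Γ}
  {TT TF : List ℕ} {N : ℕ} {g : ℕ → Γ}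

theorem Gens.shift (h : X.Gens TT (atm N g)) {m s : ℕ} (ok : A.gensOk TF m = true) (hm : s + m ≤ N)
    (hc : allN (fun j => Nat.beq (nth A.one TF (2 * j)) (nth A.one TT (Nat.mul 2 (s + j)))) m = true) :
    X.Gens TF (atm m fun j => g (s + j)) :=
  Gens.of ok fun j hj => by
    rw [Nat.beq_eq.mp ((allN_iff _ _).mp hc j hj), h.dec_at (by omega)]

theorem Gens.pre (h : X.Gens TT (atm N g)) {m : ℕ} (ok : A.gensOk TF m = true) (hm : m ≤ N)
    (hc : allN (fun j => Nat.beq (nth A.one TF (2 * j)) (nth A.one TT (Nat.mul 2 j))) m = true) :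
    X.Gens TF (atm m g) :=
  Gens.of ok fun j hj => by
    rw [Nat.beq_eq.mp ((allN_iff _ _).mp hc j hj), h.dec_at (by omega)]

theorem Gens.le_norm (h : X.Gens TT (atm N g)) {k m : ℕ} (hm : PC g k m) (hk : k ≤ N)
    (hc : AllP (fun i => AllP (fun j => ∃ w, A.pcK TT k i j w = true) (List.range k))
      (List.range' k (N - k))) : gsub N g ≤ normalizer (gsub k g : Set Γ) := gsub_le fun i hi => by
  have := hm.finite
  by_cases h1 : i < k
  · exact le_normalizer (mem_gsub g h1)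
  · refine mem_normalizer_fintype (norm_gsub fun j hj => ?_)
    obtain ⟨w, hw⟩ := (hc.forall i (List.mem_range'_1.mpr ⟨by omega, by omega⟩)).forall j
      (List.mem_range.mpr hj)
    rw [PA.pcK, band_eq, Bool.and_eq_true] at hw
    exact h.pcC hi (hj.trans_le hk) hk hw.1 hw.2

theorem Gens.ord_at [CharP R A.p] (h : X.Gens TT (atm N g)) {i p : ℕ} (hi : i < N) (hp : p.Prime)
    (hc : band (Nat.beq (A.pw (nth A.one TT (Nat.mul 2 i)) p) A.one)
      (A.neq (nth A.one TT (Nat.mul 2 i)) A.one) = true) : orderOf (g i) = p :=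
  (h.at hi).2 ▸ (h.at hi).1.ord hp hc

end MRep

end Cfsg.Agent.Spor
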