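import Cfsg.Agent.Spor.Cert
import Cfsg.Agent.Spor.Chk2

set_option autoImplicit false

namespace Cfsg.Agent.Spor

open Equiv

/-- orbit of a point -/
def orbS (A : Subgroup (Perm ℕ)) (p : ℕ) : Set ℕ := {c | ∃ g ∈ A, g p = c}

/-- the group generated by words in the letters -/
def Tab.lsub (T : Tab) (W : List (List ℕ)) : Subgroup (Perm ℕ) :=
  Subgroup.closure {g | ∃ w ∈ W, g = evA T.τ w}

theorem Tab.mem_lsub (T : Tab) {W : List (List ℕ)} {w : List ℕ} (h : w ∈ W) :
    evA T.τ w ∈ T.lsub W := Subgroup.subset_closure ⟨w, h, rfl⟩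

theorem Tab.lsub_le {T : Tab} {W : List (List ℕ)} {A : Subgroup (Perm ℕ)}
    (h : ∀ w ∈ W, evA T.τ w ∈ A) : T.lsub W ≤ A :=
  (Subgroup.closure_le _).mpr (by rintro _ ⟨w, hw, rfl⟩; exact h w hw)

theorem Tab.nth_mem_lsub (T : Tab) (W : List (List ℕ)) (i : ℕ) :
    evA T.τ (nth [] W i) ∈ T.lsub W := by
  rw [nth_eq, List.getD_eq_getElem?_getD]
  cases e : W[i]? with
  | none => exact one_mem _
  | some w => exact T.mem_lsub (List.mem_of_getElem? e)

/-- concatenation of the words with the listed numbers -/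
noncomputable def flatW (W : List (List ℕ)) (l : List ℕ) : List ℕ := l.flatMap (nth [] W)

theorem Tab.flat_mem_lsub (T : Tab) (W : List (List ℕ)) (l : List ℕ) :
    evA T.τ (flatW W l) ∈ T.lsub W := by
  induction l with
  | nil => exact one_mem _
  | cons i l ih =>
    unfold flatW at ih ⊢
    rw [List.flatMap_cons, evA_append]
    exact mul_mem ih (T.nth_mem_lsub W i)

theorem Tab.lsub_flat_le (T : Tab) {W W' I : List (List ℕ)} (h : W' = I.map (flatW W)) :
    T.lsub W' ≤ T.lsub W :=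
  Tab.lsub_le fun w hw => by
    obtain ⟨l, -, rfl⟩ := List.mem_map.mp (h ▸ hw)
    exact T.flat_mem_lsub W l

theorem mem_of_rel {τ : ℕ → Perm ℕ} {A : Subgroup (Perm ℕ)} {z : ℕ} {d : List ℕ}
    (h : evA τ (z :: d) = 1) (hd : evA τ d ∈ A) : evA τ [z] ∈ A := by
  rw [evA_cons] at h
  rw [evA_cons, evA_nil, one_mul, eq_inv_of_mul_eq_one_right h]
  exact inv_mem hd

variable {T : Tab} {K : ℕ}

theorem Tab.Ok.tb_pushL (h : T.Ok K) (w : List ℕ) (x i : ℕ) :
    (T.pushL w x).testBit (evA T.τ w i) = x.testBit i := by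
  unfold Tab.pushL
  rw [tb_pushW _ (h.snW w), T.evA_snW]
  simp

theorem Tab.Ok.sends (h : T.Ok K) {w : List ℕ} {p q : ℕ} (hs : T.sends w p q = true) :
    evA T.τ w p = q := by
  have := h.tb_pushL w (Nat.shiftLeft 1 p) p
  rw [Nat.beq_eq.mp hs, tb_shl_one, tb_shl_one] at this
  simpa using (by simpa using this : q = _).symm

theorem Tab.Ok.fixFrom (h : T.Ok K) {N z : ℕ} (hc : T.fixFrom K N z = true) : T.τ z ∈ FixFrom N := by
  rw [← inv_mem_iff]
  intro i hi
  by_cases hK : i < 2 ^ K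
  · have h1 : (T.τ z)⁻¹ i < 2 ^ K := FixFrom.lt (inv_mem (h.fix z)) hK
    apply Nat.eq_of_testBit_eq
    intro k
    by_cases hk : k < K
    · have h2 := Nat.beq_eq.mp ((lall_iff _ _).mp hc _ (mem_idpls K K 0 k (Nat.zero_le _) (by omega)))
      have h3 := congrArg (fun y => Nat.testBit y (i - N)) h2
      simp only [tb_shr, tb_xor, Nat.add_sub_cancel' hi, Nat.zero_testBit, SNet.tb_push (h.sn z),
        tb_idpl hk, hK, decide_true, Bool.true_and] at h3
      have h4 : (T.sn z).perm⁻¹ i = (T.τ z)⁻¹ i := rfl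
      rw [h4, decide_eq_true h1, Bool.true_and] at h3
      simpa using h3
    · have hp : 2 ^ K ≤ 2 ^ k := Nat.pow_le_pow_right (by norm_num) (not_lt.mp hk)
      rw [Nat.testBit_lt_two_pow (lt_of_lt_of_le h1 hp)]
      exact (Nat.testBit_lt_two_pow (lt_of_lt_of_le hK hp)).symm
  · exact (inv_mem (h.fix z)) i (not_lt.mp hK)

theorem Tab.Ok.gsub_fix (h : T.Ok K) {N : ℕ} {gs : List ℕ}
    (hc : AllP (fun z => T.fixFrom K N z = true) gs) : gsub gs.length (T.fP gs) ≤ FixFrom N :=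
  gsub_le fun j hj => by
    rw [Tab.fP, nth_eq, List.getD_eq_getElem _ _ hj]
    exact h.fixFrom (hc.forall _ (List.getElem_mem hj))

def Reach (A : Subgroup (Perm ℕ)) (p M : ℕ) : Prop := ∀ c, M.testBit c = true → c ∈ orbS A p

theorem Reach.base (A : Subgroup (Perm ℕ)) (p : ℕ) : Reach A p (Nat.shiftLeft 1 p) := by
  intro c hc
  rw [tb_shl_one, decide_eq_true_eq] at hc
  exact ⟨1, one_mem _, hc⟩

theorem Reach.growI (h : T.Ok K) {W : List (List ℕ)} {p : ℕ} (l : List ℕ) {M : ℕ}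
    (hr : Reach (T.lsub W) p M) : Reach (T.lsub W) p (T.growI W l M) := by
  induction l generalizing M with
  | nil => exact hr
  | cons i l ih =>
    refine ih (M := Nat.lor M (T.pushL (nth [] W i) M)) fun c hc => ?_
    rw [tb_lor, Bool.or_eq_true] at hc
    rcases hc with hc | hc
    · exact hr c hc
    · obtain ⟨d, rfl⟩ := (evA T.τ (nth [] W i)).surjective c
      rw [h.tb_pushL] at hc
      obtain ⟨g, hg, rfl⟩ := hr d hc
      exact ⟨_, mul_mem (T.nth_mem_lsub W i) hg, rfl⟩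

theorem Reach.grow (h : T.Ok K) {W : List (List ℕ)} {p M M' : ℕ} {l : List ℕ}
    (hr : Reach (T.lsub W) p M) (hc : sub M' (T.growI W l M) = true) : Reach (T.lsub W) p M' :=
  fun c hc' => hr.growI h l c ((sub_iff _ _).mp hc c hc')

theorem Reach.mono {A B : Subgroup (Perm ℕ)} (hAB : A ≤ B) {p M : ℕ} (hr : Reach A p M) :
    Reach B p M := fun c hc => by
  obtain ⟨g, hg, e⟩ := hr c hc
  exact ⟨g, hAB hg, e⟩

theorem Tab.Ok.closedW (h : T.Ok K) {W : List (List ℕ)} {O : ℕ} (hc : T.closedW W O = true) :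
    ∀ g ∈ T.lsub W, ∀ c, O.testBit (g c) = O.testBit c := by
  intro g hg
  induction hg using Subgroup.closure_induction with
  | mem g hg =>
    obtain ⟨w, hw, rfl⟩ := hg
    intro c
    have := h.tb_pushL w O c
    rwa [Nat.beq_eq.mp ((lall_iff _ _).mp hc w hw)] at this
  | one => intro c; rfl
  | mul x y _ _ hx hy => intro c; rw [Perm.mul_apply, hx, hy]
  | inv x _ hx => intro c; rw [← hx]; simp

theorem Tab.Ok.fixes (h : T.Ok K) {W : List (List ℕ)} {p : ℕ}
    (hc : T.closedW W (Nat.shiftLeft 1 p) = true) : ∀ g ∈ T.lsub W, g p = p := by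
  intro g hg
  have := h.closedW hc g hg p
  rw [tb_shl_one, tb_shl_one] at this
  exact (by simpa using this : p = _).symm

theorem Reach.orb (h : T.Ok K) {W : List (List ℕ)} {p O : ℕ} (hr : Reach (T.lsub W) p O)
    (hc : band (T.closedW W O) (sub (Nat.shiftLeft 1 p) O) = true) :
    orbS (T.lsub W) p = {c | O.testBit c = true} := by
  rw [band_eq, Bool.and_eq_true, sub_iff] at hc
  ext c
  refine ⟨?_, hr c⟩
  rintro ⟨g, hg, rfl⟩
  rw [Set.mem_ofPred_eq, h.closedW hc.1 g hg]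
  exact hc.2 p (by rw [tb_shl_one]; simp)

theorem sizeOk_sound {O s : ℕ} (h : sizeOk K O s = true) : {c | O.testBit c = true}.ncard = s := by
  simp only [sizeOk, band_eq, Bool.and_eq_true, Nat.beq_eq] at h
  rw [popc_sound K O, h.2]
  apply Nat.lt_pow_two_of_testBit
  intro i hi
  have := congrArg (fun y => Nat.testBit y (i - 2 ^ K)) h.1
  simp only [tb_shr, shl_one, Nat.zero_testBit] at this
  rwa [Nat.add_sub_cancel' hi] at this

theorem Reach.ncard (h : T.Ok K) {W : List (List ℕ)} {p O s : ℕ} (hr : Reach (T.lsub W) p O)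
    (hc : band (T.closedW W O) (sub (Nat.shiftLeft 1 p) O) = true) (hs : sizeOk K O s = true) :
    (orbS (T.lsub W) p).ncard = s := by
  rw [hr.orb h hc, sizeOk_sound hs]

/-- one step of a stabiliser chain -/
theorem dvd_card_step {A B : Subgroup (Perm ℕ)} (hBA : B ≤ A) {p : ℕ} (hp : ∀ g ∈ B, g p = p)
    {s M : ℕ} (hs : (orbS A p).ncard = s) (hM : M ∣ Nat.card B) : s * M ∣ Nat.card A := by
  have e1 : MulAction.orbit A p = orbS A p := by
    ext c
    constructor
    · rintro ⟨g, rfl⟩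
      exact ⟨g, g.2, rfl⟩
    · rintro ⟨g, hg, rfl⟩
      exact ⟨⟨g, hg⟩, rfl⟩
  rw [← (MulAction.stabilizer A p).index_mul_card, MulAction.index_stabilizer, e1, hs]
  refine Nat.mul_dvd_mul_left _ (hM.trans ?_)
  rw [← Nat.card_congr (Subgroup.subgroupOfEquivOfLe hBA).toEquiv]
  exact Subgroup.card_dvd_of_le fun g hg => hp g hg

theorem dvd_card_orb {A : Subgroup (Perm ℕ)} {p s : ℕ} (hs : (orbS A p).ncard = s) :
    s ∣ Nat.card A := by
  simpa using dvd_card_step (B := ⊥) bot_le (p := p) (fun g hg => by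
    rw [Subgroup.mem_bot.mp hg]; rfl) hs (M := 1) (one_dvd _)

theorem lsub_eq_wsub {n : ℕ} {f : ℕ → Perm ℕ} {EX : List (List ℕ)} {L base : List ℕ}
    (hPZ : AllP (PZ T (atm n f) EX) L) {W BW : List (List ℕ)}
    (hc : (lall (memL L) base && (W == base.map fun z => [z]) && (BW == base.map (nth [] EX))) = true) :
    wsub n f BW = T.lsub W := by
  simp only [Bool.and_eq_true, lall_iff, memL_iff, beq_iff_eq] at hc
  obtain ⟨⟨h1, rfl⟩, rfl⟩ := hc
  have e : ∀ z ∈ base, ev (atm n f) (nth [] EX z) = evA T.τ [z] := fun z hz => by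
    rw [evA_cons, evA_nil, one_mul]
    exact hPZ.forall z (h1 z hz)
  refine le_antisymm (wsub_le fun w hw => ?_) (Tab.lsub_le fun w hw => ?_)
  · obtain ⟨z, hz, rfl⟩ := List.mem_map.mp hw
    rw [e z hz]
    exact T.mem_lsub (List.mem_map_of_mem hz)
  · obtain ⟨z, hz, rfl⟩ := List.mem_map.mp hw
    rw [← e z hz]
    exact mem_wsub f (List.mem_map_of_mem hz)

theorem lsub_eq_gsub (T : Tab) (gs : List ℕ) :
    gsub gs.length (T.fP gs) = T.lsub (gs.map fun z => [z]) := by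
  refine le_antisymm (gsub_le fun j hj => ?_) (Tab.lsub_le fun w hw => ?_)
  · have := T.mem_lsub (List.mem_map_of_mem (f := fun z => [z]) (List.getElem_mem hj))
    rw [evA_cons, evA_nil, one_mul] at this
    rwa [Tab.fP, nth_eq, List.getD_eq_getElem _ _ hj]
  · obtain ⟨z, hz, rfl⟩ := List.mem_map.mp hw
    obtain ⟨j, hj, rfl⟩ := List.getElem_of_mem hz
    have := mem_gsub (T.fP gs) hj
    rw [Tab.fP, nth_eq, List.getD_eq_getElem _ _ hj] at this
    rwa [evA_cons, evA_nil, one_mul]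

/-- a word of atoms evaluates to a word of letters -/
theorem ev_eq_evA {ni : ℕ} {a : ℕ → Perm ℕ} (hi : IvOk ni a) {EX : List (List ℕ)} {L : List ℕ}
    (hPZ : AllP (PZ T a EX) L) {l w : List ℕ}
    (hc : band (lall (memL L) w) (isNil (red ni (invW ni l (expA EX w [])))) = true) :
    ev a l = evA T.τ w := by
  simp only [band_eq, Bool.and_eq_true, lall_iff, memL_iff] at hc
  have := ev_eq_one_of_red hi hc.2
  rw [ev_invW hi, ev_expA, ev_nil, mul_one, inv_mul_eq_one,
    evA_PZ fun z hz => hPZ.forall z (hc.1 z hz)] at this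
  exact this

section
variable {G : Type*} [Group G] {H : Subgroup G} {φ : G →* Perm ℕ} {N : ℕ}

theorem CosetAct.exists_pt (h : CosetAct H φ N) {p : ℕ} (hp : p < N) : ∃ q : G ⧸ H, h.pt q = p := by
  obtain ⟨x, hx⟩ := (h.orb p).mp hp
  exact ⟨x, hx⟩

theorem CosetAct.image_orbit (h : CosetAct H φ N) (A : Subgroup G) (q : G ⧸ H) :
    h.pt '' MulAction.orbit A q = orbS (A.map φ) (h.pt q) := by
  ext c
  constructor
  · rintro ⟨_, ⟨g, rfl⟩, rfl⟩
    exact ⟨_, ⟨g, g.2, rfl⟩, (h.pt_smul g q).symm⟩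
  · rintro ⟨_, ⟨g, hg, rfl⟩, rfl⟩
    exact ⟨_, ⟨⟨g, hg⟩, rfl⟩, h.pt_smul g q⟩

theorem CosetAct.ncard_orbit (h : CosetAct H φ N) (A : Subgroup G) (q : G ⧸ H) :
    (MulAction.orbit A q).ncard = (orbS (A.map φ) (h.pt q)).ncard := by
  rw [← h.image_orbit, Set.ncard_image_of_injective _ h.pt_inj]

theorem CosetAct.exists_orbit (h : CosetAct H φ N) {A : Subgroup G} {B : Subgroup (Perm ℕ)}
    (e : A.map φ = B) {p s : ℕ} (hp : p < N) (hs : (orbS B p).ncard = s) :
    ∃ q : G ⧸ H, (MulAction.orbit A q).ncard = s := by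
  obtain ⟨q, rfl⟩ := h.exists_pt hp
  exact ⟨q, by rw [h.ncard_orbit, e, hs]⟩

/-- maximality of the stabiliser from the connectedness of the orbital graphs -/
theorem CosetAct.isCoatom (h : CosetAct H φ N) (hN : 1 < N) (X : List G)
    (h1 : ∀ c, 0 < c → c < N → ∃ x ∈ X, c ∈ orbS (H.map φ) (φ x 0))
    (h2 : ∀ x ∈ X, ∀ K : Subgroup G, H ≤ K → x ∈ K → ∀ c < N, c ∈ orbS (K.map φ) 0) :
    IsCoatom H := by
  refine ⟨fun ht => ?_, fun K hK => ?_⟩
  · obtain ⟨x, hx⟩ := (h.orb 1).mp hN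
    have := (h.stab x).mpr (ht ▸ Subgroup.mem_top x)
    omega
  · obtain ⟨y, hyK, hyH⟩ := SetLike.exists_of_lt hK
    obtain ⟨x, hx, _, ⟨g, hg, rfl⟩, e⟩ := h1 (φ y 0) (Nat.pos_of_ne_zero fun e => hyH ((h.stab y).mp e))
      ((h.orb _).mpr ⟨y, rfl⟩)
    have h3 : y⁻¹ * g * x ∈ H := by
      rw [← h.stab, map_mul, map_mul, Perm.mul_apply, Perm.mul_apply, e, map_inv]
      simp
    have h4 : x ∈ K := by
      have := K.mul_mem (K.inv_mem (hK.le hg)) (K.mul_mem hyK (hK.le h3))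
      simpa [mul_assoc] using this
    rw [eq_top_iff]
    intro z _
    obtain ⟨_, ⟨u, hu, rfl⟩, e2⟩ := h2 x hx K hK.le h4 (φ z 0) ((h.orb _).mpr ⟨z, rfl⟩)
    have h5 : u⁻¹ * z ∈ H := by
      rw [← h.stab, map_mul, Perm.mul_apply, ← e2, map_inv]
      simp
    simpa using K.mul_mem hu (hK.le h5)

theorem CosetAct.normalCore (h : CosetAct H φ N) (hf : ∀ x, φ x ∈ FixFrom N) :
    H.normalCore = φ.ker := by
  refine le_antisymm (fun x hx => ?_) ?_
  · rw [MonoidHom.mem_ker]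
    ext c
    by_cases hc : c < N
    · obtain ⟨y, rfl⟩ := (h.orb c).mp hc
      have := (h.stab _).mpr (hx y⁻¹)
      rw [map_mul, map_mul, inv_inv, Perm.mul_apply, Perm.mul_apply, map_inv,
        Perm.inv_eq_iff_eq] at this
      exact this
    · exact hf x c (not_lt.mp hc)
  · refine Subgroup.normal_le_normalCore.mpr fun x hx => ?_
    rw [← h.stab, MonoidHom.mem_ker.mp hx]; rfl

end

end Cfsg.Agent.Spor
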