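import Cfsg.Agent.Spor.Rank
import Cfsg.Agent.Spor.MatChk

set_option autoImplicit false

namespace Cfsg.Agent.Spor

open Matrix Finset

theorem land_ones (v B : ℕ) : Nat.land v (ones B) = v % 2 ^ B := by
  unfold ones
  rw [shl_one]
  exact Nat.and_two_pow_sub_one_eq_mod v B

theorem shr_eq (v B : ℕ) : Nat.shiftRight v B = v / 2 ^ B := Nat.shiftRight_eq_div_pow v B

theorem shl_eq (v B : ℕ) : Nat.shiftLeft v B = v * 2 ^ B := Nat.shiftLeft_eq v B

theorem dig_eq (B v j : ℕ) : dig B v j = v / 2 ^ (B * j) % 2 ^ B := by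
  unfold dig
  rw [land_ones, shr_eq]; rfl

theorem dig_zero (B v : ℕ) : dig B v 0 = v % 2 ^ B := by simp [dig_eq]

theorem dig_succ (B v j : ℕ) : dig B v (j + 1) = dig B (v / 2 ^ B) j := by
  rw [dig_eq, dig_eq, Nat.div_div_eq_div_mul, ← pow_add, Nat.mul_succ, add_comm]

theorem dig_zero' (B j : ℕ) : dig B 0 j = 0 := by simp [dig_eq]

theorem dig_shl {B c : ℕ} (hc : c < 2 ^ B) (i r : ℕ) :
    dig B (c * 2 ^ (B * i)) r = if r = i then c else 0 := by
  induction i generalizing r with
  | zero =>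
    cases r with
    | zero => simp [dig_zero, Nat.mod_eq_of_lt hc]
    | succ r => simp [dig_succ, Nat.div_eq_of_lt hc, dig_zero']
  | succ i ih =>
    have e : c * 2 ^ (B * (i + 1)) = c * 2 ^ (B * i) * 2 ^ B := by ring
    cases r with
    | zero => simp [dig_zero, e]
    | succ r => rw [dig_succ, e, Nat.mul_div_cancel _ (by positivity), ih]; simp

theorem dig_dig (B d v i : ℕ) {t : ℕ} (ht : t < d) :
    dig B (dig (B * d) v i) t = dig B v (d * i + t) := by
  rw [dig_eq, dig_eq, dig_eq]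
  obtain ⟨s, rfl⟩ := Nat.exists_eq_add_of_lt ht
  have e1 : B * (t + s + 1) = B * t + (B + B * s) := by ring
  have e2 : B * ((t + s + 1) * i + t) = B * (t + s + 1) * i + B * t := by ring
  rw [e2, pow_add 2 _ (B * t), ← Nat.div_div_eq_div_mul]
  generalize v / 2 ^ (B * (t + s + 1) * i) = x
  rw [e1, pow_add, Nat.mod_mul_right_div_self, pow_add, Nat.mod_mul_right_mod]

/-- all digits are bounded -/
def Bd (B D v : ℕ) : Prop := ∀ j, dig B v j ≤ D

theorem Bd.mono {B D D' v : ℕ} (h : Bd B D v) (hD : D ≤ D') : Bd B D' v := fun j => (h j).trans hD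

theorem dig_add {B D E : ℕ} (h : D + E < 2 ^ B) (j : ℕ) {u v : ℕ} (hu : Bd B D u) (hv : Bd B E v) :
    dig B (u + v) j = dig B u j + dig B v j := by
  induction j generalizing u v with
  | zero =>
    have h1 := hu 0
    have h2 := hv 0
    rw [dig_zero] at h1 h2
    rw [dig_zero, dig_zero, dig_zero, Nat.add_mod, Nat.mod_eq_of_lt (by omega)]
  | succ j ih =>
    have h1 := hu 0
    have h2 := hv 0
    rw [dig_zero] at h1 h2
    rw [dig_succ, dig_succ, dig_succ, Nat.add_div (by positivity), if_neg (by omega), add_zero]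
    exact ih (fun i => by rw [← dig_succ]; exact hu _) (fun i => by rw [← dig_succ]; exact hv _)

theorem Bd.add {B D E u v : ℕ} (h : D + E < 2 ^ B) (hu : Bd B D u) (hv : Bd B E v) :
    Bd B (D + E) (u + v) := fun j => by
  rw [dig_add h j hu hv]; exact add_le_add (hu j) (hv j)

theorem Bd.zero (B D : ℕ) : Bd B D 0 := fun j => by rw [dig_zero']; exact Nat.zero_le _

theorem dig_mul {B D t : ℕ} (ht : Bd B D t) (c : ℕ) (h : c * D < 2 ^ B) :
    Bd B (c * D) (c * t) ∧ ∀ j, dig B (c * t) j = c * dig B t j := by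
  induction c with
  | zero => simp [Bd.zero, dig_zero']
  | succ c ih =>
    rw [Nat.succ_mul] at h
    obtain ⟨h1, h2⟩ := ih (by omega)
    rw [Nat.succ_mul, Nat.succ_mul]
    exact ⟨Bd.add h h1 ht, fun j => by rw [dig_add h j h1 ht, h2, Nat.succ_mul]⟩

theorem digOk_sound {p B : ℕ} (m : ℕ) : ∀ {v : ℕ}, digOk p B m v = true →
    Bd B (p - 1) v ∧ v < 2 ^ (B * m) := by
  induction m with
  | zero =>
    intro v h
    have : v = 0 := Nat.beq_eq.mp h
    subst this
    exact ⟨Bd.zero _ _, by simp⟩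
  | succ m ih =>
    intro v h
    have h' : band (Nat.blt (Nat.land v (ones B)) p) (digOk p B m (Nat.shiftRight v B)) = true := h
    simp only [band_eq, Bool.and_eq_true, Nat.blt_eq, land_ones, shr_eq] at h'
    obtain ⟨h1, h2⟩ := ih h'.2
    refine ⟨fun j => ?_, ?_⟩
    · cases j with
      | zero => rw [dig_zero]; omega
      | succ j => rw [dig_succ]; exact h1 j
    · rwa [Nat.div_lt_iff_lt_mul (by positivity), ← pow_add, ← Nat.mul_succ] at h2

theorem allN_iff (g : ℕ → Bool) (m : ℕ) : allN g m = true ↔ ∀ i < m, g i = true := by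
  induction m with
  | zero => simp [allN]
  | succ m ih =>
    have : allN g (m + 1) = band (g m) (allN g m) := rfl
    rw [this, band_eq, Bool.and_eq_true, ih]
    exact ⟨fun h i hi => (Nat.lt_succ_iff_lt_or_eq.mp hi).elim (h.2 i) (· ▸ h.1),
      fun h => ⟨h m (by omega), fun i hi => h i (by omega)⟩⟩

theorem mkL_length (g : ℕ → ℕ) (m k : ℕ) : (mkL g m k).length = m := by
  induction m generalizing k with
  | zero => rfl
  | succ m ih => exact congrArg (· + 1) (ih _)

theorem mkL_getD (g : ℕ → ℕ) (m k : ℕ) {j : ℕ} (hj : j < m) : (mkL g m k).getD j 0 = g (k + j) := by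
  induction m generalizing k j with
  | zero => omega
  | succ m ih =>
    cases j with
    | zero => rfl
    | succ j =>
      have := ih (k + 1) (j := j) (by omega)
      rw [show k + (j + 1) = k + 1 + j by omega, ← this]; rfl

theorem llen_eq (l : List ℕ) : llen l = l.length := by
  induction l with
  | nil => rfl
  | cons a l ih => exact congrArg (· + 1) ih

section dec
variable {V W : Type*} [AddCommGroup V] [AddCommGroup W]

/-- the vector with the given digits as coordinates -/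
noncomputable def decB (B m : ℕ) (b : ℕ → V) (v : ℕ) : V := ∑ j ∈ range m, dig B v j • b j

theorem decB_add {B D E u v : ℕ} (h : D + E < 2 ^ B) (hu : Bd B D u) (hv : Bd B E v) (m : ℕ)
    (b : ℕ → V) : decB B m b (u + v) = decB B m b u + decB B m b v := by
  simp only [decB, dig_add h _ hu hv, add_smul, sum_add_distrib]

theorem decB_mul {B D t : ℕ} (ht : Bd B D t) {c : ℕ} (h : c * D < 2 ^ B) (m : ℕ) (b : ℕ → V) :
    decB B m b (c * t) = c • decB B m b t := by
  simp only [decB, (dig_mul ht c h).2, mul_smul, smul_sum]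

theorem decB_succ (B m : ℕ) (b : ℕ → V) (v : ℕ) :
    decB B (m + 1) b v = (v % 2 ^ B) • b 0 + decB B m (fun j => b (j + 1)) (v / 2 ^ B) := by
  simp only [decB, sum_range_succ', dig_succ, dig_zero, add_comm]

theorem appGo_sound {p B m' : ℕ} (hp0 : 0 < p) (hp : ∀ x : W, p • x = 0) (b' : ℕ → W) (φ : V →+ W)
    (T : List ℕ) :
    ∀ (b : ℕ → V) (v : ℕ), T.length * (p * p) < 2 ^ B →
      (∀ j < T.length, φ (b j) = decB B m' b' (T.getD j 0) ∧ Bd B (p - 1) (T.getD j 0)) →
      φ (decB B T.length b v) = decB B m' b' (appGo p B (ones B) T v) ∧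
        Bd B (T.length * (p * p)) (appGo p B (ones B) T v) := by
  induction T with
  | nil =>
    intro b v _ _
    exact ⟨by simp [decB, appGo, dig_zero'], Bd.zero _ _⟩
  | cons t T ih =>
    intro b v hB hT
    rw [List.length_cons, Nat.succ_mul] at hB
    obtain ⟨h1, h2⟩ := ih (fun j => b (j + 1)) (v / 2 ^ B) (by omega)
      fun j hj => hT (j + 1) (by simpa using hj)
    obtain ⟨h3, h4⟩ := hT 0 (by simp)
    rw [List.getD_cons_zero] at h3 h4
    have e : appGo p B (ones B) (t :: T) v =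
        v % 2 ^ B % p * t + appGo p B (ones B) T (v / 2 ^ B) := by
      rw [← land_ones, ← shr_eq]; rfl
    have hc : v % 2 ^ B % p * (p - 1) ≤ p * p :=
      Nat.mul_le_mul (Nat.mod_lt _ hp0).le (Nat.sub_le _ _)
    have h5 := (dig_mul h4 (v % 2 ^ B % p) (by omega)).1.mono hc
    rw [List.length_cons, decB_succ, map_add, map_nsmul, h1, h3, e, Nat.succ_mul,
      decB_add (by omega) h5 h2, add_comm (T.length * (p * p))]
    refine ⟨?_, Bd.add (by omega) h5 h2⟩
    rw [decB_mul h4 (by omega)]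
    congr 1
    conv_lhs => rw [← Nat.div_add_mod (v % 2 ^ B) p, add_smul, mul_smul, hp, zero_add]

theorem sum_range_mul' (F : ℕ → V) (n d : ℕ) :
    ∑ j ∈ range (n * d), F j = ∑ i ∈ range n, ∑ t ∈ range d, F (d * i + t) := by
  induction n with
  | zero => simp
  | succ n ih => rw [Nat.succ_mul, sum_range_add, ih, sum_range_succ, mul_comm]

end dec

/-- interpretation of the codes in a ring -/
structure Ctx (A : Ar) (R : Type*) [CommRing R] (ι : Type*) where
  ω : R
  e : ι ≃ Fin A.n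
  ok : A.ok = true
  hp : (A.p : R) = 0
  hw : ω ^ A.d = decB A.B A.d (fun t => ω ^ t) A.w

namespace Ctx

variable {A : Ar} {R : Type*} [CommRing R] {ι : Type*} [Fintype ι] [DecidableEq ι] (X : Ctx A R ι)

noncomputable def decR (c : ℕ) : R := decB A.B A.d (fun t => X.ω ^ t) c

noncomputable def b (j : ℕ) : ι → R :=
  if h : j / A.d < A.n then X.ω ^ (j % A.d) • Pi.single (X.e.symm ⟨j / A.d, h⟩) 1 else 0

noncomputable def dec (v : ℕ) : ι → R := decB A.B A.m X.b v

omit [Fintype ι] [DecidableEq ι] in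
include X in
theorem ok' : 1 < A.p ∧ 0 < A.d ∧ digOk A.p A.B A.d A.w = true ∧ A.m * (A.p * A.p) < 2 ^ A.B := by
  have := X.ok
  simp only [Ar.ok, band_eq, Bool.and_eq_true, Nat.blt_eq, shl_one] at this
  exact this

omit [Fintype ι] in
theorem b_eq (r : ι) {t : ℕ} (ht : t < A.d) :
    X.b (A.d * X.e r + t) = X.ω ^ t • Pi.single r 1 := by
  have e1 : (A.d * X.e r + t) / A.d = X.e r := by
    rw [Nat.mul_add_div X.ok'.2.1, Nat.div_eq_of_lt ht, add_zero]
  have e2 : (A.d * X.e r + t) % A.d = t := by rw [Nat.mul_add_mod, Nat.mod_eq_of_lt ht]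
  unfold b
  rw [dif_pos (by rw [e1]; exact (X.e r).2), e2]
  congr 2
  rw [Equiv.symm_apply_eq]
  exact Fin.ext e1

omit [Fintype ι] in
theorem dec_apply (v : ℕ) (r : ι) : X.dec v r = X.decR (A.ent v (X.e r)) := by
  unfold dec decR decB
  rw [show A.m = A.n * A.d from rfl, sum_range_mul', Finset.sum_apply,
    sum_eq_single_of_mem (X.e r : ℕ) (mem_range.mpr (X.e r).2), Finset.sum_apply]
  · refine sum_congr rfl fun t ht => ?_
    rw [X.b_eq r (mem_range.mp ht), Ar.ent, show Nat.mul A.B A.d = A.B * A.d from rfl,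
      dig_dig _ _ _ _ (mem_range.mp ht)]
    simp
  · intro i hi hne
    rw [Finset.sum_apply]
    refine sum_eq_zero fun t ht => ?_
    have := X.b_eq (X.e.symm ⟨i, mem_range.mp hi⟩) (mem_range.mp ht)
    rw [Equiv.apply_symm_apply] at this
    have h2 : r ≠ X.e.symm ⟨i, mem_range.mp hi⟩ := fun h => hne (by rw [h]; simp)
    rw [this]
    simp [h2]

omit [Fintype ι] [DecidableEq ι] in
theorem decR_zero : X.decR 0 = 0 := by simp [decR, decB, dig_zero']

omit [Fintype ι] [DecidableEq ι] in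
include X in
theorem one_lt (h : 0 < A.n) : 1 < 2 ^ A.B := by
  obtain ⟨h1, h2, -, h4⟩ := X.ok'
  have : 0 < A.m * (A.p * A.p) := Nat.mul_pos (Nat.mul_pos h h2) (Nat.mul_pos (by omega) (by omega))
  omega

omit [Fintype ι] [DecidableEq ι] in
theorem decR_one (h : 0 < A.n) : X.decR 1 = 1 := by
  unfold decR decB
  rw [sum_eq_single_of_mem 0 (mem_range.mpr X.ok'.2.1)]
  · simp [dig_zero, Nat.mod_eq_of_lt (X.one_lt h)]
  · intro t _ ht
    have := dig_shl (X.one_lt h) 0 t
    simp only [mul_zero, pow_zero, mul_one, if_neg ht] at this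
    simp [this]

omit [Fintype ι] in
theorem dec_shl {c : ℕ} (hc : c < 2 ^ (A.B * A.d)) (i : ι) :
    X.dec (Nat.shiftLeft c (Nat.mul A.B (Nat.mul A.d (X.e i)))) = X.decR c • Pi.single i 1 := by
  funext r
  rw [dec_apply, shl_eq, Ar.ent, show Nat.mul A.B (Nat.mul A.d (X.e i)) = A.B * A.d * X.e i from
    (mul_assoc _ _ _).symm, show Nat.mul A.B A.d = A.B * A.d from rfl, dig_shl hc]
  by_cases h : r = i
  · simp [h]
  · rw [if_neg fun h' => h (X.e.injective (Fin.ext h')), decR_zero]
    simp [h]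

omit [Fintype ι] in
theorem dec_unit {j : ℕ} (hj : j < A.m) : X.dec (A.unit j) = X.b j ∧ Bd A.B (A.p - 1) (A.unit j) := by
  have hn : 0 < A.n := Nat.pos_of_mul_pos_right (a := A.n) (b := A.d) (lt_of_le_of_lt (Nat.zero_le _) hj)
  have h1 : ∀ r, dig A.B (A.unit j) r = if r = j then 1 else 0 := fun r => by
    rw [Ar.unit, shl_eq]; exact dig_shl (X.one_lt hn) j r
  refine ⟨?_, fun r => ?_⟩
  · unfold dec decB
    simp [h1, hj]
  · have := X.ok'.1
    rw [h1]; split_ifs <;> omega

/-- the matrix is described by the table -/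
def Cod (M : Matrix ι ι R) (T : List ℕ) : Prop :=
  T.length = A.m ∧ ∀ j < A.m, M *ᵥ X.b j = X.dec (T.getD j 0) ∧ Bd A.B (A.p - 1) (T.getD j 0)

variable {X}

theorem Cod.app {M : Matrix ι ι R} {T : List ℕ} (h : X.Cod M T) (v : ℕ) :
    M *ᵥ X.dec v = X.dec (A.app T v) := by
  have := (appGo_sound (p := A.p) (B := A.B) (m' := A.m) (by have := X.ok'.1; omega)
    (fun x : ι → R => by rw [← Nat.cast_smul_eq_nsmul R, X.hp, zero_smul]) X.b
    (mulVecLin M).toAddMonoidHom T X.b v (by rw [h.1]; exact X.ok'.2.2.2)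
    (by rw [h.1]; exact h.2)).1
  rwa [h.1] at this

variable (X)

theorem cod_id : X.Cod 1 A.idT :=
  ⟨mkL_length _ _ _, fun j hj => by
    rw [Ar.idT, mkL_getD _ _ _ hj, zero_add, one_mulVec]
    exact ⟨(X.dec_unit hj).1.symm, (X.dec_unit hj).2⟩⟩

theorem dec_nrm (v : ℕ) : X.dec (A.nrm v) = X.dec v := by
  rw [Ar.nrm, ← X.cod_id.app, one_mulVec]

omit [Fintype ι] [DecidableEq ι] in
theorem exists_idx {j : ℕ} (hj : j < A.m) : ∃ (r : ι) (t : ℕ), t < A.d ∧ j = A.d * X.e r + t :=
  ⟨X.e.symm ⟨j / A.d, Nat.div_lt_of_lt_mul (by rwa [mul_comm])⟩, j % A.d, Nat.mod_lt _ X.ok'.2.1,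
    by rw [Equiv.apply_symm_apply, Nat.div_add_mod]⟩

omit [Fintype ι] [DecidableEq ι] in
theorem idx_lt (r : ι) {t : ℕ} (ht : t < A.d) : A.d * X.e r + t < A.m := by
  have h1 : A.d * (X.e r + 1) ≤ A.d * A.n := Nat.mul_le_mul_left _ (X.e r).2
  rw [show A.m = A.n * A.d from rfl, mul_comm A.n]
  rw [mul_add] at h1
  omega

theorem cod_om : X.Cod (X.ω • 1) A.omT :=
  ⟨mkL_length _ _ _, fun j hj => by
    rw [Ar.omT, mkL_getD _ _ _ hj, zero_add, brec_eq, smul_mulVec, one_mulVec]
    obtain ⟨r, t, ht, rfl⟩ := X.exists_idx hj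
    have hd := X.ok'.2.1
    rw [X.b_eq r ht, smul_smul, ← pow_succ']
    have e0 : Nat.mod (A.d * X.e r + t).succ A.d = (t + 1) % A.d := by
      show (A.d * X.e r + (t + 1)) % A.d = _
      rw [Nat.mul_add_mod]
    rw [e0]
    split_ifs with h
    · rw [Nat.beq_eq] at h
      have e1 : t + 1 = A.d := by
        by_contra hne
        rw [Nat.mod_eq_of_lt (by omega)] at h
        omega
      have e2 : Nat.div (A.d * X.e r + t) A.d = X.e r := by
        show (A.d * X.e r + t) / A.d = _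
        rw [Nat.mul_add_div hd, Nat.div_eq_of_lt ht, add_zero]
      obtain ⟨h1, h2⟩ := digOk_sound _ X.ok'.2.2.1
      rw [e2, X.dec_shl h2, e1, X.hw]
      refine ⟨rfl, fun i => ?_⟩
      rw [← Nat.div_add_mod i A.d, ← dig_dig _ _ _ _ (Nat.mod_lt _ hd), shl_eq,
        show Nat.mul A.B (Nat.mul A.d (X.e r)) = A.B * A.d * X.e r from (mul_assoc _ _ _).symm,
        dig_shl h2]
      split_ifs
      · exact h1 _
      · exact Bd.zero _ _ _
    · rw [Nat.beq_eq] at h
      have e1 : t + 1 < A.d := by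
        by_contra hne
        rw [show t + 1 = A.d by omega, Nat.mod_self] at h
        exact h rfl
      have := X.dec_unit (X.idx_lt r e1)
      rw [X.b_eq r e1] at this
      exact ⟨this.1.symm, this.2⟩⟩

/-- the matrix with the columns read from the table -/
noncomputable def mk' (T : List ℕ) : Matrix ι ι R :=
  Matrix.of fun r c => X.decR (A.mat T (X.e r) (X.e c))

omit [Fintype ι] [DecidableEq ι] in
theorem mk'_apply (T : List ℕ) (r c : ι) : X.mk' T r c = X.decR (A.mat T (X.e r) (X.e c)) := rfl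

theorem mk'_single (T : List ℕ) (c : ι) :
    X.mk' T *ᵥ Pi.single c 1 = X.dec (T.getD (A.d * X.e c) 0) := by
  funext r
  rw [mulVec_single_one, dec_apply, ← nth_eq]; rfl

theorem cod_mk' {T : List ℕ} (h : A.tabOk T = true) : X.Cod (X.mk' T) T := by
  simp only [Ar.tabOk, band_eq, Bool.and_eq_true, Nat.beq_eq, llen_eq, lall_iff, allN_iff, brec_eq,
    nth_eq] at h
  obtain ⟨h1, h2, h3⟩ := h
  refine ⟨h1, fun j hj => ⟨?_, ?_⟩⟩
  · obtain ⟨r, t, ht, rfl⟩ := X.exists_idx hj
    clear hj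
    induction t with
    | zero => rw [X.b_eq r ht, pow_zero, one_smul, mk'_single, add_zero]
    | succ t ih =>
      have h4 := h3 _ (X.idx_lt r (by omega : t < A.d))
      have e0 : Nat.mod (A.d * X.e r + t).succ A.d = t + 1 := by
        show (A.d * X.e r + (t + 1)) % A.d = _
        rw [Nat.mul_add_mod, Nat.mod_eq_of_lt ht]
      rw [e0, if_neg (by omega), Nat.beq_eq] at h4
      rw [← add_assoc, ← Nat.succ_eq_add_one, h4, dec_nrm, ← X.cod_om.app, ← ih (by omega),
        Nat.succ_eq_add_one, add_assoc, X.b_eq r ht, X.b_eq r (by omega), pow_succ', mul_smul,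
        mulVec_smul, smul_mulVec, one_mulVec]
  · rw [List.getD_eq_getElem _ _ (h1 ▸ hj)]
    exact (digOk_sound _ (h2 _ (List.getElem_mem _))).1

variable {X}

theorem Cod.single {M : Matrix ι ι R} {T : List ℕ} (h : X.Cod M T) (c : ι) :
    M *ᵥ Pi.single c 1 = X.dec (T.getD (A.d * X.e c) 0) := by
  have := (h.2 _ (X.idx_lt c X.ok'.2.1)).1
  rwa [X.b_eq c X.ok'.2.1, pow_zero, one_smul, add_zero] at this

theorem ext_single {M N : Matrix ι ι R} (h : ∀ c, M *ᵥ Pi.single c 1 = N *ᵥ Pi.single c 1) :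
    M = N := by
  ext r c
  have := congrFun (h c) r
  rwa [mulVec_single_one, mulVec_single_one] at this

theorem Cod.eq_mk' {M : Matrix ι ι R} {T : List ℕ} (h : X.Cod M T) : M = X.mk' T :=
  ext_single fun c => by rw [h.single, mk'_single]

/-- a family of matrices described by a list of tables -/
def CodA (X : Ctx A R ι) (M : ℕ → Matrix ι ι R) (TT : List (List ℕ)) : Prop :=
  ∀ z, X.Cod (M z) (nth A.idT TT z)

theorem CodA.appW {M : ℕ → Matrix ι ι R} {TT : List (List ℕ)} (h : X.CodA M TT) (w : List ℕ)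
    (v : ℕ) : (w.map M).prod *ᵥ X.dec v = X.dec (A.appW TT w v) := by
  induction w with
  | nil => simp [Ar.appW]
  | cons z w ih => rw [List.map_cons, List.prod_cons, ← mulVec_mulVec, ih, (h z).app]; rfl

theorem CodA.col {M : ℕ → Matrix ι ι R} {TT : List (List ℕ)} (h : X.CodA M TT) (w : List ℕ)
    (c : ι) : (w.map M).prod *ᵥ Pi.single c 1 = X.dec (A.col TT w (X.e c)) := by
  have := (X.dec_unit (X.idx_lt c X.ok'.2.1)).1
  rw [X.b_eq c X.ok'.2.1, pow_zero, one_smul, add_zero] at this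
  rw [Ar.col, dec_nrm, ← h.appW, ← this]; rfl

theorem CodA.eqT {M : ℕ → Matrix ι ι R} {TT : List (List ℕ)} (h : X.CodA M TT) {w Z : List ℕ}
    (hc : A.eqT TT w Z = true) : (w.map M).prod = X.mk' Z := by
  simp only [Ar.eqT, allN_iff, Nat.beq_eq, nth_eq] at hc
  exact ext_single fun c => by rw [h.col, hc _ (X.e c).2, mk'_single]; rfl

theorem CodA.eqS {M : ℕ → Matrix ι ι R} {TT : List (List ℕ)} (h : X.CodA M TT) {w : List ℕ} {c : ℕ}
    (hc : A.eqS TT w c = true) : (w.map M).prod = X.decR c • 1 := by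
  simp only [Ar.eqS, band_eq, Bool.and_eq_true, allN_iff, Nat.beq_eq] at hc
  exact ext_single fun i => by
    rw [h.col, hc.2 _ (X.e i).2, X.dec_shl (digOk_sound _ hc.1).2, smul_mulVec, one_mulVec]

theorem CodA.eq_one {M : ℕ → Matrix ι ι R} {TT : List (List ℕ)} (h : X.CodA M TT) {w : List ℕ}
    (hc : A.eqS TT w 1 = true) : (w.map M).prod = 1 := by
  rcases Nat.eq_zero_or_pos A.n with h0 | h0
  · ext r; exact absurd (X.e r).2 (by omega)
  · rw [h.eqS hc, X.decR_one h0, one_smul]

theorem CodA.entW {M : ℕ → Matrix ι ι R} {TT : List (List ℕ)} (h : X.CodA M TT) {w : List ℕ}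
    {r i c : ℕ} (hc : A.entW TT w r i c = true) :
    ∃ r' i', X.e r' = r ∧ X.e i' = i ∧ (w.map M).prod r' i' = X.decR c := by
  simp only [Ar.entW, band_eq, Bool.and_eq_true, Nat.beq_eq, Nat.blt_eq] at hc
  refine ⟨X.e.symm ⟨r, hc.1⟩, X.e.symm ⟨i, hc.2.1⟩, by simp, by simp, ?_⟩
  have := congrFun (h.col w (X.e.symm ⟨i, hc.2.1⟩)) (X.e.symm ⟨r, hc.1⟩)
  rw [mulVec_single_one, dec_apply, Equiv.apply_symm_apply, Equiv.apply_symm_apply] at this
  exact this.trans (congrArg X.decR hc.2.2)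

theorem CodA.ne_smul [Nontrivial R] {M : ℕ → Matrix ι ι R} {TT : List (List ℕ)} (h : X.CodA M TT)
    {w : List ℕ} {r i : ℕ} (hc : band (Nat.blt r i || Nat.blt i r) (A.entW TT w r i 1) = true)
    (c : R) : (w.map M).prod ≠ c • 1 := by
  simp only [band_eq, Bool.and_eq_true, Bool.or_eq_true, Nat.blt_eq] at hc
  obtain ⟨r', i', h1, h2, h3⟩ := h.entW hc.2
  intro h4
  rw [h4, X.decR_one (by have := (X.e r').2; omega), Matrix.smul_apply,
    one_apply_ne (by rintro rfl; omega), smul_zero] at h3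
  exact zero_ne_one h3

variable (X) in
/-- the matrices of a list of tables -/
noncomputable def mats (TT : List (List ℕ)) (z : ℕ) : Matrix ι ι R := X.mk' (nth A.idT TT z)

theorem codA_mats {TT : List (List ℕ)} (h : lall A.tabOk TT = true) : X.CodA (X.mats TT) TT := by
  intro z
  unfold mats
  rw [nth_eq, List.getD_eq_getElem?_getD]
  cases e : TT[z]? with
  | none => simpa using X.cod_id.eq_mk' ▸ X.cod_id
  | some T => exact X.cod_mk' ((lall_iff _ _).mp h T (List.mem_of_getElem? e))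

theorem det_uni {T : List ℕ} (h : A.uni T = true) : (X.mk' T).det = 1 := by
  simp only [Ar.uni, band_eq, Bool.and_eq_true, allN_iff, Nat.beq_eq, brec_eq] at h
  rw [← det_submatrix_equiv_self X.e.symm]
  have hd : ∏ i : Fin A.n, (X.mk' T).submatrix X.e.symm X.e.symm i i = 1 :=
    prod_eq_one fun i _ => by
      rw [submatrix_apply, mk'_apply, Equiv.apply_symm_apply, h.1 i i.2, X.decR_one i.pos]
  split_ifs at h with h1
  · rw [det_of_upperTriangular, hd]
    intro r c hrc
    rw [submatrix_apply, mk'_apply, Equiv.apply_symm_apply, Equiv.apply_symm_apply,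
      h1 r r.2 c hrc, decR_zero]
  · have h2 := h.2
    simp only [allN_iff, Nat.beq_eq] at h2
    rw [det_of_lowerTriangular, hd]
    intro r c hrc
    rw [submatrix_apply, mk'_apply, Equiv.apply_symm_apply, Equiv.apply_symm_apply,
      h2 c c.2 r hrc, decR_zero]

/-- determinant one from a factorisation into unitriangular matrices -/
theorem det_eq_one {UU : List (List ℕ)} {w Z : List ℕ}
    (h : band (lall A.tabOk UU) (band (lall (fun z => A.uni (nth A.idT UU z)) w)
      (A.eqT UU w Z)) = true) : (X.mk' Z).det = 1 := by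
  simp only [band_eq, Bool.and_eq_true] at h
  rw [← (codA_mats h.1).eqT h.2.2]
  have h2 := (lall_iff _ _).mp h.2.1
  clear h
  induction w with
  | nil => simp
  | cons z w ih =>
    rw [List.map_cons, List.prod_cons, det_mul, ih fun y hy => h2 y (List.mem_cons_of_mem _ hy),
      mats, det_uni (h2 z List.mem_cons_self), one_mul]

omit [Fintype ι] [DecidableEq ι] in
theorem mk'_trT {T U : List ℕ} (h : A.trT T U = true) : X.mk' U = (X.mk' T)ᵀ := by
  simp only [Ar.trT, allN_iff, Nat.beq_eq] at h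
  ext r c
  rw [transpose_apply, mk'_apply, mk'_apply, h _ (X.e r).2 _ (X.e c).2]

omit [Fintype ι] [DecidableEq ι] in
theorem decR_cj (hn : 0 < A.n) (hd : A.d = 2) (σ : R →+* R) {s : ℕ} (hs : σ X.ω = X.decR s)
    (hs' : digOk A.p A.B 2 s = true) (x : ℕ) : X.decR (A.cj s x) = σ (X.decR x) := by
  obtain ⟨h1, -, -, h4⟩ := X.ok'
  have hB : 2 * (A.p * A.p) < 2 ^ A.B := by
    refine lt_of_le_of_lt (Nat.mul_le_mul_right _ ?_) h4
    rw [show A.m = A.n * A.d from rfl, hd]; omega
  have hp : ∀ x : R, A.p • x = 0 := fun x => by rw [nsmul_eq_mul, X.hp, zero_mul]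
  have hb1 : Bd A.B (A.p - 1) 1 := fun j => by
    have := dig_shl (X.one_lt hn) 0 j
    simp only [mul_zero, pow_zero, mul_one] at this
    rw [this]; split_ifs <;> omega
  have hd1 : ∀ j, dig A.B (Nat.shiftLeft 1 A.B) j = if j = 1 then 1 else 0 := fun j => by
    have := dig_shl (X.one_lt hn) 1 j
    rwa [mul_one, ← shl_eq] at this
  have e1 := X.decR_one hn
  unfold decR at hs e1 ⊢
  rw [hd] at hs e1 ⊢
  have a1 := (appGo_sound (p := A.p) (B := A.B) (m' := 2) (by omega) hp (fun t => X.ω ^ t) σ.toAddMonoidHom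
    [1, s] (fun t => X.ω ^ t) x hB (by
      intro j hj
      change j < 2 at hj
      interval_cases j
      · exact ⟨by simpa using e1.symm, hb1⟩
      · exact ⟨by simpa using hs, (digOk_sound _ hs').1⟩)).1
  have a2 := (appGo_sound (p := A.p) (B := A.B) (m' := 2) (by omega) hp (fun t => X.ω ^ t) (AddMonoidHom.id R)
    [1, Nat.shiftLeft 1 A.B] (fun t => X.ω ^ t) (appGo A.p A.B (ones A.B) [1, s] x) hB (by
      intro j hj
      change j < 2 at hj
      interval_cases j
      · exact ⟨by simpa using e1.symm, hb1⟩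
      · refine ⟨?_, fun j => ?_⟩
        · rw [List.getD_cons_succ, List.getD_cons_zero, decB, sum_range_succ, sum_range_one, hd1, hd1]
          simp
        · rw [List.getD_cons_succ, List.getD_cons_zero, hd1]; split_ifs <;> omega)).1
  exact a2.symm.trans a1.symm

omit [Fintype ι] [DecidableEq ι] in
theorem mk'_ctT (hd : A.d = 2) (σ : R →+* R) {s : ℕ} (hs : σ X.ω = X.decR s)
    (hs' : digOk A.p A.B 2 s = true) {T U : List ℕ} (h : A.ctT s T U = true) :
    X.mk' U = ((X.mk' T).map σ)ᵀ := by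
  simp only [Ar.ctT, allN_iff, Nat.beq_eq] at h
  ext r c
  rw [transpose_apply, map_apply, mk'_apply, mk'_apply, h _ (X.e r).2 _ (X.e c).2,
    decR_cj (X.e r).pos hd σ hs hs']

end Ctx

end Cfsg.Agent.Spor
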