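/-
Checkers for bounds on automorphism groups of graphs given by tables.
-/
import Cfsg.Agent.Spor.Chk2

set_option autoImplicit false

namespace Cfsg.Agent.Spor

noncomputable section

/-- the points of `X` outside `M` -/
def andn (X M : Nat) : Nat := Nat.xor X (Nat.land X M)

/-- intersection of the listed masks (even code) and complements (odd code) -/
def patM (o : Nat) (Ms : List Nat) (c : List Nat) : Nat :=
  List.rec o (fun y _ ih => Bool.rec (andn ih (nth 0 Ms (Nat.shiftRight y 1)))
    (Nat.land ih (nth 0 Ms (Nat.shiftRight y 1))) (Nat.beq (Nat.land y 1) 0)) c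

/-- add a mask to a counter given by its binary planes -/
def addP (P : List Nat) : Nat → List Nat :=
  List.rec (fun c => Bool.rec (List.cons c List.nil) List.nil (Nat.beq c 0))
    (fun p t ih c => Bool.rec (List.cons (Nat.xor p c) (ih (Nat.land p c))) (List.cons p t)
      (Nat.beq c 0)) P

/-- evaluate the entries of the list, return the Boolean -/
def frc (l : List Nat) (b : Bool) : Bool := List.rec b (fun a _ ih => Bool.rec ih ih (Nat.beq a 0)) l

def leqL (l : List Nat) : List Nat → Bool :=
  List.rec (fun m => isNil m)
    (fun a _ ih m => List.rec false (fun b m' _ => band (Nat.beq a b) (ih m')) m) l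

/-- a tree of letters -/
inductive WT : Type
  | nil : WT
  | node (z : Nat) (ch sib : WT) : WT

def WT.ok (GZ : List Nat) (t : WT) : Bool :=
  WT.rec true (fun z _ _ i1 i2 => band (memL GZ z) (band i1 i2)) t

def visit2 (k : Nat → List Nat → Bool) (s : Nat) (P : List Nat) : Bool := frc P (k s P)

def visit (X pt R s : Nat) (P : List Nat) (k : Nat → List Nat → Bool) : Bool :=
  Bool.rec (k s P) (visit2 k (Nat.lor s pt) (addP P R))
    (band (sub pt X) (Nat.beq (Nat.land pt s) 0))

def visit3 (i1 : Nat → Nat → Nat → List Nat → (Nat → List Nat → Bool) → Bool) (X pt R s : Nat)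
    (P : List Nat) (k : Nat → List Nat → Bool) : Bool :=
  visit X pt R s P (fun s' P' => i1 pt R s' P' k)

/-- walk along the tree, adding the rows of the points of `X` -/
def WT.go (T : Tab) (X : Nat) (t : WT) :
    Nat → Nat → Nat → List Nat → (Nat → List Nat → Bool) → Bool :=
  WT.rec (fun _ _ s P k => k s P)
    (fun z _ _ i1 i2 pt R s P k => visit3 i1 X ((T.sn z).push pt) ((T.sn z).push R) s P
      (fun s' P' => i2 pt R s' P' k)) t

def WT.cnt (T : Tab) (GZ : List Nat) (t : WT) (O X : Nat) (PL : List Nat) : Bool :=
  band (t.ok GZ) (t.go T X 1 O 0 List.nil (fun s P => band (Nat.beq s X) (leqL P PL)))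

def single (X : Nat) : Bool := Nat.beq (Nat.land X (Nat.sub X 1)) 0

/-- the masks separate the points of `X` -/
def sepM (Ms : List Nat) : Nat → Bool :=
  List.rec (fun X => single X)
    (fun M _ ih X => Bool.rec (band (ih (Nat.land X M)) (ih (andn X M))) true (single X)) Ms

/-- the word sends `0` to `p` and the mask `O` to `R` -/
def Tab.rowOk (T : Tab) (GZ w : List Nat) (O p R : Nat) : Bool :=
  band (lall (memL GZ) w) (band (T.sends w 0 p) (Nat.beq (T.pushL w O) R))

/-- the points fixed by a word -/
def Tab.fixM (T : Tab) (K : Nat) (w : List Nat) (o : Nat) : Nat :=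
  andn o (lor (lmap (fun p => Nat.xor (T.pushL w p) p) (idpls K K 0)))

/-- intersect a mask with its images under the words with the listed numbers -/
def Tab.shrink (T : Tab) (W : List (List Nat)) (l : List Nat) : Nat → Nat :=
  List.rec (fun x => x) (fun i _ ih x => ih (Nat.land x (T.pushL (nth List.nil W i) x))) l

end

end Cfsg.Agent.Spor
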