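/-
Bounds on the automorphism group of an orbital graph.
-/
import Cfsg.Agent.Spor.Prim
import Cfsg.Agent.Spor.R30

set_option autoImplicit false

namespace Cfsg.Agent.Spor

open Equiv

/-- the orbital graph of the pair `(0, b)` -/
def Adj (P : Subgroup (Perm ℕ)) (b p q : ℕ) : Prop := ∃ g ∈ P, g 0 = p ∧ g b = q

/-- automorphisms of a relation on the points below `N` -/
def AutG (r : ℕ → ℕ → Prop) (N : ℕ) : Subgroup (Perm ℕ) where
  carrier := {σ | σ ∈ FixFrom N ∧ ∀ p q, r (σ p) (σ q) ↔ r p q}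
  one_mem' := ⟨one_mem _, fun _ _ => Iff.rfl⟩
  mul_mem' := fun {a b} ha hb => ⟨mul_mem ha.1 hb.1, fun p q => (ha.2 _ _).trans (hb.2 p q)⟩
  inv_mem' := fun {a} ha => ⟨inv_mem ha.1, fun p q => by
    rw [← ha.2 (a⁻¹ p) (a⁻¹ q)]; simp⟩

theorem le_autG {P : Subgroup (Perm ℕ)} {N : ℕ} (h : P ≤ FixFrom N) (b : ℕ) :
    P ≤ AutG (Adj P b) N := fun g hg => ⟨h hg, fun p q => by
  constructor
  · rintro ⟨x, hx, e1, e2⟩
    exact ⟨g⁻¹ * x, mul_mem (inv_mem hg) hx, by simp [e1], by simp [e2]⟩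
  · rintro ⟨x, hx, rfl, rfl⟩
    exact ⟨g * x, mul_mem hg hx, rfl, rfl⟩⟩

instance instFiniteFixFrom (N : ℕ) : Finite (FixFrom N) :=
  Finite.of_injective (fun (σ : FixFrom N) (i : Fin N) => (⟨σ.1 i, FixFrom.lt σ.2 i.2⟩ : Fin N))
    fun σ τ h => Subtype.ext (Equiv.ext fun i => by
      by_cases hi : i < N
      · exact congrArg Fin.val (congrFun h ⟨i, hi⟩)
      · rw [σ.2 i (not_lt.mp hi), τ.2 i (not_lt.mp hi)])

theorem finite_of_fix {N : ℕ} {A : Subgroup (Perm ℕ)} (h : A ≤ FixFrom N) : Finite A :=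
  Finite.of_injective _ (Subgroup.inclusion_injective h)

/-- pointwise stabiliser of a list of points -/
def StL (A : Subgroup (Perm ℕ)) (L : List ℕ) : Subgroup (Perm ℕ) where
  carrier := {σ | σ ∈ A ∧ ∀ p ∈ L, σ p = p}
  one_mem' := ⟨one_mem _, fun _ _ => rfl⟩
  mul_mem' := fun {a b} ha hb => ⟨mul_mem ha.1 hb.1, fun p hp => by
    rw [Perm.mul_apply, hb.2 p hp, ha.2 p hp]⟩
  inv_mem' := fun {a} ha => ⟨inv_mem ha.1, fun p hp => by rw [Perm.inv_eq_iff_eq, ha.2 p hp]⟩

theorem StL_nil (A : Subgroup (Perm ℕ)) : StL A [] = A :=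
  le_antisymm (fun _ h => h.1) fun _ h => ⟨h, fun _ hp => absurd hp List.not_mem_nil⟩

theorem allP_of_forall {α : Type} {p : α → Prop} {l : List α} (h : ∀ a ∈ l, p a) : AllP p l := by
  induction l with
  | nil => trivial
  | cons a l ih => exact ⟨h a List.mem_cons_self, ih fun b hb => h b (List.mem_cons_of_mem _ hb)⟩

def InvM (B : Subgroup (Perm ℕ)) (X : ℕ) : Prop := ∀ σ ∈ B, ∀ i, X.testBit (σ i) = X.testBit i

def IsRow (r : ℕ → ℕ → Prop) (p R : ℕ) : Prop := ∀ q, r p q ↔ R.testBit q = true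

theorem tb_andn (X M i : ℕ) : (andn X M).testBit i = (X.testBit i && !M.testBit i) := by
  unfold andn
  rw [tb_xor, tb_land]
  cases X.testBit i <;> cases M.testBit i <;> rfl

section
variable {B : Subgroup (Perm ℕ)} {r : ℕ → ℕ → Prop} {N : ℕ}

theorem InvM.mono {B' : Subgroup (Perm ℕ)} {X : ℕ} (h : InvM B X) (hB : B' ≤ B) : InvM B' X :=
  fun σ hσ => h σ (hB hσ)

theorem InvM.land {X Y : ℕ} (h : InvM B X) (h' : InvM B Y) : InvM B (Nat.land X Y) :=
  fun σ hσ i => by rw [tb_land, tb_land, h σ hσ, h' σ hσ]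

theorem InvM.andn {X Y : ℕ} (h : InvM B X) (h' : InvM B Y) : InvM B (andn X Y) :=
  fun σ hσ i => by rw [tb_andn, tb_andn, h σ hσ, h' σ hσ]

theorem invM_zero : InvM B 0 := fun _ _ _ => by simp

theorem invM_ones (h : B ≤ FixFrom N) : InvM B (ones N) := fun σ hσ i => by
  rw [tb_ones, tb_ones]
  by_cases hi : i < N
  · simp [hi, FixFrom.lt (h hσ) hi]
  · rw [h hσ i (not_lt.mp hi)]

theorem invM_pt {p : ℕ} (h : ∀ σ ∈ B, σ p = p) : InvM B (Nat.shiftLeft 1 p) := fun σ hσ i => by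
  rw [tb_shl_one, tb_shl_one]
  conv_lhs => rw [← h σ hσ]
  simp

theorem InvM.fix {p : ℕ} (h : InvM B (Nat.shiftLeft 1 p)) : ∀ σ ∈ B, σ p = p := fun σ hσ => by
  have := h σ hσ p
  rw [tb_shl_one, tb_shl_one] at this
  exact (by simpa using this : p = _).symm

theorem IsRow.inv {p R : ℕ} (h : IsRow r p R) (hB : B ≤ AutG r N) (hp : ∀ σ ∈ B, σ p = p) :
    InvM B R := fun σ hσ i => by
  rw [Bool.eq_iff_iff, ← h, ← h, ← (hB hσ).2 p i, hp σ hσ]

theorem invM_patM {o : ℕ} {Ms : List ℕ} (ho : InvM B o) (h : AllP (InvM B) Ms) (c : List ℕ) :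
    InvM B (patM o Ms c) := by
  have h1 : ∀ j, InvM B (nth 0 Ms j) := fun j => by
    rw [nth_eq, List.getD_eq_getElem?_getD]
    cases e : Ms[j]? with
    | none => exact invM_zero
    | some w => exact h.forall _ (List.mem_of_getElem? e)
  induction c with
  | nil => exact ho
  | cons y c ih =>
    show InvM B (Bool.rec _ _ (Nat.beq (Nat.land y 1) 0))
    cases Nat.beq (Nat.land y 1) 0
    · exact ih.andn (h1 _)
    · exact ih.land (h1 _)

theorem single_sound {X : ℕ} (h : single X = true) {i j : ℕ} (hi : X.testBit i = true)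
    (hj : X.testBit j = true) : i = j := by
  have h0 : X ≠ 0 := fun e => by simp [e] at hi
  obtain ⟨k, rfl⟩ := (Nat.and_sub_one_eq_zero_iff_isPowerOfTwo h0).mp (Nat.beq_eq.mp h)
  rw [Nat.testBit_two_pow, decide_eq_true_eq] at hi hj
  omega

theorem sepM_sound {Ms : List ℕ} (h : AllP (InvM B) Ms) {X : ℕ} (hX : InvM B X)
    (hc : sepM Ms X = true) : ∀ σ ∈ B, ∀ i, X.testBit i = true → σ i = i := by
  induction Ms generalizing X with
  | nil => exact fun σ hσ i hi => single_sound hc (by rw [hX σ hσ, hi]) hi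
  | cons M Ms ih =>
    intro σ hσ i hi
    by_cases h1 : single X = true
    · exact single_sound h1 (by rw [hX σ hσ, hi]) hi
    · have h2 : (Bool.rec (band (sepM Ms (Nat.land X M)) (sepM Ms (andn X M))) true (single X) :
          Bool) = true := hc
      rw [brec_eq, if_neg h1, band_eq, Bool.and_eq_true] at h2
      cases e : M.testBit i
      · exact ih h.2 (hX.andn h.1) h2.2 σ hσ i (by rw [tb_andn, hi, e]; rfl)
      · exact ih h.2 (hX.land h.1) h2.1 σ hσ i (by rw [tb_land, hi, e]; rfl)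

/-- value of a counter at a point -/
def valP : List ℕ → ℕ → ℕ
  | [], _ => 0
  | p :: t, v => (p.testBit v).toNat + 2 * valP t v

theorem valP_addP (P : List ℕ) (c v : ℕ) : valP (addP P c) v = valP P v + (c.testBit v).toNat := by
  induction P generalizing c with
  | nil =>
    show valP (Bool.rec [c] [] (Nat.beq c 0)) v = _
    rw [brec_eq]
    split_ifs with h
    · rw [Nat.beq_eq.mp h]; simp [valP]
    · simp [valP]
  | cons p t ih =>
    show valP (Bool.rec (Nat.xor p c :: addP t (Nat.land p c)) (p :: t) (Nat.beq c 0)) v = _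
    rw [brec_eq]
    split_ifs with h
    · rw [Nat.beq_eq.mp h]; simp
    · rw [valP, valP, ih, tb_xor, tb_land]
      cases p.testBit v <;> cases c.testBit v <;> simp <;> omega

theorem tb_of_valP {P : List ℕ} {v w : ℕ} (h : valP P v = valP P w) :
    ∀ p ∈ P, p.testBit v = p.testBit w := by
  induction P with
  | nil => simp
  | cons p t ih =>
    rw [valP, valP] at h
    have h1 : p.testBit v = p.testBit w := by
      revert h
      cases p.testBit v <;> cases p.testBit w <;> simp <;> omega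
    rw [h1] at h
    intro q hq
    rcases List.mem_cons.mp hq with rfl | hq
    · exact h1
    · exact ih (by omega) q hq

theorem frc_eq (l : List ℕ) (b : Bool) : frc l b = b := by
  induction l with
  | nil => rfl
  | cons a l ih =>
    show (Bool.rec (frc l b) (frc l b) (Nat.beq a 0) : Bool) = b
    cases Nat.beq a 0 <;> exact ih

theorem leqL_sound {l m : List ℕ} (h : leqL l m = true) : l = m := by
  induction l generalizing m with
  | nil => cases m with
    | nil => rfl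
    | cons b m => exact absurd h Bool.false_ne_true
  | cons a l ih => cases m with
    | nil => exact absurd h Bool.false_ne_true
    | cons b m =>
      have h' : band (Nat.beq a b) (leqL l m) = true := h
      rw [band_eq, Bool.and_eq_true, Nat.beq_eq] at h'
      rw [h'.1, ih h'.2]

/-- the counter counts the neighbours among the points seen -/
def CntOk (r : ℕ → ℕ → Prop) (s : ℕ) (P : List ℕ) : Prop :=
  ∀ v, valP P v = {w | s.testBit w = true ∧ r w v}.ncard

theorem finite_bits (s : ℕ) : {w | s.testBit w = true}.Finite :=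
  (Set.finite_lt_nat s).subset fun w hw => by
    by_contra h
    have : s < 2 ^ w := lt_of_le_of_lt (not_lt.mp h) Nat.lt_two_pow_self
    rw [Set.mem_setOf_eq, Nat.testBit_lt_two_pow this] at hw
    exact Bool.false_ne_true hw

theorem CntOk.add {s p R : ℕ} {P : List ℕ} (h : CntOk r s P) (hR : IsRow r p R)
    (hp : Nat.land (Nat.shiftLeft 1 p) s = 0) :
    CntOk r (Nat.lor s (Nat.shiftLeft 1 p)) (addP P R) := fun v => by
  have h1 : s.testBit p = false := by
    have := congrArg (fun x => Nat.testBit x p) hp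
    simpa [tb_land, tb_shl_one] using this
  rw [valP_addP, h]
  cases e : R.testBit v
  · refine congrArg Set.ncard (Set.ext fun w => ?_)
    simp only [Set.mem_setOf_eq, tb_lor, tb_shl_one, Bool.or_eq_true, decide_eq_true_eq]
    refine ⟨fun h2 => ⟨Or.inl h2.1, h2.2⟩, fun h2 => ⟨h2.1.resolve_right ?_, h2.2⟩⟩
    rintro rfl
    rw [hR, e] at h2
    exact Bool.false_ne_true h2.2
  · rw [Bool.toNat_true, ← Set.ncard_insert_of_notMem (a := p) (by simp [h1])
      ((finite_bits s).subset fun _ h => h.1)]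
    refine congrArg Set.ncard (Set.ext fun w => ?_)
    simp only [Set.mem_insert_iff, Set.mem_setOf_eq, tb_lor, tb_shl_one, Bool.or_eq_true,
      decide_eq_true_eq]
    constructor
    · rintro (rfl | h2)
      · exact ⟨Or.inr rfl, (hR v).mpr e⟩
      · exact ⟨Or.inl h2.1, h2.2⟩
    · rintro ⟨h2 | rfl, h3⟩
      · exact Or.inr ⟨h2, h3⟩
      · exact Or.inl rfl

theorem CntOk.inv {X : ℕ} {P : List ℕ} (h : CntOk r X P) (hB : B ≤ AutG r N) (hX : InvM B X) :
    AllP (InvM B) P := allP_of_forall fun p hp σ hσ i => by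
  refine tb_of_valP ?_ p hp
  rw [h, h, ← Set.ncard_image_of_injective {w | X.testBit w = true ∧ r w i} σ.injective]
  refine congrArg Set.ncard (Set.ext fun w => ?_)
  obtain ⟨w, rfl⟩ := σ.surjective w
  rw [σ.injective.mem_set_image, Set.mem_setOf_eq, Set.mem_setOf_eq, hX σ hσ, (hB hσ).2]

variable {T : Tab} {K : ℕ}

theorem IsRow.push (hT : T.Ok K) {p R z : ℕ} (h : IsRow r p R) (hz : T.τ z ∈ AutG r N) :
    IsRow r (T.τ z p) ((T.sn z).push R) := fun q => by
  obtain ⟨q, rfl⟩ := (T.τ z).surjective q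
  rw [hz.2, h, SNet.tb_push (hT.sn z)]
  show _ ↔ R.testBit ((T.τ z)⁻¹ _) = true
  simp

theorem push_pt (hT : T.Ok K) (z p : ℕ) :
    (T.sn z).push (Nat.shiftLeft 1 p) = Nat.shiftLeft 1 (T.τ z p) :=
  Nat.eq_of_testBit_eq fun i => by
    rw [SNet.tb_push (hT.sn z), tb_shl_one, tb_shl_one]
    show decide (p = (T.τ z)⁻¹ i) = _
    simp [Equiv.eq_symm_apply]

theorem WT.go_sound (hT : T.Ok K) {GZ : List ℕ} (hG : ∀ z ∈ GZ, T.τ z ∈ AutG r N) {X : ℕ} (t : WT)
    (ht : t.ok GZ = true) {p R s : ℕ} {P : List ℕ} {k : ℕ → List ℕ → Bool} (hR : IsRow r p R)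
    (hs : CntOk r s P) (hc : t.go T X (Nat.shiftLeft 1 p) R s P k = true) :
    ∃ s' P', CntOk r s' P' ∧ k s' P' = true := by
  induction t generalizing p R s P k with
  | nil => exact ⟨s, P, hs, hc⟩
  | node z ch sib i1 i2 =>
    have h1 : band (memL GZ z) (band (ch.ok GZ) (sib.ok GZ)) = true := ht
    simp only [band_eq, Bool.and_eq_true, memL_iff] at h1
    have hR' := hR.push hT (hG z h1.1)
    have h2 : visit X ((T.sn z).push (Nat.shiftLeft 1 p)) ((T.sn z).push R) s P
        (fun s' P' => ch.go T X ((T.sn z).push (Nat.shiftLeft 1 p)) ((T.sn z).push R) s' P'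
          (fun s' P' => sib.go T X (Nat.shiftLeft 1 p) R s' P' k)) = true := hc
    rw [push_pt hT, visit, brec_eq] at h2
    split_ifs at h2 with h3
    · rw [band_eq, Bool.and_eq_true, Nat.beq_eq] at h3
      rw [visit2, frc_eq] at h2
      obtain ⟨s', P', h4, h5⟩ := i1 h1.2.1 hR' (hs.add hR' h3.2) h2
      exact i2 h1.2.2 hR h4 h5
    · obtain ⟨s', P', h4, h5⟩ := i1 h1.2.1 hR' hs h2
      exact i2 h1.2.2 hR h4 h5

theorem WT.cnt_sound (hT : T.Ok K) {GZ : List ℕ} (hG : ∀ z ∈ GZ, T.τ z ∈ AutG r N) {O X : ℕ}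
    (hO : IsRow r 0 O) {t : WT} {PL : List ℕ} (hc : t.cnt T GZ O X PL = true) : CntOk r X PL := by
  rw [WT.cnt, band_eq, Bool.and_eq_true] at hc
  obtain ⟨s, P, h1, h2⟩ := t.go_sound hT hG hc.1 (p := 0) hO (s := 0) (P := [])
    (fun v => by simp [valP]) hc.2
  rw [band_eq, Bool.and_eq_true, Nat.beq_eq] at h2
  rw [← h2.1, ← leqL_sound h2.2]
  exact h1

theorem IsRow.word (hT : T.Ok K) {GZ : List ℕ} (hG : ∀ z ∈ GZ, T.τ z ∈ AutG r N) {O : ℕ}
    (hO : IsRow r 0 O) {w : List ℕ} {p R : ℕ} (hc : T.rowOk GZ w O p R = true) : IsRow r p R := by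
  simp only [Tab.rowOk, band_eq, Bool.and_eq_true, lall_iff, memL_iff, Nat.beq_eq] at hc
  intro q
  obtain ⟨q, rfl⟩ := (evA T.τ w).surjective q
  rw [← hc.2.2, hT.tb_pushL, ← hO, ← hT.sends hc.2.1]
  exact (evA_mem _ _ _ fun z hz => hG z (hc.1 z hz) : evA T.τ w ∈ AutG r N).2 0 q

theorem Tab.Ok.tb_fixM (hT : T.Ok K) {w : List ℕ} {o i : ℕ} (ho : o.testBit i = true)
    (h : evA T.τ w i = i) : (T.fixM K w o).testBit i = true := by
  rw [Tab.fixM, tb_andn, ho, Bool.true_and, Bool.not_eq_true', ← Bool.not_eq_true]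
  intro h1
  obtain ⟨M, hM, h2⟩ := tb_lor_list _ _ h1
  rw [lmap_eq] at hM
  obtain ⟨p, -, rfl⟩ := List.mem_map.mp hM
  have := hT.tb_pushL w p i
  rw [h] at this
  rw [tb_xor, this] at h2
  simp at h2

end

section
variable {A : Subgroup (Perm ℕ)} {r : ℕ → ℕ → Prop} {N K : ℕ} {L : List ℕ}

theorem StL_le (A : Subgroup (Perm ℕ)) (L : List ℕ) : StL A L ≤ A := fun _ h => h.1

theorem InvM.up {X : ℕ} (h : InvM (StL A L) X) (p : ℕ) : InvM (StL A (p :: L)) X :=
  h.mono fun _ h => ⟨h.1, fun q hq => h.2 q (List.mem_cons_of_mem _ hq)⟩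

theorem AllP.up {Ms : List ℕ} (h : AllP (InvM (StL A L)) Ms) (p : ℕ) :
    AllP (InvM (StL A (p :: L))) Ms := allP_of_forall fun X hX => (h.forall X hX).up p

theorem AllP.app' {α : Type} {p : α → Prop} {l m : List α} (h : AllP p l) (h' : AllP p m) :
    AllP p (l ++ m) := allP_of_forall fun x hx => (List.mem_append.mp hx).elim (h.forall x) (h'.forall x)

/-- the row of a base point -/
theorem IsRow.base {p R : ℕ} (h : IsRow r p R) (L : List ℕ) :
    InvM (StL (AutG r N) (p :: L)) R :=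
  h.inv (StL_le _ _) fun _ h => h.2 p List.mem_cons_self

theorem invM_base (A : Subgroup (Perm ℕ)) (p : ℕ) (L : List ℕ) :
    InvM (StL A (p :: L)) (Nat.shiftLeft 1 p) := invM_pt fun _ h => h.2 p List.mem_cons_self

theorem invM_pat {Ms : List ℕ} (h : AllP (InvM (StL (AutG r N) L)) Ms) {c : List ℕ} {X : ℕ}
    (hc : Nat.beq (patM (ones N) Ms c) X = true) : InvM (StL (AutG r N) L) X :=
  Nat.beq_eq.mp hc ▸ invM_patM (invM_ones (B := StL (AutG r N) L) fun _ h => h.1.1) h c

/-- the row of a point determined by a pattern -/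
theorem IsRow.pat {p R : ℕ} (hR : IsRow r p R) {Ms : List ℕ}
    (h : AllP (InvM (StL (AutG r N) L)) Ms) {c : List ℕ}
    (hc : Nat.beq (patM (ones N) Ms c) (Nat.shiftLeft 1 p) = true) :
    InvM (StL (AutG r N) L) R := hR.inv (StL_le _ _) (invM_pat h hc).fix

theorem card_le_step {p X s m : ℕ} (hX : InvM (StL A L) X)
    (hc : band (X.testBit p) (sizeOk K X s) = true) (h : Nat.card (StL A (p :: L)) ≤ m) :
    Nat.card (StL A L) ≤ s * m := by
  rw [band_eq, Bool.and_eq_true] at hc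
  rw [← (MulAction.stabilizer (StL A L) p).index_mul_card, MulAction.index_stabilizer]
  refine Nat.mul_le_mul ?_ (le_trans (le_of_eq ?_) h)
  · rw [← sizeOk_sound hc.2]
    refine Set.ncard_le_ncard ?_ (finite_bits X)
    rintro _ ⟨g, rfl⟩
    exact (hX g g.2 p).trans hc.1
  · have hle : StL A (p :: L) ≤ StL A L :=
      fun _ h => ⟨h.1, fun q hq => h.2 q (List.mem_cons_of_mem _ hq)⟩
    rw [← Nat.card_congr (Subgroup.subgroupOfEquivOfLe hle).toEquiv]
    congr 2
    ext g
    refine ⟨fun h => ⟨g.2.1, fun q hq => ?_⟩, fun h => h.2 p List.mem_cons_self⟩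
    rcases List.mem_cons.mp hq with rfl | hq
    · exact h
    · exact g.2.2 q hq

theorem card_le_sep {Ms : List ℕ} (h : AllP (InvM (StL (AutG r N) L)) Ms)
    (hc : sepM Ms (ones N) = true) : Nat.card (StL (AutG r N) L) ≤ 1 := by
  suffices StL (AutG r N) L = ⊥ by rw [this, Subgroup.card_bot]
  refine (Subgroup.eq_bot_iff_forall _).mpr fun σ hσ => Equiv.ext fun i => ?_
  by_cases hi : i < N
  · exact sepM_sound h (invM_ones fun _ h => h.1.1) hc σ hσ i (by rw [tb_ones]; simpa using hi)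
  · exact hσ.1.1 i (not_lt.mp hi)

end

end Cfsg.Agent.Spor
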