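import Cfsg.Agent.Spor.Norm

set_option autoImplicit false

namespace Cfsg.Agent.Spor

open Equiv

section
variable {G : Type*} [Group G] {n ni : ℕ} {f : ℕ → G}

theorem wsub_wv (hi : IvOk ni (atm n f)) (WD : List (List ℕ)) (m : ℕ) (BW : List (List ℕ)) :
    wsub m (wv n f WD) BW = wsub n f (BW.map (subW ni m WD)) := by
  refine le_antisymm (wsub_le fun w hw => ?_) (wsub_le fun w hw => ?_)
  · rw [← ev_subW hi]
    exact mem_wsub f (List.mem_map_of_mem hw)
  · obtain ⟨l, hl, rfl⟩ := List.mem_map.mp hw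
    rw [ev_subW hi]
    exact mem_wsub _ hl

/-- if every non-trivial normal subgroup contains `C`, which has index at most
two and non-square order, then `C` is simple -/
theorem simple_of_index [Finite G] {C : Subgroup G} [hCn : C.Normal]
    (h : ∀ M : Subgroup G, M.Normal → M = ⊥ ∨ C ≤ M)
    (h2 : C.index ∣ 2) (hsq : ¬ IsSquare (Nat.card C)) : IsSimpleGroup C := by
  have hnt : Nontrivial C := by
    by_contra hc
    rw [not_nontrivial_iff_subsingleton] at hc
    exact hsq (by rw [Nat.card_unique]; exact IsSquare.one)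
  refine ⟨fun M hM => ?_⟩
  set M1 := M.map C.subtype with hM1
  have hle : M1 ≤ C := Subgroup.map_subtype_le M
  have hn1 : ∀ c ∈ C, ∀ x ∈ M1, c * x * c⁻¹ ∈ M1 := by
    rintro c hc _ ⟨x, hx, rfl⟩
    exact ⟨_, hM.conj_mem x hx ⟨c, hc⟩, rfl⟩
  have fin : M1 = ⊥ ∨ C ≤ M1 → M = ⊥ ∨ M = ⊤ := by
    rintro (h0 | h0)
    · left
      exact (Subgroup.map_eq_bot_iff_of_injective M C.subtype_injective).mp h0
    · right
      rw [eq_top_iff]
      intro x _
      obtain ⟨y, hy, e⟩ := h0 x.2
      rwa [← Subtype.ext e]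
  rcases (Nat.dvd_prime Nat.prime_two).mp h2 with h3 | h3
  · refine fin (h M1 ⟨fun x hx g => hn1 g ?_ x hx⟩)
    rw [Subgroup.index_eq_one.mp h3]; exact Subgroup.mem_top g
  obtain ⟨t, ht⟩ := Subgroup.index_eq_two_iff'.mp h3
  have ht1 : t ∉ C := by
    have := ht 1
    rw [mul_one] at this
    exact fun h4 => (this.resolve_left fun h5 => h5.2 C.one_mem).2 h4
  set M2 := M1.comap (MulAut.conj t).toMonoidHom with hM2
  have mem2 : ∀ x, x ∈ M2 ↔ t * x * t⁻¹ ∈ M1 := fun x => Iff.rfl
  have hn2 : ∀ c ∈ C, ∀ x ∈ M2, c * x * c⁻¹ ∈ M2 := fun c hc x hx => by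
    rw [mem2] at hx ⊢
    have := hn1 _ (hCn.conj_mem c hc t) _ hx
    convert this using 1
    group
  have hle2 : M2 ≤ C := fun x hx => by
    have := hCn.conj_mem _ (hle ((mem2 x).mp hx)) t⁻¹
    simpa [mul_assoc] using this
  have hcos : ∀ g, g ∉ C → t * g ∈ C := fun g hg => ((ht g).resolve_right fun h5 => hg h5.1).1
  have s12 : ∀ g, g ∉ C → ∀ x ∈ M1, g * x * g⁻¹ ∈ M2 := fun g hg x hx => by
    rw [mem2]
    have := hn1 _ (hcos g hg) _ hx
    convert this using 1
    group
  have s21 : ∀ g, g ∉ C → ∀ x ∈ M2, g * x * g⁻¹ ∈ M1 := fun g hg x hx => by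
    have h5 : g * t⁻¹ ∈ C := by
      have h6 := C.inv_mem (hcos g⁻¹ fun h7 => hg (inv_mem_iff.mp h7))
      simpa using h6
    have := hn1 _ h5 _ ((mem2 x).mp hx)
    convert this using 1
    group
  have nI : (M1 ⊓ M2).Normal := ⟨fun x hx g => by
    by_cases hg : g ∈ C
    · exact ⟨hn1 g hg x hx.1, hn2 g hg x hx.2⟩
    · exact ⟨s21 g hg x hx.2, s12 g hg x hx.1⟩⟩
  have nS : (M1 ⊔ M2).Normal := ⟨fun x hx g => by
    have : M1 ⊔ M2 ≤ (M1 ⊔ M2).comap (MulAut.conj g).toMonoidHom := by
      refine sup_le (fun y hy => ?_) (fun y hy => ?_)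
      · by_cases hg : g ∈ C
        · exact Subgroup.mem_sup_left (hn1 g hg y hy)
        · exact Subgroup.mem_sup_right (s12 g hg y hy)
      · by_cases hg : g ∈ C
        · exact Subgroup.mem_sup_right (hn2 g hg y hy)
        · exact Subgroup.mem_sup_left (s21 g hg y hy)
    exact this hx⟩
  rcases h _ nI with h4 | h4
  · rcases h _ nS with h5 | h5
    · exact fin (Or.inl (le_bot_iff.mp (h5 ▸ le_sup_left)))
    · exfalso
      apply hsq
      have e1 : Nat.card M2 = Nat.card M1 :=
        Nat.card_congr ((MulAut.conj t).toEquiv.subtypeEquiv fun x => Iff.rfl)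
      have e2 : M1.subgroupOf C = M := by
        rw [hM1]; exact Subgroup.comap_map_eq_self_of_injective C.subtype_injective M
      have hc : (M2.subgroupOf C).IsComplement' M := by
        rw [← e2]
        refine Subgroup.isComplement'_of_disjoint_and_mul_eq_univ ?_ ?_
        · rw [disjoint_iff, Subgroup.subgroupOf, Subgroup.subgroupOf, ← Subgroup.comap_inf, inf_comm,
            h4]
          simp
        · have : (M1.subgroupOf C).Normal := e2 ▸ hM
          rw [← Subgroup.mul_normal, ← Subgroup.subgroupOf_sup hle2 hle, sup_comm,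
            Subgroup.subgroupOf_eq_top.mpr h5]
          rfl
      refine ⟨Nat.card M1, ?_⟩
      rw [← hc.card_mul_card, Nat.card_congr (Subgroup.subgroupOfEquivOfLe hle2).toEquiv, e1, ← e2,
        Nat.card_congr (Subgroup.subgroupOfEquivOfLe hle).toEquiv]
  · exact fin (Or.inr (h4.trans inf_le_left))

end

section
variable {n k : ℕ} {RL BW : List (List ℕ)} {fP : ℕ → Perm ℕ} {N : ℕ}

/-- the permutation group of a certificate acts on the cosets -/
theorem Cert.self (c : Cert n k RL BW fP N) :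
    CosetAct (wsub n (lift (gsub n fP) fP) BW) (gsub n fP).subtype N :=
  c.act _ _ c.pres.lift _ (lift_gsub fP) (gsub_lift n fP)

end

end Cfsg.Agent.Spor
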