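import Cfsg.Agent.Spor.DE3
import Cfsg.Agent.Spor.MatQ

set_option autoImplicit false

namespace Cfsg.Agent.Spor

section
variable {G : Type*} [Group G]

theorem ivOk_zero (m : ℕ) (f : ℕ → G) : IvOk 0 (atm m f) :=
  ivOk_atm (k := 0) fun _ h => absurd h (Nat.not_lt_zero _)

/-- relator `j - n` defines generator `j` in terms of the earlier ones -/
def defChk (n N : ℕ) (RL : List (List ℕ)) : Bool :=
  (List.range (N - n)).all fun i => (RL.getD i []).head? == some (2 * (n + i)) &&
    (RL.getD i []).tail.all (· < 2 * (n + i))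

theorem defChk_spec {n N : ℕ} {F : ℕ → G} {RL : List (List ℕ)} (hR : ∀ l ∈ RL, ev (atm N F) l = 1)
    (h : defChk n N RL = true) {j : ℕ} (h1 : n ≤ j) (h2 : j < N) :
    F j = (ev (atm j F) (RL.getD (j - n) []).tail)⁻¹ := by
  have h4 := List.all_eq_true.mp h (j - n) (List.mem_range.mpr (by omega))
  rw [show n + (j - n) = j by omega] at h4
  simp only [Bool.and_eq_true, beq_iff_eq, List.all_eq_true, decide_eq_true_eq] at h4
  have h5 := ev_nth_eq_one hR (j - n)
  rw [nth_eq] at h5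
  obtain ⟨l, hl⟩ : ∃ l, RL.getD (j - n) [] = 2 * j :: l := List.head?_eq_some_iff.mp h4.1
  rw [hl] at h4 h5 ⊢
  rw [ev_cons, atm_two_mul F h2] at h5
  rw [eq_inv_of_mul_eq_one_left h5, List.tail_cons]
  congr 1
  unfold ev
  refine congrArg _ (List.map_congr_left fun y hy => ?_)
  have h6 : y / 2 < j := by have := h4.2 y hy; omega
  rw [atm_def, atm_def, if_pos h6, if_pos (h6.trans h2)]

theorem mem_of_defs {n N : ℕ} {F : ℕ → G} {RL : List (List ℕ)} (hR : ∀ l ∈ RL, ev (atm N F) l = 1)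
    (h : defChk n N RL = true) {K : Subgroup G} (hK : ∀ j < n, F j ∈ K) : ∀ j < N, F j ∈ K := by
  intro j
  induction j using Nat.strong_induction_on with
  | _ j ih =>
    intro hj
    by_cases h1 : j < n
    · exact hK j h1
    · rw [defChk_spec hR h (not_lt.mp h1) hj]
      exact K.inv_mem (ev_mem _ _ _ fun y _ => atm_mem (fun i hi => ih i hi (hi.trans hj)) y)

/-- the words `WD` express all generators by the first `n` -/
noncomputable def elimChk (ni n N : ℕ) (RL WD : List (List ℕ)) : Bool :=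
  defChk n N RL && allN (fun j => isNil (red ni (lapp (invW ni (WD.getD j []) [])
    (if j < n then [2 * j] else subW ni j WD (invW 0 (RL.getD (j - n) []).tail []))))) N

theorem elim_gens' {ni n N : ℕ} {F : ℕ → G} (hi : IvOk ni (atm n F)) {RL WD : List (List ℕ)}
    (hR : ∀ l ∈ RL, ev (atm N F) l = 1) (h : elimChk ni n N RL WD = true) :
    ∀ j < N, F j = wv n F WD j := by
  rw [elimChk, Bool.and_eq_true] at h
  intro j
  induction j using Nat.strong_induction_on with
  | _ j ih =>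
    intro hj
    have h2 := ev_eq_one_of_red hi ((allN_iff _ _).mp h.2 j hj)
    rw [ev_lapp, ev_invW hi, ev_nil, mul_one, inv_mul_eq_one] at h2
    rw [wv, h2]
    split_ifs with h3
    · rw [ev_cons, ev_nil, mul_one, atm_two_mul F h3]
    · rw [ev_subW hi, ev_invW (ivOk_zero _ _), ev_nil, mul_one,
        ← atm_congr fun i hi' => ih i hi' (hi'.trans hj)]
      exact defChk_spec hR h.1 (not_lt.mp h3) hj

theorem Pres.elim {n N k : ℕ} {F : ℕ → G} {RL0 WD RL : List (List ℕ)} {H : List Hint}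
    (hR : ∀ l ∈ RL0, ev (atm N F) l = 1)
    (h : (decide (n ≤ N) && (List.range k).all (fun j => RL0.contains [2 * j, 2 * j]) &&
      elimChk (2 * k) n N RL0 WD && consAll (2 * k) (RL0.map (subW (2 * k) N WD)) RL H) = true) :
    Pres n k RL F := by
  simp only [Bool.and_eq_true, decide_eq_true_eq] at h
  obtain ⟨⟨⟨h1, h2⟩, h3⟩, h4⟩ := h
  have hs : ∀ j < k, j < n → F j * F j = 1 := fun j hj hn => by
    have := hR _ (List.contains_iff_mem.mp (List.all_eq_true.mp h2 j (List.mem_range.mpr hj)))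
    rwa [ev_cons, ev_cons, ev_nil, mul_one, atm_two_mul F (by omega)] at this
  have hi := ivOk_atm hs
  refine ⟨hs, consAll_sound hi (fun r hr => ?_) h4⟩
  obtain ⟨l, hl, rfl⟩ := List.mem_map.mp hr
  rw [ev_subW hi, ← atm_congr (elim_gens' hi hR h3)]
  exact hR l hl

/-- fewer generators -/
theorem ev_atm_lt {n N : ℕ} (h : n ≤ N) (F : ℕ → G) {l : List ℕ} (hl : ∀ y ∈ l, y < 2 * n) :
    ev (atm N F) l = ev (atm n F) l := by
  unfold ev
  refine congrArg _ (List.map_congr_left fun y hy => ?_)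
  have h6 : y / 2 < n := by have := hl y hy; omega
  rw [atm_def, atm_def, if_pos h6, if_pos (by omega)]

theorem Pres.restrict {n N k : ℕ} {F : ℕ → G} {RL RL' : List (List ℕ)} (h : Pres N k RL F)
    {H : List Hint} (hc : (decide (n ≤ N) && RL'.all (fun l => l.all (· < 2 * n)) &&
      consAll (2 * k) RL RL' H) = true) : Pres n k RL' F := by
  simp only [Bool.and_eq_true, decide_eq_true_eq, List.all_eq_true] at hc
  exact ⟨fun j h1 h2 => h.sq j h1 (by omega), fun l hl => by
    rw [← ev_atm_lt hc.1.1 F (hc.1.2 l hl)]; exact (h.cons hc.2).rel l hl⟩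

/-- replacement of an atom by a word -/
def repl (y : ℕ) (u : List ℕ) (l : List ℕ) : List ℕ := l.flatMap fun x => if x = y then u else [x]

theorem ev_repl {a : ℕ → G} {y : ℕ} {u : List ℕ} (h : a y = ev a u) (l : List ℕ) :
    ev a (repl y u l) = ev a l := by
  induction l with
  | nil => rfl
  | cons x l ih =>
    unfold repl at ih ⊢
    rw [List.flatMap_cons, ev_append, ih, ev_cons]
    split_ifs with e
    · rw [e, h]
    · simp

/-- consequences of the relators after a replacement -/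
theorem Pres.cons_repl {n k : ℕ} {F : ℕ → G} {RL L : List (List ℕ)} (h : Pres n k RL F) {y : ℕ}
    {u : List ℕ} {H : List Hint}
    (hc : (consAll (2 * k) RL [ivA (2 * k) y :: u] (H.take 1) &&
      consAll (2 * k) (RL ++ RL.map (repl y u)) L (H.drop 1)) = true) :
    ∀ l ∈ L, ev (atm n F) l = 1 := by
  rw [Bool.and_eq_true] at hc
  have h1 := consAll_sound h.ivOk h.rel hc.1 _ List.mem_cons_self
  rw [ev_cons, h.ivOk, inv_mul_eq_one] at h1
  refine consAll_sound h.ivOk (fun r hr => ?_) hc.2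
  rcases List.mem_append.mp hr with hr | hr
  · exact h.rel r hr
  · obtain ⟨l, hl, rfl⟩ := List.mem_map.mp hr
    rw [ev_repl h1, h.rel l hl]

theorem exists_ev {n : ℕ} {f : ℕ → G} {x : G} (hx : x ∈ gsub n f) : ∃ w, x = ev (atm n f) w := by
  induction hx using Subgroup.closure_induction with
  | mem x hx =>
    obtain ⟨j, hj, rfl⟩ := hx
    exact ⟨[2 * j], by rw [ev_cons, ev_nil, mul_one, atm_two_mul f hj]⟩
  | one => exact ⟨[], rfl⟩
  | mul x y _ _ hx hy =>
    obtain ⟨u, rfl⟩ := hx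
    obtain ⟨v, rfl⟩ := hy
    exact ⟨u ++ v, (ev_append _ _ _).symm⟩
  | inv x _ hx =>
    obtain ⟨u, rfl⟩ := hx
    exact ⟨invW 0 u [], by rw [ev_invW (ivOk_zero _ _), ev_nil, mul_one]⟩

end

/-- a central extension inside a bigger group, with auxiliary generators -/
theorem central_ext {n k M N : ℕ} {RL : List (List ℕ)} (b : Bound n k RL M) (hM : M ≠ 0)
    {G Δ : Type} [Group G] [Group Δ] {F : ℕ → G} {g : ℕ → Δ} (hg : Pres n k RL g)
    (hc : M ∣ Nat.card (gsub n g)) (hs : IsSimpleGroup (gsub n g)) {z : G}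
    (hm : ∀ j < N, F j ∈ gsub n F) (hz : z ∈ gsub n F) (hcm : ∀ j < n, F j * z = z * F j)
    {RL0 WD : List (List ℕ)} {H : List Hint}
    (hR : ∀ l ∈ RL0, ev (atm N F) l ∈ Subgroup.zpowers z)
    (h : (decide (n ≤ N) && (List.range k).all (fun j => RL0.contains [2 * j, 2 * j]) &&
      elimChk (2 * k) n N RL0 WD && consAll (2 * k) (RL0.map (subW (2 * k) N WD)) RL H) = true)
    {x y : ℕ} (hi : x % 2 = 0 ∧ y % 2 = 0) (hw : ev (atm n F) [x, y, x + 1, y + 1] ≠ 1) :
    ∃ ψ : gsub n F →* gsub n g, Function.Surjective ψ ∧ Subgroup.center (gsub n F) = ψ.ker ∧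
      Nat.card ψ.ker = orderOf z ∧ (∀ u : gsub n F, u ∈ ψ.ker ↔ u.1 ∈ Subgroup.zpowers z) ∧
      ∀ j < n, ψ (lift (gsub n F) F j) = lift (gsub n g) g j := by
  set K := gsub n F
  have e : ∀ j < N, K.subtype (lift K F j) = F j := fun j hj => lift_coe (hm j hj)
  have hZ : (Subgroup.zpowers z).subgroupOf K ≤ Subgroup.center K := by
    rintro u ⟨m, hm⟩
    refine Subgroup.mem_center_iff.mpr fun v => Subtype.ext ?_
    have : Commute v.1 u.1 := by
      rw [show u.1 = z ^ m from hm.symm]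
      exact Commute.zpow_right (comm_of_gens hcm _ v.2) m
    exact this
  have : ((Subgroup.zpowers z).subgroupOf K).Normal := ⟨fun u hu v => by
    rwa [Subgroup.mem_center_iff.mp (hZ hu) v, mul_inv_cancel_right]⟩
  obtain ⟨h1, ψ, h2, h3, h4⟩ := exists_quot b hM (gsub_lift n F) hZ
    (Pres.elim (fun l hl => by
      rw [← ev_atm_map]
      refine (QuotientGroup.eq_one_iff _).mpr ?_
      rw [Subgroup.mem_subgroupOf, ← Subgroup.subtype_apply, ev_atm_map' e]
      exact hR l hl) h) hg hc hs hi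
    (fun e1 => hw (by rw [← ev_atm_map' (lift_gsub F), e1, map_one]))
  refine ⟨ψ, h2, h1.trans h3.symm, ?_, fun u => by rw [h3]; rfl, h4⟩
  rw [h3, Nat.card_congr (Subgroup.subgroupOfEquivOfLe (Subgroup.zpowers_le.mpr hz)).toEquiv,
    Nat.card_zpowers]

namespace MRep

variable {A : PA} {R : Type} [CommRing R] {Γ : Type} [Group Γ] {X : MRep A R Γ}

theorem Gens.of_M {TT : List ℕ} {n : ℕ} (h : A.gensOk TT n = true)
    (hm : ∀ j < n, X.M (nth A.one TT (2 * j))) : X.Gens TT (atm n (X.gen TT)) :=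
  Gens.of h fun j hj => (hm j hj).ρ_el

theorem allM {TT : List ℕ} {n : ℕ} {L : List ℕ} (h : AllP X.M L)
    (e : (List.range n).map (fun j => nth A.one TT (2 * j)) = L) :
    ∀ j < n, X.M (nth A.one TT (2 * j)) := fun j hj =>
  h.forall _ (e ▸ List.mem_map_of_mem (List.mem_range.mpr hj))

theorem Gens.isW {TT : List ℕ} {a : ℕ → Γ} (h : X.Gens TT a) {w : List ℕ} {x : ℕ}
    (hc : A.isW TT w x = true) : X.M x ∧ X.el x = ev a w := by
  rw [← Nat.beq_eq.mp hc]; exact h.ev1 w

theorem M.prod {L : List ℕ} (h : AllP X.M L) {x : ℕ} (hx : X.M x) :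
    X.M (A.prod L x) ∧ X.el (A.prod L x) = X.el x * (L.map X.el).prod := by
  induction L generalizing x with
  | nil => exact ⟨hx, by simp [PA.prod]⟩
  | cons y L ih =>
    obtain ⟨h1, h2⟩ := ih h.2 (hx.mul h.1)
    refine ⟨h1, h2.trans ?_⟩
    rw [hx.el_mul h.1, List.map_cons, List.prod_cons, mul_assoc]

theorem M.of_prod {L : List ℕ} (h : AllP X.M L) {x : ℕ} (hc : Nat.beq (A.prod L A.one) x = true) :
    X.M x := Nat.beq_eq.mp hc ▸ (M.prod h X.M_one).1

theorem M.inv {x y : ℕ} (hx : X.M x) (h : band (A.can y) (Nat.beq (A.mul x y) A.one) = true) :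
    X.M y ∧ X.el y = (X.el x)⁻¹ := by
  rw [band_eq, Bool.and_eq_true, Nat.beq_eq] at h
  have m := hx.divL (PA.can_sq X.sq h.1) (h.2.symm ▸ X.M_one)
  exact ⟨m, eq_inv_of_mul_eq_one_right (by rw [← hx.el_mul m, h.2, el_one])⟩

theorem Gens.mem_of_L {TT : List ℕ} {a : ℕ → Γ} (h : X.Gens TT a) {Z : Subgroup Γ} {ZL : List ℕ}
    (hZ : AllP (fun x => X.el x ∈ Z) ZL) {RL : List (List ℕ)}
    (hc : AllP (fun w => memL ZL (A.evw TT w A.one) = true) RL) : ∀ l ∈ RL, ev a l ∈ Z :=
  fun l hl => (h.ev1 l).2 ▸ hZ.forall _ ((memL_iff _ _).mp (hc.forall l hl))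

theorem Gens.all_one {TT : List ℕ} {a : ℕ → Γ} (h : X.Gens TT a) {RL : List (List ℕ)}
    (hc : AllP (fun w => A.isW TT w A.one = true) RL) : ∀ l ∈ RL, ev a l = 1 :=
  fun l hl => h.eq_one (hc.forall l hl)

theorem M.comm {x y : ℕ} (hx : X.M x) (hy : X.M y) (h : Nat.beq (A.mul x y) (A.mul y x) = true) :
    X.el x * X.el y = X.el y * X.el x := by
  rw [← hx.el_mul hy, Nat.beq_eq.mp h, hy.el_mul hx]

theorem Gens.comm {TT : List ℕ} {n N : ℕ} (h : X.Gens TT (atm N (X.gen TT))) {z : ℕ} (hz : X.M z)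
    (hc : allN (fun j => Nat.beq (A.mul (nth A.one TT (2 * j)) z) (A.mul z (nth A.one TT (2 * j))))
      n = true) : ∀ j < n, X.gen TT j * X.el z = X.el z * X.gen TT j :=
  fun j hj => (h _).1.comm hz ((allN_iff _ _).mp hc j hj)

/-- the subgroup generated by matrices, with its natural representation -/
theorem Gens.lift {TT : List ℕ} {N : ℕ} {F : ℕ → Γ} (h : X.Gens TT (atm N F)) {K : Subgroup Γ}
    (hm : ∀ j < N, F j ∈ K) :
    (X.comp K.subtype K.subtype_injective).Gens TT (atm N (Spor.lift K F)) :=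
  h.comp _ fun j hj => lift_coe (hm j hj)

end MRep

end Cfsg.Agent.Spor
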