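import Cfsg.Agent.Spor.DE
import Cfsg.Agent.Spor.Sub3

set_option autoImplicit false

namespace Cfsg.Agent.Spor

open Equiv

section
variable {Γ G : Type*} [Group Γ] [Group G] {ι : Type} {ψ : Γ →* G} {x : ι → G} {S : ι → Subgroup Γ}

/-- a covering by double cosets -/
structure DCov (ψ : Γ →* G) (x : ι → G) (S : ι → Subgroup Γ) : Prop where
  st : ∀ j, ∀ s ∈ S j, ∃ b, x j = ψ b * x j * ψ s
  cov : ∀ g, ∃ j b c, g = ψ b * x j * ψ c

/-- the map from the union of the coset spaces -/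
def DCov.F (h : DCov ψ x S) (p : Σ j, Γ ⧸ S j) : G ⧸ ψ.range :=
  Quotient.liftOn' p.2 (fun c => ((ψ c * (x p.1)⁻¹ : G) : G ⧸ ψ.range)) fun c d e => by
    obtain ⟨b, hb⟩ := h.st _ _ (QuotientGroup.leftRel_apply.mp e)
    refine QuotientGroup.eq.mpr ⟨b⁻¹, ?_⟩
    rw [map_mul, map_inv] at hb
    rw [map_inv, mul_inv_rev, inv_inv, ← mul_assoc, eq_mul_inv_iff_mul_eq, inv_mul_eq_iff_eq_mul]
    simpa only [mul_assoc] using hb

theorem DCov.F_mk (h : DCov ψ x S) (j : ι) (c : Γ) :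
    h.F ⟨j, c⟩ = ((ψ c * (x j)⁻¹ : G) : G ⧸ ψ.range) := rfl

theorem DCov.surj (h : DCov ψ x S) : Function.Surjective h.F := by
  rintro ⟨g⟩
  obtain ⟨j, b, c, e⟩ := h.cov g⁻¹
  refine ⟨⟨j, (c⁻¹ : Γ)⟩, QuotientGroup.eq.mpr ⟨b⁻¹, ?_⟩⟩
  rw [inv_eq_iff_eq_inv.mp e]
  simp

variable [Fintype ι] [Finite Γ]

theorem card_sigma_quot (S : ι → Subgroup Γ) : Nat.card (Σ j, Γ ⧸ S j) = ∑ j, (S j).index := by
  rw [Nat.card_sigma]; rfl

theorem DCov.finite (h : DCov ψ x S) : Finite G := by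
  have h1 : Finite (G ⧸ ψ.range) := Finite.of_surjective _ h.surj
  have h2 : Finite ψ.range := Finite.of_surjective _ ψ.rangeRestrict_surjective
  exact Finite.of_equiv _ (Subgroup.groupEquivQuotientProdSubgroup (s := ψ.range)).symm

theorem DCov.index_le (h : DCov ψ x S) : ψ.range.index ≤ ∑ j, (S j).index := by
  rw [← card_sigma_quot]
  exact Nat.card_le_card_of_surjective _ h.surj

/-- the double cosets are distinct and the stabilisers are exact -/
structure DExact (ψ : Γ →* G) (x : ι → G) (S : ι → Subgroup Γ) (N : ℕ) : Prop where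
  inj : Function.Injective ψ
  index : ψ.range.index = N
  sum : ∑ j, (S j).index = N
  card : Nat.card G = Nat.card Γ * N
  ex : ∀ i j b c, x i = ψ b * x j * ψ c → i = j ∧ c ∈ S i

theorem DCov.card_le (h : DCov ψ x S) {N : ℕ} (hN : ∑ j, (S j).index ≤ N) :
    Nat.card G ≤ Nat.card Γ * N := by
  rw [← ψ.range.card_mul_index]
  exact Nat.mul_le_mul (Nat.card_le_card_of_surjective _ ψ.rangeRestrict_surjective)
    (h.index_le.trans hN)

theorem DCov.exact (h : DCov ψ x S) {N : ℕ} (hN : ∑ j, (S j).index ≤ N)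
    (hG : Nat.card Γ * N ∣ Nat.card G) : DExact ψ x S N := by
  have hf := h.finite
  have h0 := Nat.le_of_dvd Nat.card_pos hG
  have h1 := h.index_le
  have h2 : Nat.card ψ.range ≤ Nat.card Γ :=
    Nat.card_le_card_of_surjective _ ψ.rangeRestrict_surjective
  have h3 := ψ.range.card_mul_index
  have h4 : ψ.range.index = N := le_antisymm (h1.trans hN)
    (Nat.le_of_mul_le_mul_left (h0.trans (h3 ▸ Nat.mul_le_mul_right _ h2)) Nat.card_pos)
  have h5 : 0 < N := h4 ▸ Nat.pos_of_ne_zero Subgroup.FiniteIndex.index_ne_zero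
  have h6 : Nat.card Γ ≤ Nat.card ψ.range :=
    Nat.le_of_mul_le_mul_right (h0.trans (by rw [← h3, h4])) h5
  have h7 : ∑ j, (S j).index = N := le_antisymm hN (h4 ▸ h1)
  have h8 := h.surj.bijective_of_nat_card_le (by rw [card_sigma_quot, h7, ← h4]; rfl)
  refine ⟨fun a b e => (ψ.rangeRestrict_surjective.bijective_of_nat_card_le h6).1 (Subtype.ext e),
    h4, h7, le_antisymm (h.card_le hN) h0, fun i j b c e => ?_⟩
  have h9 : h.F ⟨i, (1 : Γ)⟩ = h.F ⟨j, (c⁻¹ : Γ)⟩ :=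
    QuotientGroup.eq.mpr ⟨b, by rw [e]; simp⟩
  have h10 := h8.1 h9
  obtain rfl : i = j := congrArg Sigma.fst h10
  refine ⟨rfl, ?_⟩
  have := QuotientGroup.eq.mp (eq_of_heq (Sigma.mk.inj h10).2)
  simpa using this

omit [Finite Γ] in
theorem DExact.core {N : ℕ} (h : DExact ψ x S N) {i : ι} (hi : (S i).normalCore = ⊥) :
    ψ.range.normalCore = ⊥ := by
  rw [eq_bot_iff]
  intro g hg
  obtain ⟨c, rfl⟩ := ψ.range.normalCore_le hg
  have h1 : ψ.range.normalCore.comap ψ ≤ S i := fun d hd => by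
    obtain ⟨b, hb⟩ := hd (x i)
    exact (h.ex i i b⁻¹ d (by rw [map_inv, hb]; group)).2
  have h2 : c ∈ (S i).normalCore := Subgroup.normal_le_normalCore.mpr h1 hg
  rw [hi, Subgroup.mem_bot] at h2
  rw [h2, map_one]; exact one_mem _

omit [Fintype ι] [Finite Γ] in
theorem DCov.coatom (h : DCov ψ x S) (hne : ψ.range ≠ ⊤) {t : G}
    (hg : ∀ K : Subgroup G, ψ.range ≤ K → t ∈ K → K = ⊤)
    (hl : ∀ i, x i ∈ ψ.range ∨ ∃ a b c, x i * ψ a * t = ψ b * x i * ψ c) : IsCoatom ψ.range := by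
  refine ⟨hne, fun K hK => hg K hK.le ?_⟩
  obtain ⟨y, hyK, hyH⟩ := SetLike.exists_of_lt hK
  obtain ⟨j, b, c, rfl⟩ := h.cov y
  have m : ∀ a, ψ a ∈ K := fun a => hK.le ⟨a, rfl⟩
  have h1 : x j ∈ K := by
    simpa [mul_assoc] using K.mul_mem (K.mul_mem (K.inv_mem (m b)) hyK) (K.inv_mem (m c))
  rcases hl j with h2 | ⟨a, b', c', e⟩
  · exact absurd (ψ.range.mul_mem (ψ.range.mul_mem ⟨b, rfl⟩ h2) ⟨c, rfl⟩) hyH
  · rw [← inv_mul_eq_iff_eq_mul.mpr e.symm]
    exact K.mul_mem (K.inv_mem (K.mul_mem h1 (m a))) (K.mul_mem (K.mul_mem (m b') h1) (m c'))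

end

/-- simplicity from a maximal subgroup and an element of coprime order -/
theorem simple_of_coatom {G : Type*} [Group G] [Finite G] {H : Subgroup G} (hH : IsCoatom H)
    (hcore : H.normalCore = ⊥) {g : G} {p : ℕ} (hg : g ^ p = 1) (hp : Nat.Coprime p (Nat.card H))
    (hn : ∀ N : Subgroup G, N.Normal → g ∈ N → N = ⊤) : IsSimpleGroup G := by
  have : Nontrivial G := by
    by_contra hc
    rw [not_nontrivial_iff_subsingleton] at hc
    exact hH.1 (Subsingleton.elim _ _)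
  refine ⟨fun N hN => ?_⟩
  by_cases h0 : N ≤ H
  · exact Or.inl (eq_bot_iff.mpr (hcore ▸ Subgroup.normal_le_normalCore.mpr h0))
  refine Or.inr (hn N hN ?_)
  have h1 : H ⊔ N = ⊤ := hH.2 _ (left_lt_sup.mpr h0)
  have h2 : H.map (QuotientGroup.mk' N) = ⊤ := by
    have := congrArg (Subgroup.map (QuotientGroup.mk' N)) h1
    rwa [Subgroup.map_sup, QuotientGroup.map_mk'_self, sup_bot_eq, ← MonoidHom.range_eq_map,
      QuotientGroup.range_mk'] at this
  have h3 : orderOf (QuotientGroup.mk' N g) ∣ Nat.card H :=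
    (Subgroup.orderOf_dvd_natCard _ (h2 ▸ Subgroup.mem_top _)).trans (Subgroup.card_map_dvd _ _)
  have h4 : orderOf (QuotientGroup.mk' N g) ∣ p :=
    orderOf_dvd_of_pow_eq_one (by rw [← map_pow, hg, map_one])
  exact (QuotientGroup.eq_one_iff _).mp (orderOf_eq_one_iff.mp (Nat.eq_one_of_dvd_coprimes hp h4 h3))

section
variable {Γ : Type*} [Group Γ] {H : Subgroup Γ} {φ : Γ →* Perm ℕ} {N : ℕ}

/-- a coset action recognised by counting -/
theorem CosetAct.of_count [Finite Γ] (h1 : ∀ x ∈ H, φ x 0 = 0)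
    (h2 : orbS φ.range 0 = {c | (ones N).testBit c = true}) {s : ℕ} (hs : s ∣ Nat.card H)
    (hc : Nat.card Γ = N * s) : CosetAct H φ N := by
  let K := (MulAction.stabilizer (Perm ℕ) 0).comap φ
  have h3 : CosetAct K φ N := ⟨fun _ => Iff.rfl, fun c => by
    have := Set.ext_iff.mp h2 c
    rw [Set.mem_ofPred_eq, tb_ones, decide_eq_true_eq] at this
    exact this.symm.trans ⟨fun ⟨_, ⟨x, e1⟩, e⟩ => ⟨x, e1 ▸ e⟩, fun ⟨x, e⟩ => ⟨_, ⟨x, rfl⟩, e⟩⟩⟩
  have h4 := K.index_mul_card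
  rw [h3.index, hc] at h4
  have h5 : 0 < N := h3.index ▸ Nat.pos_of_ne_zero Subgroup.FiniteIndex.index_ne_zero
  have h6 : H = K := Subgroup.eq_of_le_of_card_ge h1
    (Nat.eq_of_mul_eq_mul_left h5 h4 ▸ Nat.le_of_dvd Nat.card_pos hs)
  rwa [h6]

theorem CosetAct.core_of_fix (h : CosetAct H φ N) (hc : H.normalCore = ⊥) {S : Subgroup Γ} {p : ℕ}
    (hp : p < N) (hS : ∀ s ∈ S, φ s p = p) : S.normalCore = ⊥ := by
  obtain ⟨x, rfl⟩ := (h.orb p).mp hp
  rw [eq_bot_iff, ← hc]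
  refine Subgroup.normal_le_normalCore.mpr fun g hg => (h.stab g).mp ?_
  have := hS _ (hg x)
  simpa using this

end

/-- letters (in application order) of a word of atoms -/
def toL (w : List ℕ) : List ℕ := (w.map (· + 1)).reverse

theorem evA_toL {Γ : Type*} [Group Γ] (v : ℕ → Γ) (w : List ℕ) :
    evA v (toL w) = ev (fun y => v (y + 1)) w := by
  induction w with
  | nil => rfl
  | cons y w ih =>
    unfold toL at ih ⊢
    rw [List.map_cons, List.reverse_cons, evA_append, ih, ev_cons]; simp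

theorem pvb_eq (P : List ℕ) (i : ℕ) : pvb P i = pv P i := by
  induction P with
  | nil => rfl
  | cons p P ih =>
    show Nat.land (Nat.shiftRight p i) 1 + 2 * pvb P i = _
    rw [ih, pv, Nat.toNat_testBit, shr_eq]
    congr 1
    exact Nat.and_one_is_mod _

theorem Tab.Ok.pl {T : Tab} {K : ℕ} (h : T.Ok K) (z : ℕ) {i : ℕ} (hi : i < 2 ^ K) :
    pvb (T.pl K z) i = T.τ z i := by
  rw [pvb_eq, Tab.pl, pv_map _ (T.τ z) _ _ fun x => SNet.tb_pull (h.sn z) x i,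
    pv_idpls (FixFrom.lt (h.fix z) hi) K 0 (zero_add K), pow_zero, Nat.div_one]

theorem Tab.nth_pls (T : Tab) (K m k : ℕ) {y : ℕ} (hy : y < m) :
    nth [] (T.pls K m k) y = T.pl K (k + y + 1) := by
  induction m generalizing k y with
  | zero => omega
  | succ m ih =>
    cases y with
    | zero => rfl
    | succ y => rw [show k + (y + 1) + 1 = k + 1 + y + 1 by omega, ← ih (k + 1) (by omega)]; rfl

theorem Tab.Ok.pt {T : Tab} {K : ℕ} (h : T.Ok K) {m : ℕ} {w : List ℕ} (hw : ∀ y ∈ w, y < m) :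
    Tab.pt (T.pls K m 0) w = ev (fun y => T.τ (y + 1)) w 0 ∧ Tab.pt (T.pls K m 0) w < 2 ^ K := by
  induction w with
  | nil => exact ⟨rfl, Nat.two_pow_pos K⟩
  | cons y w ih =>
    obtain ⟨h1, h2⟩ := ih fun z hz => hw z (List.mem_cons_of_mem _ hz)
    have e : Tab.pt (T.pls K m 0) (y :: w) = T.τ (y + 1) (Tab.pt (T.pls K m 0) w) := by
      show pvb (nth [] _ y) (Tab.pt _ w) = _
      rw [T.nth_pls K m 0 (hw y List.mem_cons_self), h.pl _ h2, zero_add]
    rw [e]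
    exact ⟨by rw [h1, ev_cons, Perm.mul_apply], FixFrom.lt (h.fix _) h2⟩

/-- the letters of the table describe the atoms -/
def Tab.Link {Γ : Type*} [Group Γ] (U : Tab) (φ : Γ →* Perm ℕ) (g : ℕ → Γ) (m : ℕ) : Prop :=
  ∀ y < m, φ (g y) = U.τ (y + 1)

theorem Tab.Link.ev {Γ : Type*} [Group Γ] {U : Tab} {φ : Γ →* Perm ℕ} {g : ℕ → Γ} {m : ℕ}
    (h : U.Link φ g m) {w : List ℕ} (hw : ∀ y ∈ w, y < m) :
    φ (ev g w) = ev (fun y => U.τ (y + 1)) w := by
  rw [ev_map]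
  unfold Spor.ev
  rw [List.map_congr_left fun y hy => h y (hw y hy)]

theorem Tab.Link.of {Γ : Type*} [Group Γ] {U : Tab} {φ : Γ →* Perm ℕ} {g : ℕ → Γ} {n : ℕ}
    (h : ∀ j < n, φ (g j) = U.τ (2 * j + 1))
    (h' : allN (fun j => band (Nat.beq (U.let (2 * j + 2)).ni (U.let (2 * j + 1)).ni)
      (xor (U.let (2 * j + 2)).inv (U.let (2 * j + 1)).inv)) n = true) :
    U.Link φ (atm n g) (2 * n) := fun y hy => by
  rw [atm_def, if_pos (by omega)]
  obtain ⟨j, rfl | rfl⟩ := Nat.even_or_odd' y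
  · rw [if_pos (by omega), show 2 * j / 2 = j by omega, h j (by omega)]
  · rw [if_neg (by omega), show (2 * j + 1) / 2 = j by omega, map_inv, h j (by omega),
      U.inv_letter ((allN_iff _ _).mp h' j (by omega))]

theorem Tab.Link.lsub_le {Γ : Type*} [Group Γ] {U : Tab} {φ : Γ →* Perm ℕ} {g : ℕ → Γ} {n m : ℕ}
    (h : U.Link φ (atm n g) m) {SW : List (List ℕ)}
    (hw : lall (lall fun y => Nat.blt y m) SW = true) :
    U.lsub (SW.map toL) = (wsub n g SW).map φ := by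
  simp only [lall_iff, Nat.blt_eq] at hw
  refine le_antisymm (Tab.lsub_le fun w hw' => ?_) ?_
  · obtain ⟨u, hu, rfl⟩ := List.mem_map.mp hw'
    exact ⟨_, mem_wsub g hu, by rw [evA_toL, h.ev (hw u hu)]⟩
  · rw [Subgroup.map_le_iff_le_comap]
    refine wsub_le fun u hu => ?_
    rw [Subgroup.mem_comap, h.ev (hw u hu), ← evA_toL]
    exact U.mem_lsub (List.mem_map_of_mem hu)

namespace DCtx

variable {D : DE} {R : Type} [CommRing R] {Γ : Type} [Group Γ] {G : Type} [Group G]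
  (Y : DCtx D R Γ G)

/-- the elements that can be moved through a given element -/
def stabS (x : G) : Subgroup Γ where
  carrier := {s | ∃ b, x = Y.ψ b * x * Y.ψ s}
  one_mem' := ⟨1, by simp⟩
  mul_mem' := by
    rintro s u ⟨b, hb⟩ ⟨c, hc⟩
    refine ⟨c * b, ?_⟩
    rw [map_mul, map_mul, ← mul_assoc, mul_assoc (Y.ψ c), mul_assoc (Y.ψ c), ← hb, ← hc]
  inv_mem' := by
    rintro s ⟨b, hb⟩
    refine ⟨b⁻¹, ?_⟩
    conv_rhs => rw [hb]
    simp [mul_assoc]

def stabL (x : G) : Subgroup Γ where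
  carrier := {b | ∃ s, x = Y.ψ b * x * Y.ψ s}
  one_mem' := ⟨1, by simp⟩
  mul_mem' := by
    rintro c b ⟨u, hc⟩ ⟨s, hb⟩
    refine ⟨s * u, ?_⟩
    rw [map_mul, map_mul, ← mul_assoc, mul_assoc (Y.ψ c), mul_assoc (Y.ψ c), ← hb, ← hc]
  inv_mem' := by
    rintro b ⟨s, hb⟩
    refine ⟨s⁻¹, ?_⟩
    conv_rhs => rw [hb]
    simp [mul_assoc]

def Good (j : ℕ) (J : List ℕ) (c : Γ) : Prop :=
  ∃ k ∈ J, ∃ b c', Y.sym j * Y.ψ c * Y.t = Y.ψ b * Y.sym k * Y.ψ c'

variable {Y} {m n : ℕ} {g : ℕ → Γ}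

theorem Upto.okS (hU : Y.Upto m) (hg : Y.X.Gens D.TT (atm n g)) {j : ℕ} {l : List ℕ}
    {W : List (List ℕ)} (h : D.okS m j l W = true) : wsub n g W ≤ Y.stabS (Y.sym j) := by
  refine wsub_le ?_
  induction l generalizing W with
  | nil => cases W with
    | nil => simp
    | cons => exact absurd h Bool.false_ne_true
  | cons id l ih =>
    obtain ⟨w, W', rfl, h1⟩ := onConsL_iff (l := W) h
    have h1 : band (Nat.blt id m) (band ((D.fc id).onC fun i' j' _ g =>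
      band (Nat.beq i' j) (band (Nat.beq j' j) (Nat.beq g (D.ev w)))) (D.okS m j l W')) = true := h1
    simp only [band_eq, Bool.and_eq_true, Nat.blt_eq] at h1
    obtain ⟨i', j', b, c, e, h2⟩ := Fc.onC_iff h1.2.1
    simp only [Bool.and_eq_true, Nat.beq_eq] at h2
    obtain ⟨rfl, rfl, rfl⟩ := h2
    have hv := hU _ h1.1
    rw [e] at hv
    intro u hu
    rcases List.mem_cons.mp hu with rfl | hu
    · exact ⟨Y.X.el b, by rw [← (v_ev hg u).2]; exact hv.2.2⟩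
    · exact ih h1.2.2 u hu

theorem Upto.okL (hU : Y.Upto m) (h0 : Y.sym 1 = Y.t) (hg : Y.X.Gens D.TT (atm n g)) {l : List ℕ}
    {W : List (List ℕ)} (h : D.okL m l W = true) : wsub n g W ≤ Y.stabL Y.t := by
  refine wsub_le ?_
  induction l generalizing W with
  | nil => cases W with
    | nil => simp
    | cons => exact absurd h Bool.false_ne_true
  | cons id l ih =>
    obtain ⟨w, W', rfl, h1⟩ := onConsL_iff (l := W) h
    have h1 : band (Nat.blt id m) (band ((D.fc id).onC fun i' j' b _ =>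
      band (Nat.beq i' 1) (band (Nat.beq j' 1) (Nat.beq b (D.ev w)))) (D.okL m l W')) = true := h1
    simp only [band_eq, Bool.and_eq_true, Nat.blt_eq] at h1
    obtain ⟨i', j', b, c, e, h2⟩ := Fc.onC_iff h1.2.1
    simp only [Bool.and_eq_true, Nat.beq_eq] at h2
    obtain ⟨rfl, rfl, rfl⟩ := h2
    have hv := hU _ h1.1
    rw [e] at hv
    intro u hu
    rcases List.mem_cons.mp hu with rfl | hu
    · exact ⟨Y.X.el c, by rw [← (v_ev hg u).2, ← h0]; exact hv.2.2⟩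
    · exact ih h1.2.2 u hu

theorem Upto.uw (hU : Y.Upto m) (h0 : Y.sym 1 = Y.t) {a : ℕ} (l : List ℕ) {c : ℕ} (hc : Y.X.M c)
    (h : D.uw m a l c = true) : (Y.X.el a)⁻¹ * Y.X.el c ∈ Y.stabL Y.t := by
  induction l generalizing c with
  | nil => rw [Nat.beq_eq.mp h, inv_mul_cancel]; exact one_mem _
  | cons id l ih =>
    have h1 : band (Nat.blt id m) ((D.fc id).onC fun i' j' b _ => band (Nat.beq i' 1)
      (band (Nat.beq j' 1) (D.uw m a l (D.A.mul c b)))) = true := h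
    simp only [band_eq, Bool.and_eq_true, Nat.blt_eq] at h1
    obtain ⟨i', j', b, s, e, h2⟩ := Fc.onC_iff h1.2
    simp only [Bool.and_eq_true, Nat.beq_eq] at h2
    obtain ⟨rfl, rfl, h3⟩ := h2
    have hv := hU _ h1.1
    rw [e] at hv
    have h4 := ih (hc.mul hv.1) h3
    rw [hc.el_mul hv.1, ← mul_assoc] at h4
    have h5 : Y.X.el b ∈ Y.stabL Y.t := ⟨_, by rw [← h0]; exact hv.2.2⟩
    simpa using mul_mem h4 (inv_mem h5)

theorem Good.mul_right {j : ℕ} {J : List ℕ} {c u : Γ} (h : Y.Good j J c) (hu : u ∈ Y.stabL Y.t) :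
    Y.Good j J (c * u) := by
  obtain ⟨k, hk, b, c', e⟩ := h
  obtain ⟨s, hs⟩ := inv_mem hu
  refine ⟨k, hk, b, c' * s, ?_⟩
  rw [map_mul, map_mul, ← mul_assoc _ (Y.ψ c'), ← e]
  conv_lhs => rw [hs]
  simp [mul_assoc]

theorem Good.mul_left {j : ℕ} {J : List ℕ} {c s : Γ} (h : Y.Good j J c) (hs : s ∈ Y.stabS (Y.sym j)) :
    Y.Good j J (s * c) := by
  obtain ⟨k, hk, b, c', e⟩ := h
  obtain ⟨u, hu⟩ := inv_mem hs
  refine ⟨k, hk, u * b, c', ?_⟩
  rw [map_mul, map_mul, mul_assoc (Y.ψ u), mul_assoc (Y.ψ u), ← e]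
  conv_lhs => rw [hu]
  simp [mul_assoc]

theorem good_zero (h0 : Y.sym 1 = Y.t) {J : List ℕ} (h : 1 ∈ J) (c : Γ) : Y.Good 0 J c :=
  ⟨1, h, c, 1, by rw [sym_zero, h0]; simp⟩

theorem Upto.okEd (hU : Y.Upto m) (h0 : Y.sym 1 = Y.t) (hg : Y.X.Gens D.TT g) {j : ℕ} {J : List ℕ}
    {e : Ed} (h : D.okEd m j J e = true) : Y.Good j J (ev g e.w) := by
  simp only [DE.okEd, band_eq, Bool.and_eq_true, Nat.blt_eq] at h
  obtain ⟨i', k, a, b, c, e1, h2⟩ := Fc.onE_iff h.2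
  simp only [Bool.and_eq_true, Nat.beq_eq, memL_iff] at h2
  obtain ⟨rfl, hk, h3⟩ := h2
  have hv := hU _ h.1
  rw [e1] at hv
  have h4 := hU.uw h0 _ (hg.ev1 e.w).1 h3
  have h5 : Y.Good i' J (Y.X.el a) := ⟨k, hk, _, _, hv.2.2.2⟩
  have h6 := h5.mul_right h4
  rwa [mul_inv_cancel_left, (hg.ev1 e.w).2] at h6

theorem Upto.loop (hU : Y.Upto m) {j id : ℕ} (h : D.loop m j id = true) :
    ∃ a b c, Y.sym j * Y.ψ a * Y.t = Y.ψ b * Y.sym j * Y.ψ c := by
  simp only [DE.loop, band_eq, Bool.and_eq_true, Nat.blt_eq] at h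
  obtain ⟨i', k, a, b, c, e1, h2⟩ := Fc.onE_iff h.2
  simp only [Bool.and_eq_true, Nat.beq_eq] at h2
  obtain ⟨rfl, rfl⟩ := h2
  have hv := hU _ h.1
  rw [e1] at hv
  exact ⟨_, _, _, hv.2.2.2⟩

/-- the points of the mask are good -/
def Cov (Y : DCtx D R Γ G) (φ : Γ →* Perm ℕ) (j : ℕ) (J : List ℕ) (M : ℕ) : Prop :=
  ∀ c, M.testBit (φ c 0) = true → Y.Good j J c

/-- everything that is needed to check coverings -/
structure Env (Y : DCtx D R Γ G) (m n : ℕ) (g : ℕ → Γ) (φ : Γ →* Perm ℕ) (N : ℕ) (U : Tab) (K : ℕ) :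
    Prop where
  up : Y.Upto m
  one : Y.sym 1 = Y.t
  gens : Y.X.Gens D.TT (atm n g)
  act : ∃ L, CosetAct L φ N ∧ L ≤ Y.stabL Y.t
  ok : U.Ok K
  link : U.Link φ (atm n g) (2 * n)

variable {φ : Γ →* Perm ℕ} {N K : ℕ} {U : Tab} {j : ℕ} {J : List ℕ}

theorem Env.edges (E : Y.Env m n g φ N U K) {l : List Ed} {M : ℕ}
    (h1 : lall (D.okEd m j J) l = true)
    (h2 : band (lall (fun e => lall (fun y => Nat.blt y (2 * n)) e.w) l)
      (sub M (edMask (U.pls K (2 * n) 0) l)) = true) : Y.Cov φ j J M := by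
  simp only [band_eq, Bool.and_eq_true, lall_iff, Nat.blt_eq, sub_iff] at h1 h2
  obtain ⟨h2, h3⟩ := h2
  obtain ⟨L, hL, hle⟩ := E.act
  intro c hc
  have h4 := h3 _ hc
  clear h3 hc
  induction l with
  | nil => exact absurd h4 (by show ¬ (0 : ℕ).testBit _ = true; simp)
  | cons e l ih =>
    have h5 : (Nat.lor (Nat.shiftLeft 1 (Tab.pt (U.pls K (2 * n) 0) e.w))
      (edMask (U.pls K (2 * n) 0) l)).testBit (φ c 0) = true := h4
    rw [tb_lor, Bool.or_eq_true, tb_shl_one, decide_eq_true_eq] at h5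
    rcases h5 with h5 | h5
    · have h6 := h2 e List.mem_cons_self
      rw [(E.ok.pt h6).1, ← E.link.ev h6] at h5
      have h7 : (ev (atm n g) e.w)⁻¹ * c ∈ L := by
        rw [← hL.stab, map_mul, Perm.mul_apply, ← h5, map_inv]; simp
      simpa using (E.up.okEd E.one E.gens (h1 e List.mem_cons_self)).mul_right (hle h7)
    · exact ih (fun x hx => h1 x (List.mem_cons_of_mem _ hx))
        (fun x hx => h2 x (List.mem_cons_of_mem _ hx)) h5

theorem Cov.lor {M M' : ℕ} (h : Y.Cov φ j J M) (h' : Y.Cov φ j J M') : Y.Cov φ j J (Nat.lor M M') :=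
  fun c hc => by
    rw [tb_lor, Bool.or_eq_true] at hc
    exact hc.elim (h c) (h' c)

theorem Cov.grow (hU : U.Ok K) {W : List (List ℕ)} (hW : U.lsub W ≤ (Y.stabS (Y.sym j)).map φ)
    {M M' : ℕ} (h : Y.Cov φ j J M) {l : List ℕ} (hc : sub M' (U.growI W l M) = true) :
    Y.Cov φ j J M' := by
  suffices Y.Cov φ j J (U.growI W l M) from fun c hc' => this c ((sub_iff _ _).mp hc _ hc')
  clear hc
  induction l generalizing M with
  | nil => exact h
  | cons i l ih =>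
    refine ih (M := Nat.lor M (U.pushL (nth [] W i) M)) (h.lor fun c hc => ?_)
    obtain ⟨s, hs, e⟩ := hW (U.nth_mem_lsub W i)
    have h1 : φ c 0 = evA U.τ (nth [] W i) (φ (s⁻¹ * c) 0) := by rw [← e]; simp
    rw [h1, hU.tb_pushL] at hc
    simpa using (h _ hc).mul_left hs

/-- data of a double coset: symbol, generators and order of the stabiliser -/
abbrev CosD := ℕ × List (List ℕ) × ℕ

structure CosOk (Y : DCtx D R Γ G) (n : ℕ) (g : ℕ → Γ) (J : List ℕ) (x : CosD) : Prop where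
  st : wsub n g x.2.1 ≤ Y.stabS (Y.sym x.1)
  lb : x.2.2 ∣ Nat.card (wsub n g x.2.1)
  good : ∀ c, Y.Good x.1 J c

theorem Env.hW (E : Y.Env m n g φ N U K) {SW W : List (List ℕ)} {l : List ℕ}
    (h : D.okS m j l SW = true)
    (hw : (lall (lall fun y => Nat.blt y (2 * n)) SW && (W == SW.map toL)) = true) :
    U.lsub W ≤ (Y.stabS (Y.sym j)).map φ := by
  rw [Bool.and_eq_true, beq_iff_eq] at hw
  rw [hw.2, E.link.lsub_le hw.1]
  exact Subgroup.map_mono (E.up.okS E.gens h)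

theorem Env.cos (E : Y.Env m n g φ N U K) {SW : List (List ℕ)} {l : List ℕ} {s : ℕ}
    (h : D.okS m j l SW = true) (hs : s ∣ Nat.card (wsub n g SW)) (hc : Y.Cov φ j J (ones N)) :
    Y.CosOk n g J (j, SW, s) := by
  obtain ⟨L, hL, -⟩ := E.act
  exact ⟨E.up.okS E.gens h, hs, fun c => hc c (by
    rw [tb_ones, decide_eq_true_eq]; exact (hL.orb _).mpr ⟨c, rfl⟩)⟩

theorem dcov {CL : List CosD} (h : AllP (Y.CosOk n g (CL.map (·.1))) CL) (h0 : 0 ∈ CL.map (·.1))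
    (hi : ∃ p q, Y.t⁻¹ = Y.ψ p * Y.t * Y.ψ q)
    (hg : ∀ K : Subgroup G, Y.ψ.range ≤ K → Y.t ∈ K → K = ⊤) :
    DCov Y.ψ (fun i : Fin CL.length => Y.sym CL[i].1) fun i => wsub n g CL[i].2.1 := by
  refine ⟨fun i s hs => (h.forall _ (List.getElem_mem _)).st hs, ?_⟩
  let Q : G → Prop := fun g => ∃ (j : Fin CL.length) (b c : Γ), g = Y.ψ b * Y.sym CL[j].1 * Y.ψ c
  have ix : ∀ k ∈ CL.map (·.1), ∃ j : Fin CL.length, CL[j].1 = k := fun k hk => by
    obtain ⟨x, hx, rfl⟩ := List.mem_map.mp hk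
    obtain ⟨j, hj, rfl⟩ := List.getElem_of_mem hx
    exact ⟨⟨j, hj⟩, rfl⟩
  have q1 : ∀ a x, Q x → Q (x * Y.ψ a) := by
    rintro a _ ⟨j, b, c, rfl⟩
    exact ⟨j, b, c * a, by rw [map_mul, mul_assoc]⟩
  have q2 : ∀ x, Q x → Q (x * Y.t) := by
    rintro _ ⟨j, b, c, rfl⟩
    obtain ⟨k, hk, b', c', e⟩ := (h.forall _ (List.getElem_mem j.2)).good c
    obtain ⟨i, rfl⟩ := ix k hk
    refine ⟨i, b * b', c', ?_⟩
    rw [map_mul, mul_assoc (Y.ψ b), mul_assoc (Y.ψ b), mul_assoc (Y.ψ b), mul_assoc (Y.ψ b)]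
    exact congrArg _ e
  let K : Subgroup G :=
    { carrier := {y | ∀ x, Q (x * y) ↔ Q x}
      one_mem' := fun x => by rw [mul_one]
      mul_mem' := fun {y z} hy hz x => by rw [← mul_assoc, hz, hy]
      inv_mem' := fun {y} hy x => by rw [← hy, inv_mul_cancel_right] }
  have hK : K = ⊤ := hg K (by
    rintro _ ⟨a, rfl⟩ x
    exact ⟨fun hx => by simpa using q1 a⁻¹ _ hx, q1 a x⟩) fun x => ⟨fun hx => by
      obtain ⟨p, q, e⟩ := hi
      have := q1 q _ (q2 _ (q1 p _ hx))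
      rwa [mul_assoc, mul_assoc, ← mul_assoc (Y.ψ p), ← e, mul_inv_cancel_right] at this, q2 x⟩
  intro y
  have := (hK ▸ Subgroup.mem_top y : y ∈ K) 1
  rw [one_mul] at this
  obtain ⟨i, hi⟩ := ix 0 h0
  exact this.mpr ⟨i, 1, 1, by rw [hi, sym_zero]; simp⟩

theorem index_le [Finite Γ] {x : CosD} (h : Y.CosOk n g J x) {M : ℕ} (hM : Nat.card Γ = M) :
    (wsub n g x.2.1).index ≤ M / x.2.2 := by
  obtain ⟨k, hk⟩ := h.lb
  have h1 := (wsub n g x.2.1).index_mul_card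
  have h2 : 0 < Nat.card (wsub n g x.2.1) := Nat.card_pos
  rw [hk] at h1 h2
  rw [Nat.le_div_iff_mul_le (Nat.pos_of_mul_pos_right h2), ← hM, ← h1]
  exact Nat.mul_le_mul_left _ (Nat.le_mul_of_pos_right _ (Nat.pos_of_mul_pos_left h2))

theorem sum_le [Finite Γ] {CL : List CosD} (h : AllP (Y.CosOk n g J) CL) {M : ℕ}
    (hM : Nat.card Γ = M) :
    ∑ i : Fin CL.length, (wsub n g CL[i].2.1).index ≤ (CL.map fun x => M / x.2.2).sum := by
  rw [← Fin.sum_univ_fun_getElem]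
  exact Finset.sum_le_sum fun i _ => index_le (h.forall _ (List.getElem_mem _)) hM

end DCtx

end Cfsg.Agent.Spor
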