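import Cfsg.Agent.Spor.TT3

set_option autoImplicit false

namespace Cfsg.Agent.Spor

open Equiv

section
variable {G : Type*} [Group G]

theorem commutator_le_of_index_dvd_two {N : Subgroup G} (h : N.index ∣ 2) : commutator G ≤ N := by
  rcases (Nat.dvd_prime Nat.prime_two).mp h with h4 | h4
  · rw [Subgroup.index_eq_one.mp h4]; exact le_top
  · rw [commutator_def, Subgroup.commutator_le]
    intro x _ y _
    simp only [commutatorElement_def, Subgroup.mul_mem_iff_of_index_two h4, inv_mem_iff]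
    tauto

/-- a regular normal subgroup has at most as many orders of non-trivial elements as there are
non-trivial suborbits -/
theorem no_regular {H N : Subgroup G} [hN : N.Normal] [Finite G] (hd : N ⊓ H = ⊥) (hs : N ⊔ H = ⊤)
    {ι : Type*} (X : List ι) (P : ι → G → Prop) (hu : ∀ t x y, P t x → P t y → x = y)
    (hcov : ∀ g, g ∈ H ∨ ∃ t ∈ X, ∃ x, P t x ∧ ∃ a ∈ H, ∃ b ∈ H, g = a * x * b)
    (ps : List ℕ) (hp : ∀ p ∈ ps, p.Prime ∧ p ∣ H.index) (hn : ps.Nodup) : ps.length ≤ X.length := by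
  classical
  have hc : N.IsComplement' H := Subgroup.isComplement'_of_disjoint_and_mul_eq_univ
    (disjoint_iff.mpr hd) (by rw [← Subgroup.normal_mul, hs]; rfl)
  have key : ∀ p ∈ ps, ∃ t ∈ X, ∃ x, P t x ∧ ∃ a ∈ H, ∃ b ∈ H, a * x * b ∈ N ∧
      orderOf (a * x * b) = p := fun p hpp => by
    have : Fact p.Prime := ⟨(hp p hpp).1⟩
    obtain ⟨n, hn⟩ := exists_prime_orderOf_dvd_card' (G := N) p (hc.index_eq_card ▸ (hp p hpp).2)
    rcases hcov n with h | ⟨t, ht, x, hx, a, ha, b, hb, e⟩
    · have h1 : (n : G) ∈ N ⊓ H := ⟨n.2, h⟩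
      rw [hd, Subgroup.mem_bot] at h1
      rw [← Subgroup.orderOf_coe, h1, orderOf_one] at hn
      exact absurd hn.symm this.out.one_lt.ne'
    · exact ⟨t, ht, x, hx, a, ha, b, hb, e ▸ n.2, by rw [← e, Subgroup.orderOf_coe, hn]⟩
  choose t ht x hx a ha b hb hN' ho using key
  have hinj : Function.Injective fun p : {p // p ∈ ps} => (⟨t p.1 p.2, ht p.1 p.2⟩ : {t // t ∈ X}) := by
    rintro ⟨p, h1⟩ ⟨q, h2⟩ e
    have e1 : t p h1 = t q h2 := congrArg Subtype.val e
    have e2 : x p h1 = x q h2 := hu _ _ _ (hx p h1) (e1 ▸ hx q h2)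
    apply Subtype.ext
    show p = q
    rw [← ho p h1, ← ho q h2]
    set c := a q h2 * (a p h1)⁻¹ with hc'
    have h3 : (c * (a p h1 * x p h1 * b p h1) * c⁻¹)⁻¹ * (a q h2 * x q h2 * b q h2) ∈ N ⊓ H := by
      refine ⟨N.mul_mem (N.inv_mem (hN.conj_mem _ (hN' p h1) c)) (hN' q h2), ?_⟩
      have : (c * (a p h1 * x p h1 * b p h1) * c⁻¹)⁻¹ * (a q h2 * x q h2 * b q h2) =
          c * (b p h1)⁻¹ * b q h2 := by rw [hc', e2]; group
      rw [this]
      exact H.mul_mem (H.mul_mem (H.mul_mem (ha q h2) (H.inv_mem (ha p h1))) (H.inv_mem (hb p h1)))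
        (hb q h2)
    rw [hd, Subgroup.mem_bot, inv_mul_eq_one] at h3
    rw [← h3]
    exact ((MulAut.conj c).orderOf_eq _).symm
  have h1 := Fintype.card_le_of_injective _ hinj
  rw [Fintype.card_of_subtype ps.toFinset fun _ => List.mem_toFinset,
    Fintype.card_of_subtype X.toFinset fun _ => List.mem_toFinset,
    List.toFinset_card_of_nodup hn] at h1
  exact h1.trans X.toFinset_card_le

theorem simple_of_rank [Finite G] {H : Subgroup G} (hH : IsCoatom H) (hcore : H.normalCore = ⊥)
    {C : Subgroup H} (hC : ∀ M : Subgroup H, M.Normal → M = ⊥ ∨ C ≤ M) (h2 : C.index ∣ 2)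
    (hp : commutator G = ⊤)
    {ι : Type*} (X : List ι) (P : ι → G → Prop) (hu : ∀ t x y, P t x → P t y → x = y)
    (hcov : ∀ g, g ∈ H ∨ ∃ t ∈ X, ∃ x, P t x ∧ ∃ a ∈ H, ∃ b ∈ H, g = a * x * b)
    (ps : List ℕ) (hps : ∀ p ∈ ps, p.Prime ∧ p ∣ H.index) (hn : ps.Nodup)
    (hlt : X.length < ps.length) : IsSimpleGroup G := by
  have : Nontrivial G := by
    by_contra hc
    rw [not_nontrivial_iff_subsingleton] at hc
    exact hH.1 (Subsingleton.elim _ _)
  refine ⟨fun N hN => ?_⟩
  by_cases h1 : N ≤ H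
  · left
    rw [eq_bot_iff, ← hcore]
    exact Subgroup.normal_le_normalCore.mpr h1
  right
  have hs : N ⊔ H = ⊤ := hH.2 _ (right_lt_sup.mpr h1)
  rcases hC (N.subgroupOf H) inferInstance with h | h
  · rw [Subgroup.subgroupOf_eq_bot, disjoint_iff] at h
    exact absurd (no_regular h hs X P hu hcov ps hps hn) (not_le.mpr hlt)
  · have h3 : N.index ∣ 2 := by
      rw [← Subgroup.relIndex_top_right, ← hs, Subgroup.relIndex_sup_left]
      exact (Subgroup.index_dvd_of_le h).trans h2
    exact top_le_iff.mp (hp ▸ commutator_le_of_index_dvd_two h3)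

theorem normal_cases_congr {G' : Type*} [Group G'] (e : G ≃* G')
    (h : ∀ M : Subgroup G, M.Normal → M = ⊥ ∨ commutator G ≤ M) :
    ∀ M : Subgroup G', M.Normal → M = ⊥ ∨ commutator G' ≤ M := by
  intro M hM
  rcases h (M.comap e.toMonoidHom) (hM.comap _) with h1 | h1
  · left
    rw [eq_bot_iff]
    intro x hx
    obtain ⟨y, rfl⟩ := e.surjective x
    have : y ∈ M.comap e.toMonoidHom := hx
    rw [h1, Subgroup.mem_bot] at this
    simp [this]
  · right
    rw [commutator_def, Subgroup.commutator_le]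
    intro x _ y _
    obtain ⟨x, rfl⟩ := e.surjective x
    obtain ⟨y, rfl⟩ := e.surjective y
    rw [← map_commutatorElement]
    exact h1 (Subgroup.commutator_mem_commutator (Subgroup.mem_top _) (Subgroup.mem_top _))

theorem inj_of_normal_cases {Γ : Type*} [Group Γ]
    (h : ∀ M : Subgroup G, M.Normal → M = ⊥ ∨ commutator G ≤ M) (χ : G →* Γ) {x y : G}
    (hxy : χ x * χ y ≠ χ y * χ x) : Function.Injective χ := by
  rcases h χ.ker inferInstance with h1 | h1
  · exact (MonoidHom.ker_eq_bot_iff χ).mp h1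
  · have := h1 (Subgroup.commutator_mem_commutator (Subgroup.mem_top x) (Subgroup.mem_top y))
    rw [MonoidHom.mem_ker, map_commutatorElement, commutatorElement_eq_one_iff_mul_comm] at this
    exact absurd this hxy

theorem card_map_commutator {G' : Type*} [Group G'] (e : G ≃* G') :
    (commutator G').index = (commutator G).index := by
  have : commutator G' = (commutator G).map e.toMonoidHom := by
    rw [commutator_def, commutator_def, Subgroup.map_commutator, ← MonoidHom.range_eq_map,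
      MonoidHom.range_eq_top.mpr e.surjective]
  rw [this]
  exact Subgroup.index_map_equiv _ e

end

section
variable {n k : ℕ} {RL BW : List (List ℕ)} {fP : ℕ → Perm ℕ} {N : ℕ}

theorem map_wsub_lift (fP : ℕ → Perm ℕ) (BW : List (List ℕ)) :
    (wsub n (lift (gsub n fP) fP) BW).map (gsub n fP).subtype = wsub n fP BW :=
  wsub_map (lift_gsub fP) BW

/-- an injective homomorphism gives an isomorphism of the generated groups -/
theorem exists_equiv_of_inj {G Δ : Type*} [Group G] [Group Δ] {f : ℕ → G} {g : ℕ → Δ}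
    (ψ : gsub n f →* Δ) (h : ∀ j < n, ψ (lift (gsub n f) f j) = g j) (hi : Function.Injective ψ) :
    ∃ e : gsub n f ≃* gsub n g, ∀ j < n, e (lift (gsub n f) f j) = lift (gsub n g) g j :=
  ⟨(MonoidHom.ofInjective hi).trans (MulEquiv.subgroupCongr (range_eq_gsub h (gsub_lift n f))),
    fun j hj => Subtype.ext ((h j hj).trans (lift_gsub g j hj).symm)⟩

end

end Cfsg.Agent.Spor
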