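/-
Permutation groups of rank three on the points below `N`.
-/
import Cfsg.Agent.Spor.R3A
import Cfsg.Agent.Spor.Rank
import Cfsg.Agent.Spor.MatQ

set_option autoImplicit false

namespace Cfsg.Agent.Spor

open Equiv

theorem ncard_range_congr {α β γ : Type*} {f : α → β} {g : α → γ}
    (h : ∀ a a', f a = f a' ↔ g a = g a') : (Set.range f).ncard = (Set.range g).ncard := by
  have e : Setoid.ker f = Setoid.ker g := Setoid.ext h
  rw [← Nat.card_coe_set_eq, ← Nat.card_coe_set_eq,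
    ← Nat.card_congr (Setoid.quotientKerEquivRange f), ← Nat.card_congr (Setoid.quotientKerEquivRange g), e]

section
variable {A G : Subgroup (Perm ℕ)} {L : List ℕ}

theorem orbS_eq_range (A : Subgroup (Perm ℕ)) (p : ℕ) :
    orbS A p = Set.range fun g : A => g.1 p :=
  Set.ext fun _ => ⟨fun ⟨g, hg, e⟩ => ⟨⟨g, hg⟩, e⟩, fun ⟨g, e⟩ => ⟨g.1, g.2, e⟩⟩

theorem self_mem_orbS (A : Subgroup (Perm ℕ)) (p : ℕ) : p ∈ orbS A p := ⟨1, one_mem _, rfl⟩

theorem orbS_eq_of_mem {p q : ℕ} (h : q ∈ orbS A p) : orbS A q = orbS A p := by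
  obtain ⟨g, hg, rfl⟩ := h
  ext x
  constructor
  · rintro ⟨u, hu, rfl⟩
    exact ⟨u * g, mul_mem hu hg, rfl⟩
  · rintro ⟨u, hu, rfl⟩
    exact ⟨u * g⁻¹, mul_mem hu (inv_mem hg), by simp⟩

theorem StL_cons (A : Subgroup (Perm ℕ)) (L : List ℕ) (p : ℕ) :
    StL A (p :: L) = StL (StL A L) [p] := by
  ext g
  simp only [StL, ← SetLike.mem_coe, Subgroup.coe_set_mk, Submonoid.coe_set_mk,
    Subsemigroup.coe_set_mk, Set.mem_setOf_eq, List.mem_cons, forall_eq_or_imp, List.not_mem_nil]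
  tauto

theorem mem_StL1 {g : Perm ℕ} {p : ℕ} : g ∈ StL A [p] ↔ g ∈ A ∧ g p = p :=
  ⟨fun h => ⟨h.1, h.2 p List.mem_cons_self⟩,
    fun h => ⟨h.1, fun q hq => by rw [List.mem_singleton.mp hq, h.2]⟩⟩

theorem mem_StL2 {g : Perm ℕ} {p q : ℕ} : g ∈ StL A [p, q] ↔ g ∈ A ∧ g p = p ∧ g q = q := by
  rw [StL_cons, mem_StL1, mem_StL1]; tauto

theorem index_StL1 (A : Subgroup (Perm ℕ)) (p : ℕ) :
    (StL A [p]).relIndex A = (orbS A p).ncard := by
  rw [orbS_eq_range]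
  refine (ncard_range_eq_index _ fun x y => ?_).symm
  rw [Subgroup.mem_subgroupOf, mem_StL1]
  simp only [Subgroup.coe_mul, InvMemClass.coe_inv, Perm.mul_apply, Perm.inv_eq_iff_eq]
  exact ⟨fun h => ⟨mul_mem (inv_mem x.2) y.2, h.symm⟩, fun h => h.2.symm⟩

theorem card_of_relIndex {Γ : Type*} [Group Γ] {K H : Subgroup Γ} (h : K ≤ H) :
    K.relIndex H * Nat.card K = Nat.card H := by
  rw [← Nat.card_congr (Subgroup.subgroupOfEquivOfLe h).toEquiv]
  exact Subgroup.index_mul_card _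

theorem card_StL1 (A : Subgroup (Perm ℕ)) (p : ℕ) :
    (orbS A p).ncard * Nat.card (StL A [p]) = Nat.card A := by
  rw [← index_StL1]; exact card_of_relIndex (StL_le _ _)

theorem card_StL (A : Subgroup (Perm ℕ)) (L : List ℕ) (p : ℕ) :
    (orbS (StL A L) p).ncard * Nat.card (StL A (p :: L)) = Nat.card (StL A L) := by
  rw [StL_cons]; exact card_StL1 _ p

/-- conjugate subgroup -/
def cj (h : Perm ℕ) (K : Subgroup (Perm ℕ)) : Subgroup (Perm ℕ) :=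
  K.map (MulAut.conj h).toMonoidHom

theorem mem_cj {h g : Perm ℕ} {K : Subgroup (Perm ℕ)} : g ∈ cj h K ↔ h⁻¹ * g * h ∈ K :=
  ⟨by rintro ⟨u, hu, rfl⟩; simpa [mul_assoc] using hu, fun hg => ⟨_, hg, by simp [mul_assoc]⟩⟩

theorem card_cj (h : Perm ℕ) (K : Subgroup (Perm ℕ)) : Nat.card (cj h K) = Nat.card K :=
  Subgroup.card_map_of_injective (MulAut.conj h).injective

theorem cj_le {h : Perm ℕ} {K : Subgroup (Perm ℕ)} (hK : K ≤ A) (hh : h ∈ A) : cj h K ≤ A := by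
  rintro _ ⟨u, hu, rfl⟩
  exact mul_mem (mul_mem hh (hK hu)) (inv_mem hh)

theorem orbS_cj (h : Perm ℕ) (K : Subgroup (Perm ℕ)) (p : ℕ) :
    orbS (cj h K) (h p) = h '' orbS K p := by
  ext x
  constructor
  · rintro ⟨_, ⟨u, hu, rfl⟩, rfl⟩
    exact ⟨_, ⟨u, hu, rfl⟩, by simp⟩
  · rintro ⟨_, ⟨u, hu, rfl⟩, rfl⟩
    exact ⟨_, ⟨u, hu, rfl⟩, by simp⟩

theorem ncard_orbS_cj (h : Perm ℕ) (K : Subgroup (Perm ℕ)) (p : ℕ) :
    (orbS (cj h K) (h p)).ncard = (orbS K p).ncard := by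
  rw [orbS_cj, Set.ncard_image_of_injective _ h.injective]

theorem card_StL_map {g : Perm ℕ} (hg : g ∈ A) (L : List ℕ) :
    Nat.card (StL A (L.map g)) = Nat.card (StL A L) := by
  rw [← card_cj g (StL A L)]
  congr 2
  ext u
  rw [mem_cj]
  constructor
  · exact fun h => ⟨mul_mem (mul_mem (inv_mem hg) h.1) hg, fun p hp => by
      simp [h.2 _ (List.mem_map_of_mem hp), Equiv.symm_apply_eq]⟩
  · refine fun h => ⟨by simpa [mul_assoc] using mul_mem (mul_mem hg h.1) (inv_mem hg), fun p hp => ?_⟩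
    obtain ⟨q, hq, rfl⟩ := List.mem_map.mp hp
    simpa [Equiv.symm_apply_eq] using h.2 q hq

theorem StL_perm {L L' : List ℕ} (h : ∀ p, p ∈ L ↔ p ∈ L') : StL A L = StL A L' :=
  Subgroup.ext fun _ => ⟨fun hg => ⟨hg.1, fun p hp => hg.2 p ((h p).mpr hp)⟩,
    fun hg => ⟨hg.1, fun p hp => hg.2 p ((h p).mp hp)⟩⟩

theorem adj_zero {b q : ℕ} : Adj G b 0 q ↔ q ∈ orbS (StL G [0]) b :=
  ⟨fun ⟨g, hg, h1, h2⟩ => ⟨g, mem_StL1.mpr ⟨hg, h1⟩, h2⟩,
    fun ⟨g, hg, h2⟩ => ⟨g, hg.1, (mem_StL1.mp hg).2, h2⟩⟩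

theorem adj_smul {b p q : ℕ} {g : Perm ℕ} (hg : g ∈ G) : Adj G b (g p) (g q) ↔ Adj G b p q := by
  constructor
  · rintro ⟨x, hx, e1, e2⟩
    exact ⟨g⁻¹ * x, mul_mem (inv_mem hg) hx, by simp [e1], by simp [e2]⟩
  · rintro ⟨x, hx, rfl, rfl⟩
    exact ⟨g * x, mul_mem hg hx, rfl, rfl⟩

end

/-- a transitive group of rank three -/
structure Rk3 (G : Subgroup (Perm ℕ)) (N b c k l : ℕ) : Prop where
  fix : G ≤ FixFrom N
  tr : ∀ p < N, ∃ g ∈ G, g 0 = p
  hb : b < N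
  hc : c < N
  ob : (orbS (StL G [0]) b).ncard = k
  oc : (orbS (StL G [0]) c).ncard = l
  hN : N = 1 + k + l
  kl : k ≠ l
  k1 : k ≠ 1
  l1 : l ≠ 1

namespace Rk3
variable {G : Subgroup (Perm ℕ)} {N b c k l : ℕ} (h : Rk3 G N b c k l)
include h

theorem lt {g : Perm ℕ} (hg : g ∈ G) {p : ℕ} (hp : p < N) : g p < N := FixFrom.lt (h.fix hg) hp

theorem pos : 0 < N := by have := h.hN; omega

theorem fin (L : List ℕ) : Finite (StL G L) := finite_of_fix ((StL_le _ _).trans h.fix)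

theorem cpos (L : List ℕ) : 0 < Nat.card (StL G L) := by
  have := h.fin L
  exact Nat.card_pos

omit h in
theorem orb0 : (orbS (StL G [0]) 0).ncard = 1 := by
  rw [Set.ncard_eq_one]
  exact ⟨0, Set.ext fun x => ⟨fun ⟨g, hg, e⟩ => e ▸ (mem_StL1.mp hg).2,
    fun e => e ▸ self_mem_orbS _ _⟩⟩

theorem nb0 : 0 ∉ orbS (StL G [0]) b := fun e => h.k1 (by rw [← h.ob, ← orbS_eq_of_mem e, orb0])

theorem nc0 : 0 ∉ orbS (StL G [0]) c := fun e => h.l1 (by rw [← h.oc, ← orbS_eq_of_mem e, orb0])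

theorem disj {p : ℕ} (h1 : p ∈ orbS (StL G [0]) b) (h2 : p ∈ orbS (StL G [0]) c) : False :=
  h.kl (by rw [← h.ob, ← h.oc, ← orbS_eq_of_mem h1, orbS_eq_of_mem h2])

theorem orb_lt {p q : ℕ} (hp : p < N) (h1 : q ∈ orbS (StL G [0]) p) : q < N := by
  obtain ⟨g, hg, rfl⟩ := h1
  exact h.lt hg.1 hp

theorem cov {p : ℕ} (hp : p < N) :
    p = 0 ∨ p ∈ orbS (StL G [0]) b ∨ p ∈ orbS (StL G [0]) c := by
  have f1 : ∀ {x}, x < N → (orbS (StL G [0]) x).Finite := fun hx =>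
    (Set.finite_lt_nat N).subset fun _ hq => h.orb_lt hx hq
  have e : insert 0 (orbS (StL G [0]) b ∪ orbS (StL G [0]) c) = {i | i < N} := by
    refine Set.eq_of_subset_of_ncard_le ?_ (le_of_eq ?_) (Set.finite_lt_nat N)
    · rintro x (rfl | hx | hx)
      exacts [h.pos, h.orb_lt h.hb hx, h.orb_lt h.hc hx]
    · rw [Set.ncard_insert_of_notMem (fun e => e.elim h.nb0 h.nc0) ((f1 h.hb).union (f1 h.hc)),
        Set.ncard_union_eq (Set.disjoint_left.mpr fun _ => h.disj) (f1 h.hb) (f1 h.hc), h.ob, h.oc]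
      have : {i | i < N} = (Finset.range N : Set ℕ) := by ext; simp
      rw [this, Set.ncard_coe_finset, Finset.card_range, h.hN]
      omega
  exact e.ge hp

theorem orbG : (orbS G 0).ncard = N := by
  have : orbS G 0 = (Finset.range N : Set ℕ) := by
    ext x
    rw [Finset.coe_range, Set.mem_Iio]
    exact ⟨fun ⟨g, hg, e⟩ => e ▸ h.lt hg h.pos, h.tr x⟩
  rw [this, Set.ncard_coe_finset, Finset.card_range]

theorem card : Nat.card G = N * Nat.card (StL G [0]) := by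
  rw [← card_StL1 G 0, h.orbG]

theorem swap : ∃ t ∈ G, t 0 = b ∧ t b = 0 := by
  obtain ⟨g, hg, e⟩ := h.tr b h.hb
  have h1 : (orbS (StL G [0]) (g⁻¹ 0)).ncard = k := by
    have e1 := card_StL G [0] (g⁻¹ 0)
    have e2 := card_StL G [0] b
    have e3 := card_StL_map hg [g⁻¹ 0, 0]
    simp only [List.map_cons, List.map_nil, show g (g⁻¹ 0) = 0 by simp, e] at e3
    rw [← e3, StL_perm (L := [0, b]) (L' := [b, 0]) (by simp [or_comm]), ← e2, h.ob] at e1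
    exact Nat.eq_of_mul_eq_mul_right (h.cpos _) e1
  rcases h.cov (h.lt (inv_mem hg) h.pos) with h2 | ⟨u, hu, h2⟩ | h2
  · rw [h2, orb0] at h1
    exact absurd h1.symm h.k1
  · exact ⟨g * u, mul_mem hg hu.1, by rw [Perm.mul_apply, (mem_StL1.mp hu).2, e],
      by rw [Perm.mul_apply, h2]; simp⟩
  · rw [orbS_eq_of_mem h2, h.oc] at h1
    exact absurd h1.symm h.kl

theorem symm {p q : ℕ} (h1 : Adj G b p q) : Adj G b q p := by
  obtain ⟨t, ht, e1, e2⟩ := h.swap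
  obtain ⟨g, hg, rfl, rfl⟩ := h1
  exact ⟨g * t, mul_mem hg ht, by rw [Perm.mul_apply, e1], by rw [Perm.mul_apply, e2]⟩

theorem irrefl (p : ℕ) : ¬ Adj G b p p := by
  rintro ⟨g, -, e1, e2⟩
  exact h.nb0 (g.injective (e1.trans e2.symm) ▸ self_mem_orbS _ _)

theorem adj_lt {p q : ℕ} (h1 : Adj G b p q) : p < N ∧ q < N := by
  obtain ⟨g, hg, rfl, rfl⟩ := h1
  exact ⟨h.lt hg h.pos, h.lt hg h.hb⟩

theorem val {p : ℕ} (hp : p < N) : {q | Adj G b p q}.ncard = k := by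
  obtain ⟨g, hg, rfl⟩ := h.tr p hp
  rw [← h.ob, ← Set.ncard_image_of_injective (orbS _ b) g.injective]
  congr 1
  ext q
  obtain ⟨q, rfl⟩ := g.surjective q
  rw [g.injective.mem_set_image, Set.mem_setOf_eq, adj_smul hg, adj_zero]

theorem triple {p : ℕ} (h1 : p ∈ orbS (StL G [0]) b) (h2 : p ≠ b) (h3 : ¬ Adj G b b p) :
    ∃ c' ∈ orbS (StL G [0]) c, l * (orbS (StL G [c', 0]) b).ncard =
      k * (orbS (StL G [b, 0]) p).ncard := by
  obtain ⟨t, ht, e1, e2⟩ := h.swap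
  have h4 : t p ∈ orbS (StL G [0]) c := by
    rcases h.cov (h.lt ht (h.orb_lt h.hb h1)) with h4 | h4 | h4
    · exact absurd (t.injective (h4.trans e2.symm)) h2
    · rw [← adj_zero, ← e2, adj_smul ht] at h4
      exact absurd h4 h3
    · exact h4
  refine ⟨_, h4, Nat.eq_of_mul_eq_mul_right (h.cpos [p, b, 0]) ?_⟩
  have e3 := card_StL_map ht [p, b, 0]
  simp only [List.map_cons, List.map_nil, e1, e2] at e3
  rw [mul_assoc, mul_assoc, card_StL, ← h.ob, card_StL, ← e3,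
    StL_perm (L := [t p, 0, b]) (L' := [b, t p, 0]) (by simp only [List.mem_cons]; tauto), card_StL, ← h.oc,
    ← orbS_eq_of_mem h4, card_StL]

open Pointwise in
theorem block (h1 : ∀ p ∈ orbS (StL G [0]) b, p ≠ b → Adj G b b p) : k + 1 ∣ N := by
  obtain ⟨t, ht, e1, e2⟩ := h.swap
  set B : Set ℕ := insert 0 (orbS (StL G [0]) b) with hB
  have fb : (orbS (StL G [0]) b).Finite := (Set.finite_lt_nat N).subset fun _ hq => h.orb_lt h.hb hq
  have fB : B.Finite := fb.insert 0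
  have cB : B.ncard = k + 1 := by rw [hB, Set.ncard_insert_of_notMem h.nb0 fb, h.ob]
  have bB : b ∈ B := Or.inr (self_mem_orbS _ _)
  have h2 : B \ {b} = {q | Adj G b b q} := by
    refine Set.eq_of_subset_of_ncard_le ?_ (le_of_eq ?_)
      ((Set.finite_lt_nat N).subset fun _ hq => (h.adj_lt hq).2)
    · rintro x ⟨rfl | hx, hx'⟩
      · exact ⟨t, ht, e1, e2⟩
      · exact h1 x hx hx'
    · rw [h.val h.hb, Set.ncard_diff_singleton_of_mem bB, cB]
      rfl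
  have mk : ∀ g ∈ G, (∀ q ∈ B, g q ∈ B) → g • B = B := fun g _ hg =>
    Set.eq_of_subset_of_ncard_le (by rintro _ ⟨q, hq, rfl⟩; exact hg q hq)
      (le_of_eq (Set.ncard_image_of_injective _ g.injective).symm) fB
  let M : Subgroup (Perm ℕ) := G ⊓ MulAction.stabilizer (Perm ℕ) B
  have h3 : StL G [0] ≤ M := fun g hg => ⟨hg.1, mk g hg.1 (by
    rintro q (rfl | ⟨u, hu, rfl⟩)
    · exact Or.inl (mem_StL1.mp hg).2
    · exact Or.inr ⟨g * u, mul_mem hg hu, rfl⟩)⟩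
  have h4 : t ∈ M := ⟨ht, mk t ht (by
    rintro q (rfl | hq)
    · exact e1 ▸ bB
    · rw [← adj_zero, ← adj_smul ht, e1] at hq
      exact (h2.ge hq).1)⟩
  have h5 : orbS M 0 = B := by
    ext q
    constructor
    · rintro ⟨g, hg, rfl⟩
      exact (MulAction.mem_stabilizer_iff.mp hg.2).le ⟨0, Or.inl rfl, rfl⟩
    · rintro (rfl | ⟨u, hu, rfl⟩)
      · exact self_mem_orbS _ _
      · exact ⟨u * t, mul_mem (h3 hu) h4, by rw [Perm.mul_apply, e1]⟩
  have h6 : StL M [0] = StL G [0] :=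
    le_antisymm (fun g hg => ⟨hg.1.1, hg.2⟩) fun g hg => ⟨h3 hg, hg.2⟩
  have h7 := card_StL1 M 0
  rw [h5, cB, h6] at h7
  have h8 := Subgroup.card_dvd_of_le (inf_le_left : M ≤ G)
  rw [← h7, h.card] at h8
  exact Nat.dvd_of_mul_dvd_mul_right (h.cpos _) h8

end Rk3

end Cfsg.Agent.Spor
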