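/-
Recognition of groups of rank three: transport to a model and uniqueness of the graph.
-/
import Cfsg.Agent.Spor.R3B
import Cfsg.Agent.Spor.DE2

set_option autoImplicit false

namespace Cfsg.Agent.Spor

open Equiv

theorem exists_rk3 {Ω : Type*} [Fintype Ω] [DecidableEq Ω] {N k l : ℕ} (hΩ : Fintype.card Ω = N)
    (G : Subgroup (Perm Ω)) [MulAction.IsPretransitive G Ω] (a b c : Ω)
    (hb : (MulAction.orbit (MulAction.stabilizer G a) b).ncard = k)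
    (hc : (MulAction.orbit (MulAction.stabilizer G a) c).ncard = l) (hN : N = 1 + k + l)
    (kl : k ≠ l) (k1 : k ≠ 1) (l1 : l ≠ 1) :
    ∃ G0 b1 c1, Rk3 G0 N b1 c1 k l ∧ Nonempty (G ≃* G0) ∧
      Nonempty (MulAction.stabilizer G a ≃* StL G0 [0]) := by
  let β0 : Ω ≃ {i // i < N} := (Fintype.equivFinOfCardEq hΩ).trans Fin.equivSubtype
  let β : Ω ≃ {i // i < N} := β0.trans (Equiv.swap (β0 a) ⟨0, by omega⟩)
  have βa : (β a : ℕ) = 0 := by simp [β]
  let φ : G →* Perm ℕ := (Perm.extendDomainHom β).comp G.subtype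
  have hφ : Function.Injective φ := (Perm.extendDomainHom_injective β).comp Subtype.val_injective
  have ap : ∀ (g : G) x, φ g (β x) = β (g • x) := fun g x => Perm.extendDomain_apply_image _ β x
  have inj : Function.Injective fun x => (β x : ℕ) := Subtype.val_injective.comp β.injective
  have st : StL φ.range [0] = (MulAction.stabilizer G a).map φ := by
    ext g
    rw [mem_StL1]
    constructor
    · rintro ⟨⟨g, rfl⟩, h⟩
      exact ⟨g, inj (by rw [← βa, ap] at h; exact h), rfl⟩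
    · rintro ⟨g, hg, rfl⟩
      exact ⟨⟨g, rfl⟩, by rw [← βa, ap, MulAction.mem_stabilizer_iff.mp hg]⟩
  have ob : ∀ x, (orbS (StL φ.range [0]) (β x)).ncard =
      (MulAction.orbit (MulAction.stabilizer G a) x).ncard := fun x => by
    rw [← Set.ncard_image_of_injective _ inj, st]
    congr 1
    ext y
    constructor
    · rintro ⟨_, ⟨g, hg, rfl⟩, rfl⟩
      exact ⟨_, ⟨⟨g, hg⟩, rfl⟩, (ap g x).symm⟩
    · rintro ⟨_, ⟨g, rfl⟩, rfl⟩
      exact ⟨_, ⟨g.1, g.2, rfl⟩, ap g x⟩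
  refine ⟨φ.range, β b, β c, ⟨?_, fun p hp => ?_, (β b).2, (β c).2, (ob b).trans hb,
    (ob c).trans hc, hN, kl, k1, l1⟩, ⟨MonoidHom.ofInjective hφ⟩,
    ⟨(Subgroup.equivMapOfInjective _ _ hφ).trans (MulEquiv.subgroupCongr st.symm)⟩⟩
  · rintro _ ⟨g, rfl⟩ i hi
    exact Perm.extendDomain_apply_not_subtype _ β (not_lt.mpr hi)
  · obtain ⟨g, hg⟩ := MulAction.exists_smul_eq G a (β.symm ⟨p, hp⟩)
    exact ⟨_, ⟨g, rfl⟩, by rw [← βa, ap, hg]; simp⟩

section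
variable {A B : Subgroup (Perm ℕ)} {e : A ≃* B} {x y : ℕ}

/-- the stabilisers of the two points correspond -/
def Match (e : A ≃* B) (x y : ℕ) : Prop := ∀ h : A, h.1 x = x ↔ (e h).1 y = y

theorem Match.symm (h : Match e x y) : Match e.symm y x := fun g => by
  rw [h (e.symm g), e.apply_symm_apply]

theorem Match.eq (h : Match e x y) (u v : A) : u.1 x = v.1 x ↔ (e u).1 y = (e v).1 y := by
  have := h (v⁻¹ * u)
  simpa [Equiv.symm_apply_eq] using this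

theorem Match.smul (h : Match e x y) (u : A) : Match e (u.1 x) ((e u).1 y) := fun g => by
  simpa using h.eq (g * u) u

/-- the stabiliser of a point, moved to the model -/
def pullS (e : A ≃* B) (x : ℕ) : Subgroup (Perm ℕ) :=
  ((StL A [x]).subgroupOf A).map (B.subtype.comp e.toMonoidHom)

theorem mem_pullS {g : Perm ℕ} : g ∈ pullS e x ↔ ∃ h : A, h.1 x = x ∧ (e h).1 = g :=
  ⟨fun ⟨h, h1, h2⟩ => ⟨h, (mem_StL1.mp h1).2, h2⟩,
    fun ⟨h, h1, h2⟩ => ⟨h, mem_StL1.mpr ⟨h.2, h1⟩, h2⟩⟩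

theorem pullS_le : pullS e x ≤ B := fun _ hg => by
  obtain ⟨h, -, rfl⟩ := mem_pullS.mp hg
  exact (e h).2

theorem card_pullS : (orbS A x).ncard * Nat.card (pullS e x) = Nat.card B := by
  rw [pullS, Subgroup.card_map_of_injective (Subtype.val_injective.comp e.injective),
    Nat.card_congr (Subgroup.subgroupOfEquivOfLe (StL_le _ _)).toEquiv, card_StL1,
    Nat.card_congr e.toEquiv]

theorem Match.orb (h : Match e x y) (x' : ℕ) :
    (orbS (pullS e x') y).ncard = (orbS (StL A [x']) x).ncard := by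
  have e1 : orbS (pullS e x') y = Set.range fun u : (StL A [x']).subgroupOf A => (e u.1).1 y :=
    Set.ext fun _ => ⟨fun ⟨_, ⟨u, hu, e1⟩, e2⟩ => ⟨⟨u, hu⟩, by rw [← e2, ← e1]; rfl⟩,
      fun ⟨u, e2⟩ => ⟨_, ⟨u.1, u.2, rfl⟩, e2⟩⟩
  have e2 : orbS (StL A [x']) x = Set.range fun u : (StL A [x']).subgroupOf A => u.1.1 x :=
    Set.ext fun _ => ⟨fun ⟨u, hu, e2⟩ => ⟨⟨⟨u, hu.1⟩, hu⟩, e2⟩, fun ⟨u, e2⟩ => ⟨_, u.2, e2⟩⟩
  rw [e1, e2]
  exact ncard_range_congr fun u v => (h.eq u.1 v.1).symm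

theorem Match.pullS_eq (h : Match e x y) : pullS e x = StL B [y] := by
  ext g
  rw [mem_pullS, mem_StL1]
  constructor
  · rintro ⟨u, hu, rfl⟩
    exact ⟨(e u).2, (h u).mp hu⟩
  · rintro ⟨h1, h2⟩
    exact ⟨e.symm ⟨g, h1⟩, (h.symm ⟨g, h1⟩).mp h2, by simp⟩

theorem exists_match [Finite B] (h1 : (orbS A x).ncard = (orbS B y).ncard)
    (h2 : ∃ p ∈ orbS B y, ∀ g ∈ pullS e x, g p = p) : ∃ x' ∈ orbS A x, Match e x' y := by
  obtain ⟨p, hp, h2⟩ := h2
  have h3 : pullS e x ≤ StL B [p] := fun g hg => mem_StL1.mpr ⟨pullS_le hg, h2 g hg⟩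
  have : Finite (StL B [p]) := Finite.of_injective _ (Subgroup.inclusion_injective (StL_le _ _))
  have h4 := card_pullS (e := e) (x := x)
  have h5 := card_StL1 B p
  rw [orbS_eq_of_mem hp, ← h1] at h5
  have h6 : pullS e x = StL B [p] := Subgroup.eq_of_le_of_card_ge h3 (le_of_eq
    (Nat.eq_of_mul_eq_mul_left (Nat.pos_of_mul_pos_right (h4 ▸ Nat.card_pos)) (h5.trans h4.symm)))
  have h7 : Match e x p := fun u => ⟨fun hu => h2 _ (mem_pullS.mpr ⟨u, hu, rfl⟩), fun hu => by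
    obtain ⟨v, hv, e1⟩ := mem_pullS.mp (h6.ge (mem_StL1.mpr ⟨(e u).2, hu⟩))
    rwa [e.injective (Subtype.ext e1)] at hv⟩
  obtain ⟨u, hu, rfl⟩ := hp
  refine ⟨_, ⟨_, (e.symm ⟨u, hu⟩⁻¹).2, rfl⟩, ?_⟩
  simpa using h7.smul (e.symm ⟨u, hu⟩⁻¹)

end

namespace Rk3
variable {G P : Subgroup (Perm ℕ)} {N b c b' c' k l : ℕ}

theorem move (h : Rk3 G N b c k l) (h1 : b' ∈ orbS (StL G [0]) b) (h2 : c' ∈ orbS (StL G [0]) c) :
    Rk3 G N b' c' k l :=
  ⟨h.fix, h.tr, h.orb_lt h.hb h1, h.orb_lt h.hc h2, by rw [orbS_eq_of_mem h1, h.ob],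
    by rw [orbS_eq_of_mem h2, h.oc], h.hN, h.kl, h.k1, h.l1⟩

theorem exists_map (h : Rk3 G N b' c' k l) {e : StL G [0] ≃* StL P [0]} (m1 : Match e b' b)
    (m2 : Match e c' c) : ∃ γ : ℕ → ℕ, γ 0 = 0 ∧ (∀ x, N ≤ x → γ x = x) ∧
      (∀ u, γ (u.1 b') = (e u).1 b) ∧ ∀ u, γ (u.1 c') = (e u).1 c := by
  classical
  refine ⟨fun x => if h : ∃ u : StL G [0], u.1 b' = x then (e h.choose).1 b else
    if h : ∃ u : StL G [0], u.1 c' = x then (e h.choose).1 c else x, ?_, fun x hx => ?_,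
    fun u => ?_, fun u => ?_⟩ <;> beta_reduce
  · rw [dif_neg, dif_neg]
    exacts [fun ⟨u, hu⟩ => h.nc0 ⟨u, u.2, hu⟩, fun ⟨u, hu⟩ => h.nb0 ⟨u, u.2, hu⟩]
  · rw [dif_neg, dif_neg]
    exacts [fun ⟨u, hu⟩ => (h.lt u.2.1 h.hc).not_ge (hu ▸ hx),
      fun ⟨u, hu⟩ => (h.lt u.2.1 h.hb).not_ge (hu ▸ hx)]
  · have h1 : ∃ v : StL G [0], v.1 b' = u.1 b' := ⟨u, rfl⟩
    rw [dif_pos h1]
    exact (m1.eq _ _).mp h1.choose_spec
  · have h1 : ∃ v : StL G [0], v.1 c' = u.1 c' := ⟨u, rfl⟩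
    rw [dif_neg, dif_pos h1]
    exacts [(m2.eq _ _).mp h1.choose_spec, fun ⟨v, hv⟩ => h.disj ⟨v, v.2, hv⟩ ⟨u, u.2, rfl⟩]

theorem cases (h : Rk3 G N b c k l) {p : ℕ → Prop} (h0 : p 0) (h1 : ∀ x, N ≤ x → p x)
    (h2 : ∀ u : StL G [0], p (u.1 b)) (h3 : ∀ u : StL G [0], p (u.1 c)) (x : ℕ) : p x := by
  by_cases hx : x < N
  · rcases h.cov hx with rfl | ⟨u, hu, rfl⟩ | ⟨u, hu, rfl⟩
    exacts [h0, h2 ⟨u, hu⟩, h3 ⟨u, hu⟩]
  · exact h1 x (not_lt.mp hx)

theorem transport (h : Rk3 G N b' c' k l) (hP : Rk3 P N b c k l) {e : StL G [0] ≃* StL P [0]}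
    (m1 : Match e b' b) (m2 : Match e c' c) :
    ∃ G' : Subgroup (Perm ℕ), Nonempty (G ≃* G') ∧ Rk3 G' N b c k l ∧ StL G' [0] = StL P [0] := by
  obtain ⟨γ, g0, g1, g2, g3⟩ := h.exists_map m1 m2
  obtain ⟨δ, d0, d1, d2, d3⟩ := hP.exists_map m1.symm m2.symm
  let β : Perm ℕ := ⟨γ, δ,
    h.cases (by rw [g0, d0]) (fun x hx => by rw [g1 x hx, d1 x hx]) (fun u => by rw [g2, d2]; simp)
      fun u => by rw [g3, d3]; simp,
    hP.cases (by rw [d0, g0]) (fun x hx => by rw [d1 x hx, g1 x hx]) (fun u => by rw [d2, g2]; simp)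
      fun u => by rw [d3, g3]; simp⟩
  have hβ : β ∈ FixFrom N := g1
  have b0 : β 0 = 0 := g0
  have key : ∀ u : StL G [0], β * u.1 * β⁻¹ = (e u).1 := fun u => by
    rw [mul_inv_eq_iff_eq_mul]
    refine Equiv.ext (h.cases ?_ (fun x hx => ?_) (fun v => ?_) fun v => ?_)
    · rw [Perm.mul_apply, Perm.mul_apply, (mem_StL1.mp u.2).2, b0, (mem_StL1.mp (e u).2).2]
    · rw [Perm.mul_apply, Perm.mul_apply, h.fix u.2.1 x hx, hβ x hx, hP.fix (e u).2.1 x hx]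
    · exact (g2 (u * v)).trans (by rw [map_mul]; exact congrArg _ (g2 v).symm)
    · exact (g3 (u * v)).trans (by rw [map_mul]; exact congrArg _ (g3 v).symm)
  have st : StL (cj β G) [0] = StL P [0] := by
    ext g
    rw [mem_StL1]
    constructor
    · rintro ⟨⟨u, hu, rfl⟩, h1⟩
      have h2 : u 0 = 0 := β.injective (by
        have h3 : β (u (β⁻¹ (β 0))) = 0 := b0.symm ▸ h1
        rw [show β⁻¹ (β 0) = 0 by simp] at h3
        exact h3.trans b0.symm)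
      have h3 := (e ⟨u, mem_StL1.mpr ⟨hu, h2⟩⟩).2
      rwa [← key] at h3
    · intro hg
      exact ⟨⟨_, (e.symm ⟨g, hg⟩).2.1, (key _).trans (by simp)⟩, (mem_StL1.mp hg).2⟩
  refine ⟨cj β G, ⟨Subgroup.equivMapOfInjective _ _ (MulAut.conj β).injective⟩,
    ⟨cj_le h.fix hβ, fun p hp => ?_, hP.hb, hP.hc, st ▸ hP.ob, st ▸ hP.oc, h.hN, h.kl, h.k1,
      h.l1⟩, st⟩
  obtain ⟨g, hg, e1⟩ := h.tr _ (FixFrom.lt (inv_mem hβ) hp)
  refine ⟨_, ⟨g, hg, rfl⟩, ?_⟩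
  conv_lhs => rw [← b0]
  simp [e1]

theorem link (h : Rk3 G N b c k l) {u : Perm ℕ} (hu : u ∈ StL G [0]) {p p' : ℕ} (h1 : u p = c)
    (h2 : u b = p') : Adj G b b p ↔ Adj G b c p' := by
  rw [← adj_smul hu.1, h1, h2]
  exact ⟨h.symm, h.symm⟩

theorem le_aut (h : Rk3 G N b c k l) (hP : Rk3 P N b c k l) (st : StL G [0] = StL P [0])
    (h1 : ∀ q, Adj G b b q ↔ Adj P b b q) (h2 : ∀ q, Adj G b c q ↔ Adj P b c q) :
    G ≤ AutG (Adj P b) N := by
  have : Adj P b = Adj G b := by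
    funext p
    refine h.cases (p := fun p => Adj P b p = Adj G b p) ?_ (fun x hx => ?_) (fun u => ?_)
      (fun u => ?_) p <;> funext q <;> apply propext
    · rw [adj_zero, adj_zero, st]
    · exact ⟨fun e => absurd (hP.adj_lt e).1 hx.not_gt, fun e => absurd (h.adj_lt e).1 hx.not_gt⟩
    · obtain ⟨q, rfl⟩ := u.1.surjective q
      rw [adj_smul u.2.1, adj_smul (st.le u.2).1, h1]
    · obtain ⟨q, rfl⟩ := u.1.surjective q
      rw [adj_smul u.2.1, adj_smul (st.le u.2).1, h2]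
  rw [this]
  exact le_autG h.fix b

theorem eq_of_aut (h : Rk3 G N b c k l) (hP : Rk3 P N b c k l) (st : StL G [0] = StL P [0])
    (h1 : G ≤ AutG (Adj P b) N) (h2 : Nat.card (AutG (Adj P b) N) ≤ 2 * Nat.card P)
    (h3 : commutator P = ⊤) : G = P := by
  set A := AutG (Adj P b) N
  have : Finite A := finite_of_fix fun _ h => h.1
  have : Finite G := finite_of_fix h.fix
  have e : Nat.card G = Nat.card P := by rw [h.card, hP.card, st]
  have h4 := card_of_relIndex h1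
  have h5 : G.relIndex A ∣ 2 := by
    have h6 : G.relIndex A ≤ 2 :=
      Nat.le_of_mul_le_mul_right (by rw [h4, e]; exact h2) (Nat.card_pos (α := G))
    have h7 : G.relIndex A ≠ 0 := Subgroup.index_ne_zero_of_finite
    interval_cases G.relIndex A <;> simp at h7 ⊢
  have h6 := commutator_le_of_index_dvd_two h5
  refine (Subgroup.eq_of_le_of_card_ge (fun g hg => ?_) e.le).symm
  have h7 : (⊤ : Subgroup P).map (Subgroup.inclusion (le_autG hP.fix b)) ≤ commutator A := by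
    rw [← h3, commutator_def, Subgroup.map_commutator]
    exact Subgroup.commutator_mono le_top le_top
  exact h6 (h7 ⟨⟨g, hg⟩, trivial, rfl⟩)

end Rk3

/-- a cell: a point, a mask and its size -/
abbrev Cell := ℕ × ℕ × ℕ

def CellOk (B : Subgroup (Perm ℕ)) (K : ℕ) (x : Cell) : Prop :=
  Reach B x.1 x.2.1 ∧ sizeOk K x.2.1 x.2.2 = true

/-- the masks are pairwise disjoint and cover the target -/
noncomputable def partOk (T : ℕ) (X : List Cell) : ℕ → Bool :=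
  List.rec (fun a => sub T a)
    (fun x _ ih a => band (Nat.beq (Nat.land a x.2.1) 0) (ih (Nat.lor a x.2.1))) X

open Classical in
noncomputable def ind (S : Set ℕ) (q : ℕ) : ℕ := if q ∈ S then 1 else 0

theorem ind_le (S : Set ℕ) (q : ℕ) : ind S q ≤ 1 := by unfold ind; split_ifs <;> omega
theorem ind_one {S : Set ℕ} {q : ℕ} : ind S q = 1 ↔ q ∈ S := by unfold ind; split_ifs <;> simpa
theorem ind_zero {S : Set ℕ} {q : ℕ} : ind S q = 0 ↔ q ∉ S := by unfold ind; split_ifs <;> simpa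
theorem ind_congr {S S' : Set ℕ} {q q' : ℕ} (h : q ∈ S ↔ q' ∈ S') : ind S q = ind S' q' := by
  by_cases h1 : q ∈ S
  · rw [ind_one.mpr h1, ind_one.mpr (h.mp h1)]
  · rw [ind_zero.mpr h1, ind_zero.mpr (mt h.mpr h1)]

section
variable {B : Subgroup (Perm ℕ)} {K T : ℕ} {X : List Cell} {S : Set ℕ}

theorem CellOk.mem {x : Cell} (h : CellOk B K x) (hS : ∀ g ∈ B, ∀ q ∈ S, g q ∈ S) {q : ℕ}
    (hq : x.2.1.testBit q = true) : q ∈ S ↔ x.1 ∈ S := by
  obtain ⟨g, hg, rfl⟩ := h.1 q hq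
  exact ⟨fun h1 => by simpa using hS _ (inv_mem hg) _ h1, hS g hg _⟩

theorem ncard_cells' (hX : AllP (CellOk B K) X) (hS : ∀ g ∈ B, ∀ q ∈ S, g q ∈ S)
    (hT : ∀ q ∈ S, T.testBit q = true) {a : ℕ} (hc : partOk T X a = true) :
    {q ∈ S | a.testBit q = false}.ncard = (X.map fun x => x.2.2 * ind S x.1).sum := by
  induction X generalizing a with
  | nil =>
    rw [List.map_nil, List.sum_nil, Set.ncard_eq_zero ((finite_bits T).subset fun q h => hT q h.1)]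
    refine Set.eq_empty_of_forall_notMem fun q h => ?_
    have := (sub_iff _ _).mp hc q (hT q h.1)
    rw [h.2] at this
    exact Bool.false_ne_true this
  | cons x X ih =>
    have h1 : band (Nat.beq (Nat.land a x.2.1) 0) (partOk T X (Nat.lor a x.2.1)) = true := hc
    rw [band_eq, Bool.and_eq_true, Nat.beq_eq] at h1
    have h2 : ∀ q, x.2.1.testBit q = true → a.testBit q = false := fun q hq => by
      simpa [tb_land, hq] using congrArg (fun y => Nat.testBit y q) h1.1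
    have f : ∀ p : ℕ → Prop, {q ∈ S | p q}.Finite := fun p =>
      (finite_bits T).subset fun q h => hT q h.1
    have e : {q ∈ S | x.2.1.testBit q = true}.ncard = x.2.2 * ind S x.1 := by
      by_cases h3 : x.1 ∈ S
      · rw [ind_one.mpr h3, mul_one, ← sizeOk_sound hX.1.2]
        congr 1
        exact Set.ext fun q => ⟨fun h => h.2, fun h => ⟨(hX.1.mem hS h).mpr h3, h⟩⟩
      · rw [ind_zero.mpr h3, mul_zero, Set.ncard_eq_zero (f _)]
        exact Set.eq_empty_of_forall_notMem fun q h => h3 ((hX.1.mem hS h.2).mp h.1)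
    rw [List.map_cons, List.sum_cons, ← ih hX.2 h1.2, ← e, ← Set.ncard_union_eq ?_ (f _) (f _)]
    · congr 1
      ext q
      simp only [Set.mem_setOf_eq, Set.mem_union, tb_lor]
      have := h2 q
      cases h : x.2.1.testBit q <;> simp_all
    · rw [Set.disjoint_left]
      rintro q ⟨-, h3⟩ ⟨-, h4⟩
      simp [tb_lor, h3] at h4

theorem ncard_cells (hX : AllP (CellOk B K) X) (hc : partOk T X 0 = true)
    (hS : ∀ g ∈ B, ∀ q ∈ S, g q ∈ S) (hT : ∀ q ∈ S, T.testBit q = true) :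
    S.ncard = (X.map fun x => x.2.2 * ind S x.1).sum := by
  simpa using ncard_cells' hX hS hT hc

theorem partOk_cov {a : ℕ} (hc : partOk T X a = true) {q : ℕ} (hq : T.testBit q = true) :
    a.testBit q = true ∨ ∃ x ∈ X, x.2.1.testBit q = true := by
  induction X generalizing a with
  | nil => exact Or.inl ((sub_iff _ _).mp hc q hq)
  | cons x X ih =>
    have h1 : band (Nat.beq (Nat.land a x.2.1) 0) (partOk T X (Nat.lor a x.2.1)) = true := hc
    rw [band_eq, Bool.and_eq_true] at h1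
    rcases ih h1.2 with h2 | ⟨y, hy, h2⟩
    · rw [tb_lor, Bool.or_eq_true] at h2
      exact h2.imp_right fun h2 => ⟨x, List.mem_cons_self, h2⟩
    · exact Or.inr ⟨y, List.mem_cons_of_mem _ hy, h2⟩

/-- an invariant set is determined by the cells it meets -/
theorem eq_of_cells (hX : AllP (CellOk B K) X) (hc : partOk T X 0 = true)
    (hS : ∀ g ∈ B, ∀ q ∈ S, g q ∈ S) (hT : ∀ q ∈ S, T.testBit q = true) {R : ℕ}
    (h : AllP (fun x : Cell => ind S x.1 = 1 ∧ sub x.2.1 R = true ∨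
      ind S x.1 = 0 ∧ Nat.beq (Nat.land x.2.1 R) 0 = true) X) (hR : sub R T = true) (q : ℕ) :
    q ∈ S ↔ R.testBit q = true := by
  have key : T.testBit q = true → (q ∈ S ↔ R.testBit q = true) := fun hq => by
    obtain ⟨x, hx, h1⟩ := (partOk_cov hc hq).resolve_left (by simp)
    rw [(hX.forall x hx).mem hS h1]
    rcases h.forall x hx with ⟨h2, h3⟩ | ⟨h2, h3⟩
    · exact iff_of_true (ind_one.mp h2) ((sub_iff _ _).mp h3 q h1)
    · refine iff_of_false (ind_zero.mp h2) ?_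
      simpa [tb_land, h1] using congrArg (fun y => Nat.testBit y q) (Nat.beq_eq.mp h3)
  exact ⟨fun h1 => (key (hT q h1)).mp h1, fun h1 => (key ((sub_iff _ _).mp hR q h1)).mpr h1⟩

end

section
variable {H K Q : Subgroup (Perm ℕ)}

theorem exists_cj [Finite H] {p m : ℕ} (hp : p.Prime) (hQ : IsPGroup p Q) (hQH : Q ≤ H) (hK : K ≤ H)
    (hm : Nat.card H = m * Nat.card K) (hd : ¬ p ∣ m) : ∃ h ∈ H, Q ≤ cj h K := by
  have := Fact.mk hp
  have : Finite K := Finite.of_injective _ (Subgroup.inclusion_injective hK)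
  have h1 : K.relIndex H = m :=
    Nat.eq_of_mul_eq_mul_right Nat.card_pos ((card_of_relIndex hK).trans hm)
  obtain ⟨⟨s⟩, hs⟩ := (hQ.of_equiv (Subgroup.subgroupOfEquivOfLe hQH).symm
    ).nonempty_fixed_point_of_prime_not_dvd_card (H ⧸ K.subgroupOf H) (by rw [← h1] at hd; exact hd)
  refine ⟨s, s.2, fun q hq => mem_cj.mpr ?_⟩
  have h4 := QuotientGroup.eq.mp (hs ⟨⟨q, hQH hq⟩, hq⟩).symm
  rw [mul_assoc]
  exact h4

theorem fix_of_cj {h : Perm ℕ} (hh : h ∈ H) {y : ℕ}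
    (h1 : ∃ p ∈ orbS H y, ∀ g ∈ cj h K, g p = p) : ∃ p ∈ orbS H y, ∀ g ∈ K, g p = p := by
  obtain ⟨_, ⟨u, hu, rfl⟩, h1⟩ := h1
  refine ⟨_, ⟨h⁻¹ * u, mul_mem (inv_mem hh) hu, rfl⟩, fun g hg => ?_⟩
  simpa [Equiv.symm_apply_eq, Equiv.eq_symm_apply] using h1 _ ⟨g, hg, rfl⟩

theorem fix_of_ncard {p : ℕ} (h : (orbS K p).ncard = 1) : ∀ g ∈ K, g p = p := fun g hg => by
  obtain ⟨a, ha⟩ := Set.ncard_eq_one.mp h
  exact (ha.le ⟨g, hg, rfl⟩).trans (ha.le (self_mem_orbS K p)).symm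

theorem orbS_inv (h : Q ≤ K) (p : ℕ) : ∀ g ∈ Q, ∀ q ∈ orbS K p, g q ∈ orbS K p := by
  rintro g hg _ ⟨u, hu, rfl⟩
  exact ⟨g * u, mul_mem (h hg) hu, rfl⟩

theorem orbS_mono (h : Q ≤ K) (p : ℕ) : orbS Q p ⊆ orbS K p := fun _ ⟨u, hu, e⟩ => ⟨u, h hu, e⟩

theorem isPGroup_of_dvd {Γ : Type*} [Group Γ] {p e : ℕ} (hp : p.Prime) (h : Nat.card Γ ∣ p ^ e) :
    IsPGroup p Γ := by
  obtain ⟨i, -, hi⟩ := (Nat.dvd_prime_pow hp).mp h
  exact IsPGroup.of_card hi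

end

theorem CosetAct.stL {Γ : Type*} [Group Γ] {H : Subgroup Γ} {φ : Γ →* Perm ℕ} {N : ℕ}
    (h : CosetAct H φ N) : StL φ.range [0] = H.map φ := by
  ext g
  rw [mem_StL1]
  exact ⟨fun ⟨⟨x, e⟩, h1⟩ => ⟨x, (h.stab x).mp (e ▸ h1), e⟩,
    fun ⟨x, hx, e⟩ => ⟨⟨x, e⟩, e ▸ (h.stab x).mpr hx⟩⟩

section
variable {Γ : Type*} [Group Γ] {φ : Γ →* Perm ℕ} {U : Tab} {n m : ℕ} {g : ℕ → Γ}

theorem Tab.Link.evW (hl : U.Link φ (atm n g) m) {w : List ℕ}
    (hw : lall (fun y => Nat.blt y m) w = true) : φ (Spor.ev (atm n g) w) = evA U.τ (toL w) := by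
  rw [evA_toL, hl.ev fun y hy => Nat.blt_eq.mp ((lall_iff _ _).mp hw y hy)]

theorem Tab.Link.ones (hl : U.Link φ (atm n g) m) (hφ : Function.Injective φ) {RL W : List (List ℕ)}
    (hw : (lall (lall fun y => Nat.blt y m) RL && (W == RL.map toL)) = true)
    (h : AllP (fun w => evA U.τ w = 1) W) : ∀ l ∈ RL, Spor.ev (atm n g) l = 1 := fun l hl' => by
  rw [Bool.and_eq_true, beq_iff_eq, lall_iff] at hw
  exact hφ (by rw [hl.evW (hw.1 l hl'), map_one]; exact h.forall _ (hw.2 ▸ List.mem_map_of_mem hl'))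

/-- conjugates of a subgroup, from double cosets of its normaliser -/
theorem Tab.Link.conjs {M Z : Subgroup Γ} {N : ℕ} (act : CosetAct M φ N) (hl : U.Link φ (atm n g) m)
    {SW W : List (List ℕ)} (hw : (lall (lall fun y => Nat.blt y m) SW && (W == SW.map toL)) = true)
    (hM : ∀ x ∈ M, ∀ z ∈ Z, x * z * x⁻¹ ∈ Z) {P : List ℕ → Prop} {X : List SubO}
    (hX : AllP (fun x : SubO => lall (fun y => Nat.blt y m) x.1 = true ∧
      evA U.τ (toL x.1) 0 = x.2.1 ∧ Reach (U.lsub W) x.2.1 x.2.2 ∧ P x.1) X)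
    (hc : sub (Spor.ones N) (lor (X.map fun x => x.2.2)) = true) (u : Γ) :
    ∃ s ∈ wsub n g SW, ∃ w, P w ∧ ∃ x ∈ M, u = s * Spor.ev (atm n g) w * x := by
  obtain ⟨O, hO, h2⟩ := tb_lor_list _ _ ((sub_iff _ _).mp hc (φ u 0)
    (by rw [tb_ones]; exact decide_eq_true ((act.orb _).mpr ⟨u, rfl⟩)))
  obtain ⟨t, ht, rfl⟩ := List.mem_map.mp hO
  obtain ⟨h3, h4, h5, h6⟩ := hX.forall t ht
  rw [Bool.and_eq_true, beq_iff_eq] at hw
  obtain ⟨_, ⟨s, hs, rfl⟩, e⟩ := (hl.lsub_le hw.1 ▸ hw.2 ▸ h5 _ h2 :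
    φ u 0 ∈ orbS ((wsub n g SW).map φ) t.2.1)
  refine ⟨s, hs, _, h6, (s * Spor.ev (atm n g) t.1)⁻¹ * u, ?_, by group⟩
  rw [← act.stab, map_mul, map_inv, Perm.mul_apply, Perm.inv_eq_iff_eq, map_mul, Perm.mul_apply,
    hl.evW h3, h4, e]

end

end Cfsg.Agent.Spor
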