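/-
Lemmas for subgroups of small index in a point stabiliser.
-/
import Cfsg.Agent.Spor.R3C
import Cfsg.Agent.Spor.Sub3
import Cfsg.Agent.Spor.Norm2
import Cfsg.Agent.Spor.PX

set_option autoImplicit false

namespace Cfsg.Agent.Spor

open Equiv

section
variable {U : Tab} {Kb : ℕ} {H K Q : Subgroup (Perm ℕ)}

theorem Tab.gz {W : List (List ℕ)} {GZ : List ℕ} {A : Subgroup (Perm ℕ)} (hA : U.lsub W ≤ A)
    (h : GZ.all (fun z => W.contains [z] || (W.contains [z - 1] &&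
      band (Nat.beq (U.let z).ni (U.let (z - 1)).ni) (xor (U.let z).inv (U.let (z - 1)).inv))) = true) :
    ∀ z ∈ GZ, U.τ z ∈ A := fun z hz => by
  have h1 := List.all_eq_true.mp h z hz
  rw [Bool.or_eq_true, Bool.and_eq_true, List.contains_iff_mem, List.contains_iff_mem] at h1
  rcases h1 with h1 | h1
  · simpa using hA (U.mem_lsub h1)
  · exact Tab.mem_inv (by simpa using hA (U.mem_lsub h1.1)) h1.2

/-- words in the letters of `H` fixing a point -/
theorem Tab.Ok.le_stL (hU : U.Ok Kb) {W : List (List ℕ)} {GZ : List ℕ} (hG : ∀ z ∈ GZ, U.τ z ∈ H)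
    {p : ℕ} (hc : band (lall (lall (memL GZ)) W) (U.closedW W (Nat.shiftLeft 1 p)) = true) :
    U.lsub W ≤ StL H [p] := by
  simp only [band_eq, Bool.and_eq_true, lall_iff, memL_iff] at hc
  exact fun g hg => mem_StL1.mpr ⟨Tab.lsub_le (fun w hw => evA_mem _ _ _ fun z hz =>
    hG z (hc.1 w hw z hz)) hg, hU.fixes hc.2 g hg⟩

theorem Tab.evA_mem_gz {GZ w : List ℕ} (hG : ∀ z ∈ GZ, U.τ z ∈ H) (hc : lall (memL GZ) w = true) :
    evA U.τ w ∈ H := by
  simp only [lall_iff, memL_iff] at hc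
  exact evA_mem _ _ _ fun z hz => hG z (hc z hz)

theorem Tab.lsub_le_gz {GZ : List ℕ} {W : List (List ℕ)} (hG : ∀ z ∈ GZ, U.τ z ∈ H)
    (hc : lall (lall (memL GZ)) W = true) : U.lsub W ≤ H :=
  Tab.lsub_le fun w hw => Tab.evA_mem_gz hG ((lall_iff _ _).mp hc w hw)

theorem InvM.orb {X p q : ℕ} (h : InvM K X) (hq : q ∈ orbS K p) : X.testBit q = X.testBit p := by
  obtain ⟨g, hg, rfl⟩ := hq
  exact h g hg p

theorem invM_of_orb {X p : ℕ} (h : ∀ q, q ∈ orbS K p ↔ X.testBit q = true) : InvM K X :=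
  fun g hg q => by
    rw [Bool.eq_iff_iff, ← h, ← h]
    exact ⟨fun h1 => by simpa using orbS_inv le_rfl p _ (inv_mem hg) _ h1, orbS_inv le_rfl p g hg q⟩

theorem dvd_of_reach (hK : K ≤ H) (hQ : Q ≤ K) {b O : ℕ} (hr : Reach Q b O)
    (hO : orbS H b = {c | O.testBit c = true}) : (orbS H b).ncard ∣ Nat.card K := by
  refine dvd_card_orb (p := b) (congrArg _ (Set.Subset.antisymm (orbS_mono hK b) fun c hc => ?_))
  exact orbS_mono hQ b (hr c (by rwa [hO] at hc))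

theorem fix_small [Finite K] (hQ : Q ≤ K) {p : ℕ} (hp : p.Prime) (h : IsPGroup p Q) {b : ℕ}
    (hs : (orbS K b).ncard < p) : ∀ g ∈ Q, ∀ q ∈ orbS K b, g q = q := fun g hg q hq => by
  have := Fact.mk hp
  have : Finite Q := Finite.of_injective _ (Subgroup.inclusion_injective hQ)
  obtain ⟨e, he⟩ := h.exists_card_eq
  obtain ⟨i, -, hi⟩ := (Nat.dvd_prime_pow hp).mp (he ▸ dvd_card_orb (A := Q) (p := q) rfl)
  have h1 : (orbS Q q).ncard ≤ (orbS K b).ncard := Set.ncard_le_ncard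
    (by rw [← orbS_eq_of_mem hq]; exact orbS_mono hQ q) (by rw [orbS_eq_range]; exact Set.finite_range _)
  refine fix_of_ncard ?_ g hg
  rcases i with - | i
  · simpa using hi
  · exact absurd (h1.trans_lt hs) (not_lt.mpr (hi ▸ Nat.le_self_pow (by omega) p))

theorem isPGroup_cj {p : ℕ} (h : IsPGroup p Q) (u : Perm ℕ) : IsPGroup p (cj u Q) := h.map _

theorem cj_inv_le {u : Perm ℕ} (h : Q ≤ cj u K) : cj u⁻¹ Q ≤ K := fun g hg => by
  simpa [mul_assoc] using mem_cj.mp (h (mem_cj.mp hg))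

theorem Tab.lsub_single (U : Tab) (w : List ℕ) : U.lsub [w] = Subgroup.zpowers (evA U.τ w) :=
  le_antisymm (Tab.lsub_le fun x hx => by rw [List.mem_singleton.mp hx]; exact Subgroup.mem_zpowers _)
    (by rw [Subgroup.zpowers_le]; exact U.mem_lsub List.mem_cons_self)

theorem evA_replicate (τ : ℕ → Perm ℕ) (w : List ℕ) (m : ℕ) :
    evA τ (List.replicate m w).flatten = evA τ w ^ m := by
  induction m with
  | zero => rfl
  | succ m ih => rw [List.replicate_succ, List.flatten_cons, evA_append, ih, pow_succ]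

theorem Tab.isPGroup_single {w l : List ℕ} {p : ℕ} (hp : p.Prime) (h : evA U.τ l = 1)
    (hc : (l == (List.replicate p w).flatten) = true) : IsPGroup p (U.lsub [w]) := by
  rw [beq_iff_eq.mp hc, evA_replicate] at h
  refine isPGroup_of_dvd (e := 1) hp ?_
  rw [U.lsub_single, Nat.card_zpowers, pow_one]
  exact orderOf_dvd_of_pow_eq_one h

theorem Tab.Ok.tb_shrink (hU : U.Ok Kb) {W : List (List ℕ)} {S : Set ℕ}
    (hS : ∀ g ∈ U.lsub W, ∀ q ∈ S, g q ∈ S) (l : List ℕ) {F : ℕ} (hF : ∀ q ∈ S, F.testBit q = true) :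
    ∀ q ∈ S, (U.shrink W l F).testBit q = true := by
  induction l generalizing F with
  | nil => exact hF
  | cons i l ih =>
    refine ih (F := Nat.land F (U.pushL (nth [] W i) F)) fun q hq => ?_
    obtain ⟨q, rfl⟩ := (evA U.τ (nth [] W i)).surjective q
    rw [tb_land, hF _ hq, hU.tb_pushL, hF]
    · rfl
    · simpa using hS _ (inv_mem (U.nth_mem_lsub W i)) _ hq

theorem ncard_le_of_bits {S : Set ℕ} {F s : ℕ} (hF : ∀ q ∈ S, F.testBit q = true)
    (hs : sizeOk Kb F s = true) : S.ncard ≤ s :=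
  sizeOk_sound hs ▸ Set.ncard_le_ncard hF (finite_bits F)

theorem fix_of_bits {b F : ℕ} (hF : ∀ q ∈ orbS K b, F.testBit q = true)
    (hs : Nat.beq F (Nat.shiftLeft 1 b) = true) : ∀ g ∈ K, g b = b := fun g hg => by
  have := hF _ ⟨g, hg, rfl⟩
  rw [Nat.beq_eq.mp hs, tb_shl_one, decide_eq_true_eq] at this
  exact this.symm

end

/-- letters of the conjugate of `z` by `w` -/
noncomputable def cjw (w z : List ℕ) : List ℕ := toL (w ++ (z ++ invW 0 w []))

section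
variable {Γ : Type*} [Group Γ] {φ : Γ →* Perm ℕ} {U : Tab} {n m : ℕ} {g : ℕ → Γ}

theorem Tab.Link.cjw (hl : U.Link φ (atm n g) m) {w z : List ℕ}
    (hw : lall (fun y => Nat.blt y m) (w ++ (z ++ invW 0 w [])) = true) :
    evA U.τ (cjw w z) = φ (Spor.ev (atm n g) w * Spor.ev (atm n g) z * (Spor.ev (atm n g) w)⁻¹) := by
  rw [Spor.cjw, ← hl.evW hw, ev_append, ev_append, ev_invW (ivOk_zero n g), ev_nil, mul_one, mul_assoc]

theorem Tab.Link.lsub_eq (hl : U.Link φ (atm n g) m) {SW W : List (List ℕ)}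
    (hw : (lall (lall fun y => Nat.blt y m) SW && (W == SW.map toL)) = true) :
    U.lsub W = (wsub n g SW).map φ := by
  rw [Bool.and_eq_true, beq_iff_eq] at hw
  rw [hw.2, hl.lsub_le hw.1]

/-- conjugates of the generators of `Z` lie in `K` -/
theorem Tab.Link.cj_le (hl : U.Link φ (atm n g) m) {ZW W : List (List ℕ)} {w : List ℕ}
    (hw : (lall (fun z => lall (fun y => Nat.blt y m) (w ++ (z ++ invW 0 w []))) ZW &&
      (W == ZW.map (Spor.cjw w))) = true) {K : Subgroup (Perm ℕ)}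
    (h : ∀ z ∈ wsub n g ZW, φ (Spor.ev (atm n g) w * z * (Spor.ev (atm n g) w)⁻¹) ∈ K) :
    U.lsub W ≤ K := by
  rw [Bool.and_eq_true, beq_iff_eq, lall_iff] at hw
  refine Tab.lsub_le fun u hu => ?_
  obtain ⟨z, hz, rfl⟩ := List.mem_map.mp (hw.2 ▸ hu)
  rw [hl.cjw (hw.1 z hz)]
  exact h _ (mem_wsub g hz)

theorem Tab.lsub_app {W W' : List (List ℕ)} {K : Subgroup (Perm ℕ)} (h : U.lsub W ≤ K)
    (h' : U.lsub W' ≤ K) : U.lsub (W ++ W') ≤ K := Tab.lsub_le fun _ hw =>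
  (List.mem_append.mp hw).elim (fun h1 => h (U.mem_lsub h1)) fun h1 => h' (U.mem_lsub h1)

theorem conj_shift {M Z : Subgroup Γ} (hM : ∀ x ∈ M, ∀ z ∈ Z, x * z * x⁻¹ ∈ Z) {s w x z : Γ}
    (hx : x ∈ M) (hz : z ∈ Z) :
    ∃ z' ∈ Z, w * z * w⁻¹ = s⁻¹ * (s * w * x * z' * (s * w * x)⁻¹) * s :=
  ⟨_, hM _ (inv_mem hx) z hz, by group⟩

end

namespace Rk3
variable {G H B : Subgroup (Perm ℕ)} {N b c k l : ℕ} (h : Rk3 G N b c k l)
include h

omit h in
theorem inv (st : StL G [0] = H) {p : ℕ} (hB : B ≤ StL H [p]) :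
    ∀ g ∈ B, ∀ q ∈ {q | Adj G b p q}, g q ∈ {q | Adj G b p q} := fun g hg q hq => by
  have h1 := mem_StL1.mp (hB hg)
  rw [Set.mem_setOf_eq, ← h1.2, adj_smul (st.ge h1.1).1]
  exact hq

theorem tb (p : ℕ) : ∀ q ∈ {q | Adj G b p q}, (ones N).testBit q = true := fun q hq => by
  rw [tb_ones]; exact decide_eq_true (h.adj_lt hq).2

theorem ind0 : ind {q | Adj G b b q} 0 = 1 ∧ ind {q | Adj G b b q} b = 0 ∧
    ind {q | Adj G b c q} 0 = 0 ∧ ind {q | Adj G b c q} c = 0 :=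
  ⟨ind_one.mpr (h.symm (adj_zero.mpr (self_mem_orbS _ _))), ind_zero.mpr (h.irrefl b),
    ind_zero.mpr fun e => h.disj (adj_zero.mp (h.symm e)) (self_mem_orbS _ _),
    ind_zero.mpr (h.irrefl c)⟩

end Rk3

theorem link_self (U : Tab) (gs : List ℕ) (n : ℕ) (h : ∀ j < n, U.fP gs j = U.τ (2 * j + 1))
    (h' : allN (fun j => band (Nat.beq (U.let (2 * j + 2)).ni (U.let (2 * j + 1)).ni)
      (xor (U.let (2 * j + 2)).inv (U.let (2 * j + 1)).inv)) n = true) :
    U.Link (gsub n (U.fP gs)).subtype (atm n (lift (gsub n (U.fP gs)) (U.fP gs))) (2 * n) :=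
  Tab.Link.of (fun j hj => (lift_gsub _ j hj).trans (h j hj)) h'

end Cfsg.Agent.Spor
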