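/-
Conjugates of a small subgroup inside a subgroup of small index.
-/
import Cfsg.Agent.Spor.R3D

set_option autoImplicit false

namespace Cfsg.Agent.Spor

open Equiv

section
variable {H K Q Z : Subgroup (Perm ℕ)} {b : ℕ}

theorem cj_mul (a c : Perm ℕ) (K : Subgroup (Perm ℕ)) : cj (a * c) K = cj a (cj c K) :=
  Subgroup.ext fun g => by simp only [mem_cj, mul_inv_rev, mul_assoc]

theorem cj_mono (a : Perm ℕ) (h : Q ≤ K) : cj a Q ≤ cj a K := Subgroup.map_mono h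

theorem le_of_cj {s : Perm ℕ} (hs : s ∈ K) (h : cj s Q ≤ K) : Q ≤ K := fun g hg => by
  simpa [mul_assoc] using mul_mem (mul_mem (inv_mem hs) (h ⟨g, hg, rfl⟩)) hs

theorem le_cj_inv {s : Perm ℕ} (h : cj s Q ≤ K) : Q ≤ cj s⁻¹ K := fun g hg =>
  mem_cj.mpr (by simpa using h ⟨g, hg, rfl⟩)

/-- all conjugates of `Z` inside `K` fix `b`, so they fix its orbit -/
theorem fix_by_conj {Y : List ℕ → Subgroup (Perm ℕ)} {P : List ℕ → Prop} (hK : K ≤ H) (hQ : Q ≤ K)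
    (hb : ∀ s ∈ Q, s b = b) (conj : ∀ u ∈ H, ∃ s ∈ Q, ∃ w, P w ∧ cj u Z = cj s (Y w))
    (hP : ∀ w, P w → Y w ≤ K → ∀ g ∈ Y w, g b = b) (h : ∃ h ∈ H, Z ≤ cj h K) :
    ∃ w, P w ∧ Y w ≤ K ∧ ∀ g ∈ Y w, ∀ q ∈ orbS K b, g q = q := by
  have key : ∀ u ∈ H, cj u Z ≤ K → ∀ g ∈ cj u Z, g b = b := fun u hu h1 g hg => by
    obtain ⟨s, hs, w, h2, e⟩ := conj u hu
    rw [e] at h1 hg
    obtain ⟨x, hx, rfl⟩ := hg
    have h3 : s⁻¹ b = b := hb _ (inv_mem hs)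
    show s (x (s⁻¹ b)) = b
    rw [h3, hP w h2 (le_of_cj (hQ hs) h1) x hx, hb s hs]
  obtain ⟨h, hh, h1⟩ := h
  obtain ⟨s, hs, w, h2, e⟩ := conj _ (inv_mem hh)
  have h3 := cj_inv_le h1
  refine ⟨w, h2, le_of_cj (hQ hs) (e ▸ h3), ?_⟩
  rintro g hg _ ⟨k, hk, rfl⟩
  have h4 : (s * k)⁻¹ ∈ K := inv_mem (mul_mem (hQ hs) hk)
  have := key _ (mul_mem (hK h4) (inv_mem hh)) (by rw [cj_mul]; exact cj_le h3 h4) (k⁻¹ * g * k)
    (by rw [cj_mul, e]; simpa [mem_cj, mul_assoc] using hg)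
  simpa [Equiv.symm_apply_eq] using this

/-- an orbit smaller than `p` lies in the fixed points of a conjugate of a `p`-subgroup -/
theorem small_le [Finite K] (hK : K ≤ H) {p : ℕ} (hp : p.Prime) (hQ : IsPGroup p Q)
    (h : ∃ h ∈ H, Q ≤ cj h K) {b0 F s Kb : ℕ} (hb : b ∈ orbS H b0) (hs : (orbS K b).ncard < p)
    (hF : ∀ q ∈ orbS H b0, (∀ g ∈ Q, g q = q) → F.testBit q = true) (hc : sizeOk Kb F s = true) :
    (orbS K b).ncard ≤ s := by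
  obtain ⟨h, hh, h1⟩ := h
  have : Finite (cj h K) := Finite.of_surjective _ (MonoidHom.subgroupMap_surjective _ K)
  rw [← ncard_orbS_cj h] at hs ⊢
  refine ncard_le_of_bits (fun q hq => hF q ?_ fun g hg => fix_small h1 hp hQ hs g hg q hq) hc
  rw [← orbS_eq_of_mem hb]
  obtain ⟨u, hu, rfl⟩ := hq
  exact ⟨u * h, mul_mem (cj_le hK hh hu) hh, rfl⟩

end

section
variable {Γ : Type*} [Group Γ] {φ : Γ →* Perm ℕ} {U : Tab} {n m : ℕ} {g : ℕ → Γ}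

theorem Tab.Link.cj_eq (hl : U.Link φ (atm n g) m) {ZW : List (List ℕ)} {w : List ℕ}
    (hw : lall (fun z => lall (fun y => Nat.blt y m) (w ++ (z ++ invW 0 w []))) ZW = true) :
    U.lsub (ZW.map (Spor.cjw w)) = cj (φ (Spor.ev (atm n g) w)) ((wsub n g ZW).map φ) := by
  refine le_antisymm (hl.cj_le (w := w) (by rw [hw, Bool.true_and, beq_self_eq_true])
    fun z hz => ⟨_, ⟨z, hz, rfl⟩, by simp⟩) ?_
  rw [cj, Subgroup.map_map, Subgroup.map_le_iff_le_comap]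
  refine wsub_le fun z hz => ?_
  have := U.mem_lsub (List.mem_map_of_mem (f := Spor.cjw w) hz)
  rw [hl.cjw ((lall_iff _ _).mp hw z hz)] at this
  simpa using this

theorem Tab.Link.norm [Finite Γ] (hl : U.Link φ (atm n g) m) (hφ : Function.Injective φ)
    {BW ZW W : List (List ℕ)} {I : List (List (List ℕ))}
    (hw : (lall (lall fun y => Nat.blt y m) (normList 0 BW ZW I) &&
      (W == (normList 0 BW ZW I).map toL)) = true) (h : AllP (fun w => evA U.τ w = 1) W) :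
    ∀ x ∈ wsub n g BW, ∀ z ∈ wsub n g ZW, x * z * x⁻¹ ∈ wsub n g ZW :=
  norm_of_list (ivOk_zero n g) (hl.ones hφ hw h)

theorem cj_of_norm {M Z : Subgroup Γ} (hM : ∀ x ∈ M, ∀ z ∈ Z, x * z * x⁻¹ ∈ Z) {x : Γ} (hx : x ∈ M) :
    cj (φ x) (Z.map φ) = Z.map φ := by
  ext y
  rw [mem_cj]
  constructor
  · rintro ⟨z, hz, e⟩
    exact ⟨_, hM x hx z hz, by simp [e, mul_assoc]⟩
  · rintro ⟨z, hz, rfl⟩
    exact ⟨_, hM _ (inv_mem hx) z hz, by simp⟩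

theorem Tab.Link.conjZ (hl : U.Link φ (atm n g) m) {M : Subgroup Γ} {ZW SW SL ZL WL : List (List ℕ)}
    (hM : ∀ x ∈ M, ∀ z ∈ wsub n g ZW, x * z * x⁻¹ ∈ wsub n g ZW)
    (hS : (lall (lall fun y => Nat.blt y m) SW && (SL == SW.map toL)) = true)
    (hZ : (lall (lall fun y => Nat.blt y m) ZW && (ZL == ZW.map toL)) = true)
    (hW : lall (fun w => lall (fun z => lall (fun y => Nat.blt y m) (w ++ (z ++ invW 0 w []))) ZW)
      WL = true)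
    (conj : ∀ u : Γ, ∃ s ∈ wsub n g SW, ∃ w, w ∈ WL ∧ ∃ x ∈ M, u = s * Spor.ev (atm n g) w * x) :
    ∀ u ∈ φ.range, ∃ s ∈ U.lsub SL, ∃ w, w ∈ WL ∧
      cj u (U.lsub ZL) = cj s (U.lsub (ZW.map (Spor.cjw w))) := by
  rintro _ ⟨u, rfl⟩
  obtain ⟨s, hs, w, hw, x, hx, rfl⟩ := conj u
  refine ⟨φ s, (hl.lsub_eq hS).ge ⟨s, hs, rfl⟩, w, hw, ?_⟩
  rw [hl.cj_eq ((lall_iff _ _).mp hW w hw), hl.lsub_eq hZ, map_mul, map_mul, cj_mul, cj_mul,
    cj_of_norm hM hx]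

end

theorem Tab.Link.isPGroup {Γ : Type} [Group Γ] {φ : Γ →* Perm ℕ} {U : Tab} {n m : ℕ} {g : ℕ → Γ}
    (hl : U.Link φ (atm n g) m) (hφ : Function.Injective φ) {QW QL W RL : List (List ℕ)} {k p e : ℕ}
    (b : Bound QW.length k RL (p ^ e)) (hp : p.Prime)
    (hQ : (lall (lall fun y => Nat.blt y m) QW && (QL == QW.map toL)) = true)
    (hw : (lall (lall fun y => Nat.blt y m) (subList 0 QW k RL) &&
      (W == (subList 0 QW k RL).map toL)) = true) (h : AllP (fun w => evA U.τ w = 1) W) :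
    IsPGroup p (U.lsub QL) := by
  rw [hl.lsub_eq hQ]
  exact (isPGroup_of_dvd hp (b _ _ (Pres.of_subList (k := 0) (ivOk_zero n g) (hl.ones hφ hw h)))).map φ

theorem Rk3.recog {G P : Subgroup (Perm ℕ)} {N b c b' c' k l : ℕ} (h : Rk3 G N b' c' k l)
    (hP : Rk3 P N b c k l) (e : StL G [0] ≃* StL P [0])
    (C1 : ∀ K ≤ StL P [0], k * Nat.card K = Nat.card (StL P [0]) →
      ∃ p ∈ orbS (StL P [0]) b, ∀ g ∈ K, g p = p)
    (C2 : ∀ K ≤ StL P [0], l * Nat.card K = Nat.card (StL P [0]) →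
      (∃ p ∈ orbS (StL P [0]) b, l * (orbS K b).ncard = k * (orbS (StL (StL P [0]) [b]) p).ncard) →
      ∃ p ∈ orbS (StL P [0]) c, ∀ g ∈ K, g p = p) (hn : ¬ k + 1 ∣ N)
    (gr : ∀ {G'}, Rk3 G' N b c k l → StL G' [0] = StL P [0] → G' ≤ AutG (Adj P b) N)
    (h2 : Nat.card (AutG (Adj P b) N) ≤ 2 * Nat.card P) (h3 : commutator P = ⊤) :
    Nonempty (G ≃* P) := by
  have := hP.fin [0]
  obtain ⟨b1, hb, m1⟩ := exists_match (h.ob.trans hP.ob.symm)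
    (C1 _ pullS_le (h.ob ▸ card_pullS (e := e) (x := b')))
  have h1 := h.move hb (self_mem_orbS _ c')
  obtain ⟨_, ⟨u, hu, rfl⟩, h4, h5⟩ : ∃ p ∈ orbS (StL G [0]) b1, p ≠ b1 ∧ ¬ Adj G b1 b1 p := by
    by_contra! h4
    exact hn (h1.block h4)
  obtain ⟨c1, hc, h6⟩ := h1.triple ⟨u, hu, rfl⟩ h4 h5
  have h7 := h1.move (self_mem_orbS _ b1) hc
  rw [StL_cons, StL_cons G [0], ← m1.orb, ← (m1.smul ⟨u, hu⟩).orb, m1.pullS_eq] at h6
  obtain ⟨c2, hc', m2⟩ := exists_match (h7.oc.trans hP.oc.symm)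
    (C2 _ pullS_le (h7.oc ▸ card_pullS (e := e) (x := c1)) ⟨_, ⟨_, (e ⟨u, hu⟩).2, rfl⟩, h6⟩)
  obtain ⟨G', ⟨e1⟩, h8, h9⟩ := (h7.move (self_mem_orbS _ b1) hc').transport hP m1 m2
  exact ⟨e1.trans (MulEquiv.subgroupCongr (h8.eq_of_aut hP h9 (gr h8 h9) h2 h3))⟩

end Cfsg.Agent.Spor
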