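import Cfsg.Agent.Spor.PX5
import Cfsg.Prelude.Def_ChevWords

set_option autoImplicit false

namespace Cfsg.Agent.Spor

open Cfsg.Lie

section
variable {A : PA} {F : Type} [Field F] {D : ChevalleyDatum} {e : D.Idx ≃ Fin A.d}

theorem root_dec (hp : (A.p : F) = 0) {x r : ℕ} (hr : r < D.nroots) {t : F} (s : ℤ) (ht : t = s)
    (he : ∀ i j, (A.ent x (e i) (e j) : ℤ) % A.p =
      ((xl D ⟨r, hr⟩ i j).map fun km => km.2 * s ^ km.1).sum % A.p) :
    Matrix.reindexAlgEquiv F F e (D.x F r t) = A.dec F x := by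
  ext i j
  obtain ⟨i, rfl⟩ := e.surjective i
  obtain ⟨j, rfl⟩ := e.surjective j
  rw [PA.dec, Matrix.of_apply, cast_eq_of_mod hp (he i j), ChevalleyDatum.x, dif_pos hr,
    Int.cast_list_sum, List.map_map, ht]
  simp [xMat_xl, Function.comp_def]

theorem word_dec (sq : A.sq = true) (hp : (A.p : F) = 0) {w : List (ℕ × F)} {L : List ℕ}
    (h : List.Forall₂ (fun p x => A.can x = true ∧
      Matrix.reindexAlgEquiv F F e (D.x F p.1 p.2) = A.dec F x) w L) {z : ℕ} (hz : A.Can A.d z) :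
    A.dec F (A.prod L z) = A.dec F z * Matrix.reindexAlgEquiv F F e (D.wordMat F w) := by
  induction h generalizing z with
  | nil => simp [ChevalleyDatum.wordMat, PA.prod]
  | cons h _ ih =>
    have h1 := PA.mul_spec sq hp hz (PA.can_sq sq h.1)
    refine (ih h1.1).trans ?_
    rw [h1.2, ← h.2, mul_assoc, ← map_mul]
    rfl

theorem word_M {sq : A.sq = true} {hp : (A.p : F) = 0} {S : Set (List (ℕ × F))} {w : List (ℕ × F)}
    (hw : w ∈ S) {L : List ℕ} (h : List.Forall₂ (fun p x => A.can x = true ∧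
      Matrix.reindexAlgEquiv F F e (D.x F p.1 p.2) = A.dec F x) w L) {x y : ℕ}
    (h1 : Nat.beq (A.prod L A.one) x = true)
    (h2 : band (A.can x) (band (A.can y) (Nat.beq (A.mul x y) A.one)) = true) :
    (subRep (D.genSubgroup F S) e sq hp).M x :=
  subRep_M h2 fun g hg => Subgroup.subset_closure ⟨w, hw, by
    have h3 := word_dec sq hp h (PA.can_one sq)
    rw [Nat.beq_eq.mp h1, PA.dec_one sq, one_mul] at h3
    ext i j
    simpa [hg, PA.dec] using congrFun (congrFun h3 (e i)) (e j)⟩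

end

end Cfsg.Agent.Spor
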