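import Cfsg.Agent.Spor.C3Bd
import Cfsg.Agent.Spor.C3M.Main

set_option autoImplicit false
set_option maxRecDepth 100000000

namespace Cfsg.Agent.Spor.C3D

theorem bM : Bound 5 5 C3M.RL (170775 * (135 * 21504)) :=
  C3M.cert.bound bK (H := [([], 28, false), ([], 28, false), ([], 28, false), ([], 28, false), ([], 0, true), ([], 1, true), ([], 2, true), ([], 3, true), ([], 4, true), ([], 5, true), ([], 6, true), ([], 7, true), ([], 8, true), ([], 9, true), ([], 10, true), ([], 11, true), ([], 12, true), ([], 13, true)]) (by decide +kernel)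

end Cfsg.Agent.Spor.C3D
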