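/-
Five involutions generating the third Conway group.
-/
import Cfsg.Agent.Spor.C3L0
import Cfsg.Agent.Spor.C3M.T

set_option autoImplicit false

namespace Cfsg.Agent.Spor.C3L

open Cfsg Cfsg.Agent.Lee Cfsg.Agent.Gol MulAction

theorem c1 : lall (fixOk [cu0]) cs = true ∧ lall (wOk cs) (Ctx.sqRL 5 C3M.RL) = true := by
  decide +kernel

theorem c2 : orbX [] [(cu0, 48)] cs [cx1] 11178 (fun _ => true) = true := by decide +kernel

theorem c3 : lall (fixOk [cu0, cw0]) HSC.cs = true ∧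
    lall (wOk HSC.cs) (Ctx.sqRL 5 HSpa.RL) = true ∧ wact HSC.cs [0] cv0 ≠ cv0 ∧
    okV 32 cv0 = true := by
  decide +kernel

theorem c4 : ∀ j < 5, wOk (cs ++ HSC.cs) (ws.getD j [] ++ [2 * (5 + j)]) = true ∧
    ∀ y ∈ ws.getD j [], y < 2 * 5 := by
  decide +kernel

noncomputable def f (j : ℕ) : Co0 := co (cs.getD j 0)
noncomputable def g (j : ℕ) : Co0 := co (HSC.cs.getD j 0)

theorem ok1 : ∀ c ∈ cs, Lee.okC c = true ∧ co c ∈ FV ([cu0].map lv) := fun c hc =>
  fixOk_sound ((lall_iff _ _).1 c1.1 c hc)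

theorem ok3 : ∀ c ∈ HSC.cs, Lee.okC c = true ∧ co c ∈ FV ([cu0, cw0].map lv) := fun c hc =>
  fixOk_sound ((lall_iff _ _).1 c3.1 c hc)

theorem pf : Pres 5 5 C3M.RL f :=
  Ctx.pres_of_sqRL fun l hl => wOk_sound (fun c hc => (ok1 c hc).1) ((lall_iff _ _).1 c1.2 l hl)

theorem pg : Pres 5 5 HSpa.RL g :=
  Ctx.pres_of_sqRL fun l hl => wOk_sound (fun c hc => (ok3 c hc).1) ((lall_iff _ _).1 c3.2.1 l hl)

theorem getD_mem {l : List ℕ} {j : ℕ} (h : j < l.length) : l.getD j 0 ∈ l := by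
  rw [List.getD_eq_getElem _ _ h]; exact List.getElem_mem h

theorem hs_eq' : gsub 5 g = stabilizer Co0 u0 ⊓ stabilizer Co0 w0 := by
  have h3 := c3.2.2.2
  obtain ⟨e, -⟩ := iso_of_simple HSpa.bound (by norm_num) HSpa.cert.pres pg
    (HSpa.cardP ▸ dvd_rfl) HSpa.simpleP (w := [0]) fun e => c3.2.2.1 (by
      have := enc_ev (fun c hc => (ok3 c hc).1) (w := [0]) (by decide) (v := lv cv0)
        (by rw [(okV_sound h3).1]; norm_num)
      rw [(okV_sound h3).2.1] at this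
      rw [← this]
      exact (congrArg (fun g : Co0 => enc (g • lv cv0 : Λ)) e).trans
        (by rw [one_smul, (okV_sound h3).2.1]))
  refine Subgroup.eq_of_le_of_card_ge (gsub_le fun j hj => ?_) ?_
  · have := (ok3 _ (getD_mem (l := HSC.cs) hj)).2
    simp only [mem_FV, List.map, List.forall_mem_cons, lv_w0, lv_u0] at this
    exact ⟨this.1, this.2.1⟩
  · rw [isHS.2, ← Nat.card_congr e.toEquiv, HSpa.cardP]

theorem g_mem {j : ℕ} (hj : j < 5) : g j ∈ gsub 5 f := by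
  have h := wOk_sound (cs := cs ++ HSC.cs) (fun c hc =>
    (List.mem_append.mp hc).elim (fun h => (ok1 c h).1) fun h => (ok3 c h).1) (c4 j hj).1
  have l : (cs ++ HSC.cs).length = 10 := rfl
  rw [l, ev_append, ev_cons, ev_nil, mul_one, atm_two_mul _ (by omega),
    ev_atm_lt (n := 5) (by norm_num) _ (c4 j hj).2, atm_congr (g := f) fun i hi => by
      rw [f, List.getD_append _ _ _ _ hi], List.getD_append_right _ _ _ _ (Nat.le_add_right 5 j),
    mul_eq_one_iff_inv_eq] at h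
  have e : 5 + j - cs.length = j := Nat.add_sub_cancel_left (n := 5) (m := j)
  rw [e] at h
  exact (show _ = g j from h) ▸ inv_mem (ev_atm_mem _ _ _)

theorem f_eq : gsub 5 f = stabilizer Co0 u0 := by
  have h1 : gsub 5 f ≤ FV ([cu0].map lv) := gsub_le fun j hj => (ok1 _ (getD_mem (l := cs) hj)).2
  refine le_antisymm (fun x hx => by simpa [mem_FV, lv_u0] using h1 hx) fun x hx => ?_
  have hx1 := inX_sound (F := [(cu0, 48)]) (r := cx1) (by decide +kernel)
  obtain ⟨r, hr, k, hk, e⟩ := (orbX_gen c2 n11178 (K := gsub 5 f) (fun c hc => by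
    obtain ⟨j, hj, rfl⟩ := List.getElem_of_mem hc
    rw [← List.getD_eq_getElem _ 0 hj]
    exact mem_gsub f hj) h1).1 (x • lv cx1)
      (XC_smul (E := []) (by simpa [mem_FV, lv_u0] using hx) hx1)
  rw [List.mem_singleton.mp hr, lv_x1, co_neg, co_neg, neg_inj] at e
  have h2 : k • u0 = u0 := by simpa [mem_FV, lv_u0] using h1 hk
  have h3 : k⁻¹ * x ∈ gsub 5 g := by
    rw [hs_eq']
    exact ⟨mem_stabilizer_iff.mpr <| by rw [mul_smul, mem_stabilizer_iff.mp hx, inv_smul_eq_iff, h2],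
      mem_stabilizer_iff.mpr <| by rw [mul_smul, ← e, inv_smul_smul]⟩
  simpa using mul_mem hk (gsub_le (K := gsub 5 f) (fun j hj => g_mem hj) h3)

theorem co3 : Nonempty (stabilizer Co0 u0 ≃* Cfsg.Spor.Co3) := by
  obtain ⟨k, hk⟩ := trans3 Stn.hs_v
  have e : Cfsg.Spor.Co3 = (stabilizer Co0 Cfsg.Spor.leechV).map Co0.subtype := by
    ext g
    simp only [Cfsg.Spor.Co3, Subgroup.mem_inf, mem_stabilizer_iff, Subgroup.mem_map]
    exact ⟨fun h => ⟨⟨g, h.1⟩, h.2, rfl⟩, fun ⟨x, h, e⟩ => e ▸ ⟨x.2, h⟩⟩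
  exact ⟨(conjEquiv k (K' := stabilizer Co0 Cfsg.Spor.leechV)
    fun x => hk ▸ cj_iff k x u0 u0).trans
      ((Subgroup.equivMapOfInjective _ _ Subtype.val_injective).trans (MulEquiv.subgroupCongr e.symm))⟩

theorem iso {G : Type} [Group G] (b : Bound 5 5 C3M.RL (170775 * (135 * 21504))) (F : ℕ → G)
    (hF : Pres 5 5 C3M.RL F) (ht : gsub 5 F = ⊤) (h1 : F 0 ≠ 1) : Cfsg.Spor.IsoCo3 G := by
  obtain ⟨e, -⟩ := iso_of_simple b (by norm_num) pf hF (by rw [f_eq, card_stab3 nm_u0])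
    (f_eq ▸ simple_Co3) (w := [0]) (by
      rwa [ev_cons, ev_nil, mul_one, atm_two_mul F (j := 0) (by norm_num)])
  obtain ⟨e1⟩ := co3
  exact ⟨((Subgroup.topEquiv.symm.trans (MulEquiv.subgroupCongr ht.symm)).trans e.symm).trans
    ((MulEquiv.subgroupCongr f_eq).trans e1)⟩

end Cfsg.Agent.Spor.C3L
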