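/-
Bounds and hints for the amalgam.
-/
import Cfsg.Agent.Spor.DC
import Cfsg.Agent.Spor.C3D.D0
import Cfsg.Agent.Spor.C3M.T
import Cfsg.Agent.Spor.C3V.Main
import Cfsg.Agent.Spor.C3N.Main
import Cfsg.Agent.Spor.C3E.Main
import Cfsg.Agent.Spor.C3F.Main
import Cfsg.Agent.Spor.C3W.Main
import Cfsg.Agent.Spor.C3H.Main
import Cfsg.Agent.Spor.C3K.Main
import Cfsg.Agent.Spor.C3VM.L.Main
import Cfsg.Agent.Spor.C3EM.L.Main

set_option autoImplicit false
set_option maxRecDepth 100000000

namespace Cfsg.Agent.Spor.C3D

theorem bV : Bound 4 4 C3V.RL (3 * 9216) := (C3V.cert.bound' C3N.cert.bound_nil (H := [([], 0, true), ([], 1, true), ([], 2, true), ([], 3, true), ([], 4, true), ([], 5, true), ([], 6, true), ([], 7, true), ([], 8, true)]) (H' := [([], 9, false), ([], 9, false), ([], 9, false), ([], 0, true), ([], 1, true), ([], 2, true), ([], 3, true), ([], 4, true)]) (by decide +kernel) (by decide +kernel))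

theorem bE : Bound 5 5 C3E.RL (15 * 21504) := (C3E.cert.bound' C3F.cert.bound_nil (H := [([], 0, true), ([], 1, true), ([], 2, true), ([], 3, true), ([], 4, true), ([], 5, true), ([], 6, true), ([], 7, true), ([], 8, true), ([], 9, true), ([], 10, true), ([], 11, true), ([], 12, true), ([], 13, true)]) (H' := [([], 14, false), ([], 14, false), ([], 14, false), ([], 0, true), ([], 1, true), ([], 2, true), ([], 3, true), ([], 4, true), ([], 5, true)]) (by decide +kernel) (by decide +kernel))

theorem bW : Bound 5 5 C3W.RL (105 * 768) := (C3W.cert.bound' C3H.cert.bound_nil (H := [([], 0, true), ([], 1, true), ([], 2, true), ([], 3, true), ([], 4, true), ([], 5, true), ([], 6, true), ([], 7, true), ([], 8, true), ([], 9, true), ([], 10, true), ([], 11, true), ([], 12, true), ([], 13, true), ([], 2, true), ([], 15, true), ([], 1, false)]) (H' := [([], 17, false), ([], 17, false), ([], 17, false), ([], 2, true), ([], 15, true), ([], 1, false)]) (by decide +kernel) (by decide +kernel))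

theorem bK : Bound 4 4 C3K.RL (135 * 21504) := (C3K.cert.bound' C3F.cert.bound_nil (H := [([], 0, true), ([], 1, true), ([], 2, true), ([], 3, true), ([], 4, true), ([], 5, true), ([], 6, true), ([], 7, true), ([], 8, true), ([], 9, true), ([], 10, true), ([], 11, true), ([], 12, true), ([], 13, true)]) (H' := [([], 14, false), ([], 14, false), ([], 14, false), ([], 0, true), ([], 1, true), ([], 2, true), ([], 3, true), ([], 4, true), ([], 5, true)]) (by decide +kernel) (by decide +kernel))

theorem pV : Pres 4 4 C3V.RL C3VM.fP := C3VM.cert.pres.cons (H := [([], 0, true), ([], 1, true), ([], 2, true), ([], 3, true), ([], 4, true), ([], 5, true), ([], 6, true), ([], 7, true), ([], 8, true)]) (by decide +kernel)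

theorem pE : Pres 5 5 C3E.RL C3EM.fP := C3EM.cert.pres.cons (H := [([], 0, true), ([], 1, true), ([], 2, true), ([], 3, true), ([], 4, true), ([], 5, true), ([], 6, true), ([], 7, true), ([], 8, true), ([], 9, true), ([], 10, true), ([], 11, true), ([], 12, true), ([], 13, true)]) (by decide +kernel)

def WV : List (List ℕ) := [[0], [2], [6], [8]]
def WE : List (List ℕ) := [[0], [2], [4], [8], [2, 8, 2, 8, 2, 6, 8, 2, 8, 2, 6, 8, 2, 8]]
def WK : List (List ℕ) := [[2], [4], [6], [8]]
def RH1 : List (List ℕ) := [[0, 6, 0, 6, 0, 6], [0, 2, 0, 8, 2, 6, 8, 2, 8, 6, 2, 8, 2, 8, 6, 2, 8, 6], [0, 8, 2, 8, 0, 8, 6, 2, 8, 6, 2, 8, 6, 2, 8, 2, 8], [0, 6, 8, 2, 8, 6, 0, 6, 2, 8, 2, 8, 2, 6, 8, 2, 8, 2, 6, 8, 2]]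
def gw : List ℕ := [0, 4, 0, 4, 0, 4, 2, 4, 8, 4, 8, 2, 4, 8, 4, 8, 2]
def bw : List ℕ := [0, 4, 0, 4, 0, 4, 8, 2, 4, 2, 8, 4, 2, 4, 8, 2, 8, 4, 8, 2, 8, 2, 8]
noncomputable def K2 : List (List ℕ) := (RK ++ RH1) ++ C3VM.RL.map (subW (2 * 5) WV.length WV)
noncomputable def K4 : List (List ℕ) := (K2 ++ [gw]) ++ C3EM.RL.map (subW (2 * 5) WE.length WE)

theorem kV : consAll (2 * 5) (RK ++ RH1) (subList 5 WV 4 C3V.RL) [([], 27, false), ([], 27, false), ([], 27, false), ([], 27, false), ([], 10, true), ([], 5, true), ([], 11, true), ([], 12, true), ([], 13, true), ([], 23, true), ([], 24, true), ([], 25, true), ([], 26, true)] = true := by decide +kernel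

theorem kK : consAll (2 * 5) (RK ++ RH1) (subList 5 WK 4 C3K.RL) [([], 27, false), ([], 27, false), ([], 27, false), ([], 27, false), ([], 4, true), ([], 5, true), ([], 6, true), ([], 7, true), ([], 8, true), ([], 9, true), ([], 10, true), ([], 11, true), ([], 12, true), ([], 13, true), ([], 14, true), ([], 15, true), ([], 16, true), ([], 17, true)] = true := by decide +kernel

theorem kE : consAll (2 * 5) (K2 ++ [gw]) (subList 5 WE 5 C3E.RL) [([], 46, false), ([], 46, false), ([], 46, false), ([], 46, false), ([], 22, true), ([], 4, true), ([], 5, true), ([], 6, true), ([], 7, true), ([], 8, true), ([], 9, true), ([], 36, true), ([], 37, true), ([], 38, true), ([], 39, true), ([], 40, true), ([], 21, true), ([], 43, true), ([], 45, true)] = true := by decide +kernel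

theorem kW : consAll (2 * 5) (K2 ++ [bw]) (subList 5 WE 5 C3W.RL) [([], 46, false), ([], 46, false), ([], 46, false), ([], 46, false), ([], 22, true), ([], 4, true), ([], 5, true), ([], 6, true), ([], 7, true), ([], 8, true), ([], 9, true), ([], 36, true), ([], 37, true), ([], 38, true), ([], 39, true), ([], 40, true), ([], 21, true), ([], 43, true), ([], 45, true), ([], 6, true), ([], 19, true), ([], 5, false)] = true := by decide +kernel

theorem kM : consAll (2 * 5) K4 C3M.RL [([], 4, true), ([], 5, true), ([], 6, true), ([], 7, true), ([], 8, true), ([], 9, true), ([], 10, true), ([], 11, true), ([], 12, true), ([], 13, true), ([], 14, true), ([], 15, true), ([], 16, true), ([], 17, true), ([], 36, true), ([], 37, true), ([], 38, true), ([], 39, true), ([], 40, true), ([], 23, true), ([], 41, true), ([], 42, true), ([], 60, true), ([], 61, true), ([], 62, true), ([], 63, true), ([], 64, true), ([], 65, true)] = true := by decide +kernel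

end Cfsg.Agent.Spor.C3D
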