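/-
Checkers on sorted tables of packed matrices.
-/
import Cfsg.Agent.Spor.PX0

set_option autoImplicit false

namespace Cfsg.Agent.Spor

noncomputable section

/-- a table: bits per entry, chunks of 32 entries, number of entries -/
structure ST : Type where
  W : Nat
  P : List Nat
  n : Nat

def ST.get (S : ST) (i : Nat) : Nat :=
  Nat.land (Nat.shiftRight (nth 0 S.P (Nat.div i 32)) (Nat.mul S.W (Nat.mod i 32))) (ones S.W)

def ST.all (S : ST) (p : Nat → Bool) : Bool := allN (fun i => p (S.get i)) S.n

/-- part of the table -/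
def ST.part (S : ST) (p : Nat → Bool) (a m : Nat) : Bool := allN (fun i => p (S.get (Nat.add a i))) m

def ST.bs (S : ST) (x : Nat) (fuel : Nat) : Nat → Nat → Nat :=
  Nat.rec (fun lo _ => lo) (fun _ ih lo hi =>
    Bool.rec
      (Bool.rec (ih lo (Nat.div (Nat.add lo hi) 2)) (ih (Nat.div (Nat.add lo hi) 2) hi)
        (Nat.ble (S.get (Nat.div (Nat.add lo hi) 2)) x))
      lo (Nat.ble hi (Nat.succ lo))) fuel

def ST.memAt (S : ST) (x j : Nat) : Bool := band (Nat.blt j S.n) (Nat.beq (S.get j) x)

def ST.mem (S : ST) (x : Nat) : Bool := S.memAt x (S.bs x 16 0 S.n)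

def ST.notMem (A : PA) (S : ST) (x : Nat) : Bool := S.all fun y => A.neq y x

def ST.incr (A : PA) (S : ST) : Bool :=
  allN (fun i => band (A.bd (S.get i))
    (bor (Nat.ble S.n (Nat.succ i)) (Nat.blt (S.get i) (S.get (Nat.succ i))))) S.n

def ST.treeAt (S I : ST) (f : Nat → Nat → Nat) (x c : Nat) : Bool :=
  band (Nat.blt (Nat.shiftRight (I.get (Nat.land c 65535)) 24) (Nat.shiftRight c 24))
    (band (Nat.blt (Nat.land c 65535) S.n)
      (Nat.beq x (f (S.get (Nat.land c 65535)) (Nat.land (Nat.shiftRight c 16) 255))))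

/-- every entry is the root or comes from an entry of smaller depth -/
def ST.tree (S I : ST) (r : Nat) (f : Nat → Nat → Nat) : Bool :=
  allN (fun i => bor (Nat.beq (S.get i) r) (S.treeAt I f (S.get i) (I.get i))) S.n

def PA.rmul (A : PA) (TT : List Nat) (x g : Nat) : Nat := A.mul x (nth A.one TT g)

def PA.cnj (A : PA) (TT : List Nat) (x g : Nat) : Nat :=
  A.mul (nth A.one TT g) (A.mul x (nth A.one TT (Nat.xor g 1)))

def PA.cmm (A : PA) (x y : Nat) : Bool := Nat.beq (A.mul x y) (A.mul y x)

def PA.ncm (A : PA) (x y : Nat) : Bool := A.neq (A.mul x y) (A.mul y x)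

/-- `k x k⁻¹ = y` -/
def PA.cj (A : PA) (k x y : Nat) : Bool := Nat.beq (A.mul k x) (A.mul y k)

def lany {α : Type} (p : α → Bool) (l : List α) : Bool :=
  List.rec false (fun a _ ih => bor (p a) ih) l

/-- the entry commutes with the elements of `Q` only if it is in `W` -/
def PA.cenT (A : PA) (Q W : List Nat) (x : Nat) : Bool := bor (lany (A.ncm x) Q) (memL W x)

/-- conjugation by `s`, then the substitution of the second table for the first -/
def PA.chain (A : PA) (TD TH : List Nat) (s y : Nat) (ws : List (List Nat)) : Nat → Bool :=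
  List.rec (fun x => Nat.beq x y)
    (fun w _ ih x => band (A.cj s x (A.evw TD w A.one)) (ih (A.evw TH w A.one))) ws

def PA.tab3 (x1 x2 x3 : Nat) : List Nat := [x1, x1, x2, x2, x3, x3]

/-- some test fails -/
def PA.fails (A : PA) (TX : List Nat) (ts : List (List Nat × Nat)) : Bool :=
  lany (fun p => A.neq (A.evw TX p.1 A.one) p.2) ts

end

end Cfsg.Agent.Spor
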