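/-
Checkers for the search of automorphisms of a group listed in a table.
-/
import Cfsg.Agent.Spor.C3X0

set_option autoImplicit false

namespace Cfsg.Agent.Spor

noncomputable section

/-- the entry is not an involution or is listed -/
def PA.invo (A : PA) (LC : ST) (x : Nat) : Bool := bor (A.neq (A.mul x x) A.one) (LC.mem x)

def PA.lev1 (A : PA) (D LC LK : ST) (reps : List Nat) : Bool :=
  allN (fun i => band (D.mem (LK.get i)) (lany (A.cj (LK.get i) (LC.get i)) reps)) LC.n

def PA.lev2 (A : PA) (LC : ST) (ts : List (List Nat × Nat)) (L2 : List (Nat × Nat × List Nat))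
    (r : Nat) : Bool :=
  LC.all fun x => bor (A.fails (PA.tab3 r x A.one) ts)
    (lany (fun e => band (Nat.beq e.1 r) (Nat.beq e.2.1 x)) L2)

def PA.leaf (A : PA) (D : ST) (TH : List (Nat × Nat × Nat)) (x1 x2 x3 k : Nat) : Bool :=
  lany (fun q => band (A.cj k x3 q.2.2) (band (A.cj k x2 q.2.1) (band (A.cj k x1 q.1) (D.mem k)))) TH

def PA.lev3 (A : PA) (D LC : ST) (TH : List (Nat × Nat × Nat)) (ts : List (List Nat × Nat))
    (e : Nat × Nat × List Nat) : Bool :=
  LC.all fun x => bor (A.fails (PA.tab3 e.1 e.2.1 x) ts) (lany (A.leaf D TH e.1 e.2.1 x) e.2.2)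

/-- the values of the test words are among the given pairs -/
def PA.tests (A : PA) (TD : List Nat) (PL : List (Nat × Nat)) (ts : List (List Nat × Nat)) : Bool :=
  lall (fun p => lany (fun q => band (Nat.beq p.2 q.2) (A.isW TD p.1 q.1)) PL) ts

/-- two conjugate square roots of `z`, of which only one is listed -/
def PA.badc (A : PA) (AL : ST) (TD TX : List Nat) (s s' z p q : Nat) (w u v : List Nat) : Bool :=
  band (A.chain TD TX s p [u] (A.evw TD w A.one)) (band (A.chain TD TX s' q [v] (A.evw TX w A.one))
    (band (Nat.beq (A.mul p p) z) (band (Nat.beq (A.mul q q) z)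
      (bor (band (AL.mem p) (AL.notMem A q)) (band (AL.mem q) (AL.notMem A p))))))

/-- a power acts as `c` on the listed elements -/
def PA.acts (A : PA) (D : ST) (TD TH : List Nat) (s c n : Nat)
    (QL : List (Nat × Nat × List (List Nat))) : Bool :=
  lall (fun e => band (D.mem e.1) (band (Nat.beq (List.length e.2.2) n)
    (band (A.chain TD TH s e.2.1 e.2.2 e.1) (A.cj c e.1 e.2.1)))) QL

/-- the elements of `W` outside `OK` give elements that are moved -/
def PA.excl (A : PA) (TD TH : List Nat) (s c : Nat) (W OK : List Nat) (WS : List (List Nat)) : Bool :=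
  lall (fun x => bor (memL OK x) (lany (fun w => band (A.cj s (A.mul c x) (A.evw TD w A.one))
    (A.neq (A.evw TH w A.one) (A.mul c x))) WS)) W

end

end Cfsg.Agent.Spor
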