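import Cfsg.Agent.Spor.C3X
import Cfsg.Agent.Spor.C3Y0

set_option autoImplicit false

namespace Cfsg.Agent.Spor

namespace MRep

variable {A : PA} {R : Type} [CommRing R] {Γ : Type} [Group Γ] {X : MRep A R Γ}
  {G : Type} [Group G] {ι : Γ →* G} {h : G}

theorem Cj.left {x y y' k : ℕ} (c : X.Cj ι h x y) (hk : X.M k) (hy : X.M y')
    (e : A.cj k y y' = true) : X.Cj ι (ι (X.el k) * h) x y' :=
  ⟨c.1, hy, by rw [← hk.cj c.2.1 hy e, map_mul, map_mul, map_inv, ← c.2.2]; group⟩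

theorem Cj.right {x y : ℕ} (c : X.Cj ι h x y) {k : Γ} (e : k * X.el x = X.el x * k) :
    X.Cj ι (h * ι k) x y :=
  ⟨c.1, c.2.1, by rw [mul_assoc h, ← map_mul, e, map_mul, ← c.2.2]; group⟩

theorem Cj.one (h : G) : X.Cj ι h A.one A.one := ⟨X.M_one, X.M_one, by simp [el_one]⟩

theorem Cj.mul {x y x' y' : ℕ} (c : X.Cj ι h x y) (c' : X.Cj ι h x' y') :
    X.Cj ι h (A.mul x x') (A.mul y y') :=
  ⟨c.1.mul c'.1, c.2.1.mul c'.2.1, by
    rw [c.1.el_mul c'.1, c.2.1.el_mul c'.2.1, map_mul, map_mul, ← c.2.2, ← c'.2.2]; group⟩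

theorem Cj.sq (hi : Function.Injective ι) {x y : ℕ} (c : X.Cj ι h x y)
    (e : X.el x * X.el x = 1) : X.el y * X.el y = 1 := hi (by
  rw [map_mul, ← c.2.2, map_one, conj_mul, ← map_mul, e, map_one, mul_one, mul_inv_cancel])

theorem Cj.tab (hi : Function.Injective ι) {d1 d2 d3 x1 x2 x3 : ℕ} (c1 : X.Cj ι h d1 x1)
    (c2 : X.Cj ι h d2 x2) (c3 : X.Cj ι h d3 x3) (s1 : X.el d1 * X.el d1 = 1)
    (s2 : X.el d2 * X.el d2 = 1) (s3 : X.el d3 * X.el d3 = 1) :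
    ∃ a b : ℕ → Γ, X.Gens (PA.tab3 d1 d2 d3) a ∧ X.Gens (PA.tab3 x1 x2 x3) b ∧
      ∀ y, h * ι (a y) * h⁻¹ = ι (b y) := by
  refine ⟨atm 3 fun j => X.el ([d1, d2, d3].getD j 0), atm 3 fun j => X.el ([x1, x2, x3].getD j 0),
    gens3 c1.1 c2.1 c3.1 rfl rfl rfl fun j hj => ?_,
    gens3 c1.2.1 c2.2.1 c3.2.1 rfl rfl rfl fun j hj => ?_, conj_atm fun j hj => ?_⟩
  · interval_cases j
    exacts [s1, s2, s3]
  · interval_cases j
    exacts [c1.sq hi s1, c2.sq hi s2, c3.sq hi s3]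
  · interval_cases j
    exacts [c1.2.2, c2.2.2, c3.2.2]

theorem not_fails [CharP R A.p] (hi : Function.Injective ι) {TD TX : List ℕ}
    (H : ∃ a b : ℕ → Γ, X.Gens TD a ∧ X.Gens TX b ∧ ∀ y, h * ι (a y) * h⁻¹ = ι (b y))
    {PL : List (ℕ × ℕ)} (hP : ∀ q ∈ PL, X.Cj ι h q.1 q.2) {ts : List (List ℕ × ℕ)}
    (ht : A.tests TD PL ts = true) : ¬ A.fails TX ts = true := by
  obtain ⟨a, b, ha, hb, e⟩ := H
  refine hb.fails fun p hp => ?_
  obtain ⟨q, hq, c⟩ := (lany_iff _ _).mp ((lall_iff _ _).mp ht p hp)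
  rw [band_eq, Bool.and_eq_true, Nat.beq_eq] at c
  rw [c.1]
  exact ⟨(hP q hq).2.1, hi (by rw [← conj_ev e, ← (ha.isW c.2).2, (hP q hq).2.2])⟩

variable (X ι) in
/-- the group is the centraliser of `z`, and the table lists the centraliser of `y` in it -/
structure Set2 (z y : ℕ) (D : ST) : Prop where
  inj : Function.Injective ι
  mz : X.M z
  my : X.M y
  cen : ∀ g : G, g * ι (X.el z) = ι (X.el z) * g → ∃ u, ι u = g
  zc : ∀ u, u * X.el z = X.el z * u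
  hD : ∀ x, D.Has x → X.M x ∧ X.el x * X.el y = X.el y * X.el x
  cov : ∀ u, u * X.el y = X.el y * u → u ∈ X.Els D

variable (X ι) in
def Sw (z y : ℕ) (h : G) : Prop := X.Cj ι h z y ∧ X.Cj ι h y z

variable {z y : ℕ} {D LC LK : ST}

theorem Set2.M (S : X.Set2 ι z y D) {k : ℕ} (hk : D.mem k = true) : X.M k :=
  (S.hD k (ST.mem_sound hk)).1

theorem Set2.left (S : X.Set2 ι z y D) (w : X.Sw ι z y h) {k : ℕ} (hk : D.mem k = true) :
    X.Sw ι z y (ι (X.el k) * h) := by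
  have h1 := (S.hD k (ST.mem_sound hk)).2
  refine ⟨⟨S.mz, S.my, ?_⟩, S.my, S.mz, ?_⟩
  · calc _ = ι (X.el k) * (h * ι (X.el z) * h⁻¹) * (ι (X.el k))⁻¹ := by group
      _ = _ := by rw [w.1.2.2, ← map_mul, h1, map_mul, mul_inv_cancel_right]
  · calc _ = ι (X.el k) * (h * ι (X.el y) * h⁻¹) * (ι (X.el k))⁻¹ := by group
      _ = _ := by rw [w.2.2.2, ← map_mul, S.zc, map_mul, mul_inv_cancel_right]

theorem Set2.img (S : X.Set2 ι z y D) (w : X.Sw ι z y h) {x : ℕ} (hx : D.mem x = true) :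
    ∃ x', D.Has x' ∧ X.Cj ι h x x' := by
  obtain ⟨m, e⟩ := S.hD x (ST.mem_sound hx)
  obtain ⟨u, hu⟩ := S.cen (h * ι (X.el x) * h⁻¹) (by
    rw [← w.2.2.2, conj_mul, conj_mul, ← map_mul, e, map_mul])
  obtain ⟨x', a, b, rfl⟩ := S.cov u (S.inj (by
    rw [map_mul, map_mul, hu, ← w.1.2.2, conj_mul, conj_mul, ← map_mul, S.zc, map_mul]))
  exact ⟨x', a, m, b, hu.symm⟩

theorem Set2.invo [CharP R A.p] (S : X.Set2 ι z y D) (w : X.Sw ι z y h)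
    (c : D.all (A.invo LC) = true) {x : ℕ} (hx : D.mem x = true) (e : X.el x * X.el x = 1) :
    ∃ x', LC.Has x' ∧ X.Cj ι h x x' := by
  obtain ⟨x', a, b⟩ := S.img w hx
  rcases (bor_iff _ _).mp (ST.all_sound c a) with c | c
  · exact absurd ((b.2.1.el_mul b.2.1).trans ((b.sq S.inj e).trans X.el_one.symm))
      ((b.2.1.mul b.2.1).neq X.M_one c)
  · exact ⟨x', ST.mem_sound c, b⟩

theorem Set2.search [CharP R A.p] (S : X.Set2 ι z y D) (w : X.Sw ι z y h) {d1 d2 d3 : ℕ}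
    (m1 : D.mem d1 = true) (m2 : D.mem d2 = true) (m3 : D.mem d3 = true)
    (s1 : X.el d1 * X.el d1 = 1) (s2 : X.el d2 * X.el d2 = 1) (s3 : X.el d3 * X.el d3 = 1)
    {PL : List (ℕ × ℕ)} (hP : ∀ h, X.Sw ι z y h → ∀ q ∈ PL, X.Cj ι h q.1 q.2)
    {reps : List ℕ} {ts2 ts3 : List (List ℕ × ℕ)} {L2 : List (ℕ × ℕ × List ℕ)}
    {TH : List (ℕ × ℕ × ℕ)} (hT : ∀ q ∈ TH, X.M q.1 ∧ X.M q.2.1 ∧ X.M q.2.2)
    (c0 : D.all (A.invo LC) = true) (cr : lall D.mem reps = true)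
    (c1 : A.lev1 D LC LK reps = true)
    (ct : band (A.tests (PA.tab3 d1 d2 A.one) PL ts2) (A.tests (PA.tab3 d1 d2 d3) PL ts3) = true)
    (c2 : lall (A.lev2 LC ts2 L2) reps = true)
    (c3 : AllP (fun e => A.lev3 D LC TH ts3 e = true) L2) :
    ∃ h, X.Sw ι z y h ∧ ∃ q ∈ TH, X.Cj ι h d1 q.1 ∧ X.Cj ι h d2 q.2.1 ∧ X.Cj ι h d3 q.2.2 := by
  rw [band_eq, Bool.and_eq_true] at ct
  obtain ⟨_, ⟨i, hi, rfl⟩, a1⟩ := S.invo w c0 m1 s1
  have b := (allN_iff _ _).mp c1 i hi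
  rw [band_eq, Bool.and_eq_true, lany_iff] at b
  obtain ⟨b1, r, hr, b2⟩ := b
  have w' := S.left w b1
  replace a1 := a1.left (S.M b1) (S.M ((lall_iff _ _).mp cr r hr)) b2
  generalize ι (X.el (LK.get i)) * h = h' at w' a1
  obtain ⟨x2, l2, a2⟩ := S.invo w' c0 m2 s2
  obtain ⟨x3, l3, a3⟩ := S.invo w' c0 m3 s3
  have so : X.el A.one * X.el A.one = 1 := by rw [el_one, one_mul]
  obtain ⟨e, he, b3⟩ := (lany_iff _ _).mp (((bor_iff _ _).mp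
    (ST.all_sound ((lall_iff _ _).mp c2 r hr) l2)).resolve_left
      (not_fails S.inj (Cj.tab S.inj a1 a2 (Cj.one h') s1 s2 so) (hP _ w') ct.1))
  rw [band_eq, Bool.and_eq_true, Nat.beq_eq, Nat.beq_eq] at b3
  have b4 := ST.all_sound (c3.forall e he) l3
  rw [b3.1, b3.2] at b4
  obtain ⟨k, -, b5⟩ := (lany_iff _ _).mp (((bor_iff _ _).mp b4).resolve_left
    (not_fails S.inj (Cj.tab S.inj a1 a2 a3 s1 s2 s3) (hP _ w') ct.2))
  obtain ⟨q, hq, b6⟩ := (lany_iff _ _).mp b5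
  simp only [band_eq, Bool.and_eq_true] at b6
  obtain ⟨e3, e2, e1, mk⟩ := b6
  exact ⟨_, S.left w' mk, q, hq, a1.left (S.M mk) (hT q hq).1 e1, a2.left (S.M mk) (hT q hq).2.1 e2,
    a3.left (S.M mk) (hT q hq).2.2 e3⟩

theorem Set2.bad [CharP R A.p] (S : X.Set2 ι z y D) {TD TX : List ℕ}
    (H : ∃ a b : ℕ → Γ, X.Gens TD a ∧ X.Gens TX b ∧ ∀ y, h * ι (a y) * h⁻¹ = ι (b y))
    {AL : ST} (hA : ∀ u v, u ∈ X.Els AL → IsConj u v → v ∈ X.Els AL) {s s' p q : ℕ}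
    {w u v : List ℕ} (hs : X.M s) (hs' : X.M s') : ¬ A.badc AL TD TX s s' z p q w u v = true := by
  obtain ⟨a, b, ha, hb, e⟩ := H
  intro c
  simp only [PA.badc, band_eq, Bool.and_eq_true, bor_iff] at c
  obtain ⟨c1, c2, c3, c4, c5⟩ := c
  obtain ⟨-, mp, e1⟩ := chain_sound ha hb e hs _ (ha.ev1 w).1 c1
  obtain ⟨-, mq, e2⟩ := chain_sound ha hb e hs' _ (hb.ev1 w).1 c2
  rw [(hb.ev1 w).2, ← conj_ev e w, ← (ha.ev1 w).2] at e2
  generalize (h * ι (X.el s)) ^ [u].length = g1 at e1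
  generalize (h * ι (X.el s')) ^ [v].length = g2 at e2
  have e3 : (g2 * h * g1⁻¹) * ι (X.el p) * (g2 * h * g1⁻¹)⁻¹ = ι (X.el q) := by
    rw [← e1, ← e2]; group
  obtain ⟨k, hk⟩ := S.cen (g2 * h * g1⁻¹) (by
    rw [← mul_inv_eq_iff_eq_mul, ← mp.sq c3, map_mul, ← conj_mul, e3, ← map_mul, mq.sq c4, ← map_mul,
      mp.sq c3])
  have e4 : IsConj (X.el p) (X.el q) := isConj_iff.mpr ⟨k, S.inj (by
    rw [map_mul, map_mul, map_inv, hk, e3])⟩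
  rcases c5 with c | c
  · exact notMem_sound mq c.2 (hA _ _ ⟨p, ST.mem_sound c.1, mp, rfl⟩ e4)
  · exact notMem_sound mp c.2 (hA _ _ ⟨q, ST.mem_sound c.1, mq, rfl⟩ e4.symm)

theorem Set2.power [CharP R A.p] (S : X.Set2 ι z y D) {TD TX : List ℕ}
    (H : ∃ a b : ℕ → Γ, X.Gens TD a ∧ X.Gens TX b ∧ ∀ y, h * ι (a y) * h⁻¹ = ι (b y))
    {s c n : ℕ} (hs : X.M s) (hc : X.M c) {QL : List (ℕ × ℕ × List (List ℕ))} {Q W OK : List ℕ}
    {WS : List (List ℕ)} (hQ : QL.map Prod.fst = z :: y :: Q)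
    (c1 : A.acts D TD TX s c n QL = true) (c2 : D.all (A.cenT Q W) = true)
    (c3 : A.excl TD TX s c W OK WS = true) :
    ∃ x ∈ OK, X.M x ∧ (h * ι (X.el s)) ^ n = ι (X.el (A.mul c x)) := by
  obtain ⟨a, b, ha, hb, e⟩ := H
  have key : ∀ q ∈ z :: y :: Q, X.M q ∧ ((ι (X.el c))⁻¹ * (h * ι (X.el s)) ^ n) * ι (X.el q) =
      ι (X.el q) * ((ι (X.el c))⁻¹ * (h * ι (X.el s)) ^ n) := fun q hq => by
    obtain ⟨p, hp, rfl⟩ := List.mem_map.mp (hQ ▸ hq)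
    have := (lall_iff _ _).mp c1 p hp
    simp only [band_eq, Bool.and_eq_true, Nat.beq_eq] at this
    obtain ⟨m, l, b1, b2⟩ := this
    obtain ⟨m1, m2, e1⟩ := chain_sound ha hb e hs _ (S.M m) b1
    rw [l, ← hc.cj m1 m2 b2, map_mul, map_mul, map_inv, mul_inv_eq_iff_eq_mul] at e1
    refine ⟨m1, ?_⟩
    rw [mul_assoc, e1]; group
  obtain ⟨u, hu⟩ := S.cen _ (key z List.mem_cons_self).2
  have k2 : ∀ q ∈ z :: y :: Q, u * X.el q = X.el q * u := fun q hq => S.inj (by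
    rw [map_mul, map_mul, hu, (key q hq).2])
  have hM : ∀ l : List ℕ, (∀ q ∈ l, X.M q) → AllP X.M l := fun l hl => by
    induction l with
    | nil => trivial
    | cons q l ih => exact ⟨hl q List.mem_cons_self, ih fun r hr => hl r (List.mem_cons_of_mem _ hr)⟩
  obtain ⟨x, hx, mx, rfl⟩ := cenT_sound (hM Q fun q hq => (key q (by simp [hq])).1) c2
    (S.cov u (k2 y (by simp))) fun q hq => k2 q (by simp [hq])
  have e1 : (h * ι (X.el s)) ^ n = ι (X.el (A.mul c x)) := by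
    rw [hc.el_mul mx, map_mul, hu, mul_inv_cancel_left]
  rcases (bor_iff _ _).mp ((lall_iff _ _).mp c3 x hx) with b1 | b1
  · exact ⟨x, (memL_iff _ _).mp b1, mx, e1⟩
  · obtain ⟨w, -, b2⟩ := (lany_iff _ _).mp b1
    rw [band_eq, Bool.and_eq_true] at b2
    refine absurd (S.inj ?_) ((hb.ev1 w).1.neq (hc.mul mx) b2.2)
    rw [(hb.ev1 w).2, ← conj_ev e w, ← (ha.ev1 w).2, ← hs.cj (hc.mul mx) (ha.ev1 w).1 b2.1, map_mul,
      map_mul, map_inv, ← e1]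
    calc _ = (h * ι (X.el s)) * (h * ι (X.el s)) ^ n * (h * ι (X.el s))⁻¹ := by group
      _ = _ := by rw [← pow_succ', pow_succ, mul_inv_cancel_right]

end MRep

end Cfsg.Agent.Spor
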