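/-
The double cover of the symplectic group as a matrix group.
-/
import Cfsg.Agent.Spor.C3Y
import Cfsg.Agent.Spor.C3SM.Main
import Cfsg.Agent.Spor.C3D.Main

set_option autoImplicit false

namespace Cfsg.Agent.Spor.C3D

instance charP3 : CharP (ZMod 3) A.p := inferInstanceAs (CharP (ZMod 3) 3)

theorem gsub_top_of_nonsplit {Γ Δ : Type} [Group Γ] [Group Δ] {π : Γ →* Δ}
    (hk : π.ker = Subgroup.center Γ) (hz : Nat.card (Subgroup.center Γ) = 2)
    (hn : ∀ L : Subgroup Γ, ¬ (Subgroup.center Γ).IsComplement' L) {K : Subgroup Γ}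
    (hK : K.map π = ⊤) : K = ⊤ := by
  have h1 : Subgroup.center Γ ⊔ K = ⊤ := by
    rw [sup_comm, ← hk, ← Subgroup.comap_map_eq, hK, Subgroup.comap_top]
  have : Finite (Subgroup.center Γ) := Nat.finite_of_card_ne_zero (by omega)
  rcases (Nat.dvd_prime Nat.prime_two).mp
    (hz ▸ Subgroup.card_dvd_of_le (inf_le_left : Subgroup.center Γ ⊓ K ≤ _)) with h | h
  · refine absurd (Subgroup.isComplement'_of_disjoint_and_mul_eq_univ
      (disjoint_iff.mpr (Subgroup.card_eq_one.mp h)) ?_) (hn K)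
    rw [← Subgroup.normal_mul, h1, Subgroup.coe_top]
  · rw [← h1, eq_comm, sup_eq_right, ← inf_eq_left]
    exact Subgroup.eq_of_le_of_card_ge inf_le_left (by rw [h, hz])

theorem model {Γ : Type} [Group Γ]
    (hC : Cfsg.IsNonsplitDoubleCover Γ (Matrix.symplecticGroup (Fin 3) (ZMod 2))) :
    Nat.card Γ = 2903040 ∧ ∃ (X : MRep A (ZMod 3) Γ) (g : ℕ → Γ), X.Gens TT (atm 5 g) ∧
      gsub 5 g = ⊤ ∧ X.M cz ∧ X.el cz ∈ Subgroup.center Γ ∧ X.el cz ≠ 1 := by
  obtain ⟨hz, ⟨e⟩, hn⟩ := hC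
  let π := e.toMonoidHom.comp (QuotientGroup.mk' (Subgroup.center Γ))
  have hs : Function.Surjective π := e.surjective.comp (QuotientGroup.mk'_surjective _)
  have hk : π.ker = Subgroup.center Γ := by
    ext x
    simp [π, MonoidHom.mem_ker]
  obtain ⟨hS, g, ht, hp⟩ := C3SM.gens
  have hp' : Pres 6 0 C3SM.CJ g := ⟨hp.sq, fun l hl => hp.rel l (List.mem_append_left _ hl)⟩
  obtain ⟨f, hf, pf⟩ := Mult.exists_pres hs hk.le (r := 3) (by rw [hk, hz]; norm_num)
    (C3SM.cj_eq ▸ hp') fun j hj => by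
      have := hp'.rel [2 * j, 2 * j, 2 * j] (by interval_cases j <;> decide)
      rwa [ev_cons, ev_cons, ev_cons, ev_nil, mul_one, atm_two_mul g hj, ← pow_three] at this
  rw [C3SM.cj_eq] at pf
  have hc : Nat.card Γ = 2903040 := by
    rw [← π.ker.card_mul_index, Subgroup.index_ker, MonoidHom.range_eq_top.mpr hs,
      Subgroup.card_top, hk, hz, C3SM.card_sp]
  have hT : gsub 6 f = ⊤ := gsub_top_of_nonsplit hk hz hn (by rw [gsub_map' hf, ht])
  let X0 := MRep.gl A (ZMod 3) sq (by decide)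
  have g0 : X0.Gens T6 (atm 6 (X0.gen T6)) := MRep.gl_gens T6ok
  have p0 : Pres 6 0 C3SM.CJ (X0.gen T6) :=
    ⟨fun _ h => absurd h (Nat.not_lt_zero _), fun l hl => g0.eq_one ((lall_iff _ _).mp cT6 l hl)⟩
  obtain ⟨ψ, hψ⟩ := C3SM.bound.exists_hom (by norm_num) pf p0 (by rw [hT, Subgroup.card_top, hc])
  let φ := ψ.comp ((MonoidHom.id Γ).codRestrict (gsub 6 f) fun x => hT ▸ Subgroup.mem_top x)
  have hφ : ∀ j < 6, φ (f j) = X0.gen T6 j := fun j hj =>
    (congrArg ψ (Subtype.ext (lift_coe (mem_gsub f hj)).symm)).trans (hψ j hj)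
  have c := cz6
  simp only [band_eq, Bool.and_eq_true] at c
  have z1 : π (ev (atm 6 f) C3SM.zw) = 1 := by
    rw [ev_atm_map' hf]; exact hp.rel _ (List.mem_append_right _ List.mem_cons_self)
  have hi : Function.Injective φ := inj_of_cover hs (hk ▸ hz) z1 φ (by
    rw [ev_atm_map' hφ, ← (g0.isW c.1).2, ← X0.el_one]
    exact (g0.isW c.1).1.neq X0.M_one c.2.1)
    ⟨f 0, f 1, by rw [hφ 0 (by norm_num), hφ 1 (by norm_num)]; exact (g0 0).1.ncm (g0 2).1 c.2.2⟩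
  have g6 := g0.comp hi hφ
  have g5 := g6.words TTok cW5
  refine ⟨hc, _, _, g5, ?_, (g6.isW c.1).1, ?_, ?_⟩
  · rw [eq_top_iff, ← hT]
    refine gsub_le fun j hj => ?_
    rw [← atm_two_mul f hj, ← (g6 _).2, (g5.isW ((allN_iff _ _).mp cW6 j hj)).2]
    exact ev_atm_mem _ _ _
  · rw [(g6.isW c.1).2, ← hk]; exact z1
  · rw [← (X0.comp φ hi).el_one]; exact (g6.isW c.1).1.neq (MRep.M_one _) c.2.1

end Cfsg.Agent.Spor.C3D
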