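/-
The amalgam of the third Conway group inside a group with the right centraliser.
-/
import Cfsg.Agent.Spor.C3Z
import Cfsg.Agent.Spor.C3Bd

set_option autoImplicit false
set_option maxRecDepth 100000

namespace Cfsg.Agent.Spor

theorem Pres.back {G : Type*} [Group G] {n k k' : ℕ} {RL RL' WD : List (List ℕ)} {f : ℕ → G}
    (h : Pres n k RL f) (h' : Pres WD.length k' RL' (wv n f WD)) :
    Pres n k (RL ++ RL'.map (subW (2 * k) WD.length WD)) f :=
  h.append fun l hl => by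
    obtain ⟨w, hw, rfl⟩ := List.mem_map.mp hl
    rw [ev_subW h.ivOk, h'.rel w hw]

theorem Bound.pres {n k M : ℕ} {RL RL' : List (List ℕ)} (b : Bound n k RL M) (hM : M ≠ 0)
    {G Δ : Type} [Group G] [Group Δ] {f : ℕ → G} {g : ℕ → Δ} (hf : Pres n k RL f)
    (hf' : Pres n k RL' f) (hc : M ∣ Nat.card (gsub n f)) (hg : Pres n k RL g) : Pres n k RL' g :=
  ⟨hg.sq, fun l hl => b.transfer hM hf hc hg (hf'.rel l hl)⟩

theorem wv_single {G : Type*} [Group G] {n : ℕ} (f : ℕ → G) {WD : List (List ℕ)} {i j : ℕ}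
    (h : WD.getD i [] = [2 * j]) (hj : j < n) : wv n f WD i = f j := by
  rw [wv, h, ev_cons, ev_nil, mul_one, atm_two_mul f hj]

namespace C3D

open MRep

theorem cmem2 : lall SD.mem [x11, x12, x13, x21, x22, x23, x31, x32, x33] = true := by
  decide +kernel

variable {Γ : Type} [Group Γ] {X : MRep A (ZMod 3) Γ} {g : ℕ → Γ} {G : Type} [Group G]
  {ι : Γ →* G} {h : G}

theorem sqs (hM : ∀ x ∈ [cz, cy, d1, d2, d3], X.M x) :
    ∀ x ∈ [cz, cy, d1, d2, d3], X.el x * X.el x = 1 := fun x hx =>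
  ((hM x hx).sq ((lall_iff _ _).mp csq x hx)).trans X.el_one

theorem tabD (g5 : X.Gens TT (atm 5 g)) :
    ∀ x, SD.Has x → X.M x ∧ X.el x * X.el cy = X.el cy * X.el x := by
  have c := cwd
  simp only [band_eq, Bool.and_eq_true] at c
  have m1 := (g5.isW c.1).1
  have m2 := (g5.isW c.2.1).1
  have m3 := (g5.isW c.2.2).1
  have s : ∀ x, X.M x → x ∈ [cz, cy, d1, d2, d3] → X.el x * X.el x = 1 := fun x m hx =>
    (m.sq ((lall_iff _ _).mp csq x hx)).trans X.el_one
  have gD : X.Gens TD (atm 3 fun j => X.el ([d1, d2, d3].getD j 0)) :=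
    gens3 m1 m2 m3 rfl rfl rfl fun j hj => by
      interval_cases j
      exacts [s _ m1 (by simp), s _ m2 (by simp), s _ m3 (by simp)]
  have t := gD.rtree Dtree
  have my := (t cy (ST.mem_sound ((lall_iff _ _).mp cmem cy (by simp)))).1
  have k : ∀ x, X.M x → x ∈ [d1, d2, d3] → X.el x * X.el cy = X.el cy * X.el x := fun x m hx => by
    have := (lall_iff _ _).mp cdy x hx
    rw [band_eq, Bool.and_eq_true] at this
    exact m.cmm my this.1
  refine fun x hx => ⟨(t x hx).1, comm_of_gens (fun j hj => ?_) _ (t x hx).2⟩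
  interval_cases j
  exacts [k _ m1 (by simp), k _ m2 (by simp), k _ m3 (by simp)]

theorem set2 [Finite Γ] (g5 : X.Gens TT (atm 5 g)) (hc : Nat.card Γ = 2903040)
    (hi : Function.Injective ι) (cen : ∀ u : G, u * ι (X.el cz) = ι (X.el cz) * u → ∃ v, ι v = u)
    (zc : ∀ u, u * X.el cz = X.el cz * u) : X.Set2 ι cz cy SD :=
  have t := tabD g5
  have my := (t cy (ST.mem_sound ((lall_iff _ _).mp cmem cy (by simp)))).1
  ⟨hi, (t cz (ST.mem_sound ((lall_iff _ _).mp cmem cz (by simp)))).1, my, cen, zc, t,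
    (class_cent (g5.ctree my Ytree) Yinc t Dinc hc).2⟩

theorem mem1 (S : X.Set2 ι cz cy SD) {x : ℕ}
    (hx : x ∈ [cz, cy, czy, t1, t2, t3, c0, w0, d1, d2, d3]) : X.M x :=
  S.M ((lall_iff _ _).mp cmem x hx)

theorem pairs (S : X.Set2 ι cz cy SD) (w : X.Sw ι cz cy h) : ∀ q ∈ PL, X.Cj ι h q.1 q.2 := by
  have c := cvv
  simp only [band_eq, Bool.and_eq_true, Nat.beq_eq] at c
  have e := w.1.mul w.2
  rw [c.2.2.1, c.2.2.2.1] at e
  intro q hq
  simp only [PL, List.mem_cons, List.not_mem_nil, or_false] at hq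
  rcases hq with rfl | rfl | rfl | rfl
  exacts [Cj.one h, w.1, w.2, e]

theorem exists_h0 [Finite Γ] (g5 : X.Gens TT (atm 5 g)) (ht : gsub 5 g = ⊤)
    (S : X.Set2 ι cz cy SD) (w : X.Sw ι cz cy h) :
    ∃ h, X.Sw ι cz cy h ∧ X.Cj ι h d1 t1 ∧ X.Cj ι h d2 t2 ∧ X.Cj ι h d3 t3 := by
  have s := sqs (X := X) fun x hx => mem1 S (by simp at hx ⊢; tauto)
  have m := (lall_iff _ _).mp cmem
  have m2 := fun x hx => S.M ((lall_iff _ _).mp cmem2 x hx)
  obtain ⟨h, w, q, hq, a1, a2, a3⟩ := S.search w (m d1 (by simp)) (m d2 (by simp)) (m d3 (by simp))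
    (s _ (by simp)) (s _ (by simp)) (s _ (by simp)) (fun _ => pairs S) (TH := TH3) (fun q hq => by
      simp only [TH3, List.mem_cons, List.not_mem_nil, or_false] at hq
      rcases hq with rfl | rfl | rfl | rfl
      · exact ⟨mem1 S (by simp), mem1 S (by simp), mem1 S (by simp)⟩
      all_goals exact ⟨m2 _ (by simp), m2 _ (by simp), m2 _ (by simp)⟩) cinv crep lev1 cts lev2 lev3
  have H := Cj.tab S.inj a1 a2 a3 (s _ (by simp)) (s _ (by simp)) (s _ (by simp))
  have hA := fun u v a b => g5.ccov ht Acov (u := u) (v := v) a b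
  simp only [TH3, List.mem_cons, List.not_mem_nil, or_false] at hq
  rcases hq with rfl | rfl | rfl | rfl
  · exact ⟨h, w, a1, a2, a3⟩
  · exact absurd bad1 (S.bad H hA (g5.ev1 _).1 (g5.ev1 _).1)
  · exact absurd bad2 (S.bad H hA (g5.ev1 _).1 (g5.ev1 _).1)
  · exact absurd bad3 (S.bad H hA (g5.ev1 _).1 (g5.ev1 _).1)

theorem exists_h [Finite Γ] (g5 : X.Gens TT (atm 5 g)) (ht : gsub 5 g = ⊤)
    (S : X.Set2 ι cz cy SD) (w : X.Sw ι cz cy h) :
    ∃ h, h * h = 1 ∧ X.Cj ι h cz cy ∧ X.Cj ι h d1 t1 ∧ X.Cj ι h d2 t2 ∧ X.Cj ι h d3 t3 := by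
  obtain ⟨h, w, a1, a2, a3⟩ := exists_h0 g5 ht S w
  have s := sqs (X := X) fun x hx => mem1 S (by simp at hx ⊢; tauto)
  obtain ⟨x, hx, mx, e⟩ := S.power
    (Cj.tab S.inj a1 a2 a3 (s _ (by simp)) (s _ (by simp)) (s _ (by simp))) (s := A.one) (c := A.one)
    X.M_one X.M_one (Q := vC) rfl va vc ve
  rw [X.M_one.el_mul mx, el_one, map_one, mul_one, one_mul, pow_two] at e
  simp only [List.mem_cons, List.not_mem_nil, or_false] at hx
  rcases hx with rfl | rfl
  · exact ⟨h, e.trans ((congrArg ι X.el_one).trans (map_one ι)), w.1, a1, a2, a3⟩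
  · refine ⟨h * ι (X.el cz), ?_, w.1.right rfl, a1.right (S.zc _).symm, a2.right (S.zc _).symm,
      a3.right (S.zc _).symm⟩
    have c := cvv
    simp only [band_eq, Bool.and_eq_true, Nat.beq_eq] at c
    calc _ = (h * ι (X.el cz) * h⁻¹) * ((h * h) * ι (X.el cz)) := by group
      _ = 1 := by
        rw [w.1.2.2, e, ← map_mul, ← map_mul, ← mx.el_mul S.mz, ← S.my.el_mul (mx.mul S.mz),
          c.2.2.2.2, el_one, map_one]

variable (ι g) in
/-- the generators -/
def gF (h : G) (j : ℕ) : G := if j = 0 then h else ι (g j)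

theorem atm0 : atm 5 (gF g ι h) 0 = h := atm_two_mul (gF g ι h) (j := 0) (by norm_num)

theorem evF {w : List ℕ} (hw : lall (Nat.ble 2) w = true) :
    ev (atm 5 (gF g ι h)) w = ι (ev (atm 5 g) w) := by
  rw [ev_map]
  unfold ev
  refine congrArg _ (List.map_congr_left fun y hy => ?_)
  have : 2 ≤ y := Nat.ble_eq.mp ((lall_iff _ _).mp hw y hy)
  rw [atm_map, atm_def, atm_def, gF, if_neg (show ¬ y / 2 = 0 by omega)]

theorem relH (g5 : X.Gens TT (atm 5 g)) (hh : h * h = 1) {x y : ℕ} (c : X.Cj ι h x y)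
    {u v : List ℕ} (hu : A.isW TT u x = true) (hv : Nat.beq (A.evw TT v y) A.one = true)
    (a : lall (Nat.ble 2) u = true) (b : lall (Nat.ble 2) v = true) :
    ev (atm 5 (gF g ι h)) (0 :: (u ++ 0 :: v)) = 1 := by
  have e := (g5.evw v c.2.1).2
  rw [Nat.beq_eq.mp hv, el_one] at e
  have e2 := c.2.2
  rw [inv_eq_of_mul_eq_one_right hh] at e2
  rw [ev_cons, ev_append, ev_cons, evF a, evF b, atm0, ← (g5.isW hu).2, ← mul_assoc, ← mul_assoc,
    e2, ← map_mul, ← e, map_one]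

theorem relP (g5 : X.Gens TT (atm 5 g)) {j x : ℕ} (hj : Nat.ble 2 j = true) (mx : X.M x)
    (e : (h * ι (X.el (nth A.one TT j))) ^ 3 = ι (X.el x)) {v : List ℕ}
    (hv : Nat.beq (A.evw TT v x) A.one = true) (b : lall (Nat.ble 2) v = true) :
    ev (atm 5 (gF g ι h)) (0 :: j :: 0 :: j :: 0 :: j :: v) = 1 := by
  have e1 := (g5.evw v mx).2
  rw [Nat.beq_eq.mp hv, el_one] at e1
  have e2 : atm 5 (gF g ι h) j = ι (X.el (nth A.one TT j)) := by
    have := evF (g := g) (ι := ι) (h := h) (w := [j]) ((lall_iff _ _).mpr (by simpa using hj))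
    rwa [ev_cons, ev_cons, ev_nil, ev_nil, mul_one, mul_one, ← (g5 j).2] at this
  simp only [ev_cons]
  rw [evF b, atm0, e2, ← map_one ι, e1, map_mul, ← e, pow_three]
  group

theorem range_le (g5 : X.Gens TT (atm 5 g)) (ht : gsub 5 g = ⊤) {K : Subgroup G}
    (hK : ∀ j < 4, gF g ι h (j + 1) ∈ K) (u : Γ) : ι u ∈ K := by
  have : gsub 5 g ≤ K.comap ι := gsub_le fun j hj => by
    rcases j with _ | j
    · rw [← atm_two_mul g hj, ← (g5 _).2]
      exact X.el_one ▸ one_mem _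
    · exact hK j (by omega)
  exact this (ht ▸ Subgroup.mem_top u)

theorem amalgam [Finite Γ] (g5 : X.Gens TT (atm 5 g)) (ht : gsub 5 g = ⊤)
    (hc : Nat.card Γ = 2903040) (S : X.Set2 ι cz cy SD) (w : X.Sw ι cz cy h) :
    ∃ F : ℕ → G, Pres 5 5 C3M.RL F ∧ (∀ u, ι u ∈ gsub 5 F) ∧
      F 0 * ι (X.el cz) * (F 0)⁻¹ = ι (X.el cy) := by
  obtain ⟨h, hh, a0, a1, a2, a3⟩ := exists_h g5 ht S w
  have s := sqs (X := X) fun x hx => mem1 S (by simp at hx ⊢; tauto)
  have H := Cj.tab S.inj a1 a2 a3 (s _ (by simp)) (s _ (by simp)) (s _ (by simp))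
  have rk : ∀ l ∈ RK, ev (atm 5 (gF g ι h)) l = 1 := fun l hl => by
    have := (lall_iff _ _).mp cRK l hl
    rw [band_eq, Bool.and_eq_true] at this
    rw [evF this.1, g5.eq_one this.2, map_one]
  have p0 : Pres 5 5 RK (gF g ι h) := ⟨fun j hj _ => by
    rcases j with _ | j
    · exact hh
    · have := rk [2 * (j + 1), 2 * (j + 1)] (by
        have : j < 4 := by omega
        interval_cases j <;> decide)
      rwa [ev_cons, ev_cons, ev_nil, mul_one, atm_two_mul _ hj] at this, rk⟩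
  have c1 := cwd
  have c2 := cwt
  have c3 := ctl
  simp only [band_eq, Bool.and_eq_true] at c1 c2 c3
  have p1 : Pres 5 5 (RK ++ RH1) (gF g ι h) := p0.append fun l hl => by
    simp only [RH1, List.mem_cons, List.not_mem_nil, or_false] at hl
    rcases hl with rfl | rfl | rfl | rfl
    · obtain ⟨x, hx, mx, e⟩ := S.power H (s := nth A.one TT 6) (c := A.one) (g5 6).1 X.M_one
        (Q := vC) rfl ua vc ue
      rw [List.mem_singleton.mp hx] at e
      exact relP g5 rfl (X.M_one.mul X.M_one) e (v := []) (by decide +kernel) rfl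
    · exact relH g5 hh a1 c1.1 c2.1 rfl rfl
    · exact relH g5 hh a2 c1.2.1 c2.2.1 rfl rfl
    · exact relH g5 hh a3 c1.2.2 c2.2.2 rfl rfl
  have p2 : Pres 5 5 K2 (gF g ι h) :=
    p1.back (bV.pres (by norm_num) pV C3VM.cert.pres C3VM.L.lbP (p1.subst kV))
  have m0 : X.M c0 := mem1 S (by simp)
  obtain ⟨x, hx, mx, e⟩ := S.power H (s := nth A.one TT 4) (g5 4).1 m0 (Q := wC) rfl wa wc we
  simp only [List.mem_cons, List.not_mem_nil, or_false] at hx
  rcases hx with rfl | rfl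
  · have p3 : Pres 5 5 (K2 ++ [gw]) (gF g ι h) := p2.append fun l hl => by
      rw [List.mem_singleton.mp hl]
      exact relP g5 rfl (m0.mul mx) e c3.1 rfl
    have p4 : Pres 5 5 K4 (gF g ι h) :=
      p3.back (bE.pres (by norm_num) pE C3EM.cert.pres C3EM.L.lbP (p3.subst kE))
    exact ⟨_, p4.cons kM, range_le g5 ht fun j hj => mem_gsub _ (by omega), a0.2.2⟩
  · exfalso
    have p3 : Pres 5 5 (K2 ++ [bw]) (gF g ι h) := p2.append fun l hl => by
      rw [List.mem_singleton.mp hl]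
      exact relP g5 rfl (m0.mul mx) e c3.2 rfl
    have b1 := bW _ _ (p3.subst kW)
    have f1 : ∀ i j k, WK.getD i [] = [2 * j] → WE.getD k [] = [2 * j] → i < 4 → j < 5 → k < 5 →
        ev (atm 4 (wv 5 (gF g ι h) WK)) [2 * i] ∈ gsub WE.length (wv 5 (gF g ι h) WE) :=
      fun i j k a b hi hj hk => by
        rw [ev_cons, ev_nil, mul_one, atm_two_mul _ hi, wv_single _ a hj,
          ← wv_single (gF g ι h) b hj]
        exact mem_gsub _ hk
    have b2 := C3K.cert.card_dvd (p1.subst kK) ((Subgroup.card_dvd_of_le (wsub_le fun l hl => by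
      simp only [C3K.BW, List.mem_cons, List.not_mem_nil, or_false] at hl
      rcases hl with rfl | rfl | rfl
      · exact f1 0 1 1 rfl rfl (by norm_num) (by norm_num) (by norm_num)
      · exact f1 1 2 2 rfl rfl (by norm_num) (by norm_num) (by norm_num)
      · exact f1 3 4 3 rfl rfl (by norm_num) (by norm_num) (by norm_num))).trans b1)
    have b3 : ι.range ≤ gsub 4 (wv 5 (gF g ι h) WK) := by
      rintro _ ⟨u, rfl⟩
      refine range_le (h := h) g5 ht (fun j hj => ?_) u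
      rw [← wv_single (n := 5) (WD := WK) (i := j) (j := j + 1) (gF g ι h)
        (by interval_cases j <;> rfl) (by omega)]
      exact mem_gsub _ hj
    have b4 := (Subgroup.card_dvd_of_le b3).trans b2
    rw [← Nat.card_congr (MonoidHom.ofInjective S.inj).toEquiv, hc] at b4
    norm_num at b4

end C3D

end Cfsg.Agent.Spor
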