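/-
Generators and relators for a group with the involution centraliser of the third Conway group.
-/
import Cfsg.Agent.Spor.C3G
import Cfsg.Agent.S6.Swap

set_option autoImplicit false
set_option maxRecDepth 100000

namespace Cfsg.Agent.Spor.C3D

open MRep

theorem sqy {Γ G : Type} [Group Γ] [Group G] {X : MRep A (ZMod 3) Γ} {ι : Γ →* G}
    (S : X.Set2 ι cz cy SD) : X.el cy * X.el cy = 1 :=
  (S.my.sq ((lall_iff _ _).mp csq cy (by simp))).trans X.el_one

theorem gens0 {G : Type*} [Group G] [Finite G] (hO : Cfsg.oddCore G = ⊥)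
    (hZ : Subgroup.center G = ⊥) (t : G) (ht : orderOf t = 2)
    (hC : Cfsg.IsNonsplitDoubleCover (Subgroup.centralizer ({t} : Set G))
      (Matrix.symplecticGroup (Fin 3) (ZMod 2))) {G0 : Type} [Group G0] (e : G ≃* G0)
    {Γ : Type} [Group Γ] [Finite Γ] {X : MRep A (ZMod 3) Γ} {g : ℕ → Γ} {ι : Γ →* G0}
    (g5 : X.Gens TT (atm 5 g)) (hT : gsub 5 g = ⊤) (hc : Nat.card Γ = 2903040)
    (S : X.Set2 ι cz cy SD) (zt : ι (X.el cz) = e t) :
    ∃ F : ℕ → G0, Pres 5 5 C3M.RL F ∧ gsub 5 F = ⊤ ∧ F 0 ≠ 1 := by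
  have c := cvv
  simp only [band_eq, Bool.and_eq_true] at c
  have y1 : e.symm (ι (X.el cy)) * t = t * e.symm (ι (X.el cy)) := e.injective (by
    rw [map_mul, map_mul, e.apply_symm_apply, ← zt, ← map_mul, S.zc, map_mul])
  have y2 : e.symm (ι (X.el cy)) ≠ t := fun h => S.my.neq S.mz c.2.1 (S.inj (by
    rw [zt, ← h, e.apply_symm_apply]))
  obtain ⟨h, h1, h2⟩ := S6.swap hO hZ t ht hC (e.symm (ι (X.el cy))) y1
    (by rw [← map_mul, ← map_mul, sqy S,
      map_one, map_one])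
    (fun h => S.my.neq X.M_one c.1 (S.inj (e.symm.injective (by
      rw [h, el_one, map_one, map_one])))) y2 (by
      have a := ncard_Els (fun x hx => (S.hD x hx).1) Dinc
      rw [← Set.ncard_image_of_injective _ (e.symm.injective.comp S.inj)] at a
      refine a.ge.trans (Set.ncard_le_ncard ?_ (Set.toFinite _))
      rintro _ ⟨_, ⟨x, hx, -, rfl⟩, rfl⟩ u hu
      rcases hu with rfl | rfl
      · exact e.injective (by
          rw [map_mul, map_mul, Function.comp_apply, e.apply_symm_apply, ← zt, ← map_mul, ← S.zc,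
            map_mul])
      · rw [Function.comp_apply, ← map_mul, ← map_mul, ← map_mul, ← map_mul, (S.hD x hx).2])
  obtain ⟨F, p, hF, f0⟩ := amalgam (h := e h) g5 hT hc S
    ⟨⟨S.mz, S.my, by rw [zt, ← map_inv, ← map_mul, ← map_mul, h1, e.apply_symm_apply]⟩, S.my, S.mz,
      by rw [zt, ← h2, map_mul, map_mul, map_inv, e.apply_symm_apply]⟩
  have f1 : e.symm (F 0) * t * (e.symm (F 0))⁻¹ = e.symm (ι (X.el cy)) := by
    rw [← f0, zt, map_mul, map_mul, map_inv, e.symm_apply_apply]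
  have := S6.top hO hZ t ht hC ((gsub 5 F).comap e.toMonoidHom)
    (fun u hu => by
      obtain ⟨v, hv⟩ := S.cen (e u) (by
        rw [zt, ← map_mul, ← map_mul, Subgroup.mem_centralizer_singleton_iff.mp hu])
      exact (hv ▸ hF v : e u ∈ gsub 5 F)) (e.symm (F 0))
    (by simpa using mem_gsub F (by norm_num)) (f1 ▸ y2) (f1 ▸ y1)
  refine ⟨F, p, ?_, fun h => y2 (by rw [← f1, h, map_one, one_mul, inv_one, mul_one])⟩
  rw [eq_top_iff]
  intro u _
  have h3 : e.symm u ∈ (gsub 5 F).comap e.toMonoidHom := this ▸ Subgroup.mem_top _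
  simpa using h3

theorem gens {G : Type*} [Group G] [Finite G] (hO : Cfsg.oddCore G = ⊥)
    (hZ : Subgroup.center G = ⊥) (t : G) (ht : orderOf t = 2)
    (hC : Cfsg.IsNonsplitDoubleCover (Subgroup.centralizer ({t} : Set G))
      (Matrix.symplecticGroup (Fin 3) (ZMod 2))) {G0 : Type} [Group G0] (e : G ≃* G0) :
    ∃ F : ℕ → G0, Pres 5 5 C3M.RL F ∧ gsub 5 F = ⊤ ∧ F 0 ≠ 1 := by
  have hC0 := nonsplit_congr hC (centralizerMap e t)
  have : Finite G0 := Finite.of_equiv _ e.toEquiv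
  obtain ⟨hc, X, g, g5, hT, mz, z1, z2⟩ := model hC0
  let ι := (Subgroup.centralizer ({e t} : Set G0)).subtype
  have t1 : e t ≠ 1 := fun h => by
    rw [map_eq_one_iff _ e.injective] at h
    rw [h, orderOf_one] at ht
    omega
  have zt : ι (X.el cz) = e t := by
    obtain ⟨u, -, hu⟩ := (Nat.card_eq_two_iff' (1 : Subgroup.center _)).mp hC0.1
    have a := hu ⟨_, z1⟩ fun h => z2 (congrArg Subtype.val h)
    have b := hu ⟨⟨e t, Subgroup.mem_centralizer_singleton_iff.mpr rfl⟩,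
      Subgroup.mem_center_iff.mpr fun v => Subtype.ext
        (Subgroup.mem_centralizer_singleton_iff.mp v.2)⟩
      fun h => t1 (congrArg (fun v => (v.1.1 : G0)) h)
    exact congrArg (fun v => (v.1.1 : G0)) (a.trans b.symm)
  exact gens0 hO hZ t ht hC e g5 hT hc (set2 g5 hc (Subgroup.subtype_injective _)
    (fun u hu => ⟨⟨u, Subgroup.mem_centralizer_singleton_iff.mpr (zt ▸ hu)⟩, rfl⟩)
    fun u => Subgroup.mem_center_iff.mp z1 u) zt

end Cfsg.Agent.Spor.C3D
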