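import Cfsg.Agent.Spor.PX9
import Cfsg.Agent.Spor.C3X0

set_option autoImplicit false

namespace Cfsg.Agent.Spor

theorem lany_iff {α : Type} (p : α → Bool) (l : List α) : lany p l = true ↔ ∃ a ∈ l, p a = true := by
  induction l with
  | nil => simp [lany]
  | cons a l ih =>
    show bor (p a) (lany p l) = true ↔ _
    rw [bor_iff, ih]; simp

namespace ST

variable {S : ST}

def Has (S : ST) (x : ℕ) : Prop := ∃ i < S.n, S.get i = x

theorem all_sound {p : ℕ → Bool} (h : S.all p = true) {x : ℕ} (hx : S.Has x) : p x = true := by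
  obtain ⟨i, hi, rfl⟩ := hx
  exact (allN_iff _ _).mp h i hi

/-- the predicate holds on an initial part -/
def Upto (S : ST) (p : ℕ → Bool) (m : ℕ) : Prop := ∀ i < m, p (S.get i) = true

theorem Upto.zero (p : ℕ → Bool) : S.Upto p 0 := fun _ h => absurd h (Nat.not_lt_zero _)

theorem Upto.step {p : ℕ → Bool} {a m : ℕ} (h : S.Upto p a) (h' : S.part p a m = true) :
    S.Upto p (a + m) := fun i hi => by
  by_cases e : i < a
  · exact h i e
  · have := (allN_iff _ _).mp h' (i - a) (by omega)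
    rwa [show Nat.add a (i - a) = i by show a + (i - a) = i; omega] at this

theorem Upto.all {p : ℕ → Bool} (h : S.Upto p S.n) : S.all p = true := (allN_iff _ _).mpr h

theorem mem_sound {x : ℕ} (h : S.mem x = true) : S.Has x := by
  simp only [mem, memAt, band_eq, Bool.and_eq_true, Nat.blt_eq, Nat.beq_eq] at h
  exact ⟨_, h⟩

theorem tree_sound {I : ST} {r : ℕ} {f : ℕ → ℕ → ℕ} (h : S.tree I r f = true) {P : ℕ → Prop}
    (h0 : P r) (h1 : ∀ x g, P x → P (f x g)) {x : ℕ} (hx : S.Has x) : P x := by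
  obtain ⟨i, hi, rfl⟩ := hx
  induction hd : Nat.shiftRight (I.get i) 24 using Nat.strong_induction_on generalizing i with
  | _ d ih =>
    rcases (bor_iff _ _).mp ((allN_iff _ _).mp h i hi) with e | e
    · rw [Nat.beq_eq.mp e]; exact h0
    · simp only [treeAt, band_eq, Bool.and_eq_true, Nat.blt_eq, Nat.beq_eq] at e
      rw [e.2.2]
      exact h1 _ _ (ih _ (hd ▸ e.1) _ e.2.1 rfl)

theorem incr_sound {A : PA} (h : S.incr A = true) :
    (∀ x, S.Has x → A.bd x = true) ∧ ∀ i j, i < j → j < S.n → S.get i < S.get j := by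
  have h' := (allN_iff _ _).mp h
  simp only [band_eq, Bool.and_eq_true, bor_iff, Nat.ble_eq, Nat.blt_eq] at h'
  refine ⟨fun x ⟨i, hi, e⟩ => e ▸ (h' i hi).1, fun i j hij hj => ?_⟩
  induction j with
  | zero => omega
  | succ j ih =>
    have h2 := (h' j (by omega)).2.resolve_left (by omega)
    rcases Nat.lt_succ_iff_lt_or_eq.mp hij with e | rfl
    · exact (ih e (by omega)).trans h2
    · exact h2

end ST

namespace MRep

variable {A : PA} {R : Type} [CommRing R] {Γ : Type} [Group Γ] {X : MRep A R Γ} {S : ST}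

variable (X) in
/-- the elements listed in a table -/
def Els (S : ST) : Set Γ := {g | ∃ x, S.Has x ∧ X.M x ∧ X.el x = g}

theorem ncard_Els [CharP R A.p] (hM : ∀ x, S.Has x → X.M x) (h : S.incr A = true) :
    (X.Els S).ncard = S.n := by
  obtain ⟨h1, h2⟩ := ST.incr_sound h
  have e : X.Els S = (fun i => X.el (S.get i)) '' Set.Iio S.n := by
    ext g
    constructor
    · rintro ⟨_, ⟨i, hi, rfl⟩, -, rfl⟩; exact ⟨i, hi, rfl⟩
    · rintro ⟨i, hi, rfl⟩; exact ⟨_, ⟨i, hi, rfl⟩, hM _ ⟨i, hi, rfl⟩, rfl⟩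
  rw [e, Set.InjOn.ncard_image, Set.ncard_Iio_nat]
  intro i hi j hj e
  have := (hM _ ⟨i, hi, rfl⟩).eq_of_el (hM _ ⟨j, hj, rfl⟩) (h1 _ ⟨i, hi, rfl⟩) (h1 _ ⟨j, hj, rfl⟩) e
  rcases lt_trichotomy i j with l | l | l
  · exact absurd this (h2 i j l hj).ne
  · exact l
  · exact absurd this (h2 j i l hi).ne'

theorem Gens.rtree {TT : List ℕ} {n : ℕ} {g : ℕ → Γ} (h : X.Gens TT (atm n g)) {I : ST}
    (hc : S.tree I A.one (A.rmul TT) = true) : ∀ x, S.Has x → X.M x ∧ X.el x ∈ gsub n g :=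
  fun _ hx => ST.tree_sound hc (P := fun x => X.M x ∧ X.el x ∈ gsub n g)
    ⟨X.M_one, X.el_one ▸ one_mem _⟩ (fun x y hx => ⟨hx.1.mul (h y).1, by
      rw [PA.rmul, hx.1.el_mul (h y).1, (h y).2]
      exact mul_mem hx.2 (atm_mem (fun j hj => mem_gsub g hj) y)⟩) hx

theorem Gens.cnj {TT : List ℕ} {n : ℕ} {g : ℕ → Γ} (h : X.Gens TT (atm n g)) {x : ℕ} (hx : X.M x)
    (y : ℕ) : X.M (A.cnj TT x y) ∧ X.el (A.cnj TT x y) = atm n g y * X.el x * (atm n g y)⁻¹ := by
  refine ⟨(h y).1.mul (hx.mul (h _).1), ?_⟩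
  rw [PA.cnj, (h y).1.el_mul (hx.mul (h _).1), hx.el_mul (h _).1, (h y).2, (h _).2, mul_assoc,
    ← ivOk_zero n g y]
  rfl

theorem Gens.ctree {TT : List ℕ} {n : ℕ} {g : ℕ → Γ} (h : X.Gens TT (atm n g)) {I : ST} {r : ℕ}
    (hr : X.M r) (hc : S.tree I r (A.cnj TT) = true) :
    ∀ x, S.Has x → X.M x ∧ IsConj (X.el r) (X.el x) :=
  fun _ hx => ST.tree_sound hc (P := fun x => X.M x ∧ IsConj (X.el r) (X.el x))
    ⟨hr, IsConj.refl _⟩ (fun x y hx => ⟨(h.cnj hx.1 y).1,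
      hx.2.trans (isConj_iff.mpr ⟨_, (h.cnj hx.1 y).2.symm⟩)⟩) hx

theorem closure_ind [Finite Γ] {n : ℕ} {g : ℕ → Γ} {P : Γ → Prop} (h0 : P 1)
    (h1 : ∀ u, ∀ j < n, P u → P (u * g j)) : ∀ u ∈ gsub n g, P u := by
  intro y hy
  rw [gsub, ← Subgroup.mem_toSubmonoid, Subgroup.closure_toSubmonoid_of_finite] at hy
  induction hy using Submonoid.closure_induction_right with
  | one => exact h0
  | mul_right y _ u hu ih =>
    obtain ⟨j, hj, rfl⟩ := hu
    exact h1 _ j hj ih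

/-- a table closed under multiplication by the generators -/
theorem Gens.rcov [Finite Γ] {TT : List ℕ} {n : ℕ} {g : ℕ → Γ} (h : X.Gens TT (atm n g))
    (hM : ∀ x, S.Has x → X.M x) (h0 : S.mem A.one = true)
    (hc : S.all (fun x => allN (fun j => S.mem (A.rmul TT x (2 * j))) n) = true) :
    ∀ u ∈ gsub n g, u ∈ X.Els S :=
  closure_ind ⟨_, ST.mem_sound h0, X.M_one, X.el_one⟩ fun _ j hj ⟨x, a, b, c⟩ =>
    ⟨_, ST.mem_sound ((allN_iff _ _).mp (ST.all_sound hc a) j hj), b.mul (h _).1, by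
      rw [PA.rmul, b.el_mul (h _).1, (h _).2, c, atm_two_mul g hj]⟩

/-- a table closed under conjugation by the generators -/
theorem Gens.ccov [Finite Γ] {TT : List ℕ} {n : ℕ} {g : ℕ → Γ} (h : X.Gens TT (atm n g))
    (ht : gsub n g = ⊤)
    (hc : S.all (fun x => allN (fun j => S.mem (A.cnj TT x (2 * j + 1))) n) = true) {u v : Γ}
    (hu : u ∈ X.Els S) (huv : IsConj u v) : v ∈ X.Els S := by
  obtain ⟨k, rfl⟩ := isConj_iff.mp huv
  have := closure_ind (n := n) (g := g) (P := fun k => k⁻¹ * u * k ∈ X.Els S) (by simpa using hu)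
    (fun k j hj ⟨x, a, b, c⟩ => ⟨_, ST.mem_sound ((allN_iff _ _).mp (ST.all_sound hc a) j hj),
      (h.cnj b _).1, by
        rw [(h.cnj b _).2, c, atm_def, show (2 * j + 1) / 2 = j by omega, if_pos hj,
          if_neg (by omega)]
        group⟩) k⁻¹ (ht ▸ Subgroup.mem_top _)
  simpa using this

theorem notMem_sound [CharP R A.p] {x : ℕ} (hx : X.M x) (h : S.notMem A x = true) :
    X.el x ∉ X.Els S := fun ⟨_, a, b, c⟩ => b.neq hx (ST.all_sound h a) c

theorem M.cmm {x y : ℕ} (hx : X.M x) (hy : X.M y) (h : A.cmm x y = true) :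
    X.el x * X.el y = X.el y * X.el x := hx.comm hy h

theorem M.ncm [CharP R A.p] {x y : ℕ} (hx : X.M x) (hy : X.M y) (h : A.ncm x y = true) :
    X.el x * X.el y ≠ X.el y * X.el x := by
  rw [← hx.el_mul hy, ← hy.el_mul hx]
  exact (hx.mul hy).neq (hy.mul hx) h

theorem M.cj {k x y : ℕ} (hk : X.M k) (hx : X.M x) (hy : X.M y) (h : A.cj k x y = true) :
    X.el k * X.el x * (X.el k)⁻¹ = X.el y := by
  rw [mul_inv_eq_iff_eq_mul, ← hk.el_mul hx, ← hy.el_mul hk, Nat.beq_eq.mp h]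

theorem M.sq {x y : ℕ} (hx : X.M x) (h : Nat.beq (A.mul x x) y = true) :
    X.el x * X.el x = X.el y := by rw [← hx.el_mul hx, Nat.beq_eq.mp h]

/-- a class and a centraliser whose sizes multiply to the order -/
theorem class_cent [Finite Γ] [CharP R A.p] {Y D : ST} {y : Γ}
    (hY : ∀ x, Y.Has x → X.M x ∧ IsConj y (X.el x)) (iY : Y.incr A = true)
    (hD : ∀ x, D.Has x → X.M x ∧ X.el x * y = y * X.el x) (iD : D.incr A = true)
    (hc : Nat.card Γ = Y.n * D.n) :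
    (∀ u, IsConj y u → u ∈ X.Els Y) ∧ ∀ u, u * y = y * u → u ∈ X.Els D := by
  have a1 := ncard_Els (fun x hx => (hY x hx).1) iY
  have a2 := ncard_Els (fun x hx => (hD x hx).1) iD
  have s1 : X.Els Y ⊆ conjugatesOf y := fun _ ⟨x, a, _, c⟩ => c ▸ (hY x a).2
  have s2 : X.Els D ⊆ (Subgroup.centralizer {y} : Subgroup Γ) := fun _ ⟨x, a, _, c⟩ =>
    c ▸ Subgroup.mem_centralizer_singleton_iff.mpr (hD x a).2
  have b1 := Set.ncard_le_ncard s1 (Set.toFinite _)
  have b2 := Set.ncard_le_ncard s2 (Set.toFinite _)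
  have e := (Subgroup.centralizer {y}).index_mul_card
  rw [← card_conjugatesOf, hc, Nat.card_coe_set_eq, ← a1, ← a2] at e
  change _ * (SetLike.coe _ : Set Γ).ncard = _ at e
  have p : 0 < (X.Els Y).ncard * (X.Els D).ncard := by rw [a1, a2, ← hc]; exact Nat.card_pos
  have p1 := Nat.pos_of_mul_pos_right p
  have p2 := Nat.pos_of_mul_pos_left p
  have e1 := Set.eq_of_subset_of_ncard_le s1 (by nlinarith) (Set.toFinite _)
  have e2 := Set.eq_of_subset_of_ncard_le s2 (by nlinarith) (Set.toFinite _)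
  exact ⟨fun u hu => e1 ▸ hu, fun u hu => e2 ▸ Subgroup.mem_centralizer_singleton_iff.mpr hu⟩

theorem cenT_sound [CharP R A.p] {Q W : List ℕ} (hQ : AllP X.M Q)
    (h : S.all (A.cenT Q W) = true) {u : Γ} (hu : u ∈ X.Els S)
    (hc : ∀ q ∈ Q, u * X.el q = X.el q * u) : ∃ x ∈ W, X.M x ∧ X.el x = u := by
  obtain ⟨x, a, b, rfl⟩ := hu
  rcases (bor_iff _ _).mp (ST.all_sound h a) with e | e
  · obtain ⟨q, hq, e⟩ := (lany_iff _ _).mp e
    exact absurd (hc q hq) (b.ncm (hQ.forall q hq) e)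
  · exact ⟨x, (memL_iff _ _).mp e, b, rfl⟩

section
variable {G : Type} [Group G] (ι : Γ →* G)

variable (X) in
/-- conjugation in a larger group -/
def Cj (h : G) (x y : ℕ) : Prop := X.M x ∧ X.M y ∧ h * ι (X.el x) * h⁻¹ = ι (X.el y)

variable {ι}

theorem conj_ev {h : G} {a b : ℕ → Γ} (e : ∀ y, h * ι (a y) * h⁻¹ = ι (b y)) (w : List ℕ) :
    h * ι (ev a w) * h⁻¹ = ι (ev b w) := by
  induction w with
  | nil => simp
  | cons y w ih => rw [ev_cons, ev_cons, map_mul, map_mul, ← ih, ← e y]; group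

theorem conj_atm {h : G} {n : ℕ} {a b : ℕ → Γ} (e : ∀ j < n, h * ι (a j) * h⁻¹ = ι (b j)) (y : ℕ) :
    h * ι (atm n a y) * h⁻¹ = ι (atm n b y) := by
  rw [atm_def, atm_def]
  split_ifs with h1 h2
  · exact e _ h1
  · rw [map_inv, map_inv, ← e _ h1]; group
  · simp

theorem chain_sound {TD TH : List ℕ} {a b : ℕ → Γ} (hD : X.Gens TD a) (hH : X.Gens TH b) {h : G}
    (e : ∀ y, h * ι (a y) * h⁻¹ = ι (b y)) {s y : ℕ} (hs : X.M s) (ws : List (List ℕ)) {x : ℕ}
    (hx : X.M x) (hc : A.chain TD TH s y ws x = true) :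
    X.Cj ι ((h * ι (X.el s)) ^ ws.length) x y := by
  induction ws generalizing x with
  | nil =>
    have : x = y := Nat.beq_eq.mp hc
    subst this
    exact ⟨hx, hx, by simp⟩
  | cons w ws ih =>
    have hc' : band (A.cj s x (A.evw TD w A.one)) (A.chain TD TH s y ws (A.evw TH w A.one)) = true := hc
    rw [band_eq, Bool.and_eq_true] at hc'
    obtain ⟨-, m, e2⟩ := ih (hH.ev1 w).1 hc'.2
    refine ⟨hx, m, ?_⟩
    rw [← e2, (hH.ev1 w).2, ← conj_ev e w, ← (hD.ev1 w).2, ← hs.cj hx (hD.ev1 w).1 hc'.1,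
      List.length_cons, pow_succ, map_mul, map_mul, map_inv]
    group

end

/-- three involutions -/
theorem gens3 {x1 x2 x3 : ℕ} (h1 : X.M x1) (h2 : X.M x2) (h3 : X.M x3) {g : ℕ → Γ}
    (e1 : X.el x1 = g 0) (e2 : X.el x2 = g 1) (e3 : X.el x3 = g 2) (s : ∀ j < 3, g j * g j = 1) :
    X.Gens (PA.tab3 x1 x2 x3) (atm 3 g) := fun y => by
  have i : ∀ j < 3, (g j)⁻¹ = g j := fun j hj => inv_eq_of_mul_eq_one_right (s j hj)
  rw [atm_def, nth_eq]
  by_cases hy : y < 6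
  · interval_cases y <;> simp [PA.tab3, h1, h2, h3, e1, e2, e3, i]
  · rw [List.getD_eq_default _ _ (by simp [PA.tab3]; omega), if_neg (by omega)]
    exact ⟨X.M_one, X.el_one⟩

theorem Gens.fails [CharP R A.p] {TX : List ℕ} {a : ℕ → Γ} (h : X.Gens TX a)
    {ts : List (List ℕ × ℕ)} (ht : ∀ p ∈ ts, X.M p.2 ∧ ev a p.1 = X.el p.2) :
    ¬ A.fails TX ts = true := fun e => by
  obtain ⟨p, hp, e⟩ := (lany_iff _ _).mp e
  exact (h.ev1 p.1).1.neq (ht p hp).1 e ((h.ev1 p.1).2.trans (ht p hp).2)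

end MRep

end Cfsg.Agent.Spor
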