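import Cfsg.Agent.Spor.PMG
import Cfsg.Agent.Spor.DE0

set_option autoImplicit false

namespace Cfsg.Agent.Spor

theorem Fc.onC_iff {f : Fc} {k : ℕ → ℕ → ℕ → ℕ → Bool} (h : f.onC k = true) :
    ∃ i j b c, f = .C i j b c ∧ k i j b c = true := by
  cases f with
  | C i j b c => exact ⟨i, j, b, c, rfl, h⟩
  | E => exact absurd h Bool.false_ne_true
  | R => exact absurd h Bool.false_ne_true

theorem Fc.onE_iff {f : Fc} {k : ℕ → ℕ → ℕ → ℕ → ℕ → Bool} (h : f.onE k = true) :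
    ∃ i j a b c, f = .E i j a b c ∧ k i j a b c = true := by
  cases f with
  | C => exact absurd h Bool.false_ne_true
  | E i j a b c => exact ⟨i, j, a, b, c, rfl, h⟩
  | R => exact absurd h Bool.false_ne_true

theorem Fc.onR_iff {f : Fc} {k : List ℕ → Bool} (h : f.onR k = true) :
    ∃ r, f = .R r ∧ k r = true := by
  cases f with
  | C => exact absurd h Bool.false_ne_true
  | E => exact absurd h Bool.false_ne_true
  | R r => exact ⟨r, rfl, h⟩

theorem onCons_iff {l : List ℕ} {k : ℕ → List ℕ → Bool} (h : onCons l k = true) :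
    ∃ a t, l = a :: t ∧ k a t = true := by
  cases l with
  | nil => exact absurd h Bool.false_ne_true
  | cons a t => exact ⟨a, t, rfl, h⟩

theorem onConsL_iff {l : List (List ℕ)} {k : List ℕ → List (List ℕ) → Bool}
    (h : onConsL l k = true) : ∃ a t, l = a :: t ∧ k a t = true := by
  cases l with
  | nil => exact absurd h Bool.false_ne_true
  | cons a t => exact ⟨a, t, rfl, h⟩

theorem isNil_iff {l : List ℕ} (h : isNil l = true) : l = [] := by
  cases l with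
  | nil => rfl
  | cons a t => exact absurd h Bool.false_ne_true

theorem leq_iff {l m : List ℕ} (h : leq l m = true) : l = m := by
  induction l generalizing m with
  | nil => exact (isNil_iff h).symm
  | cons a l ih =>
    obtain ⟨b, m', rfl, h1⟩ := onCons_iff (l := m) h
    rw [band_eq, Bool.and_eq_true, Nat.beq_eq] at h1
    rw [h1.1, ih h1.2]

/-- interpretation of a double coset enumeration -/
structure DCtx (D : DE) (R : Type) [CommRing R] (Γ : Type) [Group Γ] (G : Type) [Group G] where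
  X : MRep D.A R Γ
  ψ : Γ →* G
  t : G

namespace DCtx

variable {D : DE} {R : Type} [CommRing R] {Γ : Type} [Group Γ] {G : Type} [Group G]
  (Y : DCtx D R Γ G)

noncomputable def v (x : ℕ) : G := Y.ψ (Y.X.el x)

/-- parent and label of a symbol -/
noncomputable def par (D : DE) (k : ℕ) : ℕ × ℕ :=
  match D.fc (D.DT.get 0 k) with
  | .E i _ a _ _ => (i, a)
  | _ => (k, 0)

/-- the values of the symbols -/
noncomputable def sym (k : ℕ) : G :=
  Nat.strongRec (motive := fun _ => G)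
    (fun k ih => if h : (par D k).1 < k then ih _ h * Y.v (par D k).2 * Y.t else 1) k

theorem sym_eq (k : ℕ) :
    Y.sym k = if (par D k).1 < k then Y.sym (par D k).1 * Y.v (par D k).2 * Y.t else 1 := by
  unfold sym
  rw [Nat.strongRec_eq]
  split_ifs <;> rfl

theorem sym_zero : Y.sym 0 = 1 := by rw [sym_eq, if_neg (Nat.not_lt_zero _)]

theorem v_one : Y.v D.A.one = 1 := by rw [v, Y.X.el_one, map_one]

variable {Y}

theorem v_mul {x y : ℕ} (hx : Y.X.M x) (hy : Y.X.M y) : Y.v (D.A.mul x y) = Y.v x * Y.v y := by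
  rw [v, hx.el_mul hy, map_mul]; rfl

theorem sym_def {n i j a b c : ℕ} (h : D.fc n = .E i j a b c) {k : ℕ} (hk : D.DT.get 0 k = n)
    (hi : i < k) : Y.sym k = Y.sym i * Y.v a * Y.t := by
  have e : par D k = (i, a) := by rw [par, hk, h]
  rw [sym_eq, e, if_pos hi]

theorem sym_one (h : D.okT = true) : Y.sym 1 = Y.t := by
  obtain ⟨i, j, a, b, c, e, h1⟩ := Fc.onE_iff h
  rw [band_eq, Bool.and_eq_true, Nat.beq_eq, Nat.beq_eq] at h1
  rw [sym_def e rfl (by omega), h1.1, h1.2, sym_zero, v_one, one_mul, one_mul]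

variable (Y)

noncomputable def tl (T : List ℕ) : G := (T.map fun a => Y.t * Y.v a).prod

theorem tl_nil : Y.tl [] = 1 := rfl
theorem tl_cons (a : ℕ) (T : List ℕ) : Y.tl (a :: T) = Y.t * Y.v a * Y.tl T := by simp [tl]

/-- the fact holds -/
def Valid : Fc → Prop
  | .C i j b c => Y.X.M b ∧ Y.X.M c ∧ Y.sym i = Y.v b * Y.sym j * Y.v c
  | .E i j a b c => Y.X.M a ∧ Y.X.M b ∧ Y.X.M c ∧
      Y.sym i * Y.v a * Y.t = Y.v b * Y.sym j * Y.v c
  | .R r => (∀ a ∈ r, Y.X.M a) ∧ Y.tl r = 1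

def Upto (n : ℕ) : Prop := ∀ i < n, Y.Valid (D.fc i)

structure Inv (P : Prop) (w : G) (B j c : ℕ) (T : List ℕ) (kn : Bool) : Prop where
  hB : Y.X.M B
  hc : D.A.Can D.A.d c
  hT : ∀ a ∈ T, Y.X.M a
  hk : kn = true → Y.X.M c
  hv : Y.X.M c → P ∧ Y.v B * Y.sym j * Y.v c * Y.tl T = w

variable {Y}

def Step (Y : DCtx D R Γ G) (P : Prop) (w : G) (k : Kt) : Prop :=
  ∃ B j c T kn, k B j c T kn = true ∧ Y.Inv P w B j c T kn

theorem step_sound {P : Prop} {w : G} (h1 : Y.sym 1 = Y.t) {tag id : ℕ} (hv : Y.Valid (D.fc id))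
    {ih : Kt} {B j c : ℕ} {T : List ℕ} {kn : Bool} (h : D.step tag id ih B j c T kn = true)
    (I : Y.Inv P w B j c T kn) : Y.Step P w ih := by
  unfold DE.step at h
  rw [brec_eq, brec_eq, brec_eq] at h
  split_ifs at h
  · obtain ⟨i', j', b, g, e, h2⟩ := Fc.onC_iff h
    rw [band_eq, Bool.and_eq_true, Nat.beq_eq] at h2
    rw [e] at hv
    obtain ⟨m1, m2, e1⟩ := hv
    refine ⟨_, _, _, _, _, h2.2, I.hB.mul m1, Y.X.can_mul m2.1 I.hc, I.hT,
      fun hk => m2.mul (I.hk hk), fun m => ?_⟩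
    have m3 := m2.divL I.hc m
    refine ⟨(I.hv m3).1, ?_⟩
    rw [← (I.hv m3).2, ← h2.1, e1, v_mul I.hB m1, v_mul m2 m3]
    simp only [mul_assoc]
  · obtain ⟨i', j', b, g, e, h2⟩ := Fc.onC_iff h
    simp only [band_eq, Bool.and_eq_true, Nat.beq_eq] at h2
    obtain ⟨rfl, rfl, h3⟩ := h2
    obtain ⟨acc, T', rfl, h4⟩ := onCons_iff h3
    rw [e] at hv
    obtain ⟨m1, m2, e1⟩ := hv
    have m4 := I.hT acc List.mem_cons_self
    refine ⟨_, _, _, _, _, h4, I.hB, Y.X.can_mul I.hc m1.1, fun a ha => ?_,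
      fun hk => (I.hk hk).mul m1, fun m => ?_⟩
    · rcases List.mem_cons.mp ha with rfl | ha
      · exact m2.mul m4
      · exact I.hT a (List.mem_cons_of_mem _ ha)
    have m3 := MRep.M.divR I.hc m1 m
    refine ⟨(I.hv m3).1, ?_⟩
    rw [← (I.hv m3).2, tl_cons, tl_cons, v_mul m3 m1, v_mul m2 m4]
    rw [h1] at e1
    conv_rhs => rw [e1]
    simp only [mul_assoc]
  · obtain ⟨i', j', a, b, g, e, h2⟩ := Fc.onE_iff h
    simp only [band_eq, Bool.and_eq_true, Nat.beq_eq] at h2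
    obtain ⟨rfl, rfl, h3⟩ := h2
    obtain ⟨acc, T', rfl, h4⟩ := onCons_iff h3
    rw [e] at hv
    obtain ⟨m0, m1, m2, e1⟩ := hv
    have m4 := I.hT acc List.mem_cons_self
    refine ⟨_, _, _, _, _, h4, I.hB.mul m1, Y.X.can_mul m2.1 m4.1,
      fun a ha => I.hT a (List.mem_cons_of_mem _ ha), fun _ => m2.mul m4, fun _ => ?_⟩
    refine ⟨(I.hv m0).1, ?_⟩
    rw [← (I.hv m0).2, tl_cons, v_mul I.hB m1, v_mul m2 m4]
    have : Y.v B * Y.sym i' * Y.v a * (Y.t * Y.v acc * Y.tl T') =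
      Y.v B * (Y.sym i' * Y.v a * Y.t) * Y.v acc * Y.tl T' := by simp only [mul_assoc]
    rw [this, e1]
    simp only [mul_assoc]
  · unfold DE.st3 at h
    simp only [band_eq, Bool.and_eq_true, Nat.beq_eq] at h
    obtain ⟨hk, rfl, h3⟩ := h
    have m := I.hk hk
    refine ⟨_, _, _, _, _, h3, I.hB.mul m, Y.X.M_one.1, I.hT, fun _ => Y.X.M_one, fun _ => ?_⟩
    refine ⟨(I.hv m).1, ?_⟩
    rw [← (I.hv m).2, v_mul I.hB m, sym_zero, v_one]
    simp only [mul_one]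

theorem walk_sound {P : Prop} {w : G} (h1 : Y.sym 1 = Y.t) {n : ℕ} (hU : Y.Upto n) {fin : Kt}
    (l : List ℕ) {B j c : ℕ} {T : List ℕ} {kn : Bool} (h : D.walk n fin l B j c T kn = true)
    (I : Y.Inv P w B j c T kn) : Y.Step P w fin := by
  induction l generalizing B j c T kn with
  | nil => exact ⟨_, _, _, _, _, h, I⟩
  | cons z l ih =>
    have h' : band (Nat.blt (Nat.shiftRight z 2) n)
      (D.step (Nat.land z 3) (Nat.shiftRight z 2) (D.walk n fin l) B j c T kn) = true := h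
    rw [band_eq, Bool.and_eq_true, Nat.blt_eq] at h'
    obtain ⟨_, _, _, _, _, h2, I2⟩ := step_sound h1 (hU _ h'.1) h'.2 I
    exact ih h2 I2

theorem Inv.start {i c : ℕ} {T : List ℕ} {kn : Bool} (hc : D.A.Can D.A.d c)
    (hT : ∀ a ∈ T, Y.X.M a) (hk : kn = true → Y.X.M c) :
    Y.Inv (Y.X.M c) (Y.sym i * Y.v c * Y.tl T) D.A.one i c T kn :=
  ⟨Y.X.M_one, hc, hT, hk, fun m => ⟨m, by rw [v_one, one_mul]⟩⟩

theorem M_sing : ∀ a ∈ [D.A.one], Y.X.M a := fun a ha => by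
  rw [List.mem_singleton.mp ha]; exact Y.X.M_one

theorem tl_sing : Y.tl [D.A.one] = Y.t := by rw [tl_cons, tl_nil, v_one, mul_one, mul_one]

theorem finEq_sound {P : Prop} {w : G} {b j c : ℕ} (h : Y.Step P w (DE.finEq b j c)) :
    P ∧ Y.X.M b ∧ Y.X.M c ∧ w = Y.v b * Y.sym j * Y.v c := by
  obtain ⟨B, j', c', T, kn, h, I⟩ := h
  simp only [DE.finEq, band_eq, Bool.and_eq_true, Nat.beq_eq] at h
  obtain ⟨hk, hT, rfl, rfl, rfl⟩ := h
  have m := I.hk hk
  refine ⟨(I.hv m).1, I.hB, m, ?_⟩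
  rw [← (I.hv m).2, isNil_iff hT, tl_nil, mul_one]

theorem okC_sound (h1 : Y.sym 1 = Y.t) {n : ℕ} (hU : Y.Upto n) {P : Pf} {i j b c : ℕ}
    (h : D.okC n P i j b c = true) : Y.Valid (.C i j b c) := by
  unfold DE.okC at h
  rw [brec_eq, brec_eq] at h
  split_ifs at h
  · obtain ⟨-, m1, m2, e⟩ := finEq_sound (walk_sound h1 hU _ h
      (Inv.start Y.X.M_one.1 (by simp) fun _ => Y.X.M_one))
    rw [v_one, tl_nil, mul_one, mul_one] at e
    exact ⟨m1, m2, e⟩
  · simp only [band_eq, Bool.and_eq_true, Nat.blt_eq] at h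
    obtain ⟨hr, cb, cc, h2⟩ := h
    obtain ⟨i0, j0, a0, b0, c0, e, h3⟩ := Fc.onE_iff h2
    rw [Bool.and_eq_true, Nat.beq_eq] at h3
    obtain ⟨rfl, h3⟩ := h3
    have hv := hU _ hr
    rw [e] at hv
    obtain ⟨m0, m1, m2, e1⟩ := hv
    obtain ⟨B, j', c', T, kn, h4, I⟩ := walk_sound h1 hU _ h3 (Inv.start m0.1 M_sing fun _ => m0)
    simp only [band_eq, Bool.and_eq_true, Nat.beq_eq] at h4
    obtain ⟨hk, hT, rfl, rfl, rfl⟩ := h4
    have m3 := I.hk hk
    have m4 := m1.divL (PA.can_sq Y.X.sq cb) I.hB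
    have m5 := MRep.M.divR (PA.can_sq Y.X.sq cc) m2 m3
    have e2 := (I.hv m3).2
    rw [isNil_iff hT, tl_nil, mul_one, tl_sing, e1, v_mul m1 m4, v_mul m5 m2] at e2
    refine ⟨m4, m5, ?_⟩
    apply mul_left_cancel (a := Y.v b0)
    apply mul_right_cancel (b := Y.v c0)
    rw [← e2]
    simp only [mul_assoc]
  · simp only [band_eq, Bool.and_eq_true, Nat.blt_eq] at h
    obtain ⟨hr, cb, cc, h2⟩ := h
    obtain ⟨i0, j0, b0, c0, e, h3⟩ := Fc.onC_iff h2
    simp only [band_eq, Bool.and_eq_true, Nat.beq_eq] at h3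
    obtain ⟨rfl, rfl, e2, e3⟩ := h3
    have hv := hU _ hr
    rw [e] at hv
    obtain ⟨m1, m2, e1⟩ := hv
    have m4 := m1.divL (PA.can_sq Y.X.sq cb) (e2.symm ▸ Y.X.M_one)
    have m5 := MRep.M.divR (PA.can_sq Y.X.sq cc) m2 (e3.symm ▸ Y.X.M_one)
    have e4 := v_mul m1 m4
    have e5 := v_mul m5 m2
    rw [e2, v_one] at e4
    rw [e3, v_one] at e5
    refine ⟨m4, m5, ?_⟩
    rw [e1, eq_inv_of_mul_eq_one_right e4.symm, eq_inv_of_mul_eq_one_left e5.symm]
    group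

theorem kn_one {c : ℕ} (h : Nat.beq c D.A.one = true) : Y.X.M c := by
  rw [Nat.beq_eq.mp h]; exact Y.X.M_one

theorem okE_sound (h1 : Y.sym 1 = Y.t) {n : ℕ} (hU : Y.Upto n) {P : Pf} {i j a b c : ℕ}
    (hf : D.fc n = .E i j a b c) (h : D.okE n P i j a b c = true) : Y.Valid (.E i j a b c) := by
  unfold DE.okE at h
  rw [brec_eq, brec_eq] at h
  split_ifs at h
  · rw [band_eq, Bool.and_eq_true] at h
    obtain ⟨m0, m1, m2, e⟩ := finEq_sound (walk_sound h1 hU _ h.2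
      (Inv.start (PA.can_sq Y.X.sq h.1) M_sing kn_one))
    rw [tl_sing] at e
    exact ⟨m0, m1, m2, e⟩
  · simp only [band_eq, Bool.and_eq_true, Nat.blt_eq] at h
    obtain ⟨hr, cb, cc, c0, h2⟩ := h
    obtain ⟨r, e, h3⟩ := Fc.onR_iff h2
    have hv := hU _ hr
    rw [e] at hv
    obtain ⟨m0, e1⟩ := hv
    obtain ⟨B, j', c', T, kn, h4, I⟩ := walk_sound h1 hU _ h3
      (Inv.start (PA.can_sq Y.X.sq c0) m0 kn_one)
    simp only [band_eq, Bool.and_eq_true, Nat.beq_eq] at h4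
    obtain ⟨hk, rfl, rfl, h5⟩ := h4
    obtain ⟨ak, T', rfl, h6⟩ := onCons_iff h5
    simp only [band_eq, Bool.and_eq_true, Nat.beq_eq] at h6
    obtain ⟨hT, e2, e3⟩ := h6
    have m3 := I.hk hk
    obtain ⟨m6, e4⟩ := I.hv m3
    have m7 := I.hT ak List.mem_cons_self
    have m4 := I.hB.divL (PA.can_sq Y.X.sq cb) (e2.symm ▸ Y.X.M_one)
    have m5 := MRep.M.divR (PA.can_sq Y.X.sq cc) m7 (e3.symm ▸ m6)
    have e5 := v_mul I.hB m4
    rw [e2, v_one] at e5
    rw [e1, mul_one, isNil_iff hT, tl_cons, tl_nil, mul_one, ← e3, v_mul m5 m7] at e4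
    refine ⟨m3, m4, m5, ?_⟩
    rw [eq_inv_of_mul_eq_one_right e5.symm]
    apply mul_left_cancel (a := Y.v B)
    apply mul_right_cancel (b := Y.v ak)
    simp only [mul_assoc] at e4 ⊢
    rw [e4, mul_inv_cancel_left]
  · simp only [band_eq, Bool.and_eq_true, Nat.blt_eq, Nat.beq_eq] at h
    obtain ⟨e1, hi, rfl, rfl, h2⟩ := h
    obtain ⟨B, j', c', T, kn, h4, I⟩ := walk_sound h1 hU _ h2
      (Inv.start Y.X.M_one.1 (by simp) fun _ => Y.X.M_one)
    simp only [band_eq, Bool.and_eq_true, Nat.beq_eq] at h4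
    obtain ⟨hk, rfl⟩ := h4
    refine ⟨I.hk hk, Y.X.M_one, Y.X.M_one, ?_⟩
    rw [sym_def hf e1 hi, v_one, one_mul, mul_one]

theorem pre_sound {n : ℕ} (hU : Y.Upto n) (l : List ℕ) {r : List ℕ} (h : D.pre n l r = true) :
    ∀ a ∈ r, Y.X.M a := by
  induction l generalizing r with
  | nil => rw [isNil_iff (l := r) h]; simp
  | cons id l ih =>
    obtain ⟨a, r', rfl, h1⟩ := onCons_iff (l := r) h
    have h1 : band (Nat.blt id n) (band ((D.fc id).onC fun _ _ _ g => Nat.beq g a) (D.pre n l r'))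
      = true := h1
    simp only [band_eq, Bool.and_eq_true, Nat.blt_eq] at h1
    obtain ⟨i, j, b, c, e, h2⟩ := Fc.onC_iff h1.2.1
    have hv := hU _ h1.1
    rw [e] at hv
    intro x hx
    rcases List.mem_cons.mp hx with rfl | hx
    · rw [← Nat.beq_eq.mp h2]; exact hv.2.1
    · exact ih h1.2.2 x hx

theorem okR_sound (h1 : Y.sym 1 = Y.t) {n : ℕ} (hU : Y.Upto n) {P : Pf} {r : List ℕ}
    (h : D.okR n P r = true) : Y.Valid (.R r) := by
  unfold DE.okR at h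
  rw [brec_eq] at h
  split_ifs at h
  · simp only [band_eq, Bool.and_eq_true, Nat.blt_eq] at h
    obtain ⟨r0, e, h3⟩ := Fc.onR_iff h.2
    obtain ⟨a, r1, rfl, h4⟩ := onCons_iff h3
    have hv := hU _ h.1
    rw [e] at hv
    obtain ⟨m0, e1⟩ := hv
    rw [leq_iff h4, lapp_eq]
    refine ⟨fun x hx => m0 x (by simpa [or_comm] using hx), ?_⟩
    rw [tl_cons] at e1
    rw [tl, List.map_append, List.prod_append]
    exact mul_eq_one_comm.mp (by simpa [tl] using e1)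
  · rw [band_eq, Bool.and_eq_true] at h
    have m0 := pre_sound hU _ h.1
    obtain ⟨B, j', c', T, kn, h4, I⟩ := walk_sound h1 hU _ h.2
      (Inv.start Y.X.M_one.1 m0 fun _ => Y.X.M_one)
    simp only [band_eq, Bool.and_eq_true, Nat.beq_eq] at h4
    obtain ⟨hk, hT, rfl, e2⟩ := h4
    have m3 := I.hk hk
    have e4 := (I.hv m3).2
    rw [isNil_iff hT, tl_nil, sym_zero, v_one, mul_one, mul_one, one_mul, one_mul, ← v_mul I.hB m3,
      e2, v_one] at e4
    exact ⟨m0, e4.symm⟩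

theorem Upto.succ {n : ℕ} (hU : Y.Upto n) (h : Y.Valid (D.fc n)) : Y.Upto (n + 1) := fun i hi =>
  (Nat.lt_succ_iff_lt_or_eq.mp hi).elim (hU i) (· ▸ h)

theorem ok_sound (h1 : Y.sym 1 = Y.t) {n : ℕ} (hU : Y.Upto n) {P : Pf} (h : D.ok n P = true) :
    Y.Valid (D.fc n) := by
  unfold DE.ok at h
  cases hf : D.fc n with
  | C i j b c => rw [hf] at h; exact okC_sound h1 hU h
  | E i j a b c => rw [hf] at h; exact okE_sound h1 hU hf h
  | R r => rw [hf] at h; exact okR_sound h1 hU h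

theorem Upto.chk (h1 : Y.sym 1 = Y.t) {m : ℕ} {l : List Pf} {n : ℕ} (hU : Y.Upto n)
    (h : D.chk m l n = true) : Y.Upto m := by
  induction l generalizing n with
  | nil => rwa [← Nat.beq_eq.mp h]
  | cons P l ih =>
    have h' : band (D.ok n P) (D.chk m l (n + 1)) = true := h
    rw [band_eq, Bool.and_eq_true] at h'
    exact ih (hU.succ (ok_sound h1 hU h'.1)) h'.2

/-- the atoms of the big group -/
structure At (Y : DCtx D R Γ G) (T : ℕ) (g : ℕ → Γ) (a : ℕ → G) : Prop where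
  gens : Y.X.Gens D.TT g
  lt : ∀ y < T, a y = Y.ψ (g y)
  t : a T = Y.t
  t' : a (T + 1) = Y.t⁻¹

variable {T : ℕ} {g : ℕ → Γ} {a : ℕ → G}

theorem v_ev (hg : Y.X.Gens D.TT g) (w : List ℕ) : Y.X.M (D.ev w) ∧ Y.v (D.ev w) = Y.ψ (ev g w) :=
  ⟨(hg.ev1 w).1, congrArg Y.ψ (hg.ev1 w).2⟩

theorem At.ev (h : Y.At T g a) {w : List ℕ} (hw : ∀ y ∈ w, y < T) : ev a w = Y.v (D.ev w) := by
  rw [(v_ev h.gens w).2, ev_map]
  unfold Spor.ev
  rw [List.map_congr_left fun y hy => h.lt y (hw y hy)]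

theorem At.tl (h : Y.At T g a) (ws : List (List ℕ)) (hw : ∀ w ∈ ws, ∀ y ∈ w, y < T) :
    (∀ x ∈ D.evs ws, Y.X.M x) ∧ Y.tl (D.evs ws) =
      Spor.ev a (List.rec List.nil (fun w _ ih => List.cons T (lapp w ih)) ws) := by
  induction ws with
  | nil => exact ⟨by simp [DE.evs], rfl⟩
  | cons w ws ih =>
    obtain ⟨h1, h2⟩ := ih fun u hu => hw u (List.mem_cons_of_mem _ hu)
    refine ⟨fun x hx => ?_, ?_⟩
    · rcases List.mem_cons.mp hx with rfl | hx
      · exact (v_ev h.gens w).1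
      · exact h1 x hx
    · show Y.tl (D.ev w :: D.evs ws) = Spor.ev a (T :: lapp w _)
      rw [tl_cons, ev_cons, ev_lapp, h2, h.t, h.ev (hw w List.mem_cons_self), mul_assoc]

theorem okB_sound (h1 : Y.sym 1 = Y.t) (hA : Y.At T g a) {n : ℕ} {s : Bs}
    (hw : ev a (s.word T) = 1) (h : D.okB T n s = true) : Y.Valid (D.fc n) := by
  unfold DE.okB at h
  unfold Bs.word at hw
  simp only [band_eq, Bool.and_eq_true, lall_iff, Nat.blt_eq] at h
  obtain ⟨hl, h⟩ := h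
  rw [brec_eq] at h hw
  split_ifs at h hw
  · obtain ⟨r, e, h2⟩ := Fc.onR_iff h
    rw [e, leq_iff h2]
    exact ⟨(hA.tl _ hl).1, (hA.tl _ hl).2.trans hw⟩
  · obtain ⟨u, ws, e0, h2⟩ := onConsL_iff h
    obtain ⟨i, j, b, c, e, h3⟩ := Fc.onC_iff h2
    rw [brec_eq] at h3 hw
    rw [e]
    split_ifs at h3 hw
    · simp only [Bool.and_eq_true, Nat.beq_eq] at h3
      obtain ⟨rfl, rfl, rfl, cb, e2⟩ := h3
      have m1 := (v_ev hA.gens u).1
      have m2 := MRep.M.divR (PA.can_sq Y.X.sq cb) m1 (e2.symm ▸ Y.X.M_one)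
      refine ⟨m2, m1, ?_⟩
      rw [sym_zero, mul_one, ← v_mul m2 m1, e2, v_one]
    · obtain ⟨u', ws', rfl, h4⟩ := onConsL_iff h3
      simp only [Bool.and_eq_true, Nat.beq_eq] at h4
      obtain ⟨rfl, rfl, rfl, rfl⟩ := h4
      refine ⟨(v_ev hA.gens u).1, (v_ev hA.gens u').1, ?_⟩
      rw [e0] at hw hl
      have hw' : ev a (lapp u (T :: lapp u' [T + 1])) = 1 := hw
      rw [ev_lapp, ev_cons, ev_lapp, ev_cons, ev_nil, hA.t, hA.t', hA.ev (hl u (by simp)),
        hA.ev (hl u' (by simp)), mul_one, ← mul_assoc, ← mul_assoc, mul_inv_eq_one] at hw'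
      rw [h1, hw']

theorem Upto.chkB (h1 : Y.sym 1 = Y.t) (hA : Y.At T g a) {m : ℕ} {l : List Bs} {n : ℕ}
    (hU : Y.Upto n) (hw : ∀ w ∈ l.map (Bs.word T), ev a w = 1) (h : D.chkB T m l n = true) :
    Y.Upto m := by
  induction l generalizing n with
  | nil => rwa [← Nat.beq_eq.mp h]
  | cons s l ih =>
    have h' : band (D.okB T n s) (D.chkB T m l (n + 1)) = true := h
    rw [band_eq, Bool.and_eq_true] at h'
    exact ih (hU.succ (okB_sound h1 hA (hw _ (by simp)) h'.1))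
      (fun w hw' => hw w (List.mem_cons_of_mem _ hw')) h'.2

theorem Upto.zero : Y.Upto 0 := fun _ h => absurd h (Nat.not_lt_zero _)

/-- proved relators, as words -/
theorem Upto.rel (hA : Y.At T g a) {m : ℕ} (hU : Y.Upto m) {n : ℕ} {ws : List (List ℕ)}
    (h : band (Nat.blt n m) (D.okB T n ⟨2, ws⟩) = true) : ev a (Bs.word T ⟨2, ws⟩) = 1 := by
  simp only [DE.okB, band_eq, Bool.and_eq_true, lall_iff, Nat.blt_eq] at h
  obtain ⟨hn, hl, h⟩ := h
  obtain ⟨r, e, h2⟩ := Fc.onR_iff (f := D.fc n) h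
  have hv := hU n hn
  rw [e, leq_iff h2] at hv
  exact (hA.tl _ hl).2.symm.trans hv.2

end DCtx

end Cfsg.Agent.Spor
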