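import Cfsg.Prelude.Def_Spor_HN
import Cfsg.Agent.Spor.HND.V.Main
import Cfsg.Agent.Spor.HNq.Main
import Cfsg.Agent.Spor.PX11

set_option autoImplicit false
set_option maxRecDepth 100000

namespace Cfsg.Agent.Spor.HNC

open Cfsg.Spor

def gl : List HN.Gen := [.x, .y, .z, .t]
def RL : List (List ℕ) := [[2, 2, 2, 2, 2, 2], [0, 0, 2, 0, 0, 3], [1, 3, 0, 2, 1, 3, 0, 2, 1, 3, 0, 2], [1, 2, 2, 0, 2, 2, 2, 1, 2, 2, 0, 2, 2, 2, 1, 2, 2, 0, 2, 2, 2], [0, 2, 0, 2, 0, 2, 0, 2, 0, 2, 0, 2, 0, 2, 0, 2], [0, 2, 0, 2, 2, 2, 0, 2, 0, 2, 2, 2, 0, 2, 0, 2, 2, 2, 0, 2, 0, 2, 2, 2], [4, 4], [4, 0, 4, 0], [5, 2, 1, 3, 3, 1, 3, 1, 3, 4, 2, 0, 2, 0, 2, 2, 0, 3, 1, 1], [4, 3, 1, 3, 1, 3, 3, 3, 4, 2, 2, 2, 0, 2, 0, 2, 0, 3, 1, 3, 1, 3, 3, 3, 4, 2, 2, 2, 0, 2, 0, 2, 0, 3, 1, 3, 1, 3, 3, 3, 4, 2, 2, 2, 0, 2, 0, 2, 0], [6, 6, 6, 6, 6], [1, 6, 0, 6, 6], [7, 3, 6, 2], [4, 6, 4, 6, 4, 6]]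
abbrev rels : Set (FreeGroup HN.Gen) := coxRelators HN.edges ∪ {r | r ∈ HN.extra}

theorem coded : Coded rels gl 0 RL :=
  Coded.of_cox (by intro x; cases x <;> decide) (by decide +kernel) (by decide +kernel)
    (by decide +kernel)

theorem XL {G : Type} [Group G] {f : ℕ → G} (h : Pres 4 0 RL f) :
    ∀ l ∈ [[1, 3, 0, 6, 1, 2, 0, 7], [6, 1, 1, 6, 0, 0]], ev (atm 4 f) l = 1 := by
  have e0 : atm 4 f 0 = f 0 := rfl
  have e1 : atm 4 f 1 = (f 0)⁻¹ := rfl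
  have e2 : atm 4 f 2 = f 1 := rfl
  have e3 : atm 4 f 3 = (f 1)⁻¹ := rfl
  have e6 : atm 4 f 6 = f 3 := rfl
  have e7 : atm 4 f 7 = (f 3)⁻¹ := rfl
  have h1 := h.rel [6, 6, 6, 6, 6] (by decide)
  have h2 := h.rel [1, 6, 0, 6, 6] (by decide)
  have h3 := h.rel [7, 3, 6, 2] (by decide)
  simp only [List.forall_mem_cons, ev_cons, ev_nil, e0, e1, e2, e3, e6, e7, List.not_mem_nil,
    false_imp_iff, implies_true, and_true, mul_one] at h1 h2 h3 ⊢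
  generalize f 0 = x at *
  generalize f 1 = y at *
  generalize f 3 = t at *
  have k1 : x⁻¹ * t * x = (t * t)⁻¹ := by
    rw [eq_inv_iff_mul_eq_one, ← h2]; simp only [mul_assoc]
  have k2 : (t * t)⁻¹ * (t * t)⁻¹ = t := by
    rw [← mul_inv_rev, inv_eq_iff_mul_eq_one, ← h1]; simp only [mul_assoc]
  have k3 : Commute t y := by
    rw [← mul_assoc, ← mul_inv_rev, inv_mul_eq_one] at h3
    exact h3.symm
  have k4 : Commute t (x⁻¹ * y * x) := by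
    have := k3.conj x⁻¹
    rw [inv_inv, k1] at this
    exact k2 ▸ this.mul_left this
  refine ⟨?_, ?_⟩
  · calc _ = (x⁻¹ * y * x)⁻¹ * (t * (x⁻¹ * y * x)) * t⁻¹ := by group
      _ = 1 := by rw [k4.eq]; group
  · calc _ = t * (x⁻¹ * (x⁻¹ * t * x) * x) := by simp only [mul_assoc]
      _ = t * ((x⁻¹ * t * x) * (x⁻¹ * t * x))⁻¹ := by
        conv_lhs => rw [k1]
        group
      _ = 1 := by rw [k1, k2, mul_inv_cancel]

section
variable {G : Type} [Group G] {g : ℕ → G} (hg : Pres 4 0 RL g)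
include hg

theorem presS : Pres 3 0 HNP.RL g := hg.restrict (H := [([], 0, true), ([], 1, true), ([], 2, true), ([], 3, true), ([], 4, true), ([], 5, true), ([], 6, true), ([], 7, true), ([], 8, true), ([], 9, true)]) (by decide +kernel)
theorem bw : ∀ w ∈ HNG.BW, ev (atm 4 g) w = 1 := ((hg.append (XL hg)).cons (H := [([7], 12, true), ([], 14, true), ([1], 11, true), ([], 15, true), ([], 10, true), ([4], 13, true), ([], 16, false), ([], 16, false), ([], 16, false)]) (by decide +kernel)).rel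
theorem homψ : ∃ ψ : HNP.P →* G, ∀ j < 3, ψ (HNP.p j) = g j :=
  HNP.bound.exists_hom (by norm_num) HNP.pres (presS hg) HNP.lbP

/-- the data of the double coset enumeration -/
noncomputable def Y : DCtx HNG.D (ZMod 5) HNP.P G := ⟨HNq.X, (homψ hg).choose, g 3⟩

theorem hψ : ∀ j < 3, (Y hg).ψ (HNP.p j) = g j := (homψ hg).choose_spec
theorem hA : (Y hg).At 6 (atm 3 HNP.p) (atm 4 g) := DCtx.At.of HNq.gens (hψ hg) rfl
theorem upto : (Y hg).Upto 696 := HNG.upto (hA hg) (bw hg)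
theorem range : (Y hg).ψ.range = gsub 3 g := range_eq_gsub (hψ hg) (gsub_lift 3 _)
theorem done : (Y hg).Done 3 HNP.p HND.V.CL 177408000 1539000 := HND.V.done (upto hg) HNq.gens
theorem gtop (ht : gsub 4 g = ⊤) : ∀ K : Subgroup G, (Y hg).ψ.range ≤ K → (Y hg).t ∈ K → K = ⊤ :=
  DCtx.gen_top (hψ hg) rfl ht
theorem exact (ht : gsub 4 g = ⊤) (hl : 177408000 * 1539000 ∣ Nat.card G) :
    DExact (Y hg).ψ ((Y hg).xs HND.V.CL) (DCtx.Ss 3 HNP.p HND.V.CL) 1539000 :=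
  (done hg).exact (gtop hg ht) hl

end

end Cfsg.Agent.Spor.HNC
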