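import Cfsg.Prelude.Def_Spor_J4
import Cfsg.Agent.Spor.J4E.Main
import Cfsg.Agent.Spor.J4R.Main

set_option autoImplicit false
set_option maxRecDepth 100000

namespace Cfsg.Agent.Spor.J4C

open Cfsg.Spor

def gl : List J4.Gen := [.x, .y, .t]
def RL : List (List ℕ) := [[0, 0], [2, 2, 2], [0, 2, 0, 2, 0, 2, 0, 2, 0, 2, 0, 2, 0, 2, 0, 2, 0, 2, 0, 2, 0, 2, 0, 2, 0, 2, 0, 2, 0, 2, 0, 2, 0, 2, 0, 2, 0, 2, 0, 2, 0, 2, 0, 2, 0, 2], [1, 3, 0, 2, 1, 3, 0, 2, 1, 3, 0, 2, 1, 3, 0, 2, 1, 3, 0, 2, 1, 3, 0, 2, 1, 3, 0, 2, 1, 3, 0, 2, 1, 3, 0, 2, 1, 3, 0, 2, 1, 3, 0, 2, 1, 3, 0, 2], [1, 3, 1, 3, 0, 2, 0, 2, 1, 3, 1, 3, 0, 2, 0, 2, 1, 3, 1, 3, 0, 2, 0, 2, 1, 3, 1, 3, 0, 2, 0, 2, 1, 3, 1,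 3, 0, 2, 0, 2], [0, 2, 0, 2, 0, 3, 0, 2, 0, 3, 0, 2, 0, 3, 0, 2, 0, 2, 0, 3, 0, 2, 0, 3, 0, 2, 0, 3, 0, 2, 0, 2, 0, 3, 0, 2, 0, 3, 0, 2, 0, 3, 0, 2, 0, 2, 0, 3, 0, 2, 0, 3, 0, 2, 0, 3], [0, 2, 0, 2, 0, 3, 0, 2, 0, 2, 0, 3, 0, 2, 0, 2, 0, 3, 0, 2, 0, 3, 0, 3, 0, 2, 0, 3, 0, 3, 0, 2, 0, 3, 0, 3], [4, 4], [5, 3, 1, 3, 1, 3, 1, 2, 1, 2, 1, 3, 1, 3, 4, 2, 0, 2, 0, 3, 0, 3, 0, 2, 0, 2, 0, 2], [5, 1, 4, 0], [2, 1, 2, 1, 3, 1, 2, 1, 3, 4, 2, 0, 3, 0, 2, 0, 3, 0, 2, 1, 2, 1, 3, 1, 2, 1, 3, 4, 2, 0, 3, 0, 2, 0, 3, 0, 2, 1, 2, 1, 3, 1, 2, 1, 3, 4, 2, 0, 3, 0, 2, 0, 3, 0], [2, 0, 2, 0, 2, 0, 2, 2, 0, 2, 0, 2, 0, 2, 2, 0, 2, 0, 2, 0, 2, 4, 3, 3, 1, 3, 1, 3, 1, 3, 1, 3, 1, 3, 1, 3,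 3, 1, 3, 1, 3, 1, 4, 0, 2, 0, 2, 0, 2, 2, 0, 2, 0, 2, 0, 2, 0, 2, 0, 2, 0, 2, 2, 2, 0, 2, 0, 2, 0, 2, 2, 0, 2, 0, 2, 0, 2, 2, 0, 2, 0, 2, 0, 2, 4, 3, 3, 1, 3, 1, 3, 1, 3, 1, 3, 1, 3, 1, 3, 3, 1, 3, 1, 3, 1, 4, 0, 2, 0, 2, 0, 2, 2, 0, 2, 0, 2, 0, 2, 0, 2, 0, 2, 0, 2, 2]]
abbrev rels : Set (FreeGroup J4.Gen) := coxRelators J4.edges ∪ {r | r ∈ J4.extra}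

theorem coded : Coded rels gl 0 RL :=
  Coded.of_cox (by intro x; cases x <;> decide) (by decide +kernel) (by decide +kernel)
    (by decide +kernel)

section
variable {G : Type} [Group G] {g : ℕ → G} (hg : Pres 3 0 RL g)
include hg

theorem presS : Pres 2 0 J4P.RL g := hg.restrict (H := [([], 0, true), ([], 1, true), ([], 2, true), ([], 3, true), ([], 4, true), ([], 5, true), ([], 6, true)]) (by decide +kernel)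
theorem bw : ∀ w ∈ J4E.BW, ev (atm 3 g) w = 1 := hg.cons_repl2 (y := 5) (u := [4]) (H := [([], 7, true), ([4], 9, true), ([4], 8, true), ([], 7, true), ([], 12, false), ([], 12, false), ([2, 1, 2, 1, 3, 1, 2, 1, 3], 10, true), ([2, 0, 2, 0, 2, 0, 2, 2, 0, 2, 0, 2, 0, 2, 2, 0, 2, 0, 2, 0, 2], 11, true)]) (by decide +kernel)
theorem homψ : ∃ ψ : J4P.P →* G, ∀ j < 2, ψ (J4P.p j) = g j :=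
  J4P.bound.exists_hom (by norm_num) J4P.pres (presS hg) J4P.lbP

/-- the data of the double coset enumeration -/
noncomputable def Y : DCtx J4E.D (ZMod 2) J4P.P G := ⟨J4P.X, (homψ hg).choose, g 2⟩

theorem hψ : ∀ j < 2, (Y hg).ψ (J4P.p j) = g j := (homψ hg).choose_spec
theorem hA : (Y hg).At 4 (atm 2 J4P.p) (atm 3 g) := DCtx.At.of J4P.gens (hψ hg) rfl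
theorem upto : (Y hg).Upto 509 := J4E.upto (hA hg) (bw hg)
theorem range : (Y hg).ψ.range = gsub 2 g := range_eq_gsub (hψ hg) (gsub_lift 2 _)

end

def WD : List (List ℕ) := [[0], [2], [2, 1, 2, 1, 3, 1, 3, 1, 3, 1, 3, 4, 2, 0, 2, 0, 2, 0, 2, 0, 3, 0, 2, 1, 2, 1, 3, 1, 3, 1, 3, 1, 3, 4, 2, 0, 2, 0, 2, 0, 2, 0, 3, 0, 2, 1, 2, 1, 3, 1, 3, 1, 3, 1, 3, 4, 2, 0, 2, 0, 2, 0, 2, 0, 3, 0], [4]]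
def RX : List (List ℕ) := [[0, 0], [2, 2, 2], [0, 2, 0, 2, 0, 2, 0, 2, 0, 2, 0, 2, 0, 2, 0, 2, 0, 2, 0, 2, 0, 2, 0, 2, 0, 2, 0, 2, 0, 2, 0, 2, 0, 2, 0, 2, 0, 2, 0, 2, 0, 2, 0, 2, 0, 2], [1, 3, 0, 2, 1, 3, 0, 2, 1, 3, 0, 2, 1, 3, 0, 2, 1, 3, 0, 2, 1, 3, 0, 2, 1, 3, 0, 2, 1, 3, 0, 2, 1, 3, 0, 2, 1, 3, 0, 2, 1, 3, 0, 2, 1, 3, 0, 2], [1, 3, 1, 3, 0, 2, 0, 2, 1, 3, 1, 3, 0, 2, 0, 2, 1, 3, 1, 3, 0, 2, 0, 2, 1, 3, 1, 3, 0, 2, 0, 2, 1, 3, 1, 3, 0, 2, 0, 2], [0, 2, 0, 2, 0, 3, 0, 2, 0, 3, 0, 2, 0, 3, 0, 2, 0, 2, 0, 3, 0, 2, 0, 3, 0, 2, 0, 3, 0, 2, 0, 2, 0, 3, 0, 2, 0, 3, 0, 2, 0, 3, 0, 2, 0, 2, 0, 3, 0, 2, 0, 3, 0, 2, 0, 3], [0, 2, 0, 2, 0, 3, 0, 2, 0, 2, 0, 3, 0, 2, 0, 2, 0, 3,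 0, 2, 0, 3, 0, 3, 0, 2, 0, 3, 0, 3, 0, 2, 0, 3, 0, 3], [4, 4], [5, 3, 1, 3, 1, 3, 1, 2, 1, 2, 1, 3, 1, 3, 4, 2, 0, 2, 0, 3, 0, 3, 0, 2, 0, 2, 0, 2], [5, 1, 4, 0], [2, 1, 2, 1, 3, 1, 2, 1, 3, 4, 2, 0, 3, 0, 2, 0, 3, 0, 2, 1, 2, 1, 3, 1, 2, 1, 3, 4, 2, 0, 3, 0, 2, 0, 3, 0, 2, 1, 2, 1, 3, 1, 2, 1, 3, 4, 2, 0, 3, 0, 2, 0, 3, 0], [2, 0, 2, 0, 2, 0, 2, 2, 0, 2, 0, 2, 0, 2, 2, 0, 2, 0, 2, 0, 2, 4, 3, 3, 1, 3, 1, 3, 1, 3, 1, 3, 1, 3, 1, 3, 3, 1, 3, 1, 3, 1, 4, 0, 2, 0, 2, 0, 2, 2, 0, 2, 0, 2, 0, 2, 0, 2, 0, 2, 0, 2, 2, 2, 0, 2, 0, 2, 0, 2, 2, 0, 2, 0, 2, 0, 2, 2, 0, 2, 0, 2, 0, 2, 4, 3, 3, 1, 3, 1, 3, 1, 3, 1, 3, 1, 3, 1, 3, 3, 1, 3, 1, 3, 1, 4, 0, 2, 0, 2, 0, 2, 2, 0, 2, 0, 2,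 0, 2, 0, 2, 0, 2, 0, 2, 2], [4, 2, 0, 2, 0, 2, 0, 2, 0, 3, 0, 2, 1, 2, 1, 3, 1, 3, 1, 3, 1, 3, 4, 2, 0, 2, 0, 2, 0, 2, 0, 3, 0, 2, 1, 2, 1, 3, 1, 3, 1, 3, 1, 3, 4, 2, 0, 2, 0, 2, 0, 2, 0, 3, 0, 2, 1, 2, 1, 3, 1, 3, 1, 3, 1, 3, 4, 2, 0, 2, 0, 2, 0, 2, 0, 3, 0, 2, 1, 2, 1, 3, 1, 3, 1, 3, 1, 3, 4, 2, 0, 2, 0, 2, 0, 2, 0, 3, 0, 2, 1, 2, 1, 3, 1, 3, 1, 3, 1, 3, 4, 2, 0, 2, 0, 2, 0, 2, 0, 3, 0, 2, 1, 2, 1, 3, 1, 3, 1, 3, 1, 3], [4, 2, 0, 2, 0, 2, 0, 2, 0, 3, 0, 3, 1, 2, 1, 3, 1, 3, 1, 3, 1, 3, 4, 2, 0, 2, 0, 2, 0, 2, 0, 3, 0, 3, 1, 2, 1, 3, 1, 3, 1, 3, 1, 3, 4, 2, 0, 2, 0, 2, 0, 2, 0, 3, 0, 3, 1, 2, 1, 3, 1, 3, 1, 3, 1, 3, 4, 2, 0, 2, 0, 2, 0, 2, 0, 3, 0, 2, 1, 2, 1, 3, 1, 3,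 1, 3, 1, 3, 4, 2, 0, 2, 0, 2, 0, 2, 0, 3, 0, 2, 1, 2, 1, 3, 1, 3, 1, 3, 1, 3, 4, 2, 0, 2, 0, 2, 0, 2, 0, 3, 0, 2, 1, 2, 1, 3, 1, 3, 1, 3, 1, 3], [4, 2, 0, 2, 0, 2, 0, 2, 0, 3, 0, 3, 1, 2, 1, 3, 1, 3, 1, 3, 1, 3, 4, 2, 0, 2, 0, 2, 0, 2, 0, 3, 0, 3, 1, 2, 1, 3, 1, 3, 1, 3, 1, 3, 4, 2, 0, 2, 0, 2, 0, 2, 0, 3, 0, 3, 1, 3, 1, 3, 1, 3, 1, 2, 1, 2, 1, 3, 0, 3, 0, 2, 0, 2, 0, 2, 0, 2, 1, 2, 1, 3, 1, 3, 1, 3, 1, 3, 4, 2, 0, 2, 0, 2, 0, 2, 0, 3, 0, 2, 1, 2, 1, 3, 1, 3, 1, 3, 1, 3, 4, 2, 0, 2, 0, 2, 0, 2, 0, 3, 0, 2, 1, 2, 1, 3, 1, 3, 1, 3, 1, 3, 4, 2, 0, 2, 0, 2, 0, 2, 0, 3, 3, 1, 3, 1, 3, 1, 2, 1, 2, 0, 3, 0, 3, 0, 2, 0, 2, 0, 2, 2, 1, 3, 1, 3, 1, 3, 1, 3], [4, 2, 0, 2, 0, 2, 0,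 2, 0, 3, 0, 3, 1, 2, 1, 3, 1, 3, 1, 3, 1, 3, 4, 2, 0, 2, 0, 2, 0, 2, 0, 3, 0, 3, 1, 2, 1, 3, 1, 3, 1, 3, 1, 3, 4, 2, 0, 2, 0, 2, 0, 2, 0, 3, 0, 3, 1, 2, 1, 3, 1, 3, 1, 3, 1, 3, 1, 2, 0, 2, 0, 2, 0, 2, 0, 3, 0, 2, 1, 2, 1, 3, 1, 3, 1, 3, 1, 3, 4, 2, 0, 2, 0, 2, 0, 2, 0, 3, 0, 2, 1, 2, 1, 3, 1, 3, 1, 3, 1, 3, 4, 2, 0, 2, 0, 2, 0, 2, 0, 3, 0, 2, 1, 2, 1, 3, 1, 3, 1, 3, 1, 3, 4, 0], [4, 2, 0, 2, 0, 2, 0, 2, 0, 3, 0, 3, 1, 2, 1, 3, 1, 3, 1, 3, 1, 3, 4, 2, 0, 2, 0, 2, 0, 2, 0, 3, 0, 3, 1, 2, 1, 3, 1, 3, 1, 3, 1, 3, 4, 2, 0, 2, 0, 2, 0, 2, 0, 3, 0, 3, 1, 2, 1, 3, 1, 3, 1, 3, 1, 2, 1, 3, 0, 2, 0, 2, 0, 2, 0, 3, 0, 2, 1, 2, 1, 3, 1, 3, 1, 3, 1, 3, 4, 2, 0, 2, 0, 2, 0, 2, 0, 3,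 0, 2, 1, 2, 1, 3, 1, 3, 1, 3, 1, 3, 4, 2, 0, 2, 0, 2, 0, 2, 0, 3, 0, 2, 1, 2, 1, 3, 1, 3, 1, 3, 1, 3, 4, 2, 2, 0, 3, 3], [4, 2, 0, 2, 0, 2, 0, 2, 0, 3, 0, 2, 1, 2, 1, 3, 1, 3, 1, 3, 1, 3, 4, 2, 0, 2, 0, 2, 0, 2, 0, 3, 0, 2, 1, 2, 1, 3, 1, 3, 1, 3, 1, 3, 4, 2, 0, 2, 0, 2, 0, 2, 0, 3, 0, 2, 1, 3, 1, 3, 1, 3, 1, 2, 1, 2, 1, 2, 1, 2, 1, 3, 1, 3, 1, 3, 1, 2, 1, 3, 1, 2, 1, 2, 1, 2, 1, 2, 1, 3, 1, 3, 1, 1, 2, 1, 3, 1, 3, 1, 3, 1, 3, 4, 2, 0, 2, 0, 2, 0, 2, 0, 3, 0, 2, 1, 2, 1, 3, 1, 3, 1, 3, 1, 3, 4, 2, 0, 2, 0, 2, 0, 2, 0, 3, 0, 2, 1, 2, 1, 3, 1, 3, 1, 3, 1, 3, 4, 2, 0, 2, 0, 2, 0, 2, 0, 3, 0, 2, 0, 2, 0, 2, 0, 3, 0, 3, 0, 3, 0, 3, 0, 2, 0, 3, 0, 2, 0, 2, 0, 2, 0, 3, 0, 3,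 0, 3, 0, 3, 0, 2, 0, 2, 0, 2, 2, 1, 3, 1, 2, 1, 3, 1, 2, 1, 2, 1, 2, 1, 3, 1, 2, 1, 3, 1, 2, 1, 2, 1, 3, 1, 3, 1, 3, 1, 3, 4, 2, 0, 2, 0, 2, 0, 2, 0, 3, 0, 2, 1, 2, 1, 3, 1, 3, 1, 3, 1, 3, 4, 2, 0, 2, 0, 2, 0, 2, 0, 3, 0, 2, 1, 2, 1, 3, 1, 3, 1, 3, 1, 3, 4, 2, 0, 2, 0, 2, 0, 2, 0, 3, 0, 0, 2, 0, 3, 0, 2, 0, 3, 0, 3, 0, 3, 0, 2, 0, 3, 3, 1, 3, 1, 3], [4, 3, 1, 3, 1, 2, 1, 2, 1, 3, 1, 2, 1, 2, 1, 3, 1, 3, 1, 3, 1, 3, 4, 2, 0, 2, 0, 2, 0, 2, 0, 3, 0, 2, 1, 2, 1, 3, 1, 3, 1, 3, 1, 3, 4, 2, 0, 2, 0, 2, 0, 2, 0, 3, 0, 2, 1, 2, 1, 3, 1, 3, 1, 3, 1, 3, 4, 2, 0, 2, 0, 2, 0, 2, 0, 3, 0, 0, 2, 0, 3, 0, 3, 0, 2, 0, 2, 4, 3, 1, 3, 1, 2, 1, 2, 1, 3, 1, 1, 2, 1, 3, 1, 3, 1, 3, 1, 3,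 4, 2, 0, 2, 0, 2, 0, 2, 0, 3, 0, 3, 1, 2, 1, 3, 1, 3, 1, 3, 1, 3, 4, 2, 0, 2, 0, 2, 0, 2, 0, 3, 0, 3, 1, 2, 1, 3, 1, 3, 1, 3, 1, 3, 4, 2, 0, 2, 0, 2, 0, 2, 0, 3, 0, 3, 0, 2, 0, 3, 0, 3, 0, 2, 0, 2, 1, 3, 1, 3, 1, 2, 1, 2, 1, 2, 1, 3, 1, 3, 1, 2, 1, 3, 1, 3, 1, 3, 1, 2, 1, 2, 1, 3, 1, 2, 1, 2, 1, 2, 1, 2, 1, 2, 1, 3, 1, 3, 1, 2, 1, 3, 1, 3, 1, 3, 1, 3, 1], [0, 2, 0, 2, 0, 2, 0, 2, 0, 3, 0, 2, 0, 2, 0, 3, 0, 3, 0, 3, 0, 3, 0, 3, 0, 2, 0, 3, 0, 3, 0, 2, 0, 2, 0, 2, 0, 3, 0, 2, 0, 2, 0, 3, 0, 3, 0, 3, 0, 2, 0, 2, 0, 3, 1, 3, 1, 2, 1, 2, 1, 3, 1, 2, 1, 2, 1, 3, 1, 3, 1, 3, 1, 3, 5, 2, 0, 2, 0, 2, 0, 2, 0, 3, 0, 2, 1, 2, 1, 3, 1, 3, 1, 3, 1, 3, 5, 2, 0, 2, 0, 2, 0, 2, 0, 3,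 0, 2, 1, 2, 1, 3, 1, 3, 1, 3, 1, 3, 5, 2, 0, 2, 0, 2, 0, 2, 0, 3, 0, 0, 2, 0, 3, 0, 3, 0, 2, 0, 2, 5, 3, 1, 3, 1, 2, 1, 2, 1, 3, 1, 1, 2, 1, 3, 1, 3, 1, 3, 1, 3, 5, 2, 0, 2, 0, 2, 0, 2, 0, 3, 0, 3, 1, 2, 1, 3, 1, 3, 1, 3, 1, 3, 5, 2, 0, 2, 0, 2, 0, 2, 0, 3, 0, 3, 1, 2, 1, 3, 1, 3, 1, 3, 1, 3, 5, 2, 0, 2, 0, 2, 0, 2, 0, 3, 0, 3, 0, 2, 0, 3, 0, 3, 0, 2, 0, 2, 5]]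
def RL2 : List (List ℕ) := J4N.RL ++ J4G.BW

theorem pres2 {G : Type} [Group G] {g : ℕ → G} (hg : Pres 3 0 RL g) : Pres 4 0 RL2 (wv 3 g WD) :=
  ((hg.append (J4E.hQ (hA hg) (bw hg))).cons (RL' := RX) (H := [([], 0, true), ([], 1, true), ([], 2, true), ([], 3, true), ([], 4, true), ([], 5, true), ([], 6, true), ([], 7, true), ([], 8, true), ([], 9, true), ([], 10, true), ([], 11, true), ([], 12, true), ([], 13, true), ([], 14, true), ([], 15, true), ([], 16, true), ([], 17, true), ([], 18, true), ([], 18, false)]) (by decide +kernel)).subst2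
    (WD := WD) (y := 5) (u := [4]) (H := [([], 7, true), ([], 0, true), ([], 1, true), ([], 2, true), ([], 3, true), ([], 4, true), ([], 5, true), ([], 6, true), ([4, 2, 0, 2, 0, 2, 0, 2, 0, 3, 0], 12, true), ([2, 0, 2, 0, 2, 0, 2, 0, 3, 0], 13, true), ([2, 0, 2, 0, 2, 0, 2, 0, 3, 0], 14, true), ([2, 0, 2, 0, 2, 0, 2, 0, 3, 0], 15, true), ([2, 0, 2, 0, 2, 0, 2, 0, 3, 0], 16, true), ([2, 0, 2, 0, 2, 0, 2, 0, 3, 0, 3], 17, true), ([4], 9, true), ([4], 8, true), ([5, 3, 1, 3, 1, 2, 1, 2, 1, 3, 1, 2, 1, 2, 1, 3, 1, 3, 1, 3, 1, 3, 5, 2, 0, 2, 0, 2, 0, 2, 0, 3, 0, 2, 1, 2, 1, 3, 1, 3, 1, 3, 1, 3, 5, 2, 0, 2, 0, 2, 0, 2, 0, 3, 0, 2, 1, 2, 1, 3, 1, 3, 1, 3, 1, 3, 5, 2, 0, 2, 0,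 2, 0, 2, 0, 3, 0, 0, 2, 0, 3, 0, 3, 0, 2, 0, 2], 19, true), ([], 7, true), ([], 20, false), ([], 20, false), ([2, 1, 2, 1, 3, 1, 2, 1, 3], 10, true), ([], 20, false), ([2, 0, 2, 0, 2, 0, 2, 2, 0, 2, 0, 2, 0, 2, 2, 0, 2, 0, 2, 0, 2], 11, true)]) (by decide +kernel)

theorem top2 {G : Type} [Group G] {g : ℕ → G} (ht : gsub 3 g = ⊤) : gsub 4 (wv 3 g WD) = ⊤ :=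
  (wsub_gens (W := WD) g (by decide +kernel)).trans ht

end Cfsg.Agent.Spor.J4C
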