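import Cfsg.Agent.Spor.J4C

set_option autoImplicit false
set_option maxRecDepth 100000

namespace Cfsg.Agent.Spor.J4C2

section
variable {G : Type} [Group G] {g : ℕ → G} (hg : Pres 4 0 J4C.RL2 g)
include hg

theorem presS : Pres 3 0 J4N.RL g := hg.restrict (H := [([], 0, true), ([], 1, true), ([], 2, true), ([], 3, true), ([], 4, true), ([], 5, true), ([], 6, true), ([], 7, true), ([], 8, true), ([], 9, true), ([], 10, true), ([], 11, true), ([], 12, true)]) (by decide +kernel)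
theorem bw : ∀ w ∈ J4G.BW, ev (atm 4 g) w = 1 := fun w hw => hg.rel w (List.mem_append_right _ hw)
theorem homψ : ∃ ψ : J4N.P →* G, ∀ j < 3, ψ (J4N.p j) = g j :=
  J4N.bound.exists_hom (by norm_num) J4N.pres (presS hg) J4N.lbP

/-- the data of the double coset enumeration -/
noncomputable def Y : DCtx J4G.D (ZMod 2) J4N.P G := ⟨J4R.X, (homψ hg).choose, g 3⟩

theorem hψ : ∀ j < 3, (Y hg).ψ (J4N.p j) = g j := (homψ hg).choose_spec
theorem hA : (Y hg).At 6 (atm 3 J4N.p) (atm 4 g) := DCtx.At.of J4R.gens (hψ hg) rfl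
theorem upto : (Y hg).Upto 1951 := J4G.upto (hA hg) (bw hg)
theorem range : (Y hg).ψ.range = gsub 3 g := range_eq_gsub (hψ hg) (gsub_lift 3 _)
theorem done : (Y hg).Done 3 J4N.p J4D.V.CL 501397585920 173067389 := J4D.V.done (upto hg) J4R.gens
theorem gtop (ht : gsub 4 g = ⊤) : ∀ K : Subgroup G, (Y hg).ψ.range ≤ K → (Y hg).t ∈ K → K = ⊤ :=
  DCtx.gen_top (hψ hg) rfl ht
theorem exact (ht : gsub 4 g = ⊤) (hl : 501397585920 * 173067389 ∣ Nat.card G) :
    DExact (Y hg).ψ ((Y hg).xs J4D.V.CL) (DCtx.Ss 3 J4N.p J4D.V.CL) 173067389 :=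
  (done hg).exact (gtop hg ht) hl
theorem coatom (ht : gsub 4 g = ⊤) (hl : 501397585920 * 173067389 ∣ Nat.card G) : IsCoatom (Y hg).ψ.range :=
  (done hg).coatom (gtop hg ht) (by rw [(exact hg ht hl).index]; norm_num) (J4D.V.loops (upto hg))

end

end Cfsg.Agent.Spor.J4C2
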