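import Cfsg.Agent.Spor.PX9

set_option autoImplicit false

namespace Cfsg.Agent.Spor

open Equiv

/-- faithfulness for a primitive group with a simple point stabiliser and a normal subgroup of
small exponent -/
theorem inj_of_affine {N Q G : Type*} [Group N] [Group Q] [Group G] [IsSimpleGroup Q] {ι : Q →* N}
    (hH : IsCoatom ι.range) (hc : ι.range.normalCore = ⊥) (E : Subgroup N) [hE : E.Normal] {k : ℕ}
    (hk : ∀ a ∈ E, a ^ k = 1) (ψ : N →* G) {e : N} (he : e ∈ E) (h1 : ψ e ≠ 1) {y : Q}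
    (h2 : ψ (ι y) ^ k ≠ 1) : Function.Injective ψ := by
  rw [← MonoidHom.ker_eq_bot_iff]
  refine (normal_cases hH hc ψ.ker).resolve_right fun h => ?_
  have h3 : e ∈ (ι.range.map ψ).comap ψ := by rw [Subgroup.comap_map_eq, h]; trivial
  obtain ⟨_, ⟨q, rfl⟩, hq⟩ := h3
  have hM : ((E.map ψ).comap (ψ.comp ι)).Normal := ⟨fun a ⟨b, hb, e⟩ c =>
    ⟨_, hE.conj_mem b hb (ι c), by simp only [map_mul, map_inv, MonoidHom.comp_apply, e]⟩⟩
  rcases hM.eq_bot_or_eq_top with h4 | h4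
  · have h5 : q ∈ (E.map ψ).comap (ψ.comp ι) := ⟨e, he, hq.symm⟩
    rw [h4, Subgroup.mem_bot] at h5
    exact h1 (by rw [← hq, h5, map_one, map_one])
  · obtain ⟨b, hb, e⟩ : y ∈ (E.map ψ).comap (ψ.comp ι) := h4 ▸ Subgroup.mem_top y
    exact h2 (by rw [← MonoidHom.comp_apply, ← e, ← map_pow, hk b hb, map_one])

theorem card_ker_of {N Q : Type*} [Group N] [Group Q] {π : N →* Q} (h : π.range = ⊤) {a b : ℕ}
    (h1 : Nat.card N = a * b) (h2 : Nat.card Q = a) (ha : a ≠ 0) : Nat.card π.ker = b :=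
  card_of_index h1 (by rw [Subgroup.index_ker, h, Subgroup.card_top, h2]) ha

theorem pow_eq_one_of_card {N : Type*} [Group N] {E : Subgroup N} {k : ℕ} (h : Nat.card E = k) :
    ∀ a ∈ E, a ^ k = 1 := fun a ha => by
  have := congrArg Subtype.val (pow_card_eq_one' (x := (⟨a, ha⟩ : E)))
  rwa [h] at this

theorem pow_ne_one_of_coprime {G : Type*} [Group G] {x : G} {a k : ℕ} (h1 : x ^ a = 1) (h2 : x ≠ 1)
    (h : Nat.Coprime a k) : x ^ k ≠ 1 := fun e =>
  h2 (orderOf_eq_one_iff.mp (Nat.eq_one_of_dvd_coprimes h (orderOf_dvd_of_pow_eq_one h1)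
    (orderOf_dvd_of_pow_eq_one e)))

theorem cube_dvd' {G : Type*} [Group G] {p n : ℕ} {f : ℕ → G} (hp : p.Prime)
    (h : Nat.card (gsub n f) ∣ p ^ 3) {u v : List ℕ}
    (hxy : ev (atm n f) (lapp u v) ≠ ev (atm n f) (lapp v u)) : p ^ 3 ∣ Nat.card G :=
  (cube_dvd hp h (x := ⟨_, ev_atm_mem n f u⟩) (y := ⟨_, ev_atm_mem n f v⟩) fun e => hxy (by
    rw [ev_lapp, ev_lapp]; exact congrArg Subtype.val e)).trans (Subgroup.card_subgroup_dvd_card _)

end Cfsg.Agent.Spor
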