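import Cfsg.Agent.Spor.PX
import Cfsg.Agent.Spor.LyD.V.Main
import Cfsg.Prelude.Def_Spor_Ly

set_option autoImplicit false
set_option maxRecDepth 100000

namespace Cfsg.Agent.Spor.LyG

open Cfsg.Spor

def gl : List Ly.Gen := [.a, .b, .c, .d, .z, .c1, .c2, .c3, .c4, .c5, .e, .a1, .a2, .a3, .a4, .u, .x23, .x24, .x25, .x29, .x47, .x96, .x129, .x162, .x163, .x164, .x165, .x166, .x167, .x168, .x169, .x364, .x365, .x366, .x367, .x368, .x369, .x370, .x371]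
def RLf : List (List ℕ) := [[10, 5], [12, 1, 5, 0], [14, 3, 5, 2], [16, 2, 5, 3], [18, 13, 11, 12, 10], [20, 7, 11, 7, 2, 1, 3, 11, 7, 1, 11, 0, 11, 1, 10, 0, 2, 2], [22, 1], [24, 2, 1, 3], [26, 2, 2, 1, 3, 3], [28, 3, 3, 1, 2, 2], [30, 1, 1], [32, 7], [34, 6], [36, 3, 5, 0, 3, 3, 4, 7, 4, 0, 5, 1, 4, 3, 3, 0, 2, 0, 3, 3], [38, 5, 3, 5, 7, 2, 2, 5, 7, 2, 5, 3, 5, 1, 4, 3, 3, 0, 3, 3, 0, 3, 1], [40, 6, 4, 3, 0, 4, 0, 6, 4], [42, 7, 3], [44, 2, 6], [46, 1, 3, 4, 1, 2, 4, 3, 0, 2, 0], [48, 3, 5, 3, 0, 5, 1, 2, 2], [50, 1, 3, 1, 5, 0, 2, 0], [52, 3, 1, 2, 5, 3, 0, 2], [54, 4, 2, 2, 5, 1, 3, 5, 2, 0, 3, 3], [56, 0, 0, 0], [58, 0, 0, 2, 0, 3], [60, 0, 2, 2, 1, 3, 3, 1], [62, 2, 1, 3, 1, 2, 1, 4, 0, 2, 4, 3, 6, 4, 3, 0, 4, 2, 7, 0], [64, 6, 2, 5, 0, 5, 1, 5, 7, 4, 4, 0, 3,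 4, 3, 5, 0, 2, 2, 1], [66, 5, 3, 5, 7, 2, 2, 5, 7, 3, 5, 3, 3, 5, 2, 0, 2, 2, 0, 2, 1, 3], [68, 2, 0, 3, 1, 3, 3, 1, 3, 4, 2, 2, 4, 2, 6, 4, 3, 3, 6, 4, 2, 4], [70, 2, 2, 0, 2, 4, 2, 2, 5, 1, 4, 0, 6, 4, 1, 2, 4, 1, 6, 4, 0], [72, 2, 1, 2, 2, 1, 2, 4, 2, 0, 3, 6, 4, 2, 0, 3, 6, 4, 0], [74, 0, 3, 0, 2, 2, 0, 5, 0, 2, 1, 6, 4, 0, 5, 3, 5, 1, 6], [76, 3, 0, 2, 0, 2, 5, 1, 5, 0, 5, 6, 4, 3, 5, 0, 4], [0, 0, 0, 0, 0, 0, 0, 0], [2, 2, 2, 2, 2], [0, 2, 0, 2, 0, 2, 0, 2], [1, 1, 3, 0, 0, 2], [1, 3, 0, 2, 1, 3, 0, 2, 1, 3, 0, 2], [10, 10, 10, 10, 10], [18, 18, 18, 18, 18], [11, 19, 10, 18], [13, 19, 12, 18], [15, 19, 14, 18], [17, 19, 16, 18], [11, 15, 10, 14, 18, 18], [11, 17, 10, 16, 19, 19], [13, 15, 12, 14, 18], [13, 17, 12, 16], [15, 17, 14, 16, 18], [1, 12, 0, 10, 10],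 [1, 14, 0, 17, 11, 14, 14], [1, 16, 0, 17, 11, 17, 14, 12, 11], [1, 18, 0, 19, 19], [3, 12, 2, 16, 10, 16, 15, 13], [3, 14, 2, 14, 14, 17, 11, 11], [3, 18, 2, 19], [20, 20], [21, 10, 20, 10, 3, 15, 3], [21, 14, 20, 0, 16, 10, 13, 1, 3, 3], [21, 16, 20, 17, 14, 3, 3], [21, 18, 20, 16, 11, 14, 11], [20, 0, 0, 20, 16, 19, 11, 1, 2, 1, 3, 3, 1], [21, 2, 20, 16, 16, 14, 11], [20, 0, 2, 2, 0, 3, 0, 20, 16, 19, 11, 1, 1], [20, 12, 20, 13, 20, 12, 17, 0, 14, 0, 0, 0], [6, 21, 3, 12, 1, 21, 1, 21, 1, 18, 16, 10, 2, 0, 3, 3, 1], [6, 6, 1, 1, 1, 1], [3, 7, 2, 6], [7, 0, 6, 1, 1, 1], [6, 18, 6, 18, 6, 18, 6, 18, 6, 18], [6, 18, 6, 19, 6, 18, 1, 1], [9, 10, 8, 47], [9, 12, 8, 49], [9, 14, 8, 51], [9, 16, 8, 53], [9, 18, 8, 55], [9, 22, 8, 57], [9, 24, 8, 59], [9, 26, 8, 61], [8,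 8, 31], [28, 8, 28, 8, 28, 8, 30], [40, 8, 62, 8, 70, 8], [9, 34, 9, 72, 8, 32, 8, 38], [8, 66, 8, 64, 9, 68, 9, 74], [8, 42, 8, 36, 9, 44, 9, 76]]
def WD : List (List ℕ) := [[0], [2], [4], [6], [8], [4], [1, 4, 0], [3, 4, 2], [2, 4, 3], [5, 1, 5, 0, 4, 1, 4, 0], [3, 3, 1, 5, 0, 4, 1, 4, 0, 6, 4, 2, 0, 3, 6, 4, 6], [0], [2, 0, 3], [2, 2, 0, 3, 3], [3, 3, 0, 2, 2], [0, 0], [6], [7], [2, 2, 1, 3, 1, 2, 2, 5, 0, 4, 1, 5, 6, 5, 2, 2, 1, 4, 2], [0, 2, 1, 2, 2, 1, 2, 2, 5, 0, 4, 2, 4, 3, 6, 4, 3, 3, 6, 4, 2, 4], [5, 7, 1, 5, 1, 2, 5, 7], [2, 6], [7, 3], [1, 3, 1, 2, 5, 3, 0, 5, 2, 0], [3, 3, 0, 4, 1, 2, 4, 2], [1, 3, 1, 4, 0, 2, 0], [3, 1, 2, 4, 3, 0, 2], [2, 2, 1, 3, 4, 2, 0, 4, 3, 3, 5], [1, 1, 1], [2, 1, 3, 1, 1], [0, 2, 2, 0, 3, 3, 1], [1, 6, 3, 5, 1, 2, 5, 7, 2, 5, 3,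 1, 5, 0, 3, 0, 2, 0, 3], [0, 3, 3, 1, 4, 2, 5, 2, 1, 5, 5, 6, 4, 0, 4, 1, 4, 3, 7], [2, 0, 3, 1, 3, 3, 1, 3, 4, 2, 2, 4, 2, 6, 4, 3, 3, 6, 4, 2, 4], [5, 3, 5, 7, 2, 2, 5, 7, 3, 5, 3, 3, 5, 2, 0, 2, 2, 0, 2, 1, 3], [1, 5, 7, 0, 5, 3, 0, 5, 7, 1, 5, 0, 4, 3, 3, 5, 3, 1, 3, 3], [1, 5, 7, 2, 1, 3, 5, 7, 2, 1, 3, 5, 3, 0, 3, 3, 0, 3], [7, 0, 4, 2, 4, 1, 5, 7, 0, 3, 1, 4, 1, 3, 3, 1, 2, 1], [5, 1, 4, 2, 5, 7, 4, 1, 4, 0, 4, 3, 1, 3, 1, 2]]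
def RL : List (List ℕ) := [[0, 0, 0, 0, 0, 0, 0, 0], [2, 2, 2, 2, 2], [0, 2, 0, 2, 0, 2, 0, 2], [1, 1, 3, 0, 0, 2], [1, 3, 0, 2, 1, 3, 0, 2, 1, 3, 0, 2], [4, 4, 4, 4, 4], [5, 1, 5, 0, 4, 1, 4, 0, 5, 1, 5, 0, 4, 1, 4, 0, 5, 1, 5, 0, 4, 1, 4, 0, 5, 1, 5, 0, 4, 1, 4, 0, 5, 1, 5, 0, 4, 1, 4, 0], [5, 1, 5, 0, 5, 1, 4, 0, 4, 1, 5, 0, 4, 1, 4, 0], [1, 5, 5, 0, 5, 1, 4, 0, 4, 1, 4, 0, 5, 1, 5, 0, 4, 1, 4, 0], [3, 5, 2, 1, 5, 0, 5, 1, 4, 0, 4, 3, 4, 2, 5, 1, 5, 0, 4, 1, 4, 0], [2, 5, 3, 1, 5, 0, 5, 1, 4, 0, 4, 2, 4, 3, 5, 1, 5, 0, 4, 1, 4, 0], [5, 3, 5, 2, 4, 3, 4, 2, 5, 1, 5, 0, 4, 1, 4, 0, 5, 1, 5, 0, 4, 1, 4, 0], [5, 2, 5, 3, 4, 2, 4, 3, 1, 5, 0, 5, 1, 4, 0, 4, 1, 5, 0, 5, 1, 4, 0, 4], [1, 5, 0, 3, 5, 2, 1, 4, 0, 3, 4, 2, 5, 1, 5, 0, 4, 1, 4, 0], [1, 5, 0, 2, 5, 3, 1, 4, 0,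 2, 4, 3], [3, 5, 2, 2, 5, 3, 3, 4, 2, 2, 4, 3, 5, 1, 5, 0, 4, 1, 4, 0], [1, 1, 4, 0, 0, 4, 4], [1, 3, 4, 2, 0, 2, 5, 3, 5, 3, 4, 4, 2], [1, 2, 4, 3, 0, 2, 5, 3, 5, 2, 5, 3, 3, 4, 2, 1, 4, 0, 5], [1, 5, 1, 5, 0, 4, 1, 4, 0, 5, 0, 5, 1, 4, 0, 4, 1, 5, 0, 5, 1, 4, 0, 4], [3, 1, 4, 0, 2, 2, 4, 3, 4, 2, 4, 3, 3, 5, 2, 1, 5, 0], [3, 3, 4, 2, 4, 4, 2, 2, 5, 3, 5, 5], [3, 5, 1, 5, 0, 4, 1, 4, 0, 2, 1, 5, 0, 5, 1, 4, 0, 4], [3, 3, 1, 5, 0, 4, 1, 4, 0, 6, 4, 2, 0, 3, 6, 4, 6, 3, 3, 1, 5, 0, 4, 1, 4, 0, 6, 4, 2, 0, 3, 6, 4, 6], [7, 5, 7, 2, 1, 3, 5, 7, 1, 5, 0, 5, 1, 4, 0, 2, 2, 4, 3, 3, 1, 5, 0, 4, 1, 4, 0, 6, 4, 2, 0, 3, 6, 4, 6, 4, 3, 3, 5], [7, 5, 7, 2, 1, 3, 5, 7, 1, 5, 0, 5, 1, 4, 0, 2, 4, 3, 1, 5, 0, 4, 1, 4, 0, 6, 4, 2, 0, 3, 6, 4, 6, 0, 2, 4, 3, 4, 1, 5, 3, 3], [7, 5,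 7, 2, 1, 3, 5, 7, 1, 5, 0, 5, 1, 4, 0, 2, 2, 2, 4, 3, 3, 3, 1, 5, 0, 4, 1, 4, 0, 6, 4, 2, 0, 3, 6, 4, 6, 2, 5, 3, 3, 4, 3], [7, 5, 7, 2, 1, 3, 5, 7, 1, 5, 0, 5, 1, 4, 0, 2, 2, 5, 1, 5, 0, 4, 1, 4, 0, 3, 3, 1, 5, 0, 4, 1, 4, 0, 6, 4, 2, 0, 3, 6, 4, 6, 2, 4, 3, 5, 3, 4, 2, 5], [3, 3, 1, 5, 0, 4, 1, 4, 0, 6, 4, 2, 0, 3, 6, 4, 6, 0, 0, 3, 3, 1, 5, 0, 4, 1, 4, 0, 6, 4, 2, 0, 3, 6, 4, 6, 2, 4, 3, 1, 5, 0, 5, 1, 4, 2, 1, 3, 3, 1], [7, 5, 7, 2, 1, 3, 5, 7, 1, 5, 0, 5, 1, 4, 0, 2, 1, 5, 0, 4, 1, 4, 0, 6, 4, 2, 0, 3, 6, 4, 6, 2, 4, 4, 3, 3, 4, 2, 5], [3, 3, 1, 5, 0, 4, 1, 4, 0, 6, 4, 2, 0, 3, 6, 4, 6, 0, 2, 2, 0, 3, 0, 3, 3, 1, 5, 0, 4, 1, 4, 0, 6, 4, 2, 0, 3, 6, 4, 6, 2, 4, 3, 1, 5, 0, 5, 1, 4, 1], [3, 3, 1, 5, 0, 4, 1, 4, 0, 6, 4, 2, 0, 3, 6, 4, 6, 1, 4, 0, 3, 3, 1, 5, 0, 4,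 1, 4, 0, 6, 4, 2, 0, 3, 6, 4, 6, 1, 5, 0, 3, 3, 1, 5, 0, 4, 1, 4, 0, 6, 4, 2, 0, 3, 6, 4, 6, 1, 4, 0, 2, 5, 3, 0, 3, 4, 2, 0, 0, 0], [5, 7, 2, 1, 3, 5, 7, 1, 5, 0, 5, 1, 4, 0, 2, 1, 4, 7, 5, 7, 2, 1, 3, 5, 7, 1, 5, 0, 5, 1, 4, 0, 2, 2, 1, 7, 5, 7, 2, 1, 3, 5, 7, 1, 5, 0, 5, 1, 4, 0, 2, 2, 1, 5, 1, 5, 0, 4, 1, 4, 0, 2, 4, 3, 4, 2, 0, 3, 3, 1], [6, 6, 1, 1, 1, 1], [3, 7, 2, 6], [7, 0, 6, 1, 1, 1], [6, 5, 1, 5, 0, 4, 1, 4, 0, 6, 5, 1, 5, 0, 4, 1, 4, 0, 6, 5, 1, 5, 0, 4, 1, 4, 0, 6, 5, 1, 5, 0, 4, 1, 4, 0, 6, 5, 1, 5, 0, 4, 1, 4, 0], [6, 5, 1, 5, 0, 4, 1, 4, 0, 6, 1, 5, 0, 5, 1, 4, 0, 4, 6, 5, 1, 5, 0, 4, 1, 4, 1], [9, 4, 8, 1, 3, 4, 1, 2, 4, 3, 0, 2, 0], [9, 1, 4, 0, 8, 3, 5, 3, 0, 5, 1, 2, 2], [9, 3, 4, 2, 8, 1, 3, 1, 5, 0, 2, 0], [9, 2, 4, 3, 8, 3, 1, 2, 5, 3, 0, 2],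 [9, 5, 1, 5, 0, 4, 1, 4, 0, 8, 4, 2, 2, 5, 1, 3, 5, 2, 0, 3, 3], [9, 0, 8, 0, 0, 0], [9, 2, 0, 3, 8, 0, 0, 2, 0, 3], [9, 2, 2, 0, 3, 3, 8, 0, 2, 2, 1, 3, 3, 1], [8, 8, 1, 1], [3, 3, 0, 2, 2, 8, 3, 3, 0, 2, 2, 8, 3, 3, 0, 2, 2, 8, 0, 0], [5, 7, 1, 5, 1, 2, 5, 7, 8, 1, 6, 3, 5, 1, 2, 5, 7, 2, 5, 3, 1, 5, 0, 3, 0, 2, 0, 3, 8, 1, 5, 7, 0, 5, 3, 0, 5, 7, 1, 5, 0, 4, 3, 3, 5, 3, 1, 3, 3, 8], [9, 7, 9, 1, 5, 7, 2, 1, 3, 5, 7, 2, 1, 3, 5, 3, 0, 3, 3, 0, 3, 8, 6, 8, 0, 2, 1, 2, 2, 1, 2, 2, 5, 0, 4, 2, 4, 3, 6, 4, 3, 3, 6, 4, 2, 4], [8, 2, 0, 3, 1, 3, 3, 1, 3, 4, 2, 2, 4, 2, 6, 4, 3, 3, 6, 4, 2, 4, 8, 0, 3, 3, 1, 4, 2, 5, 2, 1, 5, 5, 6, 4, 0, 4, 1, 4, 3, 7, 9, 5, 3, 5, 7, 2, 2, 5, 7, 3, 5, 3, 3, 5, 2, 0, 2, 2, 0, 2, 1, 3, 9, 7, 0, 4, 2, 4, 1, 5, 7, 0, 3, 1, 4, 1, 3, 3, 1, 2, 1],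 [8, 2, 6, 8, 2, 2, 1, 3, 1, 2, 2, 5, 0, 4, 1, 5, 6, 5, 2, 2, 1, 4, 2, 9, 7, 3, 9, 5, 1, 4, 2, 5, 7, 4, 1, 4, 0, 4, 3, 1, 3, 1, 2]]
abbrev rels : Set (FreeGroup Ly.Gen) := coxRelators Ly.edges ∪ {r | r ∈ Ly.extra}

theorem coded : Coded rels gl 0 RLf :=
  Coded.of_cox (by intro x; cases x <;> decide) (by decide +kernel) (by decide +kernel)
    (by decide +kernel)

/-- the generators -/
def f : ℕ → Ly := pgen rels gl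

theorem pres : Pres 5 0 RL f :=
  Pres.elim (N := 39) coded.pres.rel (WD := WD) (H := [([], 34, true), ([], 35, true), ([], 36, true), ([], 37, true), ([], 38, true), ([], 39, true), ([], 40, true), ([], 41, true), ([], 42, true), ([], 43, true), ([], 44, true), ([], 45, true), ([], 46, true), ([], 47, true), ([], 48, true), ([], 49, true), ([], 50, true), ([], 51, true), ([], 52, true), ([], 53, true), ([], 54, true), ([], 55, true), ([], 56, true), ([], 57, true), ([], 58, true), ([], 59, true), ([], 60, true), ([], 61, true), ([], 62, true), ([], 63, true), ([], 64, true), ([], 65, true), ([], 66, true), ([], 67, true), ([], 68, true), ([], 69, true), ([], 70, true), ([], 71, true), ([], 72, true), ([], 73, true), ([], 74, true), ([], 75, true), ([], 76, true), ([],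 77, true), ([], 78, true), ([], 79, true), ([], 80, true), ([], 81, true), ([], 82, true), ([], 83, true), ([], 84, true), ([], 85, true)]) (by decide +kernel)

theorem top : gsub 5 f = ⊤ :=
  eq_top_of_gens coded.gsub_eq (mem_of_defs (N := 39) coded.pres.rel (by decide +kernel)
    fun _ hj => mem_gsub f hj)

theorem hom {Γ : Type*} [Group Γ] {g : ℕ → Γ} (hg : Pres 5 0 RL g) :
    ∃ φ : Ly →* Γ, ∀ j < 5, φ (f j) = g j := by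
  obtain ⟨φ, h⟩ := coded.hom (by decide) (hg.subst (WD := WD) (H := [([], 52, false), ([], 52, false), ([], 52, false), ([], 52, false), ([], 52, false), ([], 52, false), ([], 52, false), ([], 52, false), ([], 52, false), ([], 52, false), ([], 52, false), ([], 52, false), ([], 52, false), ([], 52, false), ([], 52, false), ([], 52, false), ([], 52, false), ([], 52, false), ([], 52, false), ([], 52, false), ([], 52, false), ([], 52, false), ([], 52, false), ([], 52, false), ([], 52, false), ([], 52, false), ([], 52, false), ([], 52, false), ([], 52, false), ([], 52, false), ([], 52, false), ([], 52, false), ([], 52, false), ([], 52, false), ([], 0, true), ([], 1, true), ([], 2, true), ([], 3, true), ([], 4, true), ([], 5, true), ([], 6, true), ([], 7, true), ([], 8, true),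 ([], 9, true), ([], 10, true), ([], 11, true), ([], 12, true), ([], 13, true), ([], 14, true), ([], 15, true), ([], 16, true), ([], 17, true), ([], 18, true), ([], 19, true), ([], 20, true), ([], 21, true), ([], 22, true), ([], 23, true), ([], 24, true), ([], 25, true), ([], 26, true), ([], 27, true), ([], 28, true), ([], 29, true), ([], 30, true), ([], 31, true), ([], 32, true), ([], 33, true), ([], 34, true), ([], 35, true), ([], 36, true), ([], 37, true), ([], 38, true), ([], 39, true), ([], 40, true), ([], 41, true), ([], 42, true), ([], 43, true), ([], 44, true), ([], 45, true), ([], 46, true), ([], 47, true), ([], 48, true), ([], 49, true), ([], 50, true), ([], 51, true)]) (by decide +kernel))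
  refine ⟨φ, fun j hj => (h j (hj.trans (by decide))).trans ?_⟩
  have e : WD.getD j [] = [2 * j] := by interval_cases j <;> rfl
  rw [wv, e, ev_cons, ev_nil, mul_one, atm_two_mul g hj]

section
variable {G : Type} [Group G] {g : ℕ → G}

theorem pres4 (hg : Pres 5 0 RL g) : Pres 4 0 Ly3906.RL g :=
  hg.restrict (H := [([], 0, true), ([], 1, true), ([], 2, true), ([], 3, true), ([], 4, true), ([], 5, true), ([], 6, true), ([], 7, true), ([], 8, true), ([], 9, true), ([], 10, true), ([], 11, true), ([], 12, true), ([], 13, true), ([], 14, true), ([], 15, true), ([], 16, true), ([], 17, true), ([], 18, true), ([], 19, true), ([], 20, true), ([], 21, true), ([], 22, true), ([], 23, true), ([], 24, true), ([], 25, true), ([], 26, true), ([], 27, true), ([], 28, true), ([],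 29, true), ([], 30, true), ([], 31, true), ([], 32, true), ([], 33, true), ([], 34, true), ([], 35, true), ([], 36, true), ([], 37, true)]) (by decide +kernel)

theorem bw (hg : Pres 5 0 RL g) : ∀ w ∈ LyE.BW, ev (atm 5 g) w = 1 :=
  hg.cons_repl (y := 9) (u := [8, 1, 1]) (H := [([], 46, true), ([9, 2, 2, 0, 3, 3], 45, false), ([9, 4], 38, false), ([9, 1, 4, 0], 39, false), ([9, 3, 4, 2], 40, false), ([9, 0], 43, false), ([9, 2, 4, 3], 41, false), ([9, 2, 0, 3], 44, false), ([], 46, true), ([3, 3, 0, 2, 2], 47, true), ([], 104, false), ([], 104, false), ([], 104, false), ([], 104, false), ([5, 7, 1, 5, 1, 2, 5, 7], 48, true), ([], 101, true), ([], 102, true), ([], 103, true)]) (by decide +kernel)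

end

end Cfsg.Agent.Spor.LyG
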