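import Mathlib
import Cfsg.Agent.Spor.Chk

set_option autoImplicit false

namespace Cfsg.Agent.Spor

open Equiv

@[simp] theorem band_eq (a b : Bool) : band a b = (a && b) := by cases a <;> rfl

theorem brec_eq {α : Type} (a b : α) (c : Bool) :
    (Bool.rec a b c : α) = if c then b else a := by cases c <;> rfl

@[simp] theorem lall_nil {α : Type} (p : α → Bool) : lall p [] = true := rfl
@[simp] theorem lall_cons {α : Type} (p : α → Bool) (a : α) (l : List α) :
    lall p (a :: l) = band (p a) (lall p l) := rfl

theorem lall_iff {α : Type} (p : α → Bool) (l : List α) :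
    lall p l = true ↔ ∀ a ∈ l, p a = true := by
  induction l with
  | nil => simp
  | cons a l ih => simp [ih]

theorem lmap_eq (f : ℕ → ℕ) (l : List ℕ) : lmap f l = l.map f := by
  induction l with
  | nil => rfl
  | cons a l ih => exact congrArg (List.cons (f a)) ih

theorem lapp_eq (l m : List ℕ) : lapp l m = l ++ m := by
  induction l with
  | nil => rfl
  | cons a l ih => exact congrArg (List.cons a) ih

theorem nth_eq {α : Type} (d : α) (l : List α) (i : ℕ) : nth d l i = l.getD i d := by
  induction l generalizing i with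
  | nil => rfl
  | cons a l ih =>
    cases i with
    | zero => rfl
    | succ j => exact ih j

theorem tb_xor (a b i : ℕ) : (Nat.xor a b).testBit i = (a.testBit i ^^ b.testBit i) :=
  Nat.testBit_xor a b i
theorem tb_land (a b i : ℕ) : (Nat.land a b).testBit i = (a.testBit i && b.testBit i) :=
  Nat.testBit_and a b i
theorem tb_lor (a b i : ℕ) : (Nat.lor a b).testBit i = (a.testBit i || b.testBit i) :=
  Nat.testBit_or a b i
theorem tb_shr (a d i : ℕ) : (Nat.shiftRight a d).testBit i = a.testBit (d + i) :=
  Nat.testBit_shiftRight a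
theorem tb_shl (a d i : ℕ) :
    (Nat.shiftLeft a d).testBit i = (decide (d ≤ i) && a.testBit (i - d)) :=
  Nat.testBit_shiftLeft a

theorem shl_one (n : ℕ) : Nat.shiftLeft 1 n = 2 ^ n := by
  show 1 <<< n = 2 ^ n
  rw [Nat.shiftLeft_eq, one_mul]

theorem tb_ones (n i : ℕ) : (ones n).testBit i = decide (i < n) := by
  unfold ones
  rw [shl_one]
  exact Nat.testBit_two_pow_sub_one n i

theorem sub_iff (M X : ℕ) : sub M X = true ↔ ∀ i, M.testBit i = true → X.testBit i = true := by
  unfold sub
  rw [Nat.beq_eq]
  constructor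
  · intro h i hi
    have := congrArg (fun y => Nat.testBit y i) h
    simp only [tb_land, hi, Bool.true_and] at this
    exact this
  · intro h
    apply Nat.eq_of_testBit_eq
    intro i
    rw [tb_land]
    cases hm : M.testBit i
    · rfl
    · simp [h i hm]

/-- the point map of one stage -/
def sw (d m i : ℕ) : ℕ :=
  if m.testBit i then i + d else if d ≤ i ∧ m.testBit (i - d) then i - d else i

def StageOk (d m : ℕ) : Prop := ∀ i, m.testBit i = true → ¬ (d ≤ i ∧ m.testBit (i - d) = true)

theorem sw_invol {d m : ℕ} (h : StageOk d m) : Function.Involutive (sw d m) := by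
  intro i
  by_cases h1 : m.testBit i = true
  · have e : sw d m i = i + d := by simp [sw, h1]
    rw [e]
    have h2 : ¬ m.testBit (i + d) = true := fun h2 => h _ h2 ⟨by omega, by simpa using h1⟩
    simp [sw, h2, h1]
  · by_cases h2 : d ≤ i ∧ m.testBit (i - d) = true
    · have e : sw d m i = i - d := by simp [sw, h1, h2]
      rw [e]
      simp only [sw, h2.2, if_true]
      omega
    · have e : sw d m i = i := by
        unfold sw
        rw [if_neg h1, if_neg h2]
      rw [e, e]

theorem tb_dsw {d m : ℕ} (h : StageOk d m) (x i : ℕ) :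
    (dsw d m x).testBit i = x.testBit (sw d m i) := by
  unfold dsw dsw2 sw
  simp only [tb_xor, tb_land, tb_shr, tb_shl]
  by_cases h1 : m.testBit i = true
  · have h2 := h i h1
    by_cases h3 : d ≤ i
    · have h4 : m.testBit (i - d) = false := by simpa [h3] using h2
      simp [h1, h4, add_comm d i]
      cases x.testBit i <;> cases x.testBit (i + d) <;> rfl
    · simp [h1, h3, add_comm d i]
      cases x.testBit i <;> cases x.testBit (i + d) <;> rfl
  · have h1' : m.testBit i = false := by simpa using h1
    by_cases h2 : d ≤ i ∧ m.testBit (i - d) = true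
    · have e : d + (i - d) = i := by omega
      simp [h1', h2.1, h2.2, e]
    · by_cases h3 : d ≤ i
      · have h4 : m.testBit (i - d) = false := by simpa [h3] using h2
        simp [h1', h4]
      · simp [h1', h3]

open Classical in
/-- the permutation of one stage -/
noncomputable def swP (d m : ℕ) : Perm ℕ :=
  if h : StageOk d m then (sw_invol h).toPerm else 1

theorem swP_apply {d m : ℕ} (h : StageOk d m) (i : ℕ) : swP d m i = sw d m i := by
  simp [swP, h]

theorem swP_inv (d m : ℕ) : (swP d m)⁻¹ = swP d m := by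
  unfold swP
  split_ifs with h
  · rfl
  · rfl

/-- the permutation of a network -/
noncomputable def Net.perm : Net → Perm ℕ
  | .nil => 1
  | .cons d m t => swP d m * t.perm

def Net.Ok (K : ℕ) : Net → Prop
  | .nil => True
  | .cons d m t => StageOk d m ∧ (∀ i, m.testBit i = true → i + d < 2 ^ K) ∧ t.Ok K

theorem Net.ok_of_okb {K : ℕ} {n : Net} (h : n.okb K = true) : n.Ok K := by
  induction n with
  | nil => trivial
  | cons d m t ih =>
    have h' : band (stageOk2 (Nat.shiftLeft 1 K) m (Nat.shiftLeft m d)) (t.okb K) = true := h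
    simp only [band_eq, Bool.and_eq_true, stageOk2, Nat.beq_eq] at h'
    obtain ⟨⟨h1, h2⟩, h3⟩ := h'
    refine ⟨fun i hi hc => ?_, fun i hi => ?_, ih h3⟩
    · have := congrArg (fun y => Nat.testBit y i) h1
      simp [tb_land, tb_shl, hi, hc.1, hc.2] at this
    · by_contra hc
      have := congrArg (fun y => Nat.testBit y (i + d - 2 ^ K)) h2
      simp only [tb_shr, tb_shl, shl_one, Nat.zero_testBit] at this
      have e : 2 ^ K + (i + d - 2 ^ K) = i + d := by omega
      rw [e] at this
      simp [hi] at this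

theorem Net.tb_app {K : ℕ} {n : Net} (h : n.Ok K) (x i : ℕ) :
    (n.app x).testBit i = x.testBit (n.perm i) := by
  induction n generalizing x with
  | nil => rfl
  | cons d m t ih =>
    show (t.app (dsw d m x)).testBit i = x.testBit (swP d m (t.perm i))
    rw [ih h.2.2, tb_dsw h.1, swP_apply h.1]

theorem Net.tb_appInv {K : ℕ} {n : Net} (h : n.Ok K) (x i : ℕ) :
    (n.appInv x).testBit i = x.testBit (n.perm⁻¹ i) := by
  induction n generalizing i with
  | nil => rfl
  | cons d m t ih =>
    show (dsw d m (t.appInv x)).testBit i = x.testBit ((swP d m * t.perm)⁻¹ i)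
    rw [tb_dsw h.1, ih h.2.2, mul_inv_rev, swP_inv, Perm.mul_apply, swP_apply h.1]

theorem Net.perm_fix {K : ℕ} {n : Net} (h : n.Ok K) {i : ℕ} (hi : 2 ^ K ≤ i) : n.perm i = i := by
  induction n with
  | nil => rfl
  | cons d m t ih =>
    show swP d m (t.perm i) = i
    rw [ih h.2.2, swP_apply h.1]
    unfold sw
    have h1 : ¬ m.testBit i = true := fun h1 => by have := h.2.1 i h1; omega
    have h2 : ¬ (d ≤ i ∧ m.testBit (i - d) = true) := fun h2 => by
      have := h.2.1 _ h2.2; omega
    rw [if_neg h1, if_neg h2]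

/-- permutations fixing every point from `S` on -/
def FixFrom (S : ℕ) : Subgroup (Perm ℕ) where
  carrier := {σ | ∀ i, S ≤ i → σ i = i}
  one_mem' := fun _ _ => rfl
  mul_mem' := fun {a b} ha hb i hi => by rw [Perm.mul_apply, hb i hi, ha i hi]
  inv_mem' := fun {a} ha i hi => by rw [Perm.inv_eq_iff_eq, ha i hi]

theorem FixFrom.lt {S : ℕ} {σ : Perm ℕ} (h : σ ∈ FixFrom S) {i : ℕ} (hi : i < S) : σ i < S := by
  by_contra hc
  have h1 : σ (σ i) = σ i := h _ (not_lt.mp hc)
  have := σ.injective h1
  omega

noncomputable def SNet.perm (s : SNet) : Perm ℕ := if s.inv then s.net.perm⁻¹ else s.net.perm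

theorem SNet.tb_pull {K : ℕ} {s : SNet} (h : s.net.Ok K) (x i : ℕ) :
    (s.pull x).testBit i = x.testBit (s.perm i) := by
  unfold SNet.pull SNet.perm
  cases s.inv
  · exact Net.tb_app h x i
  · exact Net.tb_appInv h x i

theorem SNet.tb_push {K : ℕ} {s : SNet} (h : s.net.Ok K) (x i : ℕ) :
    (s.push x).testBit i = x.testBit (s.perm⁻¹ i) := by
  unfold SNet.push SNet.perm
  cases s.inv
  · exact Net.tb_appInv h x i
  · exact Net.tb_app h x i

theorem SNet.perm_fix {K : ℕ} {s : SNet} (h : s.net.Ok K) : s.perm ∈ FixFrom (2 ^ K) := by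
  have : s.net.perm ∈ FixFrom (2 ^ K) := fun i hi => Net.perm_fix h hi
  unfold SNet.perm
  split_ifs
  · exact inv_mem this
  · exact this

/-- product of a list in application order: the head acts first -/
def evA {Γ : Type*} [Monoid Γ] {α : Type*} (v : α → Γ) : List α → Γ
  | [] => 1
  | z :: w => evA v w * v z

@[simp] theorem evA_nil {Γ : Type*} [Monoid Γ] {α : Type*} (v : α → Γ) : evA v [] = 1 := rfl
@[simp] theorem evA_cons {Γ : Type*} [Monoid Γ] {α : Type*} (v : α → Γ) (z : α) (w : List α) :
    evA v (z :: w) = evA v w * v z := rfl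

theorem evA_mem {Γ : Type*} [Group Γ] {α : Type*} (v : α → Γ) (K : Subgroup Γ) (w : List α)
    (h : ∀ z ∈ w, v z ∈ K) : evA v w ∈ K := by
  induction w with
  | nil => exact K.one_mem
  | cons z w ih =>
    exact K.mul_mem (ih fun y hy => h y (List.mem_cons_of_mem _ hy)) (h z List.mem_cons_self)

theorem evA_map {Γ Δ : Type*} [Group Γ] [Group Δ] {α : Type*} (v : α → Γ) (u : α → Δ)
    (φ : Γ →* Δ) (w : List α) (h : ∀ z ∈ w, φ (v z) = u z) : φ (evA v w) = evA u w := by
  induction w with
  | nil => simp
  | cons z w ih =>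
    rw [evA_cons, evA_cons, map_mul, ih fun y hy => h y (List.mem_cons_of_mem _ hy),
      h z List.mem_cons_self]

theorem tb_pushW {K : ℕ} (w : List SNet) (h : ∀ s ∈ w, s.net.Ok K) (x i : ℕ) :
    (pushW w x).testBit i = x.testBit ((evA SNet.perm w)⁻¹ i) := by
  induction w generalizing x with
  | nil => rfl
  | cons s w ih =>
    show (pushW w (s.push x)).testBit i = _
    rw [ih fun y hy => h y (List.mem_cons_of_mem _ hy), SNet.tb_push (h s List.mem_cons_self),
      evA_cons, mul_inv_rev, Perm.mul_apply]

theorem tb_idp (k j i : ℕ) :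
    (idp k j).testBit i = (decide (i < 2 ^ (k + 1 + j)) && i.testBit k) := by
  induction j generalizing i with
  | zero =>
    show (Nat.shiftLeft (ones (Nat.shiftLeft 1 k)) (Nat.shiftLeft 1 k)).testBit i = _
    rw [tb_shl, tb_ones, shl_one, add_zero]
    have hp : 2 ^ (k + 1) = 2 * 2 ^ k := by ring
    by_cases h1 : i < 2 ^ k
    · have : i.testBit k = false := Nat.testBit_lt_two_pow h1
      simp [this, not_le.mpr h1]
    · by_cases h2 : i < 2 ^ (k + 1)
      · have : i.testBit k = true := Nat.testBit_of_two_pow_le_and_two_pow_add_one_gt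
          (not_lt.mp h1) h2
        have h3 : i - 2 ^ k < 2 ^ k := by omega
        simp [this, not_lt.mp h1, h2, h3]
      · have h3 : ¬ i - 2 ^ k < 2 ^ k := by omega
        simp [h2, h3]
  | succ j ih =>
    show (dbl (Nat.shiftLeft 1 (k + 1 + j)) (idp k j)).testBit i = _
    unfold dbl
    rw [tb_lor, tb_shl, ih, ih, shl_one]
    have hp : 2 ^ (k + 1 + (j + 1)) = 2 * 2 ^ (k + 1 + j) := by ring
    by_cases h1 : i < 2 ^ (k + 1 + j)
    · have : i < 2 ^ (k + 1 + (j + 1)) := by omega
      simp [h1, this, not_le.mpr h1]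
    · have h1' := not_lt.mp h1
      have e : (i - 2 ^ (k + 1 + j)).testBit k = i.testBit k := by
        obtain ⟨r, rfl⟩ := Nat.exists_eq_add_of_le h1'
        rw [Nat.add_sub_cancel_left, Nat.testBit_two_pow_add_gt (by omega)]
      by_cases h2 : i < 2 ^ (k + 1 + (j + 1))
      · have h3 : i - 2 ^ (k + 1 + j) < 2 ^ (k + 1 + j) := by omega
        simp [h1, h1', h2, h3, e]
      · have h3 : ¬ i - 2 ^ (k + 1 + j) < 2 ^ (k + 1 + j) := by omega
        simp [h1, h2, h3]

theorem tb_idpl {K k : ℕ} (hk : k < K) (i : ℕ) :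
    (idpl K k).testBit i = (decide (i < 2 ^ K) && i.testBit k) := by
  unfold idpl
  rw [tb_idp]
  have : k + 1 + Nat.sub K (Nat.succ k) = K := by
    show k + 1 + (K - (k + 1)) = K
    omega
  rw [this]

theorem idpls_succ (K n k : ℕ) : idpls K (n + 1) k = idpl K k :: idpls K n (k + 1) := rfl

theorem mem_idpls (K n k j : ℕ) (h1 : k ≤ j) (h2 : j < k + n) : idpl K j ∈ idpls K n k := by
  induction n generalizing k with
  | zero => omega
  | succ n ih =>
    rw [idpls_succ]
    rcases h1.eq_or_lt with rfl | h
    · exact List.mem_cons_self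
    · exact List.mem_cons_of_mem _ (ih (k + 1) h (by omega))

/-- `σ` preserves bit `k` of the points below `2 ^ K`, for `k` in a range -/
def PlaneFix (K : ℕ) (σ : Perm ℕ) (a b : ℕ) : Prop :=
  ∀ k, a ≤ k → k < b → k < K → ∀ i < 2 ^ K, (σ⁻¹ i).testBit k = i.testBit k

theorem PlaneFix.trans {K : ℕ} {σ : Perm ℕ} {a b c : ℕ} (h1 : PlaneFix K σ a b)
    (h2 : PlaneFix K σ b c) : PlaneFix K σ a c := fun k ha hc hK =>
  if h : k < b then h1 k ha h hK else h2 k (not_lt.mp h) hc hK

theorem PlaneFix.eq_one {K : ℕ} {σ : Perm ℕ} (h : PlaneFix K σ 0 K) (hσ : σ ∈ FixFrom (2 ^ K)) :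
    σ = 1 := by
  rw [← inv_eq_one]
  ext i
  by_cases hi : i < 2 ^ K
  · have h1 : σ⁻¹ i < 2 ^ K := FixFrom.lt (inv_mem hσ) hi
    apply Nat.eq_of_testBit_eq
    intro k
    by_cases hk : k < K
    · exact h k (Nat.zero_le _) hk hk i hi
    · have hp : 2 ^ K ≤ 2 ^ k := Nat.pow_le_pow_right (by norm_num) (not_lt.mp hk)
      rw [Nat.testBit_lt_two_pow (lt_of_lt_of_le h1 hp)]
      exact (Nat.testBit_lt_two_pow (lt_of_lt_of_le hi hp)).symm
  · exact (inv_mem hσ) i (not_lt.mp hi)

theorem relChk_sound {K : ℕ} {w : List SNet} (hw : ∀ s ∈ w, s.net.Ok K) {k n : ℕ}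
    (h : relChk K w k n = true) : PlaneFix K (evA SNet.perm w) k (k + n) := by
  intro j h1 h2 hK i hi
  unfold relChk at h
  rw [lall_iff] at h
  have h3 := Nat.beq_eq.mp (h _ (mem_idpls K n k j h1 h2))
  have h4 := congrArg (fun y => Nat.testBit y i) h3
  have h5 : (evA SNet.perm w)⁻¹ i < 2 ^ K :=
    FixFrom.lt (inv_mem (evA_mem _ _ _ fun s hs => SNet.perm_fix (hw s hs))) hi
  simp only [tb_pushW w hw, tb_idpl hK, hi, h5, decide_true, Bool.true_and] at h4
  exact h4

/-- value at a point of a list of planes -/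
def pv : List ℕ → ℕ → ℕ
  | [], _ => 0
  | p :: P, i => (p.testBit i).toNat + 2 * pv P i

theorem ltPl_sound (A B : List ℕ) (acc i : ℕ) (h : (ltPl A B acc).testBit i = true) :
    pv A i < pv B i ∨ (pv A i = pv B i ∧ acc.testBit i = true) := by
  induction A generalizing B acc with
  | nil =>
    cases B with
    | nil => exact Or.inr ⟨rfl, h⟩
    | cons b B => exact absurd h (by show ¬ (0 : ℕ).testBit i = true; simp)
  | cons a A ih =>
    cases B with
    | nil => exact absurd h (by show ¬ (0 : ℕ).testBit i = true; simp)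
    | cons b B =>
      have h' : (ltPl A B (ltStep acc a b)).testBit i = true := h
      rcases ih _ _ h' with h1 | ⟨h1, h2⟩
      · left
        simp only [pv]
        have := Bool.toNat_le (a.testBit i)
        omega
      · simp only [ltStep, tb_xor, tb_land] at h2
        simp only [pv, h1]
        cases ha : a.testBit i <;> cases hb : b.testBit i <;> cases hc : acc.testBit i <;>
          simp_all

theorem ltPl_zero {A B : List ℕ} {i : ℕ} (h : (ltPl A B 0).testBit i = true) :
    pv A i < pv B i := by
  rcases ltPl_sound A B 0 i h with h | h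
  · exact h
  · simp at h

theorem pv_map (f : ℕ → ℕ) (g : ℕ → ℕ) (P : List ℕ) (i : ℕ)
    (h : ∀ x, (f x).testBit i = x.testBit (g i)) : pv (lmap f P) i = pv P (g i) := by
  rw [lmap_eq]
  induction P with
  | nil => rfl
  | cons p P ih => simp only [List.map_cons, pv, h, ih]

theorem pv_idpls {K : ℕ} {i : ℕ} (hi : i < 2 ^ K) (n k : ℕ) (h : k + n = K) :
    pv (idpls K n k) i = i / 2 ^ k := by
  induction n generalizing k with
  | zero =>
    have : k = K := by omega
    subst this
    exact (Nat.div_eq_of_lt hi).symm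
  | succ n ih =>
    rw [idpls_succ, pv, ih (k + 1) (by omega), tb_idpl (by omega), Nat.testBit_eq_decide_div_mod_eq]
    have e : i / 2 ^ (k + 1) = i / 2 ^ k / 2 := by rw [Nat.div_div_eq_div_mul, pow_succ]
    rw [e]
    rcases Nat.mod_two_eq_zero_or_one (i / 2 ^ k) with h0 | h0
    · simp [hi, h0]; omega
    · simp [hi, h0]; omega

theorem pv_idpls_ge {K : ℕ} {i : ℕ} (hi : 2 ^ K ≤ i) (n k : ℕ) (h : k + n = K) :
    pv (idpls K n k) i = 0 := by
  induction n generalizing k with
  | zero => rfl
  | succ n ih =>
    rw [idpls_succ, pv, ih (k + 1) (by omega), tb_idpl (by omega)]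
    simp [not_lt.mpr hi]

theorem tb_lor_list (l : List ℕ) (i : ℕ) (h : (lor l).testBit i = true) :
    ∃ M ∈ l, M.testBit i = true := by
  induction l with
  | nil => exact absurd h (by show ¬ (0 : ℕ).testBit i = true; simp)
  | cons a l ih =>
    have h' : (Nat.lor a (lor l)).testBit i = true := h
    rw [tb_lor, Bool.or_eq_true] at h'
    rcases h' with h' | h'
    · exact ⟨a, List.mem_cons_self, h'⟩
    · obtain ⟨M, hM, hi⟩ := ih h'
      exact ⟨M, List.mem_cons_of_mem _ hM, hi⟩

theorem grow_sound {K : ℕ} (w : List SNet) (hw : ∀ s ∈ w, s.net.Ok K) (P : ℕ → Prop)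
    (hP : ∀ s ∈ w, ∀ i, P i → P (s.perm i)) (x : ℕ) (hx : ∀ i, x.testBit i = true → P i) :
    ∀ i, (grow w x).testBit i = true → P i := by
  induction w generalizing x with
  | nil => exact hx
  | cons s w ih =>
    refine ih (fun y hy => hw y (List.mem_cons_of_mem _ hy))
      (fun y hy => hP y (List.mem_cons_of_mem _ hy)) (Nat.lor x (s.push x)) fun i hi => ?_
    rw [tb_lor, Bool.or_eq_true, SNet.tb_push (hw s List.mem_cons_self)] at hi
    rcases hi with hi | hi
    · exact hx i hi
    · have := hP s List.mem_cons_self _ (hx _ hi)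
      simpa using this

theorem popc_sound (K x : ℕ) (hx : x < 2 ^ 2 ^ K) :
    {i | x.testBit i = true}.ncard = popc K x := by
  induction K generalizing x with
  | zero =>
    show _ = x
    have : x = 0 ∨ x = 1 := by norm_num at hx; omega
    rcases this with rfl | rfl
    · simp
    · have : {i | (1 : ℕ).testBit i = true} = {0} := by
        ext i
        simp [Nat.testBit_one_eq_true_iff_self_eq_zero]
      rw [this]; simp
  | succ k ih =>
    show _ = pcSplit (popc k) (Nat.shiftLeft 1 k) x
    unfold pcSplit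
    rw [brec_eq, shl_one]
    split_ifs with h0
    · rw [Nat.beq_eq] at h0
      simp [h0]
    · have e1 : Nat.land x (ones (2 ^ k)) < 2 ^ 2 ^ k := by
        apply Nat.lt_pow_two_of_testBit
        intro i hi
        rw [tb_land, tb_ones]
        simp [not_lt.mpr hi]
      have e2 : Nat.shiftRight x (2 ^ k) < 2 ^ 2 ^ k := by
        apply Nat.lt_pow_two_of_testBit
        intro i hi
        rw [tb_shr]
        apply Nat.testBit_lt_two_pow
        refine lt_of_lt_of_le hx (Nat.pow_le_pow_right (by norm_num) ?_)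
        rw [pow_succ]; omega
      have hfin : ∀ y : ℕ, {i | y.testBit i = true}.Finite := fun y =>
        (Set.finite_lt_nat y).subset fun i hi => by
          by_contra hc
          have : y.testBit i = false :=
            Nat.testBit_lt_two_pow (lt_of_le_of_lt (not_lt.mp hc) Nat.lt_two_pow_self)
          simp [this] at hi
      show _ = popc k _ + popc k _
      rw [← ih _ e1, ← ih _ e2,
        ← Set.ncard_image_of_injective {i | (Nat.shiftRight x (2 ^ k)).testBit i = true}
          (add_right_injective (2 ^ k)),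
        ← Set.ncard_union_eq _ (hfin _) ((hfin _).image _)]
      · congr 1
        ext i
        simp only [Set.mem_setOf_eq, Set.mem_union, Set.mem_image, tb_land, tb_ones, tb_shr,
          Bool.and_eq_true, decide_eq_true_eq]
        constructor
        · intro hi
          by_cases h : i < 2 ^ k
          · exact Or.inl ⟨hi, h⟩
          · refine Or.inr ⟨i - 2 ^ k, ?_, by omega⟩
            have : 2 ^ k + (i - 2 ^ k) = i := by omega
            rw [this]; exact hi
        · rintro (hi | ⟨j, hj, rfl⟩)
          · exact hi.1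
          · exact hj
      · rw [Set.disjoint_left]
        rintro i hi ⟨j, -, rfl⟩
        simp only [Set.mem_setOf_eq, tb_land, tb_ones, Bool.and_eq_true, decide_eq_true_eq] at hi
        omega

end Cfsg.Agent.Spor
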