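import Cfsg.Agent.Spor.Mat
import Cfsg.Agent.Spor.PM0

set_option autoImplicit false

namespace Cfsg.Agent.Spor

open Finset

/-- a bit field -/
def bf (x s w : ℕ) : ℕ := x / 2 ^ s % 2 ^ w

/-- packing of `N` numbers at distance `W` -/
def pk (W N : ℕ) (f : ℕ → ℕ) : ℕ := ∑ i ∈ range N, f i * 2 ^ (W * i)

theorem bf_lt (x s w : ℕ) : bf x s w < 2 ^ w := Nat.mod_lt _ (by positivity)

theorem tb_bf (x s w t : ℕ) : (bf x s w).testBit t = (decide (t < w) && x.testBit (s + t)) := by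
  rw [bf, Nat.testBit_mod_two_pow, Nat.testBit_div_two_pow, add_comm t s]

theorem pk_succ (W N : ℕ) (f : ℕ → ℕ) : pk W (N + 1) f = pk W N f + f N * 2 ^ (W * N) :=
  sum_range_succ _ _

theorem pk_lt {W N : ℕ} {f : ℕ → ℕ} (h : ∀ i < N, f i < 2 ^ W) : pk W N f < 2 ^ (W * N) := by
  induction N with
  | zero => simp [pk]
  | succ N ih =>
    have h1 := ih fun i hi => h i (by omega)
    have h2 := h N (by omega)
    rw [pk_succ, Nat.mul_succ, pow_add]
    nlinarith

theorem tb_pk {W N : ℕ} (hW : 0 < W) {f : ℕ → ℕ} (h : ∀ i < N, f i < 2 ^ W) (t : ℕ) :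
    (pk W N f).testBit t = (decide (t / W < N) && (f (t / W)).testBit (t % W)) := by
  induction N with
  | zero => simp [pk]
  | succ N ih =>
    have h0 : ∀ i < N, f i < 2 ^ W := fun i hi => h i (by omega)
    rw [pk_succ, add_comm, mul_comm, Nat.testBit_two_pow_mul_add _ (pk_lt h0), ih h0]
    by_cases h1 : t < W * N
    · have : t / W < N := by rwa [Nat.div_lt_iff_lt_mul hW, mul_comm]
      rw [if_pos h1, decide_eq_true this, decide_eq_true (by omega : t / W < N + 1)]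
    · rw [if_neg h1]
      obtain ⟨s, rfl⟩ := Nat.exists_eq_add_of_le (not_lt.mp h1)
      rw [Nat.add_sub_cancel_left, Nat.mul_add_div hW, Nat.mul_add_mod]
      by_cases h2 : s < W
      · rw [Nat.div_eq_of_lt h2, Nat.mod_eq_of_lt h2]; simp
      · have h3 : 0 < s / W := Nat.div_pos (not_lt.mp h2) hW
        rw [decide_eq_false (by omega), Bool.false_and]
        exact Nat.testBit_lt_two_pow ((h N (by omega)).trans_le
          (Nat.pow_le_pow_right (by norm_num) (not_lt.mp h2)))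

theorem bf_pk {W N : ℕ} (hW : 0 < W) {f : ℕ → ℕ} (h : ∀ i < N, f i < 2 ^ W) {i : ℕ} (hi : i < N) :
    bf (pk W N f) (W * i) W = f i := by
  apply Nat.eq_of_testBit_eq
  intro t
  rw [tb_bf, tb_pk hW h]
  by_cases ht : t < W
  · rw [Nat.mul_add_div hW, Nat.mul_add_mod, Nat.div_eq_of_lt ht, Nat.mod_eq_of_lt ht]
    simp [ht, hi]
  · rw [decide_eq_false ht, Bool.false_and]
    exact (Nat.testBit_lt_two_pow ((h i hi).trans_le
      (Nat.pow_le_pow_right (by norm_num) (not_lt.mp ht)))).symm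

theorem ones_eq (n : ℕ) : ones n = 2 ^ n - 1 := by
  unfold ones
  rw [shl_one]; rfl

theorem rep_eq {W : ℕ} (hW : 0 < W) (N v : ℕ) : rep W N v = pk W N fun _ => v := by
  have h : 1 < 2 ^ W := Nat.one_lt_two_pow hW.ne'
  have e : ones (W * N) = (∑ i ∈ range N, 2 ^ (W * i)) * ones W := by
    rw [ones_eq, ones_eq]
    have := Nat.geomSum_eq h N
    simp only [pow_mul]
    rw [this, Nat.div_mul_cancel]
    simpa using Nat.sub_dvd_pow_sub_pow (2 ^ W) 1 N
  show v * (ones (W * N) / ones W) = _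
  rw [e, Nat.mul_div_cancel _ (by rw [ones_eq]; omega), pk, mul_sum]

theorem land_rep {W w : ℕ} (hW : 0 < W) (hw : w ≤ W) (N x s : ℕ) :
    Nat.land (Nat.shiftRight x s) (rep W N (ones w)) = pk W N fun i => bf x (s + W * i) w := by
  have hp : 2 ^ w ≤ 2 ^ W := Nat.pow_le_pow_right (by norm_num) hw
  apply Nat.eq_of_testBit_eq
  intro t
  have h0 : ones w < 2 ^ W := by
    have : 0 < 2 ^ w := by positivity
    rw [ones_eq]; omega
  rw [tb_land, tb_shr, rep_eq hW, tb_pk hW fun _ _ => h0,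
    tb_pk hW fun i _ => (bf_lt _ _ _).trans_le hp, tb_ones, tb_bf, add_assoc, Nat.div_add_mod]
  cases x.testBit (s + t) <;> simp

theorem pk_add (W N : ℕ) (f g : ℕ → ℕ) : pk W N f + pk W N g = pk W N fun i => f i + g i := by
  simp only [pk, add_mul, sum_add_distrib]

theorem pk_smul (W N c : ℕ) (f : ℕ → ℕ) : c * pk W N f = pk W N fun i => c * f i := by
  simp only [pk, mul_sum, mul_assoc]

theorem pk_congr {W N : ℕ} {f g : ℕ → ℕ} (h : ∀ i < N, f i = g i) : pk W N f = pk W N g :=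
  sum_congr rfl fun i hi => by rw [h i (mem_range.mp hi)]

theorem sum_range_mulN (m d : ℕ) (f : ℕ → ℕ) :
    ∑ t ∈ range (m * d), f t = ∑ i ∈ range m, ∑ j ∈ range d, f (d * i + j) := by
  induction m with
  | zero => simp
  | succ m ih => rw [Nat.succ_mul, sum_range_add, ih, sum_range_succ, mul_comm d m]

theorem pk_mul {w d : ℕ} (hd : 0 < d) (m : ℕ) (c r : ℕ → ℕ) :
    pk (w * d) m c * pk w d r = pk w (m * d) fun t => c (t / d) * r (t % d) := by
  unfold pk
  rw [sum_range_mulN, sum_mul]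
  refine sum_congr rfl fun i _ => ?_
  rw [mul_sum]
  refine sum_congr rfl fun j hj => ?_
  have hj' := mem_range.mp hj
  beta_reduce
  rw [Nat.mul_add_div hd, Nat.mul_add_mod, Nat.div_eq_of_lt hj', Nat.mod_eq_of_lt hj', add_zero,
    mul_add, pow_add, mul_assoc w]
  ring

theorem pk_inter (w N : ℕ) (a b : ℕ → ℕ) :
    pk (2 * w) N a + pk (2 * w) N b * 2 ^ w =
      pk w (2 * N) fun t => if t % 2 = 0 then a (t / 2) else b (t / 2) := by
  induction N with
  | zero => simp [pk]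
  | succ N ih =>
    rw [Nat.mul_succ, pk_succ w, pk_succ w, ← ih, pk_succ, pk_succ, if_pos (by omega),
      if_neg (by omega), show 2 * N / 2 = N by omega, show (2 * N + 1) / 2 = N by omega]
    ring

theorem barrett {p mu k B g : ℕ} (hp : 0 < p) (h1 : 2 ^ k ≤ mu * p)
    (h2 : (mu * p - 2 ^ k) * (B / p + 1) < mu) (hg : g < B) : mu * g / 2 ^ k = g / p := by
  obtain ⟨e, he⟩ := Nat.exists_eq_add_of_le h1
  rw [he, Nat.add_sub_cancel_left] at h2
  have h3 : g / p ≤ B / p := Nat.div_le_div_right hg.le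
  have h4 := Nat.div_add_mod g p
  have h5 := Nat.mod_lt g hp
  generalize g / p = q at *
  generalize g % p = r at *
  have h6 : mu * g = 2 ^ k * q + (e * q + mu * r) := by
    rw [← h4, mul_add, ← mul_assoc, he]; ring
  have h7 : e * q + mu * r < 2 ^ k := by
    have : mu * r + mu ≤ mu * p := by rw [← Nat.mul_succ]; exact Nat.mul_le_mul_left _ h5
    have : e * (q + 1) ≤ e * (B / p + 1) := Nat.mul_le_mul_left _ (by omega)
    rw [Nat.mul_succ] at this
    omega
  rw [h6, Nat.mul_add_div (by positivity), Nat.div_eq_of_lt h7, add_zero]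

theorem pbar_pk {p w mu k N : ℕ} (hp : 0 < p) (hw : 0 < w) (h0 : mu < 2 ^ w) (h1 : 2 ^ k ≤ mu * p)
    (h2 : (mu * p - 2 ^ k) * (2 ^ w / p + 1) < mu) (hk : k ≤ 2 * w) {g : ℕ → ℕ}
    (hg : ∀ i, g i < 2 ^ w) :
    pbar p mu k (rep (2 * w) N (ones (2 * w - k))) (pk (2 * w) N g) =
      pk (2 * w) N fun i => g i % p := by
  have hb : ∀ i < N, mu * g i < 2 ^ (2 * w) := fun i _ => by
    rw [two_mul, pow_add]
    exact Nat.mul_lt_mul'' h0 (hg i)
  have e : pk (2 * w) N (fun i => bf (pk (2 * w) N fun i => mu * g i) (k + 2 * w * i) (2 * w - k)) =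
      pk (2 * w) N fun i => g i / p := pk_congr fun i hi => by
    rw [← barrett hp h1 h2 (hg i), ← bf_pk (by omega) hb hi]
    apply Nat.eq_of_testBit_eq
    intro t
    rw [Nat.testBit_div_two_pow, tb_bf, tb_bf, show k + 2 * w * i + t = 2 * w * i + (t + k) by ring]
    congr 1
    exact decide_eq_decide.mpr (by omega)
  show pk (2 * w) N g - p * Nat.land (Nat.shiftRight (mu * pk (2 * w) N g) k) _ = _
  rw [pk_smul, land_rep (by omega) (by omega), e, pk_smul]
  refine Nat.sub_eq_of_eq_add ?_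
  rw [pk_add]
  exact pk_congr fun i _ => (Nat.mod_add_div _ _).symm

theorem bf_prd {p w mu k N : ℕ} (hp : 0 < p) (hw : 0 < w) (h0 : mu < 2 ^ w) (h1 : 2 ^ k ≤ mu * p)
    (h2 : (mu * p - 2 ^ k) * (2 ^ w / p + 1) < mu) (hk : k ≤ 2 * w) (z : ℕ) {t : ℕ}
    (ht : t < 2 * N) :
    bf (prd p w mu k (rep (2 * w) N (ones w)) (rep (2 * w) N (ones (2 * w - k))) z) (w * t) w =
      bf z (w * t) w % p := by
  have e0 : Nat.land z (rep (2 * w) N (ones w)) =
      Nat.land (Nat.shiftRight z 0) (rep (2 * w) N (ones w)) := rfl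
  show bf (pbar _ _ _ _ _ + Nat.shiftLeft _ _) _ _ = _
  rw [e0, land_rep (by omega) (by omega), land_rep (by omega) (by omega),
    pbar_pk hp hw h0 h1 h2 hk fun _ => bf_lt _ _ _, pbar_pk hp hw h0 h1 h2 hk fun _ => bf_lt _ _ _,
    shl_eq, pk_inter, bf_pk hw _ ht]
  · split_ifs with h
    · rw [show 0 + 2 * w * (t / 2) = w * t by
        conv_rhs => rw [← Nat.div_add_mod t 2, h]
        ring]
    · rw [show w + 2 * w * (t / 2) = w * t by
        conv_rhs => rw [← Nat.div_add_mod t 2, show t % 2 = 1 by omega]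
        ring]
  · intro i _
    split_ifs <;> exact (Nat.mod_le _ _).trans_lt (bf_lt _ _ _)

theorem pterm_eq {w d : ℕ} (hw : 0 < w) (hd : 0 < d) (m x y k : ℕ) :
    pterm w (w * d) (rep (w * d) m (ones w)) (rep w d (ones w)) x y k =
      pk w (m * d) fun t => bf x (w * (d * (t / d) + k)) w * bf y (w * (d * k + t % d)) w := by
  show Nat.land _ _ * Nat.land _ _ = _
  rw [land_rep (Nat.mul_pos hw hd) (Nat.le_mul_of_pos_right _ hd), land_rep hw le_rfl, pk_mul hd]
  refine pk_congr fun t _ => ?_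
  congr 2
  · show w * k + _ = _; ring
  · show w * d * k + _ = _; ring

theorem psum_eq {w d : ℕ} (hw : 0 < w) (hd : 0 < d) (m x y n : ℕ) :
    psum w (w * d) (rep (w * d) m (ones w)) (rep w d (ones w)) x y n =
      pk w (m * d) fun t =>
        ∑ k ∈ range n, bf x (w * (d * (t / d) + k)) w * bf y (w * (d * k + t % d)) w := by
  induction n with
  | zero => simp [psum, pk]
  | succ n ih =>
    show pterm _ _ _ _ _ _ _ + psum _ _ _ _ _ _ n = _
    rw [ih, pterm_eq hw hd, pk_add]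
    exact pk_congr fun t _ => by rw [sum_range_succ, add_comm]

theorem bf_one (x s : ℕ) : bf x s 1 = (x.testBit s).toNat := by
  rw [bf, pow_one, Nat.toNat_testBit]

theorem pxor_eq {d : ℕ} (hd : 0 < d) (m x y n : ℕ) {t : ℕ} (ht : t < m * d) :
    bf (pxor 1 (1 * d) (rep (1 * d) m (ones 1)) (rep 1 d (ones 1)) x y n) (1 * t) 1 =
      (∑ k ∈ range n, bf x (1 * (d * (t / d) + k)) 1 * bf y (1 * (d * k + t % d)) 1) % 2 := by
  induction n with
  | zero => simp [pxor, bf]
  | succ n ih =>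
    have e := bf_pk (W := 1) (N := m * d) one_pos (f := fun t =>
      bf x (1 * (d * (t / d) + n)) 1 * bf y (1 * (d * n + t % d)) 1) (fun i _ => by
        have h1 := bf_lt x (1 * (d * (i / d) + n)) 1
        have h2 := bf_lt y (1 * (d * n + i % d)) 1
        nlinarith) ht
    rw [← pterm_eq one_pos hd] at e
    show bf (Nat.xor (pterm _ _ _ _ _ _ _) (pxor _ _ _ _ _ _ n)) _ _ = _
    rw [sum_range_succ, Nat.add_mod, ← ih, ← e, bf_one, bf_one, bf_one, tb_xor]
    cases Nat.testBit _ _ <;> cases Nat.testBit _ _ <;> rfl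

namespace PA

variable {A : PA}

theorem ent_eq (A : PA) (x i j : ℕ) : A.ent x i j = bf x (A.w * (A.d * i + j)) A.w := by
  unfold ent
  rw [land_ones, shr_eq]; rfl

/-- the first `m` rows have reduced entries -/
def Can (A : PA) (m x : ℕ) : Prop := ∀ i < m, ∀ j < A.d, A.ent x i j < A.p

theorem ok' (h : A.ok = true) : 1 < A.p ∧ 0 < A.w ∧ 0 < A.d ∧ A.wd = A.w * A.d ∧
    A.cm = rep (A.w * A.d) A.m (ones A.w) ∧ A.rm = rep A.w A.d (ones A.w) ∧
    (A.p = 2 → A.w = 1) ∧ (A.p ≠ 2 → A.okP = true) := by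
  simp only [ok, band_eq, Bool.and_eq_true, Nat.blt_eq, Nat.beq_eq, brec_eq] at h
  obtain ⟨h1, h2, h3, h4, h5, h6, h7⟩ := h
  refine ⟨h1, h2, h3, h4, by rw [h5, h4]; rfl, h6, fun e => ?_, fun e => ?_⟩
  · rwa [if_pos e, Nat.beq_eq] at h7
  · rwa [if_neg e] at h7

theorem idx_lt {m d i j : ℕ} (hi : i < m) (hj : j < d) : d * i + j < m * d := by nlinarith

theorem prd_spec (h : A.ok = true) (hp : A.p ≠ 2) (z : ℕ) {i j : ℕ} (hi : i < A.m) (hj : j < A.d) :
    A.ent (prd A.p A.w A.mu A.k A.em A.qm z) i j = A.ent z i j % A.p := by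
  obtain ⟨h1, h2, -, -, -, -, -, h8⟩ := ok' h
  have h9 := h8 hp
  simp only [okP, band_eq, Bool.and_eq_true, Nat.blt_eq, Nat.beq_eq, Nat.ble_eq, shl_one] at h9
  obtain ⟨-, g2, g3, g4, g5, g6, g7⟩ := h9
  rw [ent_eq, ent_eq, g6, g7]
  refine bf_prd (by omega) h2 g2 g3 g4 g5 z ?_
  have := idx_lt hi hj
  show _ < 2 * (A.d * A.m / 2 + 1)
  rw [mul_comm A.m] at this
  omega

theorem can_sound (h : A.ok = true) {x : ℕ} (hx : A.can x = true) : A.Can A.m x := by
  intro i hi j hj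
  obtain ⟨h1, -, -, -, -, -, h7, -⟩ := ok' h
  by_cases hp : A.p = 2
  · rw [ent_eq, hp, h7 hp]; exact bf_lt _ _ _
  · rw [can, brec_eq, if_neg (by rwa [Nat.beq_eq]), Nat.beq_eq] at hx
    rw [← hx, prd_spec h hp x hi hj]
    exact Nat.mod_lt _ (by omega)

theorem mul0_spec (h : A.ok = true) {x y : ℕ} (hx : A.Can A.m x) (hy : A.Can A.d y) {i j : ℕ}
    (hi : i < A.m) (hj : j < A.d) :
    A.ent (A.mul0 x y) i j = (∑ k ∈ range A.d, A.ent x i k * A.ent y k j) % A.p := by
  obtain ⟨h1, h2, h3, h4, h5, h6, h7, h8⟩ := ok' h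
  have e : A.mul0 x y = Bool.rec (prd A.p A.w A.mu A.k A.em A.qm (psum A.w A.wd A.cm A.rm x y A.d))
    (pxor A.w A.wd A.cm A.rm x y A.d) (Nat.beq A.p 2) := rfl
  have e1 : (A.d * i + j) / A.d = i := by rw [Nat.mul_add_div h3, Nat.div_eq_of_lt hj, add_zero]
  have e2 : (A.d * i + j) % A.d = j := by rw [Nat.mul_add_mod, Nat.mod_eq_of_lt hj]
  rw [e, brec_eq, h4, h5, h6]
  split_ifs with hp
  · rw [Nat.beq_eq] at hp
    simp only [ent_eq, h7 hp, hp]
    rw [pxor_eq h3 _ _ _ _ (idx_lt hi hj), e1, e2]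
  · rw [Nat.beq_eq] at hp
    have h9 := h8 hp
    simp only [okP, band_eq, Bool.and_eq_true, Nat.blt_eq, shl_one] at h9
    rw [prd_spec h hp _ hi hj, ent_eq, psum_eq h2 h3, bf_pk h2 _ (idx_lt hi hj), e1, e2]
    · simp only [ent_eq]
    · intro t ht
      refine lt_of_le_of_lt ?_ h9.1
      have h10 : t / A.d < A.m := by rwa [Nat.div_lt_iff_lt_mul h3]
      refine (sum_le_card_nsmul _ _ ((A.p - 1) * (A.p - 1)) fun k hk => ?_).trans
        (by rw [card_range]; rfl)
      have a1 := hx _ h10 k (mem_range.mp hk)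
      have a2 := hy k (mem_range.mp hk) _ (Nat.mod_lt t h3)
      rw [ent_eq] at a1 a2
      exact Nat.mul_le_mul (by omega) (by omega)

theorem Can.mul0 (h : A.ok = true) {x y : ℕ} (hx : A.Can A.m x) (hy : A.Can A.d y) :
    A.Can A.m (A.mul0 x y) := fun i hi j hj => by
  rw [mul0_spec h hx hy hi hj]
  exact Nat.mod_lt _ (by have := (ok' h).1; omega)

theorem sq' (h : A.sq = true) : A.ok = true ∧ A.m = A.d ∧ A.one = rep (A.w * (A.d + 1)) A.d 1 := by
  simp only [sq, band_eq, Bool.and_eq_true, Nat.beq_eq] at h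
  exact h

theorem ent_one (h : A.sq = true) {i j : ℕ} (hi : i < A.d) (hj : j < A.d) :
    A.ent A.one i j = if i = j then 1 else 0 := by
  obtain ⟨h0, -, h3⟩ := sq' h
  obtain ⟨-, h2, h4, -⟩ := ok' h0
  have e : A.one = pk A.w (A.d * A.d) fun t => if t / A.d = t % A.d then 1 else 0 := by
    rw [h3, rep_eq (by positivity), pk, pk, sum_range_mulN]
    refine sum_congr rfl fun i hi => ?_
    rw [sum_eq_single_of_mem i hi]
    · rw [Nat.mul_add_div h4, Nat.mul_add_mod, Nat.div_eq_of_lt (mem_range.mp hi),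
        Nat.mod_eq_of_lt (mem_range.mp hi), if_pos (add_zero i)]
      congr 2; ring
    · intro j hj hne
      rw [Nat.mul_add_div h4, Nat.mul_add_mod, Nat.div_eq_of_lt (mem_range.mp hj),
        Nat.mod_eq_of_lt (mem_range.mp hj), if_neg (by omega), zero_mul]
  rw [ent_eq, e, bf_pk h2 _ (idx_lt hi hj), Nat.mul_add_div h4, Nat.mul_add_mod,
    Nat.div_eq_of_lt hj, Nat.mod_eq_of_lt hj, add_zero]
  intro t _
  have := Nat.one_lt_two_pow h2.ne'
  split_ifs <;> omega

/-- the matrix with the code `x` -/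
def dec (A : PA) (R : Type*) [CommRing R] (x : ℕ) : Matrix (Fin A.d) (Fin A.d) R :=
  Matrix.of fun i j => (A.ent x i j : R)

section
variable {R : Type*} [CommRing R]

theorem dec_one (h : A.sq = true) : A.dec R A.one = 1 := by
  ext i j
  rw [dec, Matrix.of_apply, ent_one h i.2 j.2, Matrix.one_apply]
  simp [Fin.ext_iff]

theorem can_one (h : A.sq = true) : A.Can A.d A.one := fun i hi j hj => by
  have := (ok' (sq' h).1).1
  rw [ent_one h hi hj]
  split_ifs <;> omega

theorem cast_mod (hp : (A.p : R) = 0) (x : ℕ) : ((x % A.p : ℕ) : R) = x := by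
  conv_rhs => rw [← Nat.div_add_mod x A.p]
  push_cast
  rw [hp, zero_mul, zero_add]

theorem mul_spec (h : A.sq = true) (hp : (A.p : R) = 0) {x y : ℕ} (hx : A.Can A.d x)
    (hy : A.Can A.d y) : A.Can A.d (A.mul x y) ∧ A.dec R (A.mul x y) = A.dec R x * A.dec R y := by
  obtain ⟨h0, h1, -⟩ := sq' h
  unfold mul
  rw [brec_eq, brec_eq]
  split_ifs with e1 e2
  · rw [Nat.beq_eq.mp e1, dec_one h, one_mul]; exact ⟨hy, rfl⟩
  · rw [Nat.beq_eq.mp e2, dec_one h, mul_one]; exact ⟨hx, rfl⟩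
  · have hx' : A.Can A.m x := by rw [h1]; exact hx
    refine ⟨by have := Can.mul0 h0 hx' hy; rwa [h1] at this, ?_⟩
    ext i j
    rw [Matrix.mul_apply, dec, Matrix.of_apply, mul0_spec h0 hx' hy (by rw [h1]; exact i.2) j.2,
      cast_mod hp, ← Fin.sum_univ_eq_sum_range (fun k => A.ent x i k * A.ent y k j)]
    simp [dec]

theorem can_sq (h : A.sq = true) {x : ℕ} (hx : A.can x = true) : A.Can A.d x :=
  by have := can_sound (sq' h).1 hx; rwa [(sq' h).2.1] at this

end

end PA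

end Cfsg.Agent.Spor
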