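import Cfsg.Agent.Spor.PM
import Cfsg.Agent.Spor.Cert

set_option autoImplicit false

namespace Cfsg.Agent.Spor

/-- a faithful representation by matrices of the size of the packed arithmetic -/
structure MRep (A : PA) (R : Type) [CommRing R] (Γ : Type) [Group Γ] where
  ρ : Γ →* Matrix (Fin A.d) (Fin A.d) R
  inj : Function.Injective ρ
  sq : A.sq = true
  hp : (A.p : R) = 0

namespace MRep

variable {A : PA} {R : Type} [CommRing R] {Γ : Type} [Group Γ] (X : MRep A R Γ)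

/-- the code of an element of the group -/
def M (x : ℕ) : Prop := A.Can A.d x ∧ ∃ g, X.ρ g = A.dec R x

open Classical in
/-- the element with a given code -/
noncomputable def el (x : ℕ) : Γ := if h : ∃ g, X.ρ g = A.dec R x then h.choose else 1

variable {X}

theorem el_eq {x : ℕ} {g : Γ} (h : X.ρ g = A.dec R x) : X.el x = g := by
  have h1 : ∃ g, X.ρ g = A.dec R x := ⟨g, h⟩
  rw [el, dif_pos h1]
  exact X.inj (h1.choose_spec.trans h.symm)

theorem M.ρ_el {x : ℕ} (h : X.M x) : X.ρ (X.el x) = A.dec R x := by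
  obtain ⟨-, g, hg⟩ := h
  rw [el_eq hg, hg]

variable (X) in
theorem M_one : X.M A.one := ⟨PA.can_one X.sq, 1, by rw [map_one, PA.dec_one X.sq]⟩

variable (X) in
theorem el_one : X.el A.one = 1 := el_eq (by rw [map_one, PA.dec_one X.sq])

theorem M.mul {x y : ℕ} (hx : X.M x) (hy : X.M y) : X.M (A.mul x y) :=
  ⟨(PA.mul_spec X.sq X.hp hx.1 hy.1).1, X.el x * X.el y, by
    rw [(PA.mul_spec X.sq X.hp hx.1 hy.1).2, map_mul, hx.ρ_el, hy.ρ_el]⟩

theorem M.el_mul {x y : ℕ} (hx : X.M x) (hy : X.M y) : X.el (A.mul x y) = X.el x * X.el y :=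
  el_eq (by rw [(PA.mul_spec X.sq X.hp hx.1 hy.1).2, map_mul, hx.ρ_el, hy.ρ_el])

theorem M.divL {x y : ℕ} (hx : X.M x) (hy : A.Can A.d y) (hz : X.M (A.mul x y)) : X.M y :=
  ⟨hy, (X.el x)⁻¹ * X.el (A.mul x y), by
    rw [map_mul, hz.ρ_el, (PA.mul_spec X.sq X.hp hx.1 hy).2, ← hx.ρ_el, ← mul_assoc, ← map_mul,
      inv_mul_cancel, map_one, one_mul]⟩

theorem M.divR {x y : ℕ} (hx : A.Can A.d x) (hy : X.M y) (hz : X.M (A.mul x y)) : X.M x :=
  ⟨hx, X.el (A.mul x y) * (X.el y)⁻¹, by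
    rw [map_mul, hz.ρ_el, (PA.mul_spec X.sq X.hp hx hy.1).2, ← hy.ρ_el, mul_assoc, ← map_mul,
      mul_inv_cancel, map_one, mul_one]⟩

theorem can_mul (X : MRep A R Γ) {x y : ℕ} (hx : A.Can A.d x) (hy : A.Can A.d y) : A.Can A.d (A.mul x y) :=
  (PA.mul_spec X.sq X.hp hx hy).1

variable (X) in
/-- the tables describe the atoms -/
def Gens (TT : List ℕ) (a : ℕ → Γ) : Prop := ∀ y, X.M (nth A.one TT y) ∧ X.el (nth A.one TT y) = a y

theorem Gens.evw {TT : List ℕ} {a : ℕ → Γ} (h : X.Gens TT a) (w : List ℕ) {x : ℕ} (hx : X.M x) :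
    X.M (A.evw TT w x) ∧ X.el (A.evw TT w x) = X.el x * ev a w := by
  induction w generalizing x with
  | nil => exact ⟨hx, (mul_one _).symm⟩
  | cons z w ih =>
    obtain ⟨h1, h2⟩ := ih (hx.mul (h z).1)
    refine ⟨h1, h2.trans ?_⟩
    rw [hx.el_mul (h z).1, (h z).2, ev_cons, mul_assoc]

theorem Gens.ev1 {TT : List ℕ} {a : ℕ → Γ} (h : X.Gens TT a) (w : List ℕ) :
    X.M (A.evw TT w A.one) ∧ X.el (A.evw TT w A.one) = ev a w := by
  have := h.evw w X.M_one
  rwa [el_one, one_mul] at this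

theorem Gens.of {TT : List ℕ} {n : ℕ} (h : A.gensOk TT n = true) {g : ℕ → Γ}
    (hg : ∀ j < n, X.ρ (g j) = A.dec R (nth A.one TT (2 * j))) : X.Gens TT (atm n g) := by
  simp only [PA.gensOk, band_eq, Bool.and_eq_true, Nat.beq_eq, lall_iff, allN_iff, llen_eq] at h
  obtain ⟨h1, h2, h3⟩ := h
  have h1' : TT.length = 2 * n := h1
  have hc : ∀ y < 2 * n, A.Can A.d (nth A.one TT y) := fun y hy => by
    rw [nth_eq, List.getD_eq_getElem _ _ (h1' ▸ hy)]
    exact PA.can_sq X.sq (h2 _ (List.getElem_mem _))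
  intro y
  rw [atm_def]
  split_ifs with e1 e2
  · obtain ⟨j, rfl⟩ : ∃ j, y = 2 * j := ⟨y / 2, by omega⟩
    rw [show 2 * j / 2 = j by omega] at e1 ⊢
    exact ⟨⟨hc _ (by omega), _, hg j e1⟩, el_eq (hg j e1)⟩
  · obtain ⟨j, rfl⟩ : ∃ j, y = 2 * j + 1 := ⟨y / 2, by omega⟩
    rw [show (2 * j + 1) / 2 = j by omega] at e1 ⊢
    have m1 : X.M (nth A.one TT (2 * j)) := ⟨hc _ (by omega), _, hg j e1⟩
    have h4 : A.mul (nth A.one TT (2 * j)) (nth A.one TT (2 * j + 1)) = A.one := h3 j e1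
    have m2 : X.M (nth A.one TT (2 * j + 1)) := m1.divL (hc _ (by omega)) (h4.symm ▸ X.M_one)
    refine ⟨m2, eq_inv_of_mul_eq_one_right ?_⟩
    rw [← el_eq (hg j e1), ← m1.el_mul m2, h4, el_one]
  · rw [nth_eq, List.getD_eq_default _ _ (by omega)]
    exact ⟨X.M_one, X.el_one⟩

/-- the general linear group -/
def gl (A : PA) (R : Type) [CommRing R] (sq : A.sq = true) (hp : (A.p : R) = 0) :
    MRep A R (GL (Fin A.d) R) :=
  ⟨Units.coeHom _, Units.val_injective, sq, hp⟩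

/-- the generators with the given tables -/
noncomputable def gen (X : MRep A R Γ) (TT : List ℕ) (j : ℕ) : Γ := X.el (nth A.one TT (2 * j))

theorem gl_M {sq : A.sq = true} {hp : (A.p : R) = 0} {x y : ℕ} (hx : A.Can A.d x) (hy : A.Can A.d y)
    (h : A.mul x y = A.one) : (gl A R sq hp).M x := by
  have e := (PA.mul_spec (R := R) sq hp hx hy).2
  rw [h, PA.dec_one sq] at e
  exact ⟨hx, ⟨_, _, e.symm, mul_eq_one_comm.mp e.symm⟩, rfl⟩

theorem gl_gens {sq : A.sq = true} {hp : (A.p : R) = 0} {TT : List ℕ} {n : ℕ}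
    (h : A.gensOk TT n = true) : (gl A R sq hp).Gens TT (atm n ((gl A R sq hp).gen TT)) := by
  refine Gens.of h fun j hj => M.ρ_el ?_
  simp only [PA.gensOk, band_eq, Bool.and_eq_true, Nat.beq_eq, lall_iff, allN_iff, llen_eq] at h
  obtain ⟨h1, h2, h3⟩ := h
  have h1' : TT.length = 2 * n := h1
  have hc : ∀ y < 2 * n, A.Can A.d (nth A.one TT y) := fun y hy => by
    rw [nth_eq, List.getD_eq_getElem _ _ (h1' ▸ hy)]
    exact PA.can_sq sq (h2 _ (List.getElem_mem _))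
  exact gl_M (hc _ (by omega)) (hc (2 * j + 1) (by omega)) (h3 j hj)

/-- restriction along an injective homomorphism -/
def comp (X : MRep A R Γ) {Δ : Type} [Group Δ] (φ : Δ →* Γ) (h : Function.Injective φ) :
    MRep A R Δ := ⟨X.ρ.comp φ, X.inj.comp h, X.sq, X.hp⟩

theorem Gens.comp {TT : List ℕ} {n : ℕ} {g : ℕ → Γ} (h : X.Gens TT (atm n g)) {Δ : Type} [Group Δ]
    {φ : Δ →* Γ} (hi : Function.Injective φ) {f : ℕ → Δ} (hf : ∀ j < n, φ (f j) = g j) :
    (X.comp φ hi).Gens TT (atm n f) := fun y => by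
  have e : (X.comp φ hi).ρ (atm n f y) = A.dec R (nth A.one TT y) := by
    show X.ρ (φ _) = _
    rw [atm_map, atm_congr hf, ← (h y).2, (h y).1.ρ_el]
  exact ⟨⟨(h y).1.1, _, e⟩, el_eq e⟩

theorem Gens.eq_one {TT : List ℕ} {a : ℕ → Γ} (h : X.Gens TT a) {w : List ℕ}
    (hc : Nat.beq (A.evw TT w A.one) A.one = true) : ev a w = 1 := by
  rw [← (h.ev1 w).2, Nat.beq_eq.mp hc, el_one]

theorem Gens.eq_ev {TT : List ℕ} {a : ℕ → Γ} (h : X.Gens TT a) {w u : List ℕ}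
    (hc : Nat.beq (A.evw TT w A.one) (A.evw TT u A.one) = true) : ev a w = ev a u := by
  rw [← (h.ev1 w).2, Nat.beq_eq.mp hc, (h.ev1 u).2]

/-- squares of the first generators and the relators -/
def sqL (k : ℕ) (RL : List (List ℕ)) : List (List ℕ) :=
  ((List.range k).map fun j => [2 * j, 2 * j]) ++ RL

theorem pres_of_sqL {n k : ℕ} {RL : List (List ℕ)} {g : ℕ → Γ}
    (h : ∀ l ∈ sqL k RL, ev (atm n g) l = 1) : Pres n k RL g :=
  ⟨fun j h1 h2 => by
    have := h _ (List.mem_append_left _ (List.mem_map.mpr ⟨j, List.mem_range.mpr h1, rfl⟩))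
    rwa [ev_cons, ev_cons, ev_nil, mul_one, atm_two_mul g h2] at this,
   fun l hl => h l (List.mem_append_right _ hl)⟩

theorem Gens.pres {TT : List ℕ} {n k : ℕ} {RL : List (List ℕ)} {g : ℕ → Γ} (h : X.Gens TT (atm n g))
    (hc : AllP (fun w => Nat.beq (A.evw TT w A.one) A.one = true) (sqL k RL)) : Pres n k RL g :=
  pres_of_sqL fun l hl => h.eq_one (hc.forall l hl)

/-- different entries -/
theorem M.ne {x y : ℕ} (hx : X.M x) (hy : X.M y) [CharP R A.p] {i j : ℕ}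
    (h : band (Nat.blt i A.d) (band (Nat.blt j A.d) (!Nat.beq (A.ent x i j) (A.ent y i j))) = true) :
    X.el x ≠ X.el y := fun e => by
  simp only [band_eq, Bool.and_eq_true, Nat.blt_eq, Bool.not_eq_true'] at h
  obtain ⟨h1, h2, h3⟩ := h
  have e2 := congrFun (congrFun (hx.ρ_el.symm.trans (e ▸ hy.ρ_el)) ⟨i, h1⟩) ⟨j, h2⟩
  exact Nat.ne_of_beq_eq_false h3 (CharP.natCast_injOn_Iio R A.p (hx.1 i h1 j h2) (hy.1 i h1 j h2) e2)

end MRep

end Cfsg.Agent.Spor
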