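import Cfsg.Agent.Spor.PX4
import Cfsg.Agent.Spor.MatChev

set_option autoImplicit false

namespace Cfsg.Agent.Spor

open Cfsg.Lie

section
variable {A : PA} {F : Type} [Field F] {ι : Type} [Fintype ι] [DecidableEq ι]

/-- a matrix group, after renumbering rows and columns -/
noncomputable def subRep (K : Subgroup (GL ι F)) (e : ι ≃ Fin A.d) (sq : A.sq = true)
    (hp : (A.p : F) = 0) : MRep A F K :=
  ⟨(Matrix.reindexAlgEquiv F F e).toMulEquiv.toMonoidHom.comp ((Units.coeHom _).comp K.subtype),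
    (Matrix.reindexAlgEquiv F F e).injective.comp (Units.val_injective.comp Subtype.val_injective),
    sq, hp⟩

theorem subRep_M {K : Subgroup (GL ι F)} {e : ι ≃ Fin A.d} {sq : A.sq = true} {hp : (A.p : F) = 0}
    {x y : ℕ} (h : band (A.can x) (band (A.can y) (Nat.beq (A.mul x y) A.one)) = true)
    (hK : ∀ g : GL ι F, (∀ i j, g.1 i j = (A.ent x (e i) (e j) : F)) → g ∈ K) :
    (subRep K e sq hp).M x := by
  simp only [band_eq, Bool.and_eq_true, Nat.beq_eq] at h
  obtain ⟨h1, u, hu⟩ := MRep.gl_M (R := F) (sq := sq) (hp := hp) (PA.can_sq sq h.1)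
    (PA.can_sq sq h.2.1) h.2.2
  refine ⟨h1, ⟨Units.map (Matrix.reindexAlgEquiv F F e).symm.toMulEquiv.toMonoidHom u,
    hK _ fun i j => congrFun (congrFun hu (e i)) (e j)⟩, ?_⟩
  exact ((Matrix.reindexAlgEquiv F F e).apply_symm_apply _).trans hu

theorem cast_eq_of_mod (hp : (A.p : F) = 0) {x : ℕ} {y : ℤ} (h : (x : ℤ) % A.p = y % A.p) :
    (x : F) = y := by
  obtain ⟨c, hc⟩ := Int.ModEq.dvd h
  have h2 := congrArg (Int.cast (R := F)) hc
  push_cast at h2
  rw [hp, zero_mul] at h2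
  exact (sub_eq_zero.mp h2).symm

theorem chev_M (D : ChevalleyDatum) {e : D.Idx ≃ Fin A.d} {sq : A.sq = true} {hp : (A.p : F) = 0}
    {x y : ℕ} (h : band (A.can x) (band (A.can y) (Nat.beq (A.mul x y) A.one)) = true)
    (r : Fin D.nroots)
    (he : ∀ i j, (A.ent x (e i) (e j) : ℤ) % A.p = ((xl D r i j).map fun km => km.2).sum % A.p) :
    (subRep (D.group F) e sq hp).M x :=
  subRep_M h fun g hg => Subgroup.subset_closure ⟨r, 1, by
    ext i j
    rw [hg, cast_eq_of_mod hp (he i j), xMat_xl, Int.cast_list_sum, List.map_map]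
    simp [Function.comp_def]⟩

end

end Cfsg.Agent.Spor
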