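import Cfsg.Agent.Spor.PX7
import Cfsg.Agent.Gol.Simp

set_option autoImplicit false

namespace Cfsg.Agent.Spor

section
variable {A : PA} {R : Type} [CommRing R] [Nontrivial R] {Γ Ω : Type} [Group Γ] [MulAction Γ Ω]
  [FaithfulSMul Γ Ω] [DecidableEq Ω]

/-- permutation matrices -/
def actRep (R : Type) [CommRing R] [Nontrivial R] (Γ : Type) [Group Γ] [MulAction Γ Ω]
    [FaithfulSMul Γ Ω] (e : Fin A.d ≃ Ω) (sq : A.sq = true) (hp : (A.p : R) = 0) : MRep A R Γ where
  ρ :=
    { toFun := fun g => Matrix.of fun i j => if g • e j = e i then 1 else 0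
      map_one' := by
        ext i j
        simp [Matrix.one_apply, eq_comm]
      map_mul' := fun g h => by
        ext i j
        rw [Matrix.mul_apply, Finset.sum_eq_single (e.symm (h • e j))]
        · simp [mul_smul]
        · intro k _ hk
          rw [Matrix.of_apply, Matrix.of_apply, if_neg (fun h1 : h • e j = e k => hk (by simp [h1])),
            mul_zero]
        · simp }
  inj := fun g h e1 => eq_of_smul_eq_smul fun p : Ω => by
    have := congrFun (congrFun e1 (e.symm (g • p))) (e.symm p)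
    simp only [MonoidHom.coe_mk, OneHom.coe_mk, Matrix.of_apply, Equiv.apply_symm_apply,
      if_true] at this
    by_contra h1
    rw [if_neg (Ne.symm h1)] at this
    exact one_ne_zero this
  sq := sq
  hp := hp

end

open Cfsg.Agent.Gol

def golE : Fin 24 ≃ GolayPt :=
  ⟨fun i => pt i, fun p => ⟨idx p, idx_lt p⟩, fun i => Fin.ext (idx_pt i.2), pt_idx⟩

theorem gol_ρ {A : PA} {e : A.d = 24} {sq : A.sq = true} {hp : ((A.p : ℕ) : ZMod 2) = 0} {c x : ℕ}
    (h : band (inM c) (allN (fun i => allN (fun j =>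
      Nat.beq (A.ent x i j) (if ap c j = i then 1 else 0)) 24) 24) = true) :
    (actRep (ZMod 2) M24 ((finCongr e).trans golE) sq hp).ρ (pm c) = A.dec (ZMod 2) x := by
  simp only [band_eq, Bool.and_eq_true, allN_iff, Nat.beq_eq] at h
  ext i j
  have hi : i.1 < 24 := e ▸ i.2
  have hj : j.1 < 24 := e ▸ j.2
  show (if pm c • pt j = pt i then 1 else 0) = ((A.ent x i j : ℕ) : ZMod 2)
  rw [h.2 i hi j hj, pm_pt h.1 hj]
  by_cases h1 : ap c j = i
  · rw [if_pos h1, if_pos (congrArg _ h1), Nat.cast_one]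
  · rw [if_neg h1, if_neg fun h2 => h1 (pt_inj (okP_lt (inM_ok h.1) hj) hi h2), Nat.cast_zero]

end Cfsg.Agent.Spor
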