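import Cfsg.Agent.Spor.Orb

set_option autoImplicit false

namespace Cfsg.Agent.Spor

open Equiv

section
variable {G : Type*} [Group G]

/-- Iwasawa's argument -/
theorem iwasawa {H : Subgroup G} (hH : IsCoatom H) (hcore : H.normalCore = ⊥) {A : Subgroup G}
    (hn : ∀ h ∈ H, ∀ a ∈ A, h * a * h⁻¹ ∈ A) (hcomm : ∀ a ∈ A, ∀ b ∈ A, a * b = b * a)
    (hgen : Subgroup.normalClosure (A : Set G) = ⊤) (M : Subgroup G) [hM : M.Normal] :
    M = ⊥ ∨ commutator G ≤ M := by
  by_cases h1 : M ≤ H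
  · left
    rw [eq_bot_iff, ← hcore]
    exact Subgroup.normal_le_normalCore.mpr h1
  right
  have h2 : M ⊔ H = ⊤ := hH.2 _ (right_lt_sup.mpr h1)
  set π := QuotientGroup.mk' M with hπ
  have h3 : ∀ g : G, ∃ h ∈ H, π g = π h := fun g => by
    have : g ∈ M ⊔ H := h2 ▸ Subgroup.mem_top g
    rw [← SetLike.mem_coe, Subgroup.normal_mul] at this
    obtain ⟨m, hm, h, hh, rfl⟩ := this
    refine ⟨h, hh, ?_⟩
    rw [map_mul, (QuotientGroup.eq_one_iff m).mpr hm |> fun e => (show π m = 1 from e), one_mul]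
  have h4 : (A.map π).Normal := ⟨by
    rintro _ ⟨a, ha, rfl⟩ q
    obtain ⟨g, rfl⟩ := QuotientGroup.mk'_surjective M q
    obtain ⟨h, hh, e⟩ := h3 g
    exact ⟨_, hn h hh a ha, by rw [map_mul, map_mul, map_inv, ← e]⟩⟩
  have h5 : ∀ g : G, π g ∈ A.map π := fun g => by
    have : Subgroup.normalClosure (A : Set G) ≤ (A.map π).comap π :=
      Subgroup.normalClosure_le_normal fun a ha => ⟨a, ha, rfl⟩
    exact this (hgen ▸ Subgroup.mem_top g)
  rw [commutator_def, Subgroup.commutator_le]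
  intro x _ y _
  obtain ⟨a, ha, e1⟩ := h5 x
  obtain ⟨b, hb, e2⟩ := h5 y
  rw [← QuotientGroup.eq_one_iff]
  show π _ = 1
  rw [map_commutatorElement, commutatorElement_eq_one_iff_mul_comm, ← e1, ← e2, ← map_mul,
    ← map_mul, hcomm a ha b hb]

theorem iwasawa_simple {H : Subgroup G} (hH : IsCoatom H) (hcore : H.normalCore = ⊥)
    {A : Subgroup G} (hn : ∀ h ∈ H, ∀ a ∈ A, h * a * h⁻¹ ∈ A)
    (hcomm : ∀ a ∈ A, ∀ b ∈ A, a * b = b * a) (hgen : Subgroup.normalClosure (A : Set G) = ⊤)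
    (hp : commutator G = ⊤) : IsSimpleGroup G := by
  have : Nontrivial G := by
    by_contra hc
    rw [not_nontrivial_iff_subsingleton] at hc
    exact hH.1 (Subsingleton.elim _ _)
  exact ⟨fun M hM => (iwasawa hH hcore hn hcomm hgen M).imp id fun h => top_le_iff.mp (hp ▸ h)⟩

/-- the elements normalising `A` by conjugation, for a finite group -/
theorem conj_mem_of_gens {n : ℕ} {g : ℕ → G} {A : Subgroup G} [Finite A]
    (h : ∀ j < n, ∀ a ∈ A, g j * a * (g j)⁻¹ ∈ A) : ∀ x ∈ gsub n g, ∀ a ∈ A, x * a * x⁻¹ ∈ A := by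
  have : gsub n g ≤ Subgroup.normalizer (A : Set G) := gsub_le fun j hj =>
    Subgroup.mem_normalizer_fintype (h j hj)
  intro x hx a ha
  exact (Subgroup.mem_normalizer_iff.mp (this hx) a).mp ha

theorem conj_zpowers {x d : G} (h : x * d * x⁻¹ ∈ Subgroup.zpowers d) :
    ∀ a ∈ Subgroup.zpowers d, x * a * x⁻¹ ∈ Subgroup.zpowers d := by
  rintro _ ⟨k, rfl⟩
  rw [← conj_zpow]
  exact zpow_mem h k

theorem comm_zpowers (d : G) : ∀ a ∈ Subgroup.zpowers d, ∀ b ∈ Subgroup.zpowers d, a * b = b * a := by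
  rintro _ ⟨k, rfl⟩ _ ⟨l, rfl⟩
  exact (Commute.refl d).zpow_zpow k l

theorem comm_of_gens {n : ℕ} {g : ℕ → G} {d : G} (h : ∀ j < n, g j * d = d * g j) :
    ∀ x ∈ gsub n g, x * d = d * x := by
  have : gsub n g ≤ Subgroup.centralizer {d} := gsub_le fun j hj =>
    Subgroup.mem_centralizer_singleton_iff.mpr (h j hj)
  exact fun x hx => Subgroup.mem_centralizer_singleton_iff.mp (this hx)

/-- a normal subgroup containing all generators is everything -/
theorem eq_top_of_gens {n : ℕ} {f : ℕ → G} (ht : gsub n f = ⊤) {M : Subgroup G}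
    (h : ∀ j < n, f j ∈ M) : M = ⊤ := top_le_iff.mp (ht ▸ gsub_le h)

/-- order of a group from an upper bound and a lower bound for a homomorphic image -/
theorem card_eq_of_bounds {Δ : Type*} [Group Δ] (φ : G →* Δ) {M : ℕ} (hM : M ≠ 0)
    (h1 : Nat.card G ∣ M) (h2 : M ∣ Nat.card φ.range) :
    Nat.card G = M ∧ Function.Injective φ := by
  have hfin : Finite G := Nat.finite_of_card_ne_zero (ne_zero_of_dvd_ne_zero hM h1)
  have h3 : Nat.card φ.range ∣ Nat.card G := Subgroup.card_range_dvd φ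
  have h4 : Nat.card G = M := Nat.dvd_antisymm h1 (h2.trans h3)
  refine ⟨h4, ?_⟩
  have : Finite φ.range := Finite.of_surjective _ φ.rangeRestrict_surjective
  have h5 := φ.rangeRestrict_surjective.bijective_of_nat_card_le
    (Nat.le_of_dvd Nat.card_pos (h1.trans h2))
  exact φ.rangeRestrict_injective_iff.mp h5.1

theorem range_eq_gsub {Δ : Type*} [Group Δ] {φ : G →* Δ} {n : ℕ} {f : ℕ → G} {g : ℕ → Δ}
    (h : ∀ j < n, φ (f j) = g j) (ht : gsub n f = ⊤) : φ.range = gsub n g := by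
  rw [MonoidHom.range_eq_map, ← ht, gsub_map' h]

/-- a faithful action on the cosets of a subgroup, as a permutation group on `Fin N` -/
theorem exists_perm_rep {H : Subgroup G} {N : ℕ} [NeZero N] (hN : H.index = N)
    (hcore : H.normalCore = ⊥) :
    ∃ (P : Subgroup (Perm (Fin N))) (e : G ≃* P), MulAction.IsPretransitive P (Fin N) ∧
      H.map e.toMonoidHom = MulAction.stabilizer P (0 : Fin N) := by
  have hfin : Finite (G ⧸ H) := Nat.finite_of_card_ne_zero (by
    show H.index ≠ 0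
    rw [hN]; exact NeZero.ne N)
  let e0 : (G ⧸ H) ≃ Fin N := Finite.equivFinOfCardEq hN
  let e1 : (G ⧸ H) ≃ Fin N := e0.trans (Equiv.swap (e0 ((1 : G) : G ⧸ H)) 0)
  have he : e1 ((1 : G) : G ⧸ H) = 0 := by simp [e1]
  let ψ : G →* Perm (Fin N) := e1.permCongrHom.toMonoidHom.comp (MulAction.toPermHom G (G ⧸ H))
  have hψ : ∀ g x, ψ g (e1 x) = e1 (g • x) := fun g x => by simp [ψ, Equiv.permCongrHom]
  have hinj : Function.Injective ψ := by
    refine e1.permCongrHom.injective.comp ?_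
    rw [← MonoidHom.ker_eq_bot_iff, ← H.normalCore_eq_ker, hcore]
  refine ⟨ψ.range, MonoidHom.ofInjective hinj, ⟨fun x y => ?_⟩, ?_⟩
  · obtain ⟨x, rfl⟩ := e1.surjective x
    obtain ⟨y, rfl⟩ := e1.surjective y
    obtain ⟨g, rfl⟩ := MulAction.exists_smul_eq G x y
    exact ⟨⟨ψ g, g, rfl⟩, hψ g x⟩
  · ext x
    obtain ⟨g, rfl⟩ := (MonoidHom.ofInjective hinj).surjective x
    rw [MulAction.mem_stabilizer_iff]
    have h1 : (MonoidHom.ofInjective hinj g) • (0 : Fin N) = e1 (g : G ⧸ H) := by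
      show ψ g 0 = _
      rw [← he, hψ, MulAction.Quotient.smul_coe, smul_eq_mul, mul_one]
    rw [h1, ← he, e1.apply_eq_iff_eq, eq_comm, QuotientGroup.eq, inv_one, one_mul]
    exact Subgroup.mem_map_iff_mem (MonoidHom.ofInjective hinj).injective

theorem centralizer_eq_of_coatom {H : Subgroup G} (hH : IsCoatom H) {d : G}
    (h1 : ∀ x ∈ H, x * d = d * x) {y : G} (h2 : y * d ≠ d * y) :
    Subgroup.centralizer ({d} : Set G) = H := by
  have h3 : H ≤ Subgroup.centralizer {d} := fun x hx =>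
    Subgroup.mem_centralizer_singleton_iff.mpr (h1 x hx)
  rcases h3.eq_or_lt with h | h
  · exact h.symm
  · have := hH.2 _ h
    exact absurd (Subgroup.mem_centralizer_singleton_iff.mp (this ▸ Subgroup.mem_top y)) h2

theorem card_conjugatesOf (d : G) :
    Nat.card (conjugatesOf d) = (Subgroup.centralizer ({d} : Set G)).index := by
  have e1 : conjugatesOf d = MulAction.orbit (ConjAct G) d := by
    ext x
    rw [ConjAct.mem_orbit_conjAct, conjugatesOf, Set.mem_ofPred_eq, isConj_comm]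
  rw [e1, Nat.card_coe_set_eq, ← MulAction.index_stabilizer,
    ← Subgroup.index_comap_of_surjective _ (f := (ConjAct.toConjAct (G := G)).toMonoidHom)
      (ConjAct.toConjAct (G := G)).surjective]
  congr 1
  ext x
  rw [Subgroup.mem_comap, MulAction.mem_stabilizer_iff, Subgroup.mem_centralizer_singleton_iff]
  show ConjAct.toConjAct x • d = d ↔ _
  rw [ConjAct.toConjAct_smul, mul_inv_eq_iff_eq_mul]

end

end Cfsg.Agent.Spor
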