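import Cfsg.Agent.Spor.Seq

set_option autoImplicit false

namespace Cfsg.Agent.Spor

open Equiv

/-- the permutation attached to a letter -/
noncomputable def Tab.τ (T : Tab) (z : ℕ) : Perm ℕ := (T.sn z).perm

def Tab.Ok (T : Tab) (K : ℕ) : Prop := ∀ n ∈ T.NT, n.Ok K

/-- conjunction over a list -/
def AllP {α : Type} (p : α → Prop) : List α → Prop
  | [] => True
  | a :: l => p a ∧ AllP p l

theorem AllP.forall {α : Type} {p : α → Prop} {l : List α} (h : AllP p l) : ∀ a ∈ l, p a := by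
  induction l with
  | nil => intro a ha; simp at ha
  | cons b l ih =>
    intro a ha
    rcases List.mem_cons.mp ha with rfl | ha
    · exact h.1
    · exact ih h.2 a ha

theorem Tab.ok_of (T : Tab) (K : ℕ) (h : AllP (fun n => Net.okb K n = true) T.NT) : T.Ok K :=
  fun n hn => Net.ok_of_okb (h.forall n hn)

theorem Tab.Ok.sn {T : Tab} {K : ℕ} (h : T.Ok K) (z : ℕ) : (T.sn z).net.Ok K := by
  show (nth Net.nil T.NT (T.let z).ni).Ok K
  rw [nth_eq, List.getD_eq_getElem?_getD]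
  cases e : T.NT[(T.let z).ni]? with
  | none => trivial
  | some n => exact h n (List.mem_of_getElem? e)

theorem Tab.snW_cons (T : Tab) (z : ℕ) (w : List ℕ) : T.snW (z :: w) = T.sn z :: T.snW w := rfl

theorem Tab.evA_snW (T : Tab) (w : List ℕ) : evA SNet.perm (T.snW w) = evA T.τ w := by
  induction w with
  | nil => rfl
  | cons z w ih => rw [T.snW_cons, evA_cons, evA_cons, ih]; rfl

theorem Tab.mem_snW {T : Tab} {w : List ℕ} {s : SNet} (h : s ∈ T.snW w) : ∃ z ∈ w, s = T.sn z := by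
  induction w with
  | nil => exact absurd h (by show s ∉ ([] : List SNet); simp)
  | cons z w ih =>
    rw [T.snW_cons] at h
    rcases List.mem_cons.mp h with rfl | h
    · exact ⟨z, List.mem_cons_self, rfl⟩
    · obtain ⟨y, hy, e⟩ := ih h
      exact ⟨y, List.mem_cons_of_mem _ hy, e⟩

theorem Tab.Ok.snW {T : Tab} {K : ℕ} (h : T.Ok K) (w : List ℕ) : ∀ s ∈ T.snW w, s.net.Ok K := by
  intro s hs
  obtain ⟨z, -, rfl⟩ := Tab.mem_snW hs
  exact h.sn z

theorem Tab.Ok.fix {T : Tab} {K : ℕ} (h : T.Ok K) (z : ℕ) : T.τ z ∈ FixFrom (2 ^ K) :=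
  SNet.perm_fix (h.sn z)

theorem Tab.Ok.rel {T : Tab} {K : ℕ} (h : T.Ok K) {w : List ℕ} {k n : ℕ}
    (hr : T.rel K w k n = true) : PlaneFix K (evA T.τ w) k (k + n) := by
  rw [← T.evA_snW]
  exact relChk_sound (h.snW w) hr

theorem Tab.Ok.one_of {T : Tab} {K : ℕ} (h : T.Ok K) {w : List ℕ}
    (hr : PlaneFix K (evA T.τ w) 0 K) : evA T.τ w = 1 :=
  hr.eq_one (evA_mem _ _ _ fun z _ => h.fix z)

theorem Tab.Ok.one {T : Tab} {K : ℕ} (h : T.Ok K) {w : List ℕ}
    (hr : T.rel K w 0 K = true) : evA T.τ w = 1 :=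
  h.one_of (by simpa using h.rel hr)

theorem Tab.Ok.closed {T : Tab} {K : ℕ} (h : T.Ok K) {O z : ℕ} (hc : T.closed O z = true)
    (c : ℕ) : O.testBit (T.τ z c) = O.testBit c := by
  have := congrArg (fun y => Nat.testBit y c) (Nat.beq_eq.mp hc)
  simp only [SNet.tb_pull (h.sn z)] at this
  exact this

/-! the letters evaluate to the right permutations -/

section
variable {T : Tab} {ni : ℕ} {a : ℕ → Perm ℕ} {EX : List (List ℕ)}

def PZ (T : Tab) (a : ℕ → Perm ℕ) (EX : List (List ℕ)) (z : ℕ) : Prop := letV a EX z = T.τ z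

theorem evA_PZ {w : List ℕ} (h : ∀ z ∈ w, PZ T a EX z) : evA (letV a EX) w = evA T.τ w := by
  induction w with
  | nil => rfl
  | cons z w ih =>
    rw [evA_cons, evA_cons, ih fun y hy => h y (List.mem_cons_of_mem _ hy), h z List.mem_cons_self]

theorem PZ.of_atom {z y : ℕ} (h1 : nth [] EX z = [y]) (h2 : a y = T.τ z) : PZ T a EX z := by
  unfold PZ letV
  rw [h1, ← h2]; simp

theorem PZ.of_def (hi : IvOk ni a) {z : ℕ} {d : List ℕ} (hd : AllP (PZ T a EX) d)
    (h1 : evA T.τ (z :: d) = 1) (h2 : Rule.ok ni EX [] ⟨z :: d, [], 0, false⟩ = true) :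
    PZ T a EX z := by
  have h3 := Rule.sound hi (by simp) h2
  simp only [evA_cons] at h1 h3
  rw [evA_PZ hd.forall] at h3
  exact mul_left_cancel (h3.trans h1.symm)

theorem PZ.of_inv (hi : IvOk ni a) {z z' : ℕ} (hz : PZ T a EX z)
    (h2 : band (Nat.beq (T.let z').ni (T.let z).ni) (band (xor (T.let z').inv (T.let z).inv)
      (Rule.ok ni EX [] ⟨[z', z], [], 0, false⟩)) = true) : PZ T a EX z' := by
  simp only [band_eq, Bool.and_eq_true, Nat.beq_eq] at h2
  refine PZ.of_def hi (d := [z]) ⟨hz, trivial⟩ ?_ h2.2.2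
  simp only [evA_cons, evA_nil, one_mul, Tab.τ, SNet.perm, Tab.sn, h2.1]
  have := h2.2.1
  by_cases h3 : (T.let z').inv = true <;> by_cases h4 : (T.let z).inv = true <;> simp_all

/-- all relators are checked: the `j`-th rule has index `j` and a checked word -/
noncomputable def relAll (ni : ℕ) (EX RL W : List (List ℕ)) (L : List ℕ) (rules : List Rule) : Bool :=
  (List.range RL.length).all fun j =>
    let r := rules.getD j ⟨[], [], 0, false⟩
    r.i == j && r.ok ni EX RL && W.contains r.w && r.w.all L.contains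

theorem relAll_sound (hi : IvOk ni a) {RL W : List (List ℕ)} {L : List ℕ} {rules : List Rule}
    (hL : AllP (PZ T a EX) L) (hW : AllP (fun w => evA T.τ w = 1) W)
    (h : relAll ni EX RL W L rules = true) : ∀ l ∈ RL, ev a l = 1 := by
  intro l hl
  obtain ⟨j, hj, rfl⟩ := List.getElem_of_mem hl
  unfold relAll at h
  rw [List.all_eq_true] at h
  have h1 := h j (List.mem_range.mpr hj)
  simp only [Bool.and_eq_true, beq_iff_eq, List.contains_iff_mem, List.all_eq_true] at h1
  obtain ⟨⟨⟨e1, e2⟩, e3⟩, e4⟩ := h1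
  have := Rule.sound' hi e2 (by
    rw [evA_PZ fun z hz => hL.forall z (e4 z hz)]
    exact hW.forall _ e3)
  rw [e1, nth_eq, List.getD_eq_getElem?_getD, List.getElem?_eq_getElem hj] at this
  exact this

end

/-! coset enumeration certificates -/

def Tab.cl (T : Tab) (z c : ℕ) : Prop := (T.let z).cl.testBit c = true
def Tab.tt (T : Tab) (z c : ℕ) : Prop := (T.let z).tt.testBit c = true
noncomputable def Tab.tm (T : Tab) (z c : ℕ) : ℕ := pv (T.let z).tm c

def Tab.GoodPath (T : Tab) : List ℕ → ℕ → ℕ → Prop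
  | [], _, _ => True
  | y :: w, p, b => T.cl y p ∧ T.tm y p < b ∧ T.GoodPath w (T.τ y p) b

def Tab.TreePath (T : Tab) : List ℕ → ℕ → ℕ → Prop
  | [], p, q => p = q
  | y :: w, p, q => T.tt y (T.τ y p) ∧ T.TreePath w (T.τ y p) q

theorem Tab.Ok.tb_push {T : Tab} {K : ℕ} (h : T.Ok K) (z x i : ℕ) :
    ((T.sn z).push x).testBit (T.τ z i) = x.testBit i := by
  rw [SNet.tb_push (h.sn z)]
  show x.testBit ((T.τ z)⁻¹ (T.τ z i)) = _
  simp

theorem Tab.Ok.pv_push {T : Tab} {K : ℕ} (h : T.Ok K) (z : ℕ) (B : List ℕ) (i : ℕ) :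
    pv (lmap (T.sn z).push B) (T.τ z i) = pv B i := by
  rw [pv_map _ (fun j => (T.τ z)⁻¹ j) B _ fun x => SNet.tb_push (h.sn z) x _]
  simp

theorem Tab.Ok.rotGo {T : Tab} {K : ℕ} (h : T.Ok K) (w B : List ℕ) (M : ℕ)
    (hr : T.rotGo w B M = true) (p : ℕ) (hp : M.testBit p = true) : T.GoodPath w p (pv B p) := by
  induction w generalizing B M p with
  | nil => trivial
  | cons y w ih =>
    have h' : band (sub M (Nat.land (T.let y).cl (ltPl (T.let y).tm B 0)))
      (T.rotGo w (lmap (T.sn y).push B) ((T.sn y).push M)) = true := hr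
    simp only [band_eq, Bool.and_eq_true, sub_iff, tb_land] at h'
    obtain ⟨h1, h2⟩ := h'.1 p hp
    refine ⟨h1, ltPl_zero h2, ?_⟩
    have := ih _ _ h'.2 (T.τ y p) (by rw [h.tb_push]; exact hp)
    rwa [h.pv_push] at this

theorem Tab.Ok.rot {T : Tab} {K : ℕ} (h : T.Ok K) {z : ℕ} {w : List ℕ} {M : ℕ}
    (hr : T.rot z w M = true) (c : ℕ) (hc : M.testBit c = true) :
    T.GoodPath w (T.τ z c) (T.tm z c) := by
  have := h.rotGo _ _ _ hr (T.τ z c) (by rw [h.tb_push]; exact hc)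
  rwa [h.pv_push] at this

theorem Tab.Ok.treePath {T : Tab} {K : ℕ} (h : T.Ok K) (w : List ℕ) (E M : ℕ)
    (hr : T.treePath w E M = true) (p : ℕ) (hp : M.testBit p = true) :
    ∃ q, E.testBit q = true ∧ T.TreePath w p q := by
  induction w generalizing M p with
  | nil =>
    have h' : Nat.beq M E = true := hr
    rw [Nat.beq_eq] at h'
    exact ⟨p, h' ▸ hp, rfl⟩
  | cons y w ih =>
    have h' : band (sub ((T.sn y).push M) (T.let y).tt) (T.treePath w E ((T.sn y).push M)) = true :=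
      hr
    simp only [band_eq, Bool.and_eq_true, sub_iff] at h'
    have hp' : ((T.sn y).push M).testBit (T.τ y p) = true := by rw [h.tb_push]; exact hp
    obtain ⟨q, hq, hq'⟩ := ih _ h'.2 _ hp'
    exact ⟨q, hq, h'.1 _ hp', hq'⟩

theorem tb_shl_one (c q : ℕ) : (Nat.shiftLeft 1 c).testBit q = decide (c = q) := by
  rw [shl_one, Nat.testBit_two_pow]

theorem Tab.Ok.treePath' {T : Tab} {K : ℕ} (h : T.Ok K) {w : List ℕ} {c : ℕ}
    (hr : T.treePath w (Nat.shiftLeft 1 c) 1 = true) : T.TreePath w 0 c := by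
  obtain ⟨q, hq, hq'⟩ := h.treePath _ _ _ hr 0 rfl
  rw [tb_shl_one, decide_eq_true_eq] at hq
  exact hq ▸ hq'

theorem Tab.Ok.treeLt {T : Tab} {K : ℕ} (h : T.Ok K) {z : ℕ} (hr : T.treeLt K z = true) (c : ℕ)
    (hc : T.tt z c) : (T.τ z)⁻¹ c < c := by
  have h1 := ltPl_zero ((sub_iff _ _).mp hr c hc)
  rw [pv_map _ (fun j => (T.τ z)⁻¹ j) _ _ fun x => SNet.tb_push (h.sn z) x _] at h1
  by_cases hK : c < 2 ^ K
  · have h2 : (T.τ z)⁻¹ c < 2 ^ K := FixFrom.lt (inv_mem (h.fix z)) hK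
    rw [pv_idpls h2 K 0 (by simp), pv_idpls hK K 0 (by simp)] at h1
    simpa using h1
  · rw [pv_idpls_ge (not_lt.mp hK) K 0 (by simp)] at h1
    omega

theorem Tab.treeCov_sound (T : Tab) (tgt : ℕ) (L : List ℕ) (acc : ℕ)
    (h : T.treeCov tgt L acc = true) :
    (∀ z ∈ L, ∀ c, T.tt z c → ¬ acc.testBit c = true) ∧
      L.Pairwise (fun z z' => ∀ c, T.tt z c → ¬ T.tt z' c) ∧
      ∀ c, tgt.testBit c = true → acc.testBit c = true ∨ ∃ z ∈ L, T.tt z c := by
  induction L generalizing acc with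
  | nil =>
    refine ⟨by simp, List.Pairwise.nil, fun c hc => Or.inl ?_⟩
    exact (sub_iff _ _).mp h c hc
  | cons z L ih =>
    have h' : band (Nat.beq (Nat.land acc (T.let z).tt) 0)
      (T.treeCov tgt L (Nat.lor acc (T.let z).tt)) = true := h
    simp only [band_eq, Bool.and_eq_true, Nat.beq_eq] at h'
    obtain ⟨h1, h2, h3⟩ := ih _ h'.2
    simp only [tb_lor, Bool.or_eq_true, not_or] at h1 h3
    refine ⟨fun y hy c hc => ?_, List.Pairwise.cons (fun y hy c hc hc' => (h1 y hy c hc').2 hc) h2,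
      fun c hc => ?_⟩
    · rcases List.mem_cons.mp hy with rfl | hy
      · intro hacc
        have := congrArg (fun y => Nat.testBit y c) h'.1
        simp only [tb_land, hacc, Nat.zero_testBit, Bool.true_and] at this
        exact absurd hc (by unfold Tab.tt; simp [this])
      · exact (h1 y hy c hc).1
    · rcases h3 c hc with (h4 | h4) | ⟨y, hy, h4⟩
      · exact Or.inl h4
      · exact Or.inr ⟨z, List.mem_cons_self, h4⟩
      · exact Or.inr ⟨y, List.mem_cons_of_mem _ hy, h4⟩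

section main
variable {G : Type*} [Group G]

/-- the edge `(z, c)` is justified by a relator cycle of earlier edges, or by a proved
membership in the subgroup -/
def JustAt (H : Subgroup G) (v : ℕ → G) (T : Tab) (L : List ℕ) (z c : ℕ) : Prop :=
  (∃ w, (∀ y ∈ w, y ∈ L) ∧ evA v (z :: w) = 1 ∧ T.GoodPath w (T.τ z c) (T.tm z c)) ∨
  (∃ w1 w2 d, (∀ y ∈ w1, y ∈ L) ∧ (∀ y ∈ w2, y ∈ L) ∧ T.TreePath w1 0 c ∧ T.TreePath w2 0 d ∧
    (evA v w2)⁻¹ * v z * evA v w1 ∈ H)

def Just (H : Subgroup G) (v : ℕ → G) (T : Tab) (L : List ℕ) (z M : ℕ) : Prop :=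
  ∀ c, M.testBit c = true → JustAt H v T L z c

theorem evA_append {α : Type*} (v : α → G) (w u : List α) : evA v (w ++ u) = evA v u * evA v w := by
  induction w with
  | nil => simp
  | cons z w ih => simp [ih, mul_assoc]

variable {H : Subgroup G} {T : Tab} {K : ℕ} {L : List ℕ} {ni : ℕ} {a : ℕ → G}
  {EX RL : List (List ℕ)}

theorem Just.rot (h : T.Ok K) (hi : IvOk ni a) (hR : ∀ r ∈ RL, ev a r = 1) {z M : ℕ}
    {w c : List ℕ} {i : ℕ} {s : Bool} (h1 : T.rot z w M = true)
    (h2 : band (Rule.ok ni EX RL ⟨z :: w, c, i, s⟩) (lall (memL L) w) = true) :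
    Just H (letV a EX) T L z M := by
  simp only [band_eq, Bool.and_eq_true, lall_iff, memL_iff] at h2
  exact fun p hp => Or.inl ⟨w, h2.2, Rule.sound hi hR h2.1, h.rot h1 p hp⟩

theorem Just.epi (h : T.Ok K) (hi : IvOk ni a) {z c d : ℕ} {w1 w2 w2' : List ℕ}
    (h1 : T.treePath w1 (Nat.shiftLeft 1 c) 1 = true)
    (h2 : T.treePath w2 (Nat.shiftLeft 1 d) 1 = true)
    (h3 : evA (letV a EX) (w1 ++ z :: w2') ∈ H)
    (h4 : band (Rule.ok ni EX [] ⟨lapp w2 w2', [], 0, false⟩)
      (band (lall (memL L) w1) (lall (memL L) w2)) = true) :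
    Just H (letV a EX) T L z (Nat.shiftLeft 1 c) := by
  simp only [band_eq, Bool.and_eq_true, lall_iff, memL_iff] at h4
  intro p hp
  rw [tb_shl_one, decide_eq_true_eq] at hp
  subst hp
  refine Or.inr ⟨w1, w2, d, h4.2.1, h4.2.2, h.treePath' h1, h.treePath' h2, ?_⟩
  have h5 := Rule.sound hi (by simp) h4.1
  simp only [lapp_eq, evA_append] at h5
  rw [evA_append, evA_cons, eq_inv_of_mul_eq_one_left h5] at h3
  exact h3

theorem Just.base {v : ℕ → G} {z : ℕ} (hz : v z ∈ H) : Just H v T L z 1 := by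
  intro p hp
  rw [Nat.testBit_one_eq_true_iff_self_eq_zero] at hp
  subst hp
  exact Or.inr ⟨[], [], 0, by simp, by simp, rfl, rfl, by simpa using hz⟩

/-- all claimed edges of the letter `z` are justified -/
def LetOk (H : Subgroup G) (v : ℕ → G) (T : Tab) (L : List ℕ) (z : ℕ) : Prop :=
  (∀ c, T.tt z c → (T.τ z)⁻¹ c < c) ∧ ∀ c, T.cl z c → T.tt z (T.τ z c) ∨ JustAt H v T L z c

theorem LetOk.of (h : T.Ok K) {v : ℕ → G} {z : ℕ} {Ms : List ℕ} (h1 : T.treeLt K z = true)
    (h2 : T.cover z Ms = true) (h3 : AllP (Just H v T L z) Ms) : LetOk H v T L z := by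
  refine ⟨h.treeLt h1, fun c hc => ?_⟩
  have h4 := (sub_iff _ _).mp h2 c hc
  rw [tb_lor, Bool.or_eq_true, SNet.tb_pull (h.sn z)] at h4
  rcases h4 with h4 | h4
  · exact Or.inl h4
  · obtain ⟨M, hM, hc'⟩ := tb_lor_list _ _ h4
    exact Or.inr (h3.forall M hM c hc')

theorem LetOk.of' (h : T.Ok K) {v : ℕ → G} {z : ℕ} {Ms : List ℕ}
    (h1 : Nat.beq (T.let z).tt 0 = true)
    (h2 : T.cover z Ms = true) (h3 : AllP (Just H v T L z) Ms) : LetOk H v T L z := by
  refine ⟨fun c hc => ?_, fun c hc => ?_⟩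
  · unfold Tab.tt at hc
    rw [Nat.beq_eq.mp h1] at hc
    simp at hc
  have h4 := (sub_iff _ _).mp h2 c hc
  rw [tb_lor, Bool.or_eq_true, SNet.tb_pull (h.sn z)] at h4
  rcases h4 with h4 | h4
  · exact Or.inl h4
  · obtain ⟨M, hM, hc'⟩ := tb_lor_list _ _ h4
    exact Or.inr (h3.forall M hM c hc')

/-- the action of `G` on the points below `N` is the action on the cosets of `H` -/
structure CosetAct (H : Subgroup G) (φ : G →* Perm ℕ) (N : ℕ) : Prop where
  stab : ∀ x, φ x 0 = 0 ↔ x ∈ H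
  orb : ∀ c, c < N ↔ ∃ x, φ x 0 = c

noncomputable def treeVal (H : Subgroup G) (v : ℕ → G) (T : Tab) (L : List ℕ) (c : ℕ) : G ⧸ H :=
  Nat.strongRec (motive := fun _ => G ⧸ H)
    (fun c ih => by
      classical
      exact if h : ∃ z, z ∈ L ∧ T.tt z c ∧ (T.τ z)⁻¹ c < c then
        v h.choose • ih _ h.choose_spec.2.2 else ((1 : G) : G ⧸ H)) c

open Classical in
theorem treeVal_eq (H : Subgroup G) (v : ℕ → G) (T : Tab) (L : List ℕ) (c : ℕ) :
    treeVal H v T L c = if h : ∃ z, z ∈ L ∧ T.tt z c ∧ (T.τ z)⁻¹ c < c then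
      v h.choose • treeVal H v T L ((T.τ h.choose)⁻¹ c) else ((1 : G) : G ⧸ H) := by
  unfold treeVal
  rw [Nat.strongRec_eq]

theorem tc_main (h : T.Ok K) (φ : G →* Perm ℕ) {v : ℕ → G} {N : ℕ}
    (hφ : ∀ z ∈ L, φ (v z) = T.τ z) (hL : AllP (LetOk H v T L) L)
    (hcov : T.treeCov (ones N) L 1 = true) {gens : List ℕ}
    (hg : lall (fun z => band (memL L z) (band (sub (ones N) (T.let z).cl)
      (T.closed (ones N) z))) gens = true)
    (hgen : Subgroup.closure {g | ∃ z ∈ gens, g = v z} = ⊤)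
    (hH : ∀ x ∈ H, φ x 0 = 0) (hN : 0 < N) : CosetAct H φ N := by
  obtain ⟨-, hpw, hcv⟩ := T.treeCov_sound _ _ _ hcov
  have huniq : ∀ z ∈ L, ∀ z' ∈ L, ∀ c, T.tt z c → T.tt z' c → z = z' := by
    intro z hz z' hz' c h1 h2
    by_contra hne
    have : Std.Symm (fun z z' => ∀ c, T.tt z c → ¬ T.tt z' c) := ⟨fun _ _ h c h1 h2 => h c h2 h1⟩
    exact hpw.forall hz hz' hne c h1 h2
  set val := treeVal H v T L with hval
  have hv0 : val 0 = ((1 : G) : G ⧸ H) := by
    rw [hval, treeVal_eq, dif_neg]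
    rintro ⟨z, -, -, hz⟩
    omega
  have htree : ∀ z ∈ L, ∀ p, T.tt z (T.τ z p) → v z • val p = val (T.τ z p) := by
    intro z hz p hp
    have hex : ∃ y, y ∈ L ∧ T.tt y (T.τ z p) ∧ (T.τ y)⁻¹ (T.τ z p) < T.τ z p :=
      ⟨z, hz, hp, (hL.forall z hz).1 _ hp⟩
    have e : hex.choose = z := huniq _ hex.choose_spec.1 _ hz _ hex.choose_spec.2.1 hp
    rw [hval, treeVal_eq H v T L (T.τ z p), dif_pos hex, e]
    simp
  have hev : ∀ w : List ℕ, (∀ y ∈ w, y ∈ L) → φ (evA v w) = evA T.τ w := fun w hw =>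
    evA_map _ _ φ w fun z hz => hφ z (hw z hz)
  have htp : ∀ w : List ℕ, (∀ y ∈ w, y ∈ L) → ∀ p q, T.TreePath w p q →
      val q = evA v w • val p ∧ q = evA T.τ w p := by
    intro w
    induction w with
    | nil => intro _ p q hpq; cases hpq; simp
    | cons y w ih =>
      intro hw p q hpq
      obtain ⟨e1, e2⟩ := ih (fun x hx => hw x (List.mem_cons_of_mem _ hx)) _ _ hpq.2
      refine ⟨?_, e2⟩
      rw [e1, ← htree y (hw y List.mem_cons_self) p hpq.1, evA_cons, mul_smul]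
  have hknown : ∀ t, ∀ z ∈ L, ∀ c, T.tm z c = t → T.cl z c → v z • val c = val (T.τ z c) := by
    intro t
    induction t using Nat.strong_induction_on with
    | _ t ih =>
      intro z hz c ht hc
      rcases (hL.forall z hz).2 c hc with h1 | ⟨w, hw, h1, h2⟩ | ⟨w1, w2, d, hw1, hw2, h1, h2, h3⟩
      · exact htree z hz c h1
      · have key : ∀ w : List ℕ, (∀ y ∈ w, y ∈ L) → ∀ p, T.GoodPath w p t →
            val (evA T.τ w p) = evA v w • val p := by
          intro w
          induction w with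
          | nil => intro _ p _; simp
          | cons y w ih2 =>
            intro hw p hp
            rw [evA_cons, evA_cons, Perm.mul_apply,
              ih2 (fun x hx => hw x (List.mem_cons_of_mem _ hx)) _ hp.2.2, mul_smul,
              ih _ hp.2.1 y (hw y List.mem_cons_self) p rfl hp.1]
        have h3 := key w hw _ (ht ▸ h2)
        have h4 : evA T.τ w (T.τ z c) = c := by
          have := hev (z :: w) (by
            intro y hy
            rcases List.mem_cons.mp hy with rfl | hy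
            · exact hz
            · exact hw y hy)
          rw [h1, map_one, evA_cons] at this
          rw [← Perm.mul_apply, ← this]; rfl
        rw [h4] at h3
        rw [evA_cons] at h1
        rw [h3, smul_smul, mul_eq_one_comm.mp h1, one_smul]
      · obtain ⟨e1, e2⟩ := htp w1 hw1 _ _ h1
        obtain ⟨e3, e4⟩ := htp w2 hw2 _ _ h2
        have h4 := hH _ h3
        rw [map_mul, map_mul, map_inv, hev w1 hw1, hev w2 hw2, hφ z hz, Perm.mul_apply,
          Perm.mul_apply, ← e2, Perm.inv_eq_iff_eq, ← e4] at h4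
        rw [h4, e1, e3, hv0, smul_smul, MulAction.Quotient.smul_coe, MulAction.Quotient.smul_coe,
          smul_eq_mul, smul_eq_mul, mul_one, mul_one, eq_comm, QuotientGroup.eq, ← mul_assoc]
        exact h3
  simp only [lall_iff, band_eq, Bool.and_eq_true, memL_iff, sub_iff, tb_ones,
    decide_eq_true_eq] at hg
  have hall : ∀ x : G, (∀ c, φ x c < N ↔ c < N) ∧ ∀ c < N, x • val c = val (φ x c) := by
    intro x
    have hx : x ∈ Subgroup.closure {g | ∃ z ∈ gens, g = v z} := hgen ▸ Subgroup.mem_top x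
    induction hx using Subgroup.closure_induction with
    | mem g hg' =>
      obtain ⟨z, hz, rfl⟩ := hg'
      obtain ⟨h1, h2, h3⟩ := hg z hz
      rw [hφ z h1]
      refine ⟨fun c => ?_, fun c hc => hknown _ z h1 c rfl (h2 c hc)⟩
      have := h.closed h3 c
      simpa [tb_ones] using this
    | one => simp
    | mul x y _ _ hx hy =>
      refine ⟨fun c => ?_, fun c hc => ?_⟩
      · rw [map_mul, Perm.mul_apply, hx.1, hy.1]
      · rw [map_mul, Perm.mul_apply, mul_smul, hy.2 c hc, hx.2 _ ((hy.1 c).mpr hc)]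
    | inv x _ hx =>
      have e : ∀ c, φ x (φ x⁻¹ c) = c := fun c => by simp
      refine ⟨fun c => ?_, fun c hc => ?_⟩
      · rw [← hx.1, e]
      · have := hx.2 (φ x⁻¹ c) (by rw [← hx.1, e]; exact hc)
        rw [e] at this
        rw [← this, inv_smul_smul]
  refine ⟨fun x => ⟨fun hx => ?_, hH x⟩, fun c => ⟨fun hc => ?_, ?_⟩⟩
  · have := (hall x).2 0 hN
    rw [hx, hv0, MulAction.Quotient.smul_coe, smul_eq_mul, mul_one, QuotientGroup.eq] at this
    simpa using this
  · induction c using Nat.strong_induction_on with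
    | _ c ih =>
      rcases hcv c (by simpa [tb_ones] using hc) with h1 | ⟨z, hz, h1⟩
      · rw [Nat.testBit_one_eq_true_iff_self_eq_zero] at h1
        exact ⟨1, by simp [h1]⟩
      · have h2 := (hL.forall z hz).1 c h1
        obtain ⟨x, hx⟩ := ih _ h2 (h2.trans hc)
        exact ⟨v z * x, by rw [map_mul, Perm.mul_apply, hx, hφ z hz]; simp⟩
  · rintro ⟨x, rfl⟩
    exact ((hall x).1 0).mpr hN

variable {φ : G →* Perm ℕ} {N : ℕ}

/-- the point attached to a coset -/
def CosetAct.pt (h : CosetAct H φ N) : G ⧸ H → ℕ :=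
  Quotient.lift (fun x => φ x 0) fun x y hxy => by
    have h1 : x⁻¹ * y ∈ H := QuotientGroup.leftRel_apply.mp hxy
    have h2 := (h.stab _).mpr h1
    rw [map_mul, map_inv, Perm.mul_apply, Perm.inv_eq_iff_eq] at h2
    exact h2.symm

theorem CosetAct.pt_mk (h : CosetAct H φ N) (x : G) : h.pt (x : G ⧸ H) = φ x 0 := rfl

theorem CosetAct.pt_smul (h : CosetAct H φ N) (g : G) (q : G ⧸ H) :
    h.pt (g • q) = φ g (h.pt q) := by
  induction q using QuotientGroup.induction_on with
  | H x => rw [MulAction.Quotient.smul_coe, h.pt_mk, h.pt_mk, smul_eq_mul, map_mul]; rfl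

theorem CosetAct.pt_inj (h : CosetAct H φ N) : Function.Injective h.pt := by
  intro q q'
  induction q using QuotientGroup.induction_on with
  | H x =>
    induction q' using QuotientGroup.induction_on with
    | H y =>
      intro e
      rw [h.pt_mk, h.pt_mk] at e
      rw [QuotientGroup.eq, ← h.stab, map_mul, map_inv, Perm.mul_apply, ← e]
      simp

theorem CosetAct.range_pt (h : CosetAct H φ N) : Set.range h.pt = Set.Iio N := by
  ext c
  rw [Set.mem_Iio, h.orb]
  constructor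
  · rintro ⟨q, rfl⟩
    induction q using QuotientGroup.induction_on with
    | H x => exact ⟨x, rfl⟩
  · rintro ⟨x, rfl⟩
    exact ⟨x, rfl⟩

theorem CosetAct.index (h : CosetAct H φ N) : H.index = N := by
  rw [Subgroup.index, ← Nat.card_range_of_injective h.pt_inj, h.range_pt]
  simp

theorem CosetAct.orbit_ncard (h : CosetAct H φ N) (A : Subgroup G) (x : G) :
    (MulAction.orbit A (x : G ⧸ H)).ncard = {c | ∃ g ∈ A, φ g (φ x 0) = c}.ncard := by
  rw [← Set.ncard_image_of_injective _ h.pt_inj]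
  congr 1
  ext c
  constructor
  · rintro ⟨_, ⟨g, rfl⟩, rfl⟩
    exact ⟨g, g.2, (h.pt_smul g x).symm⟩
  · rintro ⟨g, hg, rfl⟩
    exact ⟨_, ⟨⟨g, hg⟩, rfl⟩, h.pt_smul g x⟩

end main

end Cfsg.Agent.Spor
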