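import Cfsg.Agent.Spor.TT2

set_option autoImplicit false

namespace Cfsg.Agent.Spor

open Equiv

theorem ev_atm_succ {G : Type*} [Group G] {n : ℕ} (f : ℕ → G) {l : List ℕ}
    (hl : ∀ y ∈ l, y / 2 < n) : ev (atm (n + 1) f) l = ev (atm n f) l := by
  induction l with
  | nil => rfl
  | cons y l ih =>
    have hy := hl y List.mem_cons_self
    rw [ev_cons, ev_cons, ih fun x hx => hl x (List.mem_cons_of_mem _ hx), atm_def, atm_def,
      if_pos hy, if_pos (Nat.lt_succ_of_lt hy)]

theorem gsub_succ {G : Type*} [Group G] (n : ℕ) (f : ℕ → G) :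
    gsub (n + 1) f = gsub n f ⊔ Subgroup.zpowers (f n) := by
  refine le_antisymm (gsub_le fun j hj => ?_) (sup_le (gsub_le fun j hj => ?_) ?_)
  · rcases Nat.lt_succ_iff_lt_or_eq.mp hj with h | rfl
    · exact Subgroup.mem_sup_left (mem_gsub f h)
    · exact Subgroup.mem_sup_right (Subgroup.mem_zpowers _)
  · exact mem_gsub f (Nat.lt_succ_of_lt hj)
  · rw [Subgroup.zpowers_le]; exact mem_gsub f (Nat.lt_succ_self n)

/-- twisting the generators by a central involution -/
theorem pres_twist {G : Type*} [Group G] {n : ℕ} {RL RL' : List (List ℕ)} {f : ℕ → G}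
    (hf : Pres (n + 1) (n + 1) RL' f) {H H' : List Hint}
    (h0 : RL.all (fun l => l.all fun y => decide (y / 2 < n)) = true)
    (h1 : consAll (2 * (n + 1)) RL'
      ((List.range n).map fun j => [2 * j, 2 * n, 2 * j, 2 * n]) H = true)
    (h2 : consAll (2 * (n + 1)) RL'
      (RL.map fun l => l ++ List.replicate (l.length % 2) (2 * n)) H' = true) :
    (∀ j < n, f j * f n = f n * f j) ∧ Pres n n RL fun j => f j * f n := by
  have hz := hf.sq n (Nat.lt_succ_self n) (Nat.lt_succ_self n)
  have hc : ∀ j < n, f j * f n = f n * f j := fun j hj => by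
    have h := consAll_sound hf.ivOk hf.rel h1 _
      (List.mem_map.mpr ⟨j, List.mem_range.mpr hj, rfl⟩)
    simp only [ev_cons, ev_nil, atm_two_mul f (Nat.lt_succ_of_lt hj),
      atm_two_mul f (Nat.lt_succ_self n), mul_one] at h
    have e1 := hf.sq j (Nat.lt_succ_of_lt hj) (Nat.lt_succ_of_lt hj)
    rw [← mul_assoc, mul_eq_one_iff_eq_inv, mul_inv_rev, inv_eq_of_mul_eq_one_right hz,
      inv_eq_of_mul_eq_one_right e1] at h
    exact h
  refine ⟨hc, fun j hj _ => ?_, fun l hl => ?_⟩
  · rw [mul_assoc, ← mul_assoc (f n), ← hc j hj, mul_assoc, hz, mul_one,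
      hf.sq j (Nat.lt_succ_of_lt hj) (Nat.lt_succ_of_lt hj)]
  · have hl' : ∀ y ∈ l, y / 2 < n := fun y hy => by
      simpa using List.all_eq_true.mp (List.all_eq_true.mp h0 l hl) y hy
    have h := consAll_sound hf.ivOk hf.rel h2 _ (List.mem_map.mpr ⟨l, hl, rfl⟩)
    rw [ev_append, ev_atm_succ f hl'] at h
    rw [ev_twist hz hc l hl', ← h]
    congr 1
    simp [ev, atm_two_mul f (Nat.lt_succ_self n)]

theorem Bound.twist {n M : ℕ} {RL RL' : List (List ℕ)} (b : Bound n n RL M) {H H' : List Hint}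
    (h0 : RL.all (fun l => l.all fun y => decide (y / 2 < n)) = true)
    (h1 : consAll (2 * (n + 1)) RL'
      ((List.range n).map fun j => [2 * j, 2 * n, 2 * j, 2 * n]) H = true)
    (h2 : consAll (2 * (n + 1)) RL'
      (RL.map fun l => l ++ List.replicate (l.length % 2) (2 * n)) H' = true) :
    Bound (n + 1) (n + 1) RL' (2 * M) := fun G _ f hf => by
  obtain ⟨hc, hp⟩ := pres_twist hf h0 h1 h2
  have hz := hf.sq n (Nat.lt_succ_self n) (Nat.lt_succ_self n)
  have e : gsub (n + 1) f = gsub n (fun j => f j * f n) ⊔ Subgroup.zpowers (f n) := by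
    rw [gsub_succ]
    refine le_antisymm (sup_le (gsub_le fun j hj => ?_) le_sup_right)
      (sup_le (gsub_le fun j hj => ?_) le_sup_right)
    · have := Subgroup.mul_mem_sup (mem_gsub (fun j => f j * f n) hj) (Subgroup.mem_zpowers (f n))
      rwa [mul_assoc, hz, mul_one] at this
    · exact Subgroup.mul_mem_sup (mem_gsub f hj) (Subgroup.mem_zpowers (f n))
  rw [e]
  refine (card_sup_zpowers_dvd hz (comm_of_gens fun j hj => ?_)).trans
    (Nat.mul_dvd_mul_left 2 (b G _ hp))
  rw [mul_assoc, ← mul_assoc (f n), ← hc j hj, mul_assoc]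

theorem Cert.index_commutator {n k N : ℕ} {RL RL' : List (List ℕ)} {fP : ℕ → Perm ℕ}
    (c : Cert n k RL' [] fP N) {G : Type} [Group G] {f : ℕ → G} (h : Pres n k RL f)
    (ht : gsub n f = ⊤) (hφ : ∃ φ : G →* Perm ℕ, ∀ j < n, φ (f j) = fP j) {gw : List (List ℕ)}
    (hgw : gw = (List.range n).map fun j => [2 * j]) {H H' : List Hint}
    (h1 : consAll (2 * k) (RL ++ commList (2 * k) gw gw) RL' H = true)
    (h2 : consAll (2 * k) RL' (commList (2 * k) gw gw) H' = true) : (commutator G).index = N := by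
  obtain ⟨φ, hφ⟩ := hφ
  have e : gsub n fP ≤ wsub n fP gw := gsub_le fun j hj => by
    have := mem_wsub (n := n) fP (hgw ▸ List.mem_map_of_mem (f := fun j => [2 * j])
      (List.mem_range.mpr hj) : [2 * j] ∈ gw)
    rwa [ev_cons, ev_nil, mul_one, atm_two_mul _ hj] at this
  have hc := comm_of_list c.pres.ivOk (consAll_sound c.pres.ivOk c.pres.rel h2)
  have hker : commutator G ≤ φ.ker := by
    rw [commutator_def, Subgroup.commutator_le]
    intro x _ y _
    have hr := range_eq_gsub hφ ht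
    rw [MonoidHom.mem_ker, map_commutatorElement, commutatorElement_eq_one_iff_mul_comm]
    exact hc _ (e (hr ▸ ⟨x, rfl⟩)) _ (e (hr ▸ ⟨y, rfl⟩))
  have h3 : Pres n k (RL ++ commList (2 * k) gw gw) fun j => QuotientGroup.mk' (commutator G) (f j) :=
    (h.map _).append fun w hw => by
      rw [← ev_atm_map]
      exact (QuotientGroup.eq_one_iff _).mpr (commList_mem h.ivOk _ _ w hw)
  have h4 := (c.act _ _ (h3.cons h1) (QuotientGroup.lift _ φ hker) hφ (by
    rw [← gsub_map, ht, ← MonoidHom.range_eq_map, QuotientGroup.range_mk'])).index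
  rwa [wsub_nil, Subgroup.index_bot] at h4

end Cfsg.Agent.Spor
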