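import Cfsg.Prelude.Def_Spor_Th
import Cfsg.Agent.Spor.ThU.V.Main
import Cfsg.Agent.Spor.ThR.Main
import Cfsg.Agent.Spor.PX11

set_option autoImplicit false
set_option maxRecDepth 100000

namespace Cfsg.Agent.Spor.ThC

open Cfsg.Spor

def gl : List Th.Gen := [.a, .b, .c, .d, .e, .s, .t, .u]
def RL : List (List ℕ) := [[0, 0], [2, 2], [4, 4], [6, 6], [8, 8], [0, 2, 0, 2, 0, 2], [0, 8, 0, 8], [2, 4, 2, 4, 2, 4], [2, 6, 2, 6], [2, 8, 2, 8], [0, 7, 5, 7, 5, 7, 5, 7, 5], [4, 8, 4, 8], [6, 8, 6, 8, 6, 8], [2, 4, 6, 8, 2, 4, 6, 8, 2, 4, 6, 8, 2, 4, 6, 8, 2, 4, 6, 8, 2, 4, 6, 8, 2, 4, 6, 8, 2, 4, 6, 8], [10, 10, 10, 10, 10, 10, 10], [11, 1, 10, 0], [11, 3, 10, 2], [11, 5, 10, 4], [10, 6, 10, 6], [9, 11, 8, 11, 11, 9, 10, 10, 10], [12, 12, 12], [13, 1, 12, 0], [13, 3, 12, 2], [13, 5, 12, 4], [13, 7, 12, 6], [13, 9, 12, 8], [13, 10, 12, 11, 11], [14, 14, 5, 1], [15, 1, 14, 0], [15, 5, 14,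 4], [15, 9, 14, 8], [6, 8, 15, 6, 14, 6, 8, 15, 6, 14], [15, 3, 5, 1, 2, 14, 3, 0, 4, 2, 9], [7, 15, 6, 3, 5, 1, 2, 7, 14, 6, 3, 0, 4, 2, 5, 9, 7, 15, 6, 3, 5, 1, 2, 9, 15], [15, 12, 14, 12], [9, 11, 11, 15, 10, 10, 8, 11, 11, 14, 10, 10], [0, 4, 11, 15, 11, 15, 11, 15], [0, 4, 11, 15, 10, 14, 11, 15, 10, 14, 11, 15, 10, 14, 11, 15, 10, 14], [6, 11, 11, 14, 10, 10, 6, 11, 11, 14, 10, 10, 6, 11, 11, 14, 10, 10, 6, 11, 11, 14, 9, 7, 5, 6, 8, 10, 10, 10, 9, 7, 5, 6, 8, 11, 7, 5, 6, 5, 1]]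
abbrev rels : Set (FreeGroup Th.Gen) := coxRelators Th.edges ∪ {r | r ∈ Th.extra}

theorem coded : Coded rels gl 0 RL :=
  Coded.of_cox (by intro x; cases x <;> decide) (by decide +kernel) (by decide +kernel)
    (by decide +kernel)

section
variable {G : Type} [Group G] {g : ℕ → G} (hg : Pres 8 0 RL g)
include hg

theorem presS : Pres 7 0 ThD.RL g := hg.restrict (H := [([], 0, true), ([], 1, true), ([], 2, true), ([], 3, true), ([], 4, true), ([], 5, true), ([], 6, true), ([], 7, true), ([], 8, true), ([], 9, true), ([], 10, true), ([], 11, true), ([], 12, true), ([], 13, true), ([], 14, true), ([], 15, true), ([], 16, true), ([], 17, true), ([], 18, true), ([], 19, true), ([], 20, true), ([], 21, true), ([], 22, true), ([], 23, true), ([], 24, true), ([], 25, true), ([], 26, true)]) (by decide +kernel)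
theorem bw : ∀ w ∈ ThE.BW, ev (atm 8 g) w = 1 := (hg.cons (RL' := [[0, 0], [2, 2], [4, 4], [6, 6], [8, 8], [0, 2, 0, 2, 0, 2], [0, 8, 0, 8], [2, 4, 2, 4, 2, 4], [2, 6, 2, 6], [2, 8, 2, 8], [0, 7, 5, 7, 5, 7, 5, 7, 5], [4, 8, 4, 8], [6, 8, 6, 8, 6, 8], [2, 4, 6, 8, 2, 4, 6, 8, 2, 4, 6, 8, 2, 4, 6, 8, 2, 4, 6, 8, 2, 4, 6, 8, 2, 4, 6, 8, 2, 4, 6, 8], [10, 10, 10, 10, 10, 10, 10], [11, 1, 10, 0], [11, 3, 10, 2], [11, 5, 10, 4], [10, 6, 10, 6], [9, 11, 8, 11, 11, 9, 10, 10, 10], [12, 12, 12], [13, 1, 12, 0], [13, 3, 12, 2], [13, 5, 12, 4], [13, 7, 12, 6], [13, 9, 12, 8], [13, 10, 12, 11, 11], [14, 14, 5, 1], [15, 1, 14, 0], [15, 5, 14, 4], [15, 9, 14, 8], [6, 8, 15, 6, 14, 6, 8, 15, 6, 14], [15, 3, 5, 1, 2, 14, 3, 0, 4, 2, 9], [7, 15, 6, 3, 5, 1, 2, 7, 14, 6, 3, 0, 4, 2, 5, 9, 7, 15, 6, 3, 5, 1, 2, 9, 15], [15, 12, 14, 12], [9, 11, 11, 15, 10, 10, 8, 11, 11, 14, 10, 10], [0, 4, 11,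 15, 11, 15, 11, 15], [0, 4, 11, 15, 10, 14, 11, 15, 10, 14, 11, 15, 10, 14, 11, 15, 10, 14], [6, 11, 11, 14, 10, 10, 6, 11, 11, 14, 10, 10, 6, 11, 11, 14, 10, 10, 6, 11, 11, 14, 9, 7, 5, 6, 8, 10, 10, 10, 9, 7, 5, 6, 8, 11, 7, 5, 6, 5, 1], [13, 15, 13, 14]]) (H := [([], 0, true), ([], 1, true), ([], 2, true), ([], 3, true), ([], 4, true), ([], 5, true), ([], 6, true), ([], 7, true), ([], 8, true), ([], 9, true), ([], 10, true), ([], 11, true), ([], 12, true), ([], 13, true), ([], 14, true), ([], 15, true), ([], 16, true), ([], 17, true), ([], 18, true), ([], 19, true), ([], 20, true), ([], 21, true), ([], 22, true), ([], 23, true), ([], 24, true), ([], 25, true), ([], 26, true), ([], 27, true), ([], 28, true), ([], 29, true), ([], 30, true), ([], 31, true), ([], 32, true), ([], 33, true), ([], 34, true), ([], 35, true), ([], 36, true), ([], 37, true), ([], 38, true), ([], 34,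 false)]) (by decide +kernel)).cons_repl2 (y := 15) (u := [14, 5, 1]) (H := [([], 27, true), ([15, 12], 39, true), ([9, 11, 11], 35, true), ([0, 4, 11], 36, true), ([], 27, true), ([14, 5, 1], 28, true), ([14, 5, 1], 29, true), ([14, 5, 1], 30, true), ([6, 11, 11], 38, true), ([], 40, false), ([], 40, false), ([6, 8], 31, true), ([], 40, false), ([], 40, false), ([], 40, false), ([], 40, false), ([14, 5, 1], 32, true), ([7], 33, true), ([], 40, false), ([0, 4, 11], 37, true)]) (by decide +kernel)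
theorem homψ : ∃ ψ : ThD.P →* G, ∀ j < 7, ψ (ThD.p j) = g j :=
  ThD.bound.exists_hom (by norm_num) ThD.cert.pres (presS hg) ThD.lbP

/-- the data of the double coset enumeration -/
noncomputable def Y : DCtx ThE.D (ZMod 2) ThD.P G := ⟨ThR.X, (homψ hg).choose, g 7⟩

theorem hψ : ∀ j < 7, (Y hg).ψ (ThD.p j) = g j := (homψ hg).choose_spec
theorem hA : (Y hg).At 14 (atm 7 ThD.p) (atm 8 g) := DCtx.At.of ThR.gens (hψ hg) rfl
theorem upto : (Y hg).Upto 6230 := ThE.upto (hA hg) (bw hg)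
theorem range : (Y hg).ψ.range = gsub 7 g := range_eq_gsub (hψ hg) (gsub_lift 7 _)
theorem done : (Y hg).Done 7 ThD.p ThU.V.CL 634023936 143127000 := ThU.V.done (upto hg) ThR.gens
theorem gtop (ht : gsub 8 g = ⊤) : ∀ K : Subgroup G, (Y hg).ψ.range ≤ K → (Y hg).t ∈ K → K = ⊤ :=
  DCtx.gen_top (hψ hg) rfl ht
theorem exact (ht : gsub 8 g = ⊤) (hl : 634023936 * 143127000 ∣ Nat.card G) :
    DExact (Y hg).ψ ((Y hg).xs ThU.V.CL) (DCtx.Ss 7 ThD.p ThU.V.CL) 143127000 :=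
  (done hg).exact (gtop hg ht) hl
theorem coatom (ht : gsub 8 g = ⊤) (hl : 634023936 * 143127000 ∣ Nat.card G) : IsCoatom (Y hg).ψ.range :=
  (done hg).coatom (gtop hg ht) (by rw [(exact hg ht hl).index]; norm_num) (ThU.V.loops (upto hg))

end

end Cfsg.Agent.Spor.ThC
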