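import Cfsg.Agent.Spor.Net
import Cfsg.Prelude.Def_SporCoxeter

set_option autoImplicit false

namespace Cfsg.Agent.Spor

section words
variable {Γ : Type*} [Group Γ]

/-- value of a word of atoms, in product order -/
def ev (a : ℕ → Γ) (l : List ℕ) : Γ := (l.map a).prod

@[simp] theorem ev_nil (a : ℕ → Γ) : ev a [] = 1 := rfl
@[simp] theorem ev_cons (a : ℕ → Γ) (z : ℕ) (l : List ℕ) : ev a (z :: l) = a z * ev a l := by
  simp [ev]
theorem ev_lapp (a : ℕ → Γ) (l m : List ℕ) : ev a (lapp l m) = ev a l * ev a m := by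
  simp [ev, lapp_eq]

theorem ev_map {Δ : Type*} [Group Δ] (φ : Γ →* Δ) (a : ℕ → Γ) (l : List ℕ) :
    φ (ev a l) = ev (fun y => φ (a y)) l := by
  induction l with
  | nil => simp
  | cons z l ih => simp [ih]

theorem ev_mem (a : ℕ → Γ) (K : Subgroup Γ) (l : List ℕ) (h : ∀ y ∈ l, a y ∈ K) : ev a l ∈ K := by
  induction l with
  | nil => exact K.one_mem
  | cons z l ih =>
    rw [ev_cons]
    exact K.mul_mem (h z List.mem_cons_self) (ih fun y hy => h y (List.mem_cons_of_mem _ hy))

def IvOk (ni : ℕ) (a : ℕ → Γ) : Prop := ∀ y, a (ivA ni y) = (a y)⁻¹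

theorem ev_redStep {ni : ℕ} {a : ℕ → Γ} (h : IvOk ni a) (z : ℕ) (st : List ℕ) :
    ev a (redStep ni z st) = a z * ev a st := by
  cases st with
  | nil => show ev a [z] = _; simp
  | cons y t =>
    show ev a (Bool.rec (z :: y :: t) t (Nat.beq y (ivA ni z))) = _
    rw [brec_eq]
    split_ifs with hy
    · rw [Nat.beq_eq] at hy
      rw [hy, ev_cons, h z]; simp
    · simp

theorem ev_red {ni : ℕ} {a : ℕ → Γ} (h : IvOk ni a) (l : List ℕ) : ev a (red ni l) = ev a l := by
  induction l with
  | nil => rfl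
  | cons z l ih =>
    show ev a (redStep ni z (red ni l)) = _
    rw [ev_redStep h, ih, ev_cons]

theorem ev_eq_one_of_red {ni : ℕ} {a : ℕ → Γ} (h : IvOk ni a) {l : List ℕ}
    (hl : isNil (red ni l) = true) : ev a l = 1 := by
  rw [← ev_red h]
  cases hr : red ni l with
  | nil => rfl
  | cons y t => rw [hr] at hl; exact absurd hl (by show ¬ false = true; simp)

theorem ev_invW {ni : ℕ} {a : ℕ → Γ} (h : IvOk ni a) (l acc : List ℕ) :
    ev a (invW ni l acc) = (ev a l)⁻¹ * ev a acc := by
  induction l generalizing acc with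
  | nil => show ev a acc = _; simp
  | cons z l ih =>
    show ev a (invW ni l (ivA ni z :: acc)) = _
    rw [ih, ev_cons, ev_cons, h z, mul_inv_rev, mul_assoc]

/-- value of a letter -/
noncomputable def letV (a : ℕ → Γ) (EX : List (List ℕ)) (z : ℕ) : Γ := ev a (nth [] EX z)

theorem ev_expA (a : ℕ → Γ) (EX : List (List ℕ)) (w acc : List ℕ) :
    ev a (expA EX w acc) = evA (letV a EX) w * ev a acc := by
  induction w generalizing acc with
  | nil => show ev a acc = _; simp
  | cons z w ih =>
    show ev a (expA EX w (lapp (nth [] EX z) acc)) = _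
    rw [ih, ev_lapp, evA_cons, mul_assoc]; rfl

theorem conseq_sound {ni : ℕ} {a : ℕ → Γ} (h : IvOk ni a) {RL : List (List ℕ)} {l c : List ℕ}
    {i : ℕ} {s : Bool} (hc : conseq ni RL l c i s = true) :
    ev a l = 1 ↔ ev a (nth [] RL i) = 1 := by
  have h1 := ev_eq_one_of_red h hc
  rw [ev_lapp, ev_lapp, ev_invW h] at h1
  cases s
  · have h2 : ev a c * (ev a l * ((ev a c)⁻¹ * ev a (nth [] RL i))) = 1 := h1
    constructor
    · intro h3; simpa [h3] using h2
    · intro h3
      rw [h3, mul_one, ← mul_assoc, mul_inv_eq_one] at h2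
      simpa using h2
  · have h2 : ev a c * (ev a l * ((ev a c)⁻¹ * ev a (invW ni (nth [] RL i) []))) = 1 := h1
    rw [ev_invW h] at h2
    constructor
    · intro h3; simpa [h3] using h2
    · intro h3
      rw [h3, ev_nil, inv_one, mul_one, mul_one, ← mul_assoc, mul_inv_eq_one] at h2
      simpa using h2

theorem ev_nth_eq_one {a : ℕ → Γ} {RL : List (List ℕ)} (hR : ∀ r ∈ RL, ev a r = 1) (i : ℕ) :
    ev a (nth [] RL i) = 1 := by
  rw [nth_eq, List.getD_eq_getElem?_getD]
  cases h : RL[i]? with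
  | none => rfl
  | some r => exact hR r (List.mem_of_getElem? h)

theorem Rule.sound {ni : ℕ} {a : ℕ → Γ} (h : IvOk ni a) {EX RL : List (List ℕ)}
    (hR : ∀ r ∈ RL, ev a r = 1) {r : Rule} (hr : r.ok ni EX RL = true) :
    evA (letV a EX) r.w = 1 := by
  have := (conseq_sound h hr).mpr (ev_nth_eq_one hR _)
  rwa [ev_expA, ev_nil, mul_one] at this

/-- converse use of a rule: the letter word is known to be trivial, so the relator is -/
theorem Rule.sound' {ni : ℕ} {a : ℕ → Γ} (h : IvOk ni a) {EX RL : List (List ℕ)}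
    {r : Rule} (hr : r.ok ni EX RL = true) (hw : evA (letV a EX) r.w = 1) :
    ev a (nth [] RL r.i) = 1 := by
  apply (conseq_sound h hr).mp
  rw [ev_expA, ev_nil, mul_one, hw]

end words

section pres
variable {α : Type} [DecidableEq α] {Γ : Type*} [Group Γ]

/-- atoms: `2 j` is the `j`-th generator, `2 j + 1` its inverse -/
def atom (gl : List α) (f : α → Γ) (y : ℕ) : Γ :=
  match gl[y / 2]? with
  | some x => if y % 2 = 0 then f x else (f x)⁻¹
  | none => 1

omit [DecidableEq α] in
theorem atom_map {Δ : Type*} [Group Δ] (φ : Γ →* Δ) (gl : List α) (f : α → Γ) (y : ℕ) :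
    φ (atom gl f y) = atom gl (fun x => φ (f x)) y := by
  unfold atom
  cases gl[y / 2]? with
  | none => simp
  | some x => dsimp only; split_ifs <;> simp

omit [DecidableEq α] in
theorem atom_ivOk (gl : List α) (f : α → Γ) (k : ℕ)
    (h : ∀ x ∈ gl.take k, f x * f x = 1) : IvOk (2 * k) (atom gl f) := by
  intro y
  unfold ivA
  rw [brec_eq]
  split_ifs with hy
  · have e1 : Nat.xor y 1 / 2 = y / 2 := by
      show (y ^^^ 1) / 2 = y / 2
      rw [Nat.xor_div_two]; simp
    have e2 : Nat.xor y 1 % 2 = 0 ↔ ¬ y % 2 = 0 := by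
      show (y ^^^ 1) % 2 = 0 ↔ _
      rw [Nat.xor_mod_two_eq]; omega
    unfold atom
    rw [e1]
    cases gl[y / 2]? with
    | none => simp
    | some x =>
      dsimp only
      by_cases h0 : y % 2 = 0
      · rw [if_neg (fun hc => e2.mp hc h0), if_pos h0]
      · rw [if_pos (e2.mpr h0), if_neg h0, inv_inv]
  · have hy' : y < 2 * k := by
      by_contra hc
      exact hy (Nat.ble_eq.mpr (not_lt.mp hc))
    unfold atom
    cases hx : gl[y / 2]? with
    | none => simp
    | some x =>
      have hm : x ∈ gl.take k := by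
        apply List.mem_of_getElem? (i := y / 2)
        rw [List.getElem?_take, if_pos (by omega), hx]
      have h1 : (f x)⁻¹ = f x := inv_eq_of_mul_eq_one_right (h x hm)
      dsimp only
      split_ifs <;> simp [h1]

def code (gl : List α) (k : ℕ) (p : α × Bool) : ℕ :=
  if p.2 = true ∨ gl.idxOf p.1 < k then 2 * gl.idxOf p.1 else 2 * gl.idxOf p.1 + 1

theorem atom_code (gl : List α) (f : α → Γ) (k : ℕ) (h : ∀ x ∈ gl.take k, f x * f x = 1)
    (p : α × Bool) (hp : p.1 ∈ gl) :
    atom gl f (code gl k p) = cond p.2 (f p.1) (f p.1)⁻¹ := by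
  obtain ⟨x, b⟩ := p
  have hg : gl[gl.idxOf x]? = some x := List.getElem?_idxOf hp
  unfold code
  by_cases hc : b = true ∨ gl.idxOf x < k
  · rw [if_pos hc]
    unfold atom
    have e : 2 * gl.idxOf x / 2 = gl.idxOf x := by omega
    simp only [e, hg]
    rw [if_pos (by omega)]
    cases b
    · have hk : gl.idxOf x < k := by simpa using hc
      have hm : x ∈ gl.take k := by
        apply List.mem_of_getElem? (i := gl.idxOf x)
        rw [List.getElem?_take, if_pos hk, hg]
      exact (inv_eq_of_mul_eq_one_right (h x hm)).symm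
    · rfl
  · rw [if_neg hc]
    unfold atom
    have e : (2 * gl.idxOf x + 1) / 2 = gl.idxOf x := by omega
    simp only [e, hg]
    rw [if_neg (by omega)]
    cases b
    · rfl
    · simp at hc

def toCodes (gl : List α) (k : ℕ) (r : FreeGroup α) : List ℕ := r.toWord.map (code gl k)

theorem lift_eq_ev (gl : List α) (hgl : ∀ x, x ∈ gl) (f : α → Γ) (k : ℕ)
    (h : ∀ x ∈ gl.take k, f x * f x = 1) (r : FreeGroup α) :
    FreeGroup.lift f r = ev (atom gl f) (toCodes gl k r) := by
  conv_lhs => rw [← FreeGroup.mk_toWord (x := r)]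
  rw [FreeGroup.lift_mk, toCodes, ev, List.map_map]
  congr 1
  apply List.map_congr_left
  intro p _
  exact (atom_code gl f k h p (hgl _)).symm

def coxList (edges : List (α × ℕ × α)) (extra : List (FreeGroup α)) : List (FreeGroup α) :=
  ((Cfsg.Spor.coxNodes edges).flatMap fun x => (Cfsg.Spor.coxNodes edges).map fun y =>
    (FreeGroup.of x * FreeGroup.of y) ^ Cfsg.Spor.coxLabel edges x y) ++ extra

theorem mem_coxList (edges : List (α × ℕ × α)) (extra : List (FreeGroup α)) (r : FreeGroup α) :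
    r ∈ Cfsg.Spor.coxRelators edges ∪ {r | r ∈ extra} ↔ r ∈ coxList edges extra := by
  simp only [coxList, Cfsg.Spor.coxRelators, Set.mem_union, List.mem_append,
    List.mem_flatMap, List.mem_map]
  constructor
  · rintro (⟨x, hx, y, hy, rfl⟩ | h)
    · exact Or.inl ⟨x, hx, y, hy, rfl⟩
    · exact Or.inr h
  · rintro (⟨x, hx, y, hy, rfl⟩ | h)
    · exact Or.inl ⟨x, hx, y, hy, rfl⟩
    · exact Or.inr h

/-- a presentation together with its coding by numbers -/
structure Coded (rels : Set (FreeGroup α)) (gl : List α) (k : ℕ) (RL : List (List ℕ)) : Prop where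
  all : ∀ x, x ∈ gl
  inv : ∀ x ∈ gl.take k, FreeGroup.of x * FreeGroup.of x ∈ rels
  code : ∀ l, l ∈ RL ↔ ∃ r ∈ rels, toCodes gl k r = l

theorem Coded.of_cox {edges : List (α × ℕ × α)} {extra : List (FreeGroup α)} {gl : List α} {k : ℕ}
    {RL : List (List ℕ)} (h1 : ∀ x, x ∈ gl)
    (h2 : ∀ x ∈ gl.take k, FreeGroup.of x * FreeGroup.of x ∈ coxList edges extra)
    (h3 : ∀ r ∈ coxList edges extra, toCodes gl k r ∈ RL)
    (h4 : ∀ l ∈ RL, l ∈ (coxList edges extra).map (toCodes gl k)) :
    Coded (Cfsg.Spor.coxRelators edges ∪ {r | r ∈ extra}) gl k RL where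
  all := h1
  inv := fun x hx => (mem_coxList _ _ _).mpr (h2 x hx)
  code := fun l => by
    constructor
    · intro hl
      obtain ⟨r, hr, rfl⟩ := List.mem_map.mp (h4 l hl)
      exact ⟨r, (mem_coxList _ _ _).mpr hr, rfl⟩
    · rintro ⟨r, hr, rfl⟩
      exact h3 r ((mem_coxList _ _ _).mp hr)

variable {rels : Set (FreeGroup α)} {gl : List α} {k : ℕ} {RL : List (List ℕ)}

/-- the atoms of the presented group -/
def patom (rels : Set (FreeGroup α)) (gl : List α) : ℕ → PresentedGroup rels :=
  atom gl PresentedGroup.of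

theorem Coded.sq (h : Coded rels gl k RL) :
    ∀ x ∈ gl.take k, (PresentedGroup.of x * PresentedGroup.of x : PresentedGroup rels) = 1 :=
  fun x hx => by
    have := PresentedGroup.one_of_mem (h.inv x hx)
    rwa [map_mul] at this

theorem Coded.ivOk (h : Coded rels gl k RL) : IvOk (2 * k) (patom rels gl) :=
  atom_ivOk gl _ k h.sq

theorem Coded.mk_eq (h : Coded rels gl k RL) (r : FreeGroup α) :
    PresentedGroup.mk rels r = ev (patom rels gl) (toCodes gl k r) := by
  rw [patom, ← lift_eq_ev gl h.all _ k h.sq]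
  have : PresentedGroup.mk rels = FreeGroup.lift PresentedGroup.of := by
    ext x; simp [PresentedGroup.of]
  rw [this]

theorem Coded.rel (h : Coded rels gl k RL) : ∀ l ∈ RL, ev (patom rels gl) l = 1 := by
  intro l hl
  obtain ⟨r, hr, rfl⟩ := (h.code l).mp hl
  rw [← h.mk_eq]
  exact PresentedGroup.one_of_mem hr

/-- a homomorphism out of the presented group from a map of the generators killing the coded
relators -/
theorem Coded.exists_hom (h : Coded rels gl k RL) (f : α → Γ)
    (h1 : ∀ x ∈ gl.take k, f x * f x = 1) (h2 : ∀ l ∈ RL, ev (atom gl f) l = 1) :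
    ∃ φ : PresentedGroup rels →* Γ, (∀ x, φ (PresentedGroup.of x) = f x) ∧
      ∀ y, φ (patom rels gl y) = atom gl f y := by
  have hr : ∀ r ∈ rels, FreeGroup.lift f r = 1 := fun r hr => by
    rw [lift_eq_ev gl h.all f k h1]
    exact h2 _ ((h.code _).mpr ⟨r, hr, rfl⟩)
  refine ⟨PresentedGroup.toGroup hr, fun x => PresentedGroup.toGroup.of hr, fun y => ?_⟩
  rw [patom, atom_map]
  simp only [PresentedGroup.toGroup.of]

omit [DecidableEq α] in
theorem atom_two_mul (gl : List α) (f : α → Γ) (j : ℕ) (x : α) (h : gl[j]? = some x) :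
    atom gl f (2 * j) = f x := by
  unfold atom
  have e : 2 * j / 2 = j := by omega
  simp [e, h]

theorem Coded.closure (h : Coded rels gl k RL) :
    Subgroup.closure {g | ∃ j < gl.length, g = patom rels gl (2 * j)} = ⊤ := by
  rw [eq_top_iff, ← PresentedGroup.closure_range_of]
  apply Subgroup.closure_mono
  rintro _ ⟨x, rfl⟩
  exact ⟨gl.idxOf x, List.idxOf_lt_length_iff.mpr (h.all x),
    (atom_two_mul gl _ _ x (List.getElem?_idxOf (h.all x))).symm⟩

end pres

end Cfsg.Agent.Spor
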